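import Cfsg.Agent.Solvable.Hall
import Mathlib.Data.Nat.Factorization.Basic
import Mathlib.Data.List.OfFn

/-!
Products of subgroups: orders, Sylow and Hall subgroups of factors, products of Sylow subgroups.
-/

set_option autoImplicit false
set_option linter.style.haveILetI false
set_option linter.unusedSectionVars false

namespace CfsgLib.Factor

open Subgroup CfsgLib.SZ CfsgLib.Solvable
open scoped Pointwise

universe u

variable {G : Type u} [Group G] [Finite G]

theorem card_mul_set (P Q : Subgroup G) :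
    Nat.card ((P : Set G) * (Q : Set G) : Set G) * Nat.card (P ⊓ Q : Subgroup G) =
      Nat.card P * Nat.card Q := by
  rw [← Nat.card_prod, ← Nat.card_prod]
  choose a ha b hb hab using fun x : ((P : Set G) * (Q : Set G) : Set G) => Set.mem_mul.1 x.2
  refine Nat.card_congr
    { toFun := fun z => (⟨a z.1 * z.2, mul_mem (ha z.1) (mem_inf.1 z.2.2).1⟩,
        ⟨(z.2 : G)⁻¹ * b z.1, mul_mem (inv_mem (mem_inf.1 z.2.2).2) (hb z.1)⟩)
      invFun := fun z => (⟨z.1 * z.2, Set.mul_mem_mul z.1.2 z.2.2⟩,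
        ⟨(a ⟨z.1 * z.2, Set.mul_mem_mul z.1.2 z.2.2⟩)⁻¹ * z.1, mem_inf.2
          ⟨mul_mem (inv_mem (ha _)) z.1.2, by
            set x : ((P : Set G) * (Q : Set G) : Set G) := ⟨z.1 * z.2, Set.mul_mem_mul z.1.2 z.2.2⟩
            have e : (a x)⁻¹ * (z.1 : G) = b x * (z.2 : G)⁻¹ := by
              rw [eq_mul_inv_iff_mul_eq, mul_assoc, inv_mul_eq_iff_eq_mul]
              exact (hab x).symm
            rw [e]
            exact mul_mem (hb x) (inv_mem z.2.2)⟩⟩)
      left_inv := fun z => ?_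
      right_inv := fun z => ?_ }
  · have e : (⟨a z.1 * z.2 * ((z.2 : G)⁻¹ * b z.1), Set.mul_mem_mul
        (mul_mem (ha z.1) (mem_inf.1 z.2.2).1) (mul_mem (inv_mem (mem_inf.1 z.2.2).2) (hb z.1))⟩ :
        ((P : Set G) * (Q : Set G) : Set G)) = z.1 :=
      Subtype.ext (show a z.1 * z.2 * ((z.2 : G)⁻¹ * b z.1) = z.1 by
        rw [mul_assoc, mul_inv_cancel_left]; exact hab z.1)
    refine Prod.ext e (Subtype.ext ?_)
    show (a _)⁻¹ * (a z.1 * z.2) = _
    rw [e, inv_mul_cancel_left]
  · refine Prod.ext (Subtype.ext (mul_inv_cancel_left _ _)) (Subtype.ext ?_)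
    set x : ((P : Set G) * (Q : Set G) : Set G) := ⟨z.1 * z.2, Set.mul_mem_mul z.1.2 z.2.2⟩
    show ((a x)⁻¹ * (z.1 : G))⁻¹ * b x = z.2
    rw [mul_inv_rev, inv_inv, mul_assoc, inv_mul_eq_iff_eq_mul]
    exact hab x

/-- A subgroup containing `P` and `Q` which is not larger than their product equals it. -/
theorem coe_eq_mul {P Q R : Subgroup G} (hP : P ≤ R) (hQ : Q ≤ R)
    (h : Nat.card R * Nat.card (P ⊓ Q : Subgroup G) ≤ Nat.card P * Nat.card Q) :
    (R : Set G) = (P : Set G) * (Q : Set G) := by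
  rw [← card_mul_set P Q] at h
  symm
  refine Set.eq_of_subset_of_ncard_le ?_ ?_ (Set.toFinite _)
  · rintro _ ⟨p, hp, q, hq, rfl⟩
    exact mul_mem (hP hp) (hQ hq)
  · rw [← Nat.card_coe_set_eq, ← Nat.card_coe_set_eq]
    exact Nat.le_of_mul_le_mul_right h Nat.card_pos

theorem swap {H K : Subgroup G} (hHK : ∀ g : G, ∃ h ∈ H, ∃ k ∈ K, g = h * k) (g : G) :
    ∃ k ∈ K, ∃ h ∈ H, g = k * h := by
  obtain ⟨h, hh, k, hk, e⟩ := hHK g⁻¹
  exact ⟨k⁻¹, inv_mem hk, h⁻¹, inv_mem hh, by rw [← inv_inv g, e, mul_inv_rev]⟩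

theorem card_factor {H K : Subgroup G} (hHK : ∀ g : G, ∃ h ∈ H, ∃ k ∈ K, g = h * k) :
    Nat.card G * Nat.card (H ⊓ K : Subgroup G) = Nat.card H * Nat.card K := by
  rw [← card_mul_set H K]
  have : (H : Set G) * (K : Set G) = Set.univ := Set.eq_univ_of_forall fun g => by
    obtain ⟨h, hh, k, hk, rfl⟩ := hHK g; exact Set.mul_mem_mul hh hk
  rw [this, Nat.card_univ]

theorem exists_sylow_product {H K : Subgroup G} (hHK : ∀ g : G, ∃ h ∈ H, ∃ k ∈ K, g = h * k)
    (p : ℕ) [hp : Fact p.Prime] : ∃ (P : Sylow p H) (Q : Sylow p K) (R : Sylow p G),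
      ((R : Subgroup G) : Set G) = (((P : Subgroup H).map H.subtype : Subgroup G) : Set G) *
        (((Q : Subgroup K).map K.subtype : Subgroup G) : Set G) := by
  obtain ⟨P⟩ : Nonempty (Sylow p H) := inferInstance
  obtain ⟨Q⟩ : Nonempty (Sylow p K) := inferInstance
  obtain ⟨R₁, hR₁⟩ := (P.2.map H.subtype).exists_le_sylow
  obtain ⟨R₂, hR₂⟩ := (Q.2.map K.subtype).exists_le_sylow
  obtain ⟨g, hg⟩ := MulAction.exists_smul_eq G R₁ R₂
  obtain ⟨k, hk, h, hh, rfl⟩ := swap hHK g
  refine ⟨(⟨h, hh⟩ : H) • P, (⟨k⁻¹, inv_mem hk⟩ : K) • Q, h • R₁, coe_eq_mul ?_ ?_ ?_⟩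
  · rintro _ ⟨x, hx, rfl⟩
    rw [SetLike.mem_coe, Sylow.coe_subgroup_smul, mem_conj_smul] at hx
    rw [Sylow.coe_subgroup_smul, mem_conj_smul]
    exact hR₁ ⟨_, hx, by simp⟩
  · rintro _ ⟨x, hx, rfl⟩
    rw [SetLike.mem_coe, Sylow.coe_subgroup_smul, mem_conj_smul] at hx
    rw [Sylow.coe_subgroup_smul, mem_conj_smul]
    have : (k⁻¹)⁻¹ * (x : G) * k⁻¹ ∈ R₂ := hR₂ ⟨_, hx, by simp⟩
    rw [← hg] at this
    have := (mem_conj_smul.1 (show (k⁻¹)⁻¹ * (x : G) * k⁻¹ ∈ MulAut.conj (k * h) • (R₁ : Subgroup G)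
      from this))
    simpa [mul_assoc] using this
  · set P' := (⟨h, hh⟩ : H) • P
    set Q' := (⟨k⁻¹, inv_mem hk⟩ : K) • Q
    set D := (P' : Subgroup H).map H.subtype ⊓ (Q' : Subgroup K).map K.subtype
    obtain ⟨j, hj⟩ := IsPGroup.iff_card.1
      ((P'.2.map H.subtype).to_le (inf_le_left : D ≤ _))
    have hjle : j ≤ (Nat.card (H ⊓ K : Subgroup G)).factorization p := by
      refine (hp.out.pow_dvd_iff_le_factorization Nat.card_pos.ne').1 ?_
      rw [← hj]
      exact card_dvd_of_le (inf_le_inf (map_subtype_le _) (map_subtype_le _))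
    have hf := congrArg (fun n => n.factorization p) (card_factor hHK)
    simp only [Nat.factorization_mul Nat.card_pos.ne' Nat.card_pos.ne', Finsupp.add_apply] at hf
    rw [hj, card_map_of_injective H.subtype_injective, card_map_of_injective K.subtype_injective,
      Sylow.card_eq_multiplicity, Sylow.card_eq_multiplicity, Sylow.card_eq_multiplicity,
      ← pow_add, ← pow_add]
    exact Nat.pow_le_pow_right hp.out.pos (by omega)

variable [Group.IsSolvable G]

theorem exists_subgroup_mul {H K A B : Subgroup G} (hHK : ∀ g : G, ∃ h ∈ H, ∃ k ∈ K, g = h * k)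
    (hA : A ≤ H) (hAn : (A.subgroupOf H).Normal) (hB : B ≤ K) (hBn : (B.subgroupOf K).Normal)
    (hAh : (Nat.card A).Coprime A.index) (hBh : (Nat.card B).Coprime B.index) (x y : G) :
    ∃ S : Subgroup G, (S : Set G) = ((MulAut.conj x • A : Subgroup G) : Set G) *
      ((MulAut.conj y • B : Subgroup G) : Set G) := by
  have hHA : ∀ h ∈ H, MulAut.conj h • A = A := fun h hh =>
    conj_smul_eq_iff_mem_normalizer.2 ((normal_subgroupOf_iff_le_normalizer hA).1 hAn hh)
  have hKB : ∀ k ∈ K, MulAut.conj k • B = B := fun k hk =>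
    conj_smul_eq_iff_mem_normalizer.2 ((normal_subgroupOf_iff_le_normalizer hB).1 hBn hk)
  obtain ⟨S₀, hS₀, hS₀i, hdom⟩ := CfsgLib.Hall.hall_pi (G := G)
    (fun q => q ∣ Nat.card A ∨ q ∣ Nat.card B)
  obtain ⟨a, ha⟩ := hdom A fun q _ h => Or.inl h
  obtain ⟨b, hb⟩ := hdom B fun q _ h => Or.inr h
  obtain ⟨k, hk, h, hh, hg⟩ := swap hHK (b⁻¹ * a)
  set S := MulAut.conj (h * a⁻¹) • S₀ with hS
  have hAS : A ≤ S := by
    have := (pointwise_smul_le_pointwise_smul_iff (a := MulAut.conj (h * a⁻¹))).2 ha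
    rwa [← conj_smul_mul, inv_mul_cancel_right, hHA h hh] at this
  have hBS : B ≤ S := by
    have e : h * a⁻¹ = k⁻¹ * b⁻¹ := by
      rw [eq_inv_mul_iff_mul_eq, ← mul_assoc, ← hg, mul_inv_cancel_right]
    have := (pointwise_smul_le_pointwise_smul_iff (a := MulAut.conj (h * a⁻¹))).2 hb
    rw [← conj_smul_mul, e, inv_mul_cancel_right, hKB _ (inv_mem hk)] at this
    rwa [hS, e]
  have hcard : Nat.card S * Nat.card (A ⊓ B : Subgroup G) ∣ Nat.card A * Nat.card B := by
    rw [← Nat.factorization_le_iff_dvd (mul_ne_zero Nat.card_pos.ne' Nat.card_pos.ne')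
      (mul_ne_zero Nat.card_pos.ne' Nat.card_pos.ne')]
    intro q
    rw [Nat.factorization_mul Nat.card_pos.ne' Nat.card_pos.ne',
      Nat.factorization_mul Nat.card_pos.ne' Nat.card_pos.ne', Finsupp.add_apply, Finsupp.add_apply]
    have hle : ∀ {X Y : Subgroup G}, X ≤ Y →
        (Nat.card X).factorization q ≤ (Nat.card Y).factorization q := fun h =>
      (Nat.factorization_le_iff_dvd Nat.card_pos.ne' Nat.card_pos.ne').2 (card_dvd_of_le h) q
    have hhall : ∀ X : Subgroup G, (Nat.card X).Coprime X.index → q ∣ Nat.card X → q.Prime →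
        (Nat.card S).factorization q ≤ (Nat.card X).factorization q := by
      intro X hX hq hqp
      have hXG : (Nat.card G).factorization q = (Nat.card X).factorization q := by
        rw [← X.card_mul_index, Nat.factorization_mul Nat.card_pos.ne' index_ne_zero_of_finite,
          Finsupp.add_apply, add_eq_left]
        exact Nat.factorization_eq_zero_of_not_dvd fun h =>
          hqp.ne_one (Nat.eq_one_of_dvd_coprimes hX hq h)
      rw [← hXG]
      exact (Nat.factorization_le_iff_dvd Nat.card_pos.ne' Nat.card_pos.ne').2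
        (card_subgroup_dvd_card S) q
    by_cases hqS : q.Prime ∧ q ∣ Nat.card S
    · obtain ⟨hqp, hqd⟩ := hqS
      rw [hS, card_conj_smul] at hqd
      rcases hS₀ q hqp hqd with h | h
      · exact add_le_add (hhall A hAh h hqp) (hle inf_le_right)
      · rw [add_comm ((Nat.card A).factorization q)]
        exact add_le_add (hhall B hBh h hqp) (hle inf_le_left)
    · have : (Nat.card S).factorization q = 0 := by
        by_contra hne
        exact hqS ⟨Nat.prime_of_mem_primeFactors (Nat.support_factorization _ ▸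
          Finsupp.mem_support_iff.2 hne), Nat.dvd_of_factorization_pos hne⟩
      rw [this, zero_add]
      exact le_add_right (hle inf_le_left)
  have hprod := coe_eq_mul hAS hBS (Nat.le_of_dvd (mul_pos Nat.card_pos Nat.card_pos) hcard)
  obtain ⟨k', hk', h', hh', hg'⟩ := swap hHK (y⁻¹ * x)
  refine ⟨MulAut.conj (y * k') • S, ?_⟩
  have hx : x = y * k' * h' := by rw [mul_assoc, ← hg', mul_inv_cancel_left]
  have e1 : MulAut.conj x • A = MulAut.conj (y * k') • A := by rw [hx, conj_smul_mul, hHA h' hh']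
  have e2 : MulAut.conj y • B = MulAut.conj (y * k') • B := by rw [conj_smul_mul, hKB k' hk']
  rw [e1, e2, coe_pointwise_smul _ S, coe_pointwise_smul _ A, coe_pointwise_smul _ B, hprod, smul_mul']

omit [Finite G] [Group.IsSolvable G] in
theorem exists_update_prod (N : Subgroup G) [N.Normal] : ∀ (t : ℕ) (f : Fin t → G) (i : Fin t),
    ∀ n ∈ N, ∃ n' ∈ N, (List.ofFn (Function.update f i (f i * n'))).prod = (List.ofFn f).prod * n := by
  intro t
  induction t with
  | zero => exact fun f i => i.elim0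
  | succ t ih =>
    intro f i n hn
    rcases Fin.eq_zero_or_eq_succ i with rfl | ⟨j, rfl⟩
    · set R := (List.ofFn fun m : Fin t => f m.succ).prod
      refine ⟨R * n * R⁻¹, Normal.conj_mem inferInstance n hn R, ?_⟩
      simp only [List.ofFn_succ, List.prod_cons, Function.update_self, ne_eq, Fin.succ_ne_zero,
        not_false_eq_true, Function.update_of_ne]
      simp only [R]
      group
    · obtain ⟨n', hn', e⟩ := ih (fun m => f m.succ) j n hn
      refine ⟨n', hn', ?_⟩
      have e2 : (fun m : Fin t => Function.update f j.succ (f j.succ * n') m.succ) =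
          Function.update (fun m => f m.succ) j (f j.succ * n') := by
        ext m
        rcases eq_or_ne m j with rfl | hm
        · simp
        · simp [hm, Fin.succ_inj]
      simp only [List.ofFn_succ, List.prod_cons, e2, e, mul_assoc,
        Function.update_of_ne (Fin.succ_ne_zero j).symm]

omit [Group.IsSolvable G] in
theorem sylow_product_aux (n : ℕ) : ∀ (G : Type u) [Group G] [Finite G], Nat.card G = n →
    Group.IsSolvable G → ∀ (t : ℕ) (p : Fin t → ℕ), (∀ i, (p i).Prime) →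
      (∀ q : ℕ, q.Prime → q ∣ Nat.card G → ∃ i, p i = q) → ∀ S : (i : Fin t) → Sylow (p i) G,
        ∀ g : G, ∃ s : Fin t → G, (∀ i, s i ∈ (S i : Subgroup G)) ∧ g = (List.ofFn s).prod := by
  induction n using Nat.strongRecOn with | ind n ih => ?_
  rintro G _ _ rfl hs t p hp hall S g
  rcases subsingleton_or_nontrivial G with h1 | h1
  · exact ⟨fun _ => 1, fun i => one_mem _, Subsingleton.elim _ _⟩
  haveI := hs
  obtain ⟨N, hN, hN1, -, -, -, q, hq, -, hqN⟩ := exists_normal_elementary_le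
    (G := G) (N := ⊤) top_ne_bot inferInstance
  obtain ⟨i, hi⟩ := hall q hq (((haveI := Fact.mk hq; IsPGroup.card_eq_or_dvd hqN).resolve_left fun h =>
    hN1 (eq_bot_of_card_eq _ h)).trans (card_subgroup_dvd_card N))
  haveI : ∀ i, Fact (p i).Prime := fun i => ⟨hp i⟩
  let π := QuotientGroup.mk' N
  obtain ⟨s, hs, hg⟩ := ih _ (card_quotient_lt hN1) (G ⧸ N) rfl inferInstance t p hp
    (fun r hr hd => hall r hr (hd.trans (card_quotient_dvd_card N)))
    (fun i => (S i).mapSurjective (QuotientGroup.mk'_surjective N)) (π g)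
  choose s' hs' hs'' using fun i => (hs i : ∃ x ∈ (S i : Subgroup G), π x = s i)
  have hpr : π ((List.ofFn s').prod) = π g := by
    rw [hg, map_list_prod, List.map_ofFn]
    congr 2
    ext m
    exact hs'' m
  obtain ⟨n, hn, e⟩ : ∃ n ∈ N, g = (List.ofFn s').prod * n :=
    ⟨((List.ofFn s').prod)⁻¹ * g, QuotientGroup.eq.1 hpr, (mul_inv_cancel_left _ _).symm⟩
  obtain ⟨n', hn', e'⟩ := exists_update_prod N t s' i n hn
  refine ⟨_, fun m => ?_, e.trans e'.symm⟩
  rcases eq_or_ne m i with rfl | hm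
  · rw [Function.update_self]
    refine mul_mem (hs' m) ?_
    have hle : N ≤ (S m : Subgroup G) := by
      obtain ⟨P, hP⟩ := (hi ▸ hqN : IsPGroup (p m) N).exists_le_sylow
      obtain ⟨c, hc⟩ := MulAction.exists_smul_eq G P (S m)
      rw [← hc, Sylow.coe_subgroup_smul, ← conj_smul_normal c N]
      exact pointwise_smul_le_pointwise_smul_iff.2 hP
    exact hle hn'
  · rw [Function.update_of_ne hm]
    exact hs' m

end CfsgLib.Factor
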