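import Mathlib.GroupTheory.Nilpotent
import Mathlib.GroupTheory.PGroup
import Mathlib.GroupTheory.Sylow
import Mathlib.GroupTheory.Solvable
import Mathlib.GroupTheory.NoncommPiCoprod
import Mathlib.GroupTheory.Index
import Mathlib.Algebra.Group.Subgroup.Pointwise
import Mathlib.GroupTheory.GroupAction.ConjAct
import Mathlib.Order.SupClosed
import Cfsg.Prelude.Def_Solvable

/-!
Basic lemmas on finite groups: orders of joins, cores, the Fitting subgroup, minimal normal
subgroups.
-/

set_option autoImplicit false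
set_option linter.style.haveILetI false

namespace CfsgLib.Solvable

open Subgroup Pointwise

variable {G : Type*} [Group G]

/-- Membership in a join when one factor normalizes the other. -/
theorem mem_sup_of_le_normalizer {A K : Subgroup G} (h : A ≤ normalizer (K : Set G)) {x : G} :
    x ∈ A ⊔ K ↔ ∃ a ∈ A, ∃ k ∈ K, a * k = x := by
  rw [← SetLike.mem_coe, coe_mul_of_left_le_normalizer_right A K h, Set.mem_mul]
  rfl

/-- `|A ⊔ K| * |A ⊓ K| = |A| * |K|` when `A` normalizes `K`. -/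
theorem card_sup_mul_card_inf {A K : Subgroup G} (h : A ≤ normalizer (K : Set G)) :
    Nat.card ↥(A ⊔ K) * Nat.card ↥(A ⊓ K) = Nat.card A * Nat.card K := by
  have hle : A ⊔ K ≤ normalizer (K : Set G) := sup_le h le_normalizer
  have e1 : K.relIndex (A ⊔ K) = K.relIndex A := by
    have hn : (K.subgroupOf (A ⊔ K)).Normal := (normal_subgroupOf_iff_le_normalizer le_sup_right).2 hle
    have key : (K.subgroupOf (A ⊔ K)).relIndex (A.subgroupOf (A ⊔ K) ⊔ K.subgroupOf (A ⊔ K))
        = (K.subgroupOf (A ⊔ K)).relIndex (A.subgroupOf (A ⊔ K)) := relIndex_sup_right _ _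
    rw [← subgroupOf_sup le_sup_left le_sup_right] at key
    rwa [relIndex_subgroupOf le_rfl, relIndex_subgroupOf le_sup_left] at key
  have e2 : Nat.card K * K.relIndex (A ⊔ K) = Nat.card ↥(A ⊔ K) := by
    rw [← relIndex_bot_left, ← relIndex_bot_left]
    exact relIndex_mul_relIndex ⊥ K (A ⊔ K) bot_le le_sup_right
  have e3 : Nat.card ↥(A ⊓ K) * K.relIndex A = Nat.card A := by
    rw [← relIndex_bot_left, ← relIndex_bot_left, ← inf_relIndex_left A K]
    exact relIndex_mul_relIndex ⊥ (A ⊓ K) A bot_le inf_le_left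
  calc Nat.card ↥(A ⊔ K) * Nat.card ↥(A ⊓ K)
      = Nat.card K * (Nat.card ↥(A ⊓ K) * K.relIndex A) := by rw [← e2, e1]; ring
    _ = Nat.card A * Nat.card K := by rw [e3]; ring

theorem card_sup_dvd {A K : Subgroup G} (h : A ≤ normalizer (K : Set G)) :
    Nat.card ↥(A ⊔ K) ∣ Nat.card A * Nat.card K :=
  Dvd.intro _ (card_sup_mul_card_inf h)

theorem card_sup_of_disjoint {A K : Subgroup G} (h : A ≤ normalizer (K : Set G))
    (hd : A ⊓ K = ⊥) : Nat.card ↥(A ⊔ K) = Nat.card A * Nat.card K := by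
  have := card_sup_mul_card_inf h
  rwa [hd, card_bot, mul_one] at this

theorem card_lt_of_lt [Finite G] {H K : Subgroup G} (h : H < K) : Nat.card H < Nat.card K := by
  refine lt_of_le_of_ne (Subgroup.card_le_of_le h.le) fun he => h.ne ?_
  exact SetLike.coe_injective (Set.eq_of_subset_of_ncard_le h.le
    (by rw [← Nat.card_coe_set_eq, ← Nat.card_coe_set_eq]; exact he.ge))

theorem card_lt_of_ne_top [Finite G] {H : Subgroup G} (h : H ≠ ⊤) : Nat.card H < Nat.card G :=
  lt_of_lt_of_eq (card_lt_of_lt h.lt_top) card_top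

theorem card_quotient_lt [Finite G] {N : Subgroup G} (h : N ≠ ⊥) :
    Nat.card (G ⧸ N) < Nat.card G := by
  rw [← index_eq_card, ← N.index_mul_card]
  exact lt_mul_of_one_lt_right (Nat.pos_of_ne_zero index_ne_zero_of_finite)
    ((one_lt_card_iff_ne_bot N).2 h)

theorem eq_of_le_of_card_le [Finite G] {H K : Subgroup G} (h : H ≤ K)
    (hc : Nat.card K ≤ Nat.card H) : H = K :=
  h.eq_or_lt.resolve_right fun h' => absurd (card_lt_of_lt h') (by omega)

/-- The supremum of all normal subgroups with a property closed under normal joins has it. -/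
theorem sSup_normal_spec [Finite G] (p : Subgroup G → Prop) (hbot : p ⊥)
    (hsup : ∀ M N : Subgroup G, M.Normal → N.Normal → p M → p N → p (M ⊔ N)) :
    (sSup {N : Subgroup G | N.Normal ∧ p N}).Normal ∧ p (sSup {N : Subgroup G | N.Normal ∧ p N}) := by
  have hs : SupClosed {N : Subgroup G | N.Normal ∧ p N} := by
    rintro M ⟨hM, hpM⟩ N ⟨hN, hpN⟩
    exact ⟨inferInstance, hsup M N hM hN hpM hpN⟩
  exact hs.sSup_mem (Set.toFinite _) ⟨inferInstance, hbot⟩ subset_rfl

/-! ### The cores -/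

variable [Finite G] (p : ℕ)

theorem pCore_spec : (Cfsg.pCore p G).Normal ∧ IsPGroup p (Cfsg.pCore p G) :=
  sSup_normal_spec (fun N => IsPGroup p N) IsPGroup.of_bot
    fun _ _ _ hN hM hN' => hM.to_sup_of_normal_right hN'

theorem pPrimeCore_spec :
    (Cfsg.pPrimeCore p G).Normal ∧ (Nat.card (Cfsg.pPrimeCore p G)).Coprime p :=
  sSup_normal_spec (fun N => (Nat.card N).Coprime p) (by simp)
    fun M N _ _hN hM hN' => Nat.Coprime.coprime_dvd_left
      (card_sup_dvd (le_normalizer_of_normal (H := N))) (Nat.Coprime.mul_left hM hN')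

instance pCore_normal : (Cfsg.pCore p G).Normal := (pCore_spec p).1

instance pPrimeCore_normal : (Cfsg.pPrimeCore p G).Normal := (pPrimeCore_spec p).1

theorem isPGroup_pCore : IsPGroup p (Cfsg.pCore p G) := (pCore_spec p).2

theorem coprime_card_pPrimeCore : (Nat.card (Cfsg.pPrimeCore p G)).Coprime p :=
  (pPrimeCore_spec p).2

omit [Finite G] in
theorem le_pCore {N : Subgroup G} (hN : N.Normal) (h : IsPGroup p N) : N ≤ Cfsg.pCore p G :=
  le_sSup (a := N) ⟨hN, h⟩

omit [Finite G] in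
theorem le_pPrimeCore {N : Subgroup G} (hN : N.Normal) (h : (Nat.card N).Coprime p) :
    N ≤ Cfsg.pPrimeCore p G :=
  le_sSup (a := N) ⟨hN, h⟩

omit [Finite G] in
theorem le_fittingSubgroup {N : Subgroup G} (hN : N.Normal) (h : Group.IsNilpotent N) :
    N ≤ Cfsg.fittingSubgroup G :=
  le_sSup (a := N) ⟨hN, h⟩

/-! ### The Fitting subgroup -/

theorem isNilpotent_iSup_pCore :
    Group.IsNilpotent ↥(⨆ q : Nat.Primes, Cfsg.pCore (q : ℕ) G) := by
  classical
  let ι := ↥(Nat.card G).primeFactors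
  haveI : ∀ i : ι, Fact (i : ℕ).Prime := fun i => ⟨(Nat.mem_primeFactors.1 i.2).1⟩
  let H : ι → Subgroup G := fun i => Cfsg.pCore (i : ℕ) G
  have hnil : ∀ i, Group.IsNilpotent (H i) := fun i => (isPGroup_pCore (i : ℕ)).isNilpotent
  have hcomm : Pairwise fun i j => ∀ x y : G, x ∈ H i → y ∈ H j → Commute x y := by
    intro i j hij x y hx hy
    exact commute_of_normal_of_disjoint (H i) (H j) inferInstance inferInstance
      (IsPGroup.disjoint_of_ne _ _ (fun h => hij (Subtype.ext h)) _ _ (isPGroup_pCore _)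
        (isPGroup_pCore _)) x y hx hy
  have hr := noncommPiCoprod_range (hcomm := hcomm)
  have hn : Group.IsNilpotent ↥(noncommPiCoprod hcomm).range :=
    Group.nilpotent_of_surjective _ (noncommPiCoprod hcomm).rangeRestrict_surjective
  have heq : (⨆ q : Nat.Primes, Cfsg.pCore (q : ℕ) G) = ⨆ i, H i := by
    refine le_antisymm (iSup_le fun q => ?_) (iSup_le fun i => ?_)
    · by_cases hq : (q : ℕ) ∈ (Nat.card G).primeFactors
      · exact le_iSup_of_le (⟨q, hq⟩ : ι) le_rfl
      · haveI := Fact.mk q.2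
        rcases (isPGroup_pCore (G := G) (q : ℕ)).card_eq_or_dvd with h | h
        · rw [eq_bot_of_card_eq _ h]; exact bot_le
        · exact absurd (Nat.mem_primeFactors.2
            ⟨q.2, h.trans (card_subgroup_dvd_card _), Nat.card_pos.ne'⟩) hq
    · exact le_iSup_of_le (⟨i, (Nat.mem_primeFactors.1 i.2).1⟩ : Nat.Primes) le_rfl
  rw [hr] at hn
  rw [heq]
  exact hn

omit [Finite G] in
theorem pCore_le_fittingSubgroup [Finite G] [Fact p.Prime] :
    Cfsg.pCore p G ≤ Cfsg.fittingSubgroup G :=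
  le_fittingSubgroup inferInstance (isPGroup_pCore p).isNilpotent

/-- A group is generated by any choice of one Sylow subgroup for each prime. -/
theorem iSup_sylow_eq_top (S : ∀ q : Nat.Primes, Sylow (q : ℕ) G) :
    (⨆ q : Nat.Primes, (S q : Subgroup G)) = ⊤ := by
  apply eq_top_of_card_eq
  refine Nat.dvd_antisymm (card_subgroup_dvd_card _) ?_
  rw [Nat.dvd_iff_prime_pow_dvd_dvd]
  intro q k hq hk
  haveI := Fact.mk hq
  refine dvd_trans ?_ (card_dvd_of_le (le_iSup (fun q : Nat.Primes => (S q : Subgroup G)) ⟨q, hq⟩))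
  rw [Sylow.card_eq_multiplicity (S ⟨q, hq⟩)]
  exact Nat.pow_dvd_pow q (hq.pow_dvd_iff_le_factorization Nat.card_pos.ne' |>.1 hk)

theorem le_iSup_pCore_of_isNilpotent {M : Subgroup G} (hM : M.Normal)
    (h : Group.IsNilpotent M) : M ≤ ⨆ q : Nat.Primes, Cfsg.pCore (q : ℕ) G := by
  haveI : ∀ q : Nat.Primes, Fact (q : ℕ).Prime := fun q => ⟨q.2⟩
  have ht := iSup_sylow_eq_top (G := M) fun q => (default : Sylow (q : ℕ) M)
  have hM' : M = (⊤ : Subgroup M).map M.subtype := by
    rw [← MonoidHom.range_eq_map, range_subtype]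
  rw [hM', ← ht, map_iSup]
  refine iSup_mono fun q => ?_
  haveI : ((default : Sylow (q : ℕ) M) : Subgroup M).Normal := inferInstance
  haveI := Sylow.characteristic_of_normal (default : Sylow (q : ℕ) M) inferInstance
  exact le_pCore _ inferInstance ((default : Sylow (q : ℕ) M).2.map M.subtype)

theorem fittingSubgroup_eq_iSup_pCore :
    Cfsg.fittingSubgroup G = ⨆ q : Nat.Primes, Cfsg.pCore (q : ℕ) G := by
  refine le_antisymm (sSup_le fun M hM => le_iSup_pCore_of_isNilpotent hM.1 hM.2)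
    (iSup_le fun q => ?_)
  haveI := Fact.mk q.2
  exact pCore_le_fittingSubgroup _

theorem isNilpotent_fittingSubgroup : Group.IsNilpotent (Cfsg.fittingSubgroup G) := by
  rw [fittingSubgroup_eq_iSup_pCore]
  exact isNilpotent_iSup_pCore

instance fittingSubgroup_normal : (Cfsg.fittingSubgroup G).Normal := by
  rw [fittingSubgroup_eq_iSup_pCore]
  refine normalizer_eq_top_iff.1 (eq_top_iff.2 ?_)
  refine le_trans (le_iInf fun q => ?_) (iInf_normalizer_le_normalizer_iSup _)
  exact (normalizer_eq_top (H := Cfsg.pCore ((q : Nat.Primes) : ℕ) G)).ge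

/-! ### Minimal normal subgroups -/

theorem exists_minimal_normal_le {N : Subgroup G} [N.Normal] (hN : N ≠ ⊥) :
    ∃ M : Subgroup G, M.Normal ∧ M ≠ ⊥ ∧ M ≤ N ∧
      ∀ K : Subgroup G, K.Normal → K ≤ M → K = ⊥ ∨ K = M := by
  obtain ⟨M, hMN, ⟨hM, hM1⟩, hmin⟩ :=
    exists_minimal_le_of_wellFoundedLT (fun K : Subgroup G => K.Normal ∧ K ≠ ⊥) N
      ⟨inferInstance, hN⟩
  exact ⟨M, hM, hM1, hMN, fun K hK hKM =>
    (eq_or_ne K ⊥).imp id fun hK1 => le_antisymm hKM (hmin ⟨hK, hK1⟩ hKM)⟩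

/-- A solvable minimal normal subgroup is elementary abelian. -/
theorem minimal_normal_elementary {M : Subgroup G} [M.Normal] (hM : M ≠ ⊥)
    (hmin : ∀ K : Subgroup G, K.Normal → K ≤ M → K = ⊥ ∨ K = M) (hs : Group.IsSolvable M) :
    IsMulCommutative M ∧ ∃ p : ℕ, p.Prime ∧ (∀ x ∈ M, x ^ p = 1) ∧ IsPGroup p M := by
  have hlt : ⁅M, M⁆ < M := by
    haveI := (nontrivial_iff_ne_bot M).2 hM
    have h := Group.IsSolvable.commutator_lt_top_of_nontrivial M
    rw [← map_subtype_lt_map_subtype, map_subtype_commutator] at h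
    rwa [← MonoidHom.range_eq_map, range_subtype] at h
  have hb : ⁅M, M⁆ = ⊥ := (hmin _ inferInstance hlt.le).resolve_right hlt.ne
  have hc : IsMulCommutative M :=
    le_centralizer_iff_isMulCommutative.1 (commutator_eq_bot_iff_le_centralizer.1 hb)
  have hcomm : ∀ x ∈ M, ∀ y ∈ M, Commute x y := fun x hx y hy =>
    ((mem_centralizer_iff.1 (commutator_eq_bot_iff_le_centralizer.1 hb hx)) y hy).symm
  refine ⟨hc, (Nat.card M).minFac, ?_⟩
  have hp := Nat.minFac_prime ((one_lt_card_iff_ne_bot M).2 hM).ne'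
  haveI := Fact.mk hp
  let S : Subgroup G :=
    { carrier := {x | x ∈ M ∧ x ^ (Nat.card M).minFac = 1}
      mul_mem' := fun {a b} ha hb => ⟨mul_mem ha.1 hb.1, by
        rw [(hcomm _ ha.1 _ hb.1).mul_pow, ha.2, hb.2, one_mul]⟩
      one_mem' := ⟨one_mem _, one_pow _⟩
      inv_mem' := fun {a} ha => ⟨inv_mem ha.1, by rw [inv_pow, ha.2, inv_one]⟩ }
  have hSn : S.Normal := ⟨fun n hn g =>
    ⟨Normal.conj_mem inferInstance n hn.1 g, by rw [conj_pow, hn.2, mul_one, mul_inv_cancel]⟩⟩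
  obtain ⟨x, hx⟩ := exists_prime_orderOf_dvd_card' (G := M) _ (Nat.card M).minFac_dvd
  have hSM : S = M := (hmin S hSn fun y hy => hy.1).resolve_left fun hS => by
    have hxS : (x : G) ∈ S :=
      ⟨x.2, by rw [← SubmonoidClass.coe_pow, ← hx, pow_orderOf_eq_one]; rfl⟩
    rw [hS, mem_bot, OneMemClass.coe_eq_one] at hxS
    rw [hxS, orderOf_one] at hx
    exact hp.one_lt.ne hx
  have hexp : ∀ y ∈ M, y ^ (Nat.card M).minFac = 1 := fun y hy => (hSM.symm ▸ hy : y ∈ S).2
  exact ⟨hp, hexp, fun y => ⟨1, by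
    rw [pow_one]; exact Subtype.ext (by rw [SubmonoidClass.coe_pow]; exact hexp y y.2)⟩⟩

/-- A nontrivial normal solvable subgroup contains a nontrivial elementary abelian subgroup
normal in the whole group. -/
theorem exists_normal_elementary_le {N : Subgroup G} [N.Normal] (hN : N ≠ ⊥)
    (hs : Group.IsSolvable N) :
    ∃ M : Subgroup G, M.Normal ∧ M ≠ ⊥ ∧ M ≤ N ∧ IsMulCommutative M ∧
      (∀ K : Subgroup G, K.Normal → K ≤ M → K = ⊥ ∨ K = M) ∧
      ∃ p : ℕ, p.Prime ∧ (∀ x ∈ M, x ^ p = 1) ∧ IsPGroup p M := by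
  obtain ⟨M, hM, hM1, hMN, hmin⟩ := exists_minimal_normal_le hN
  haveI := hs
  have hMs : Group.IsSolvable M :=
    Group.isSolvable_of_isSolvable_injective (Subgroup.inclusion_injective hMN)
  obtain ⟨hc, hp⟩ := minimal_normal_elementary hM1 hmin hMs
  exact ⟨M, hM, hM1, hMN, hc, hmin, hp⟩

end CfsgLib.Solvable
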