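import Cfsg.Agent.Solvable.SchurZassenhaus

/-!
Relative Schur–Zassenhaus conjugacy inside a group and Glauberman's fixed point lemma.
-/

set_option autoImplicit false
set_option linter.deprecated false
set_option linter.style.haveILetI false

namespace CfsgLib.SZ

open Subgroup Pointwise MulAction CfsgLib.Solvable

variable {G : Type*} [Group G] [Finite G]

/-- **Schur–Zassenhaus**, conjugacy: the conjugating element can be chosen in `N`. -/
theorem conj_of_solvable (N : Subgroup G) [N.Normal] (hN : (Nat.card N).Coprime N.index)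
    (hs : Group.IsSolvable N ∨ Group.IsSolvable (G ⧸ N)) (H K : Subgroup G)
    (hH : IsComplement' N H) (hK : IsComplement' N K) :
    ∃ x ∈ N, MulAut.conj x • H = K := by
  have hs' : Group.IsSolvable N ∨ ∃ S : Subgroup G, Group.IsSolvable S ∧ N ⊔ S = ⊤ := by
    refine hs.imp id fun h => ⟨K, ?_, hK.sup_eq_top⟩
    haveI := h
    refine Group.isSolvable_of_isSolvable_injective
      (f := (hK.symm.QuotientMulEquiv).symm.toMonoidHom) ?_
    exact (hK.symm.QuotientMulEquiv).symm.injective
  obtain ⟨g, hg⟩ := conj_aux (Nat.card G) G rfl N inferInstance hN hs' H K hH hK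
  obtain ⟨⟨x, h⟩, rfl⟩ := hH.2 g
  refine ⟨x, x.2, ?_⟩
  rwa [conj_smul_mul, conj_smul_self_of_mem h.2] at hg

/-- Relative Schur–Zassenhaus conjugacy: two subgroups of the same order, normalizing `K`, with
the same join with `K`, of order coprime to that of `K`. -/
theorem conj_rel {A B K : Subgroup G} (hA : A ≤ normalizer (K : Set G))
    (hcop : (Nat.card A).Coprime (Nat.card K)) (hsolv : Group.IsSolvable A ∨ Group.IsSolvable K)
    (hB : B ≤ A ⊔ K) (hcard : Nat.card B = Nat.card A) :
    ∃ k ∈ K, MulAut.conj k • A = B := by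
  set L := A ⊔ K
  have hKL : K ≤ L := le_sup_right
  have hAL : A ≤ L := le_sup_left
  haveI : (K.subgroupOf L).Normal :=
    (normal_subgroupOf_iff_le_normalizer hKL).2 (sup_le hA le_normalizer)
  have hKc : Nat.card (K.subgroupOf L) = Nat.card K := Nat.card_congr (subgroupOfEquivOfLe hKL).toEquiv
  have hL : Nat.card L = Nat.card A * Nat.card K :=
    card_sup_of_disjoint hA (inf_eq_bot_of_coprime hcop)
  have hcompl : ∀ X : Subgroup G, X ≤ L → Nat.card X = Nat.card A →
      IsComplement' (K.subgroupOf L) (X.subgroupOf L) := by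
    intro X hX hXc
    refine isComplement'_of_coprime ?_ ?_ <;>
      rw [hKc, Nat.card_congr (subgroupOfEquivOfLe hX).toEquiv, hXc]
    · rw [hL, mul_comm]
    · exact hcop.symm
  have hidx : (K.subgroupOf L).index = Nat.card A := by
    rw [(hcompl A hAL rfl).symm.index_eq_card, Nat.card_congr (subgroupOfEquivOfLe hAL).toEquiv]
  have hs : Group.IsSolvable (K.subgroupOf L) ∨ Group.IsSolvable (↥L ⧸ K.subgroupOf L) := by
    rcases hsolv with h | h
    · right
      haveI : Group.IsSolvable (A.subgroupOf L) :=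
        Group.isSolvable_of_isSolvable_injective (f := (subgroupOfEquivOfLe hAL).toMonoidHom)
          (subgroupOfEquivOfLe hAL).injective
      exact Group.isSolvable_of_surjective
        (f := (hcompl A hAL rfl).symm.QuotientMulEquiv.symm.toMonoidHom)
        (hcompl A hAL rfl).symm.QuotientMulEquiv.symm.surjective
    · left
      exact Group.isSolvable_of_isSolvable_injective (f := (subgroupOfEquivOfLe hKL).toMonoidHom)
          (subgroupOfEquivOfLe hKL).injective
  obtain ⟨x, hx, he⟩ := conj_of_solvable (K.subgroupOf L) (by rw [hKc, hidx]; exact hcop.symm) hs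
    _ _ (hcompl A hAL rfl) (hcompl B hB hcard)
  refine ⟨x, hx, ?_⟩
  have := congr_arg (Subgroup.map L.subtype) he
  rwa [conj_smul_map, map_subgroupOf_eq_of_le hAL, map_subgroupOf_eq_of_le hB] at this

/-- A subgroup of `A ⊔ K` of order coprime to `|K|` is conjugate under `K` into `A`. -/
theorem conj_le {A K U : Subgroup G} (hA : A ≤ normalizer (K : Set G))
    (hcop : (Nat.card A).Coprime (Nat.card K)) (hsolv : Group.IsSolvable A ∨ Group.IsSolvable K)
    (hU : U ≤ A ⊔ K) (hUK : (Nat.card U).Coprime (Nat.card K)) :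
    ∃ k ∈ K, MulAut.conj k • U ≤ A := by
  have hLn : A ⊔ K ≤ normalizer (K : Set G) := sup_le hA le_normalizer
  set A' := A ⊓ (U ⊔ K)
  have heq : A' ⊔ K = U ⊔ K := by
    refine le_antisymm (sup_le inf_le_right le_sup_right) ?_
    intro x hx
    obtain ⟨a, ha, k, hk, rfl⟩ := (mem_sup_of_le_normalizer hA).1 (sup_le hU le_sup_right hx)
    refine mul_mem_sup ⟨ha, ?_⟩ hk
    have := mul_mem hx (inv_mem (mem_sup_right (S := U) hk))
    rwa [mul_inv_cancel_right] at this
  have hc' : (Nat.card A').Coprime (Nat.card K) :=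
    hcop.coprime_dvd_left (card_dvd_of_le inf_le_left)
  have hA' : A' ≤ normalizer (K : Set G) := inf_le_left.trans hA
  have hcard : Nat.card U = Nat.card A' := by
    have h1 := card_sup_of_disjoint hA' (inf_eq_bot_of_coprime hc')
    have h2 := card_sup_of_disjoint (hU.trans hLn) (inf_eq_bot_of_coprime hUK)
    rw [heq, h2] at h1
    exact Nat.eq_of_mul_eq_mul_right Nat.card_pos h1
  obtain ⟨k, hk, he⟩ := conj_rel hA' hc'
    (hsolv.imp (fun h => by
      haveI := h
      exact Group.isSolvable_of_isSolvable_injective (inclusion_injective (inf_le_left : A' ≤ A))) id)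
    (heq ▸ le_sup_left) hcard
  refine ⟨k⁻¹, inv_mem hk, ?_⟩
  rw [← he, conj_smul_inv_smul]
  exact inf_le_left

/-- **Glauberman's lemma**: if `A` and `K` act compatibly on `S` with `K` transitive, coprime
orders and one of `A`, `K` solvable, then `A` has a fixed point in `S`. -/
theorem exists_fixed {A K : Subgroup G} (hA : A ≤ normalizer (K : Set G))
    (hcop : (Nat.card A).Coprime (Nat.card K)) (hsolv : Group.IsSolvable A ∨ Group.IsSolvable K)
    {X : Type*} [MulAction G X] (S : Set X) (hne : S.Nonempty)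
    (hSA : ∀ a ∈ A, ∀ s ∈ S, a • s ∈ S)
    (htr : ∀ s ∈ S, ∀ t ∈ S, ∃ k ∈ K, k • s = t) :
    ∀ (_hSK : ∀ k ∈ K, ∀ s ∈ S, k • s ∈ S), ∃ s ∈ S, ∀ a ∈ A, a • s = s := by
  intro hSK
  obtain ⟨s, hs⟩ := hne
  set L := A ⊔ K
  have hLn : L ≤ normalizer (K : Set G) := sup_le hA le_normalizer
  set T := L ⊓ stabilizer G s
  have hcardKT : (Nat.card ↥(K ⊓ T)).Coprime (Nat.card A) :=
    (hcop.coprime_dvd_right (card_dvd_of_le inf_le_left)).symm
  have hTK : T ⊔ K = L := by
    refine le_antisymm (sup_le inf_le_left le_sup_right) fun x hx => ?_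
    obtain ⟨a, ha, k, hk, rfl⟩ := (mem_sup_of_le_normalizer hA).1 hx
    obtain ⟨k', hk', hk's⟩ := htr _ (hSA a ha s hs) s hs
    have h1 : k' * a ∈ T := ⟨mul_mem (mem_sup_right hk') (mem_sup_left ha), by
      show (k' * a) • s = s
      rw [mul_smul, hk's]⟩
    have : a = k'⁻¹ * (k' * a) := (inv_mul_cancel_left _ _).symm
    rw [this]
    exact mul_mem (mul_mem (mem_sup_right (inv_mem hk')) (mem_sup_left h1)) (mem_sup_right hk)
  have hT : Nat.card T = Nat.card A * Nat.card ↥(K ⊓ T) := by
    have h := card_sup_mul_card_inf (A := T) (K := K) (inf_le_left.trans hLn)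
    rw [hTK, card_sup_of_disjoint hA (inf_eq_bot_of_coprime hcop), inf_comm] at h
    apply Nat.eq_of_mul_eq_mul_right (Nat.card_pos (α := K))
    rw [← h]; ring
  set KT := (K ⊓ T).subgroupOf T
  haveI : KT.Normal := (normal_subgroupOf_iff_le_normalizer inf_le_right).2 (by
    intro t ht
    rw [← conj_smul_eq_iff_mem_normalizer, Subgroup.smul_inf, conj_smul_self_of_mem ht,
      conj_smul_eq_iff_mem_normalizer.2 (hLn ht.1)])
  have hKTc : Nat.card KT = Nat.card ↥(K ⊓ T) :=
    Nat.card_congr (subgroupOfEquivOfLe inf_le_right).toEquiv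
  have hKTi : KT.index = Nat.card A := by
    apply Nat.eq_of_mul_eq_mul_left (Nat.card_pos (α := KT))
    rw [card_mul_index, hT, hKTc, mul_comm]
  obtain ⟨B, hB⟩ := exists_right_complement'_of_coprime (N := KT)
    (by rw [hKTc, hKTi]; exact hcardKT)
  have hBc : Nat.card (B.map T.subtype) = Nat.card A := by
    rw [Nat.card_congr (B.equivMapOfInjective T.subtype T.subtype_injective).symm.toEquiv,
      ← hB.symm.index_eq_card, hKTi]
  obtain ⟨k, hk, he⟩ := conj_rel hA hcop hsolv ((map_subtype_le B).trans inf_le_left) hBc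
  refine ⟨k⁻¹ • s, hSK _ (inv_mem hk) s hs, fun a ha => ?_⟩
  have hb : k * a * k⁻¹ ∈ B.map T.subtype := by
    rw [← he, mem_conj_smul]
    simpa [mul_assoc] using ha
  have hfix : (k * a * k⁻¹) • s = s := (map_subtype_le B hb).2
  rw [mul_smul, mul_smul] at hfix
  rw [eq_inv_smul_iff]
  exact hfix

/-- Any two fixed points of `A` in a `K`-orbit differ by an element of `K` centralizing `A`. -/
theorem exists_smul_eq_of_fixed {A K : Subgroup G} (hA : A ≤ normalizer (K : Set G))
    (hcop : (Nat.card A).Coprime (Nat.card K)) (hsolv : Group.IsSolvable A ∨ Group.IsSolvable K)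
    {X : Type*} [MulAction G X] {s t : X} (hs : ∀ a ∈ A, a • s = s) (ht : ∀ a ∈ A, a • t = t)
    (hst : ∃ k ∈ K, k • s = t) : ∃ k ∈ K ⊓ centralizer (A : Set G), k • s = t := by
  obtain ⟨k, hk, hks⟩ := hst
  set KT := K ⊓ stabilizer G s
  set A₁ := MulAut.conj k⁻¹ • A
  have hA₁c : Nat.card A₁ = Nat.card A := card_conj_smul _ _
  have hAKT : A ≤ normalizer (KT : Set G) := fun a ha => conj_smul_eq_iff_mem_normalizer.1 (by
    rw [Subgroup.smul_inf, conj_smul_eq_iff_mem_normalizer.2 (hA ha),
      conj_smul_self_of_mem (H := stabilizer G s) (mem_stabilizer_iff.2 (hs a ha))])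
  have hA₁L : A₁ ≤ A ⊔ KT := by
    intro x hx
    rw [mem_conj_smul, inv_inv] at hx
    have e : x = (k * x * k⁻¹) * (((k * x * k⁻¹)⁻¹ * k⁻¹ * (k * x * k⁻¹)) * k) := by group
    rw [e]
    refine mul_mem_sup hx ⟨mul_mem ?_ hk, ?_⟩
    · have := (mem_normalizer_iff''.1 (hA hx) k⁻¹).1 (inv_mem hk)
      exact this
    · show (_ * k) • s = s
      have h2 : (k * x * k⁻¹) • s = s := hs _ hx
      rw [mul_smul, hks, mul_smul, mul_smul, ht _ hx, inv_smul_eq_iff.2 hks.symm,
        inv_smul_eq_iff]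
      exact h2.symm
  obtain ⟨m, hm, he⟩ := conj_rel hAKT (hcop.coprime_dvd_right (card_dvd_of_le inf_le_left))
    (hsolv.imp id fun h => by
      haveI := h
      exact Group.isSolvable_of_isSolvable_injective (inclusion_injective (inf_le_left : KT ≤ K)))
    hA₁L hA₁c
  have hkm : MulAut.conj (k * m) • A = A := by
    rw [conj_smul_mul, he, ← conj_smul_mul, mul_inv_cancel, map_one, one_smul]
  refine ⟨k * m, ⟨mul_mem hk hm.1, ?_⟩, by
    rw [mul_smul, mem_stabilizer_iff.1 hm.2, hks]⟩
  refine mem_centralizer_iff.2 fun a ha => ?_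
  have h1 : a * (k * m) * a⁻¹ * (k * m)⁻¹ ∈ K := by
    refine mul_mem ?_ (inv_mem (mul_mem hk hm.1))
    exact (mem_normalizer_iff.1 (hA ha) _).1 (mul_mem hk hm.1)
  have h2 : a * (k * m) * a⁻¹ * (k * m)⁻¹ ∈ A := by
    have : (k * m) * a⁻¹ * (k * m)⁻¹ ∈ MulAut.conj (k * m) • A := by
      rw [mem_conj_smul]
      simpa [mul_assoc] using (inv_mem ha : a⁻¹ ∈ A)
    rw [hkm] at this
    rw [show a * (k * m) * a⁻¹ * (k * m)⁻¹ = a * ((k * m) * a⁻¹ * (k * m)⁻¹) by group]
    exact mul_mem ha this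
  have h3 : a * (k * m) * a⁻¹ * (k * m)⁻¹ = 1 :=
    mem_bot.1 (inf_eq_bot_of_coprime hcop ▸ ⟨h2, h1⟩)
  calc a * (k * m) = (a * (k * m) * a⁻¹ * (k * m)⁻¹) * ((k * m) * a) := by group
    _ = (k * m) * a := by rw [h3, one_mul]

end CfsgLib.SZ
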