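import Mathlib.GroupTheory.SchurZassenhaus
import Mathlib.GroupTheory.Sylow
import Mathlib.GroupTheory.Solvable
import Cfsg.Agent.Solvable.Basics

/-!
Conjugacy in the Schur–Zassenhaus theorem, also in relative form, and Glauberman's lemma on
fixed points.
-/

set_option autoImplicit false
set_option linter.style.haveILetI false

namespace CfsgLib.SZ

open Subgroup Pointwise MulAction MulOpposite CfsgLib.Solvable

variable {G : Type*} [Group G]

theorem mem_conj_smul {g x : G} {H : Subgroup G} :
    x ∈ MulAut.conj g • H ↔ g⁻¹ * x * g ∈ H := by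
  rw [mem_pointwise_smul_iff_inv_smul_mem, MulAut.smul_def, MulAut.inv_apply,
    MulAut.conj_symm_apply]

theorem conj_smul_mul (g h : G) (H : Subgroup G) :
    MulAut.conj (g * h) • H = MulAut.conj g • MulAut.conj h • H := by
  rw [map_mul, mul_smul]

theorem conj_smul_inv_smul (g : G) (H : Subgroup G) :
    MulAut.conj g⁻¹ • MulAut.conj g • H = H := by
  rw [← conj_smul_mul, inv_mul_cancel, map_one, one_smul]

theorem conj_smul_self_of_mem {g : G} {H : Subgroup G} (hg : g ∈ H) :
    MulAut.conj g • H = H := by
  ext x
  rw [mem_conj_smul]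
  constructor
  · intro h
    have := mul_mem (mul_mem hg h) (inv_mem hg)
    simpa [mul_assoc] using this
  · exact fun h => mul_mem (mul_mem (inv_mem hg) h) hg

theorem conj_smul_eq_iff_mem_normalizer {g : G} {H : Subgroup G} :
    MulAut.conj g • H = H ↔ g ∈ normalizer (H : Set G) := by
  rw [mem_normalizer_iff'']
  constructor
  · intro h x
    rw [← mem_conj_smul (g := g), h]
  · intro h
    ext x
    rw [mem_conj_smul, ← h]

theorem conj_smul_normal (g : G) (N : Subgroup G) [N.Normal] : MulAut.conj g • N = N :=
  conj_smul_eq_iff_mem_normalizer.2 (by rw [normalizer_eq_top]; trivial)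

theorem conj_smul_eq_map (g : G) (H : Subgroup G) :
    MulAut.conj g • H = H.map (MulAut.conj g).toMonoidHom := rfl

theorem card_conj_smul (g : G) (H : Subgroup G) :
    Nat.card ↥(MulAut.conj g • H) = Nat.card H :=
  (Nat.card_congr (equivSMul (MulAut.conj g) H).toEquiv).symm

theorem conj_smul_map {G' : Type*} [Group G'] (f : G →* G') (g : G) (H : Subgroup G) :
    (MulAut.conj g • H).map f = MulAut.conj (f g) • H.map f := by
  rw [conj_smul_eq_map, conj_smul_eq_map, map_map, map_map]
  congr 1
  ext x
  simp

/-- Conjugacy of complements of an abelian normal Hall subgroup. -/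
theorem conj_of_abelian [Finite G] (A : Subgroup G) [A.Normal] [IsMulCommutative A]
    (hA : (Nat.card A).Coprime A.index) (H K : Subgroup G)
    (hH : IsComplement' A H) (hK : IsComplement' A K) :
    ∃ a ∈ A, MulAut.conj a • H = K := by
  have key : ∀ L : Subgroup G, IsComplement' A L →
      ∃ α : A.QuotientDiff, stabilizer G α = L := by
    intro L hL
    let α : A.QuotientDiff := Quotient.mk'' ⟨(L : Set G), hL.symm⟩
    refine ⟨α, ?_⟩
    have hst := isComplement'_stabilizer_of_coprime (α := α) hA
    symm
    refine eq_of_le_of_card_le (fun h hh => ?_) ?_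
    · show h • α = α
      refine congr_arg Quotient.mk'' ?_
      refine Subtype.ext ?_
      ext x
      show x ∈ (op h⁻¹ • (L : Set G)) ↔ x ∈ (L : Set G)
      rw [Set.mem_smul_set_iff_inv_smul_mem]
      simp only [← op_inv, inv_inv, op_smul_eq_mul, SetLike.mem_coe]
      exact L.mul_mem_cancel_right hh
    · rw [← hst.symm.index_eq_card, ← hL.symm.index_eq_card]
  obtain ⟨α, rfl⟩ := key H hH
  obtain ⟨β, rfl⟩ := key K hK
  obtain ⟨a, ha⟩ := exists_smul_eq hA α β
  refine ⟨a, a.2, ?_⟩
  ext x
  rw [mem_conj_smul, mem_stabilizer_iff, mem_stabilizer_iff, ← ha, mul_smul, mul_smul]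
  exact inv_smul_eq_iff

theorem isComplement'_of_card [Finite G] {N H : Subgroup G}
    (hN : (Nat.card N).Coprime N.index) (hH : Nat.card H = N.index) : IsComplement' N H :=
  isComplement'_of_coprime (by rw [hH, card_mul_index]) (by rw [hH]; exact hN)

universe u

theorem conj_aux (n : ℕ) : ∀ (G : Type u) [Group G] [Finite G], Nat.card G = n →
    ∀ N : Subgroup G, N.Normal → (Nat.card N).Coprime N.index →
      Group.IsSolvable N ∨ (∃ (S : Subgroup G), Group.IsSolvable S ∧ N ⊔ S = ⊤) →
      ∀ H K : Subgroup G, IsComplement' N H → IsComplement' N K →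
        ∃ g : G, MulAut.conj g • H = K := by
  induction n using Nat.strongRecOn with | ind n ih => ?_
  rintro G _ _ rfl N hN hcop hs H K hH hK
  have hindex : Nat.card H = N.index := hH.symm.index_eq_card.symm
  have hindexK : Nat.card K = N.index := hK.symm.index_eq_card.symm
  have hconjc : ∀ g : G, IsComplement' N (MulAut.conj g • H) := fun g =>
    isComplement'_of_card hcop (by rw [card_conj_smul, hindex])
  by_cases hN1 : N = ⊥
  · subst hN1
    rw [isComplement'_bot_left] at hH hK
    exact ⟨1, by rw [map_one, one_smul, hH, hK]⟩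
  rcases hs with hs | ⟨S, hS, hNS⟩
  · -- solvable normal subgroup
    obtain ⟨M, hM, hM1, hMN, hMc, -, -⟩ := exists_normal_elementary_le hN1 hs
    let f := QuotientGroup.mk' M
    have hf : Function.Surjective f := QuotientGroup.mk'_surjective M
    have hker : f.ker = M := QuotientGroup.ker_mk' M
    have hidx : (N.map f).index = N.index := index_map_eq N hf (hker.le.trans hMN)
    have hcN : Nat.card (N.map f) ∣ Nat.card N := card_map_dvd _ _
    have hcop' : (Nat.card (N.map f)).Coprime (N.map f).index := by
      rw [hidx]; exact hcop.coprime_dvd_left hcN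
    have hcard : ∀ L : Subgroup G, IsComplement' N L → IsComplement' (N.map f) (L.map f) := by
      intro L hL
      refine isComplement'_of_card hcop' ?_
      rw [hidx, hL.symm.index_eq_card, ← relIndex_ker (K := L) f, hker, ← relIndex_bot_left,
        ← inf_relIndex_right, eq_bot_iff.2 (le_trans (inf_le_inf hMN le_rfl) hL.disjoint.le_bot)]
    obtain ⟨g', hg'⟩ := ih _ (card_quotient_lt hM1) (G ⧸ M) rfl (N.map f) (hN.map f hf) hcop'
      (Or.inl (haveI := hs; Group.isSolvable_of_surjective (f.subgroupMap_surjective N)))
      (H.map f) (K.map f) (hcard H hH) (hcard K hK)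
    obtain ⟨g, rfl⟩ := hf g'
    rw [← conj_smul_map] at hg'
    have hc' := hconjc g
    have hL : M ⊔ MulAut.conj g • H = M ⊔ K := by
      have := congr_arg (Subgroup.comap f) hg'
      rwa [comap_map_eq, comap_map_eq, hker, sup_comm, sup_comm K] at this
    set L := M ⊔ K
    set H' := MulAut.conj g • H
    have hH'L : H' ≤ L := hL ▸ le_sup_right
    have hMsub : Nat.card (M.subgroupOf L) = Nat.card M :=
      Nat.card_congr (subgroupOfEquivOfLe le_sup_left).toEquiv
    have hcompl : ∀ X : Subgroup G, IsComplement' N X → X ≤ L → M ⊔ X = L →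
        IsComplement' (M.subgroupOf L) (X.subgroupOf L) := by
      intro X hX hXL hMX
      refine isComplement'_of_coprime ?_ ?_
      · rw [hMsub, Nat.card_congr (subgroupOfEquivOfLe hXL).toEquiv]
        show _ = Nat.card L
        have hd : X ⊓ M = ⊥ :=
          eq_bot_iff.2 (le_trans (inf_le_inf le_rfl hMN) (inf_comm X N ▸ hX.disjoint.le_bot))
        have := card_sup_of_disjoint (A := X) (K := M) le_normalizer_of_normal hd
        rw [sup_comm, hMX] at this
        rw [this, mul_comm]
      · rw [hMsub, Nat.card_congr (subgroupOfEquivOfLe hXL).toEquiv, ← hX.symm.index_eq_card]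
        exact hcop.coprime_dvd_left (card_dvd_of_le hMN)
    have h1 := hcompl H' hc' hH'L hL
    have h2 := hcompl K hK le_sup_right rfl
    haveI : (M.subgroupOf L).Normal := inferInstance
    haveI : IsMulCommutative (M.subgroupOf L) :=
      ⟨⟨fun a b => Subtype.ext (Subtype.ext
        (congr_arg (fun z : M => (z : G)) (mul_comm' (⟨((a : L) : G), a.2⟩ : M) ⟨((b : L) : G), b.2⟩)))⟩⟩
    have hcop2 : (Nat.card (M.subgroupOf L)).Coprime (M.subgroupOf L).index := by
      rw [h2.symm.index_eq_card, hMsub, Nat.card_congr (subgroupOfEquivOfLe le_sup_right).toEquiv,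
        hindexK]
      exact hcop.coprime_dvd_left (card_dvd_of_le hMN)
    obtain ⟨a, -, ha⟩ := conj_of_abelian _ hcop2 _ _ h1 h2
    refine ⟨(a : G) * g, ?_⟩
    have := congr_arg (Subgroup.map L.subtype) ha
    rw [conj_smul_map, map_subgroupOf_eq_of_le hH'L, map_subgroupOf_eq_of_le le_sup_right] at this
    rw [conj_smul_mul]
    exact this
  · -- solvable quotient
    by_cases hNt : N = ⊤
    · subst hNt
      rw [isComplement'_top_left] at hH hK
      exact ⟨1, by rw [map_one, one_smul, hH, hK]⟩
    let f := QuotientGroup.mk' N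
    have hf : Function.Surjective f := QuotientGroup.mk'_surjective N
    have hker : f.ker = N := QuotientGroup.ker_mk' N
    have hQ : Group.IsSolvable (G ⧸ N) := by
      haveI := hS
      refine Group.isSolvable_of_surjective (f := f.comp S.subtype) (MonoidHom.range_eq_top.1 ?_)
      rw [MonoidHom.range_comp, range_subtype]
      apply comap_injective hf
      rw [comap_map_eq, hker, comap_top, sup_comm, hNS]
    haveI : Nontrivial (G ⧸ N) := QuotientGroup.nontrivial_iff.2 hNt
    obtain ⟨M', hM', hM'1, -, -, -, p, hp, -, hM'p⟩ :=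
      exists_normal_elementary_le (N := (⊤ : Subgroup (G ⧸ N))) top_ne_bot
        (Group.isSolvable_of_isSolvable_injective (Subgroup.subtype_injective _))
    haveI := Fact.mk hp
    set M := M'.comap f
    haveI : M.Normal := hM'.comap f
    have hNM : N ≤ M := hker ▸ f.ker_le_comap M'
    have hMmap : M.map f = M' := map_comap_eq_self_of_surjective hf M'
    -- the order of a complement inside `M`
    have hrel : N.relIndex M = Nat.card M' := by
      rw [← hMmap, ← relIndex_ker, hker]
    obtain ⟨j, hj⟩ := IsPGroup.iff_card.1 hM'p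
    have hMcard : Nat.card M = Nat.card N * p ^ j := by
      rw [← hj, ← hrel, ← relIndex_bot_left, ← relIndex_bot_left]
      exact (relIndex_mul_relIndex ⊥ N M bot_le hNM).symm
    have hj0 : j ≠ 0 := by
      rintro rfl
      exact hM'1 (eq_bot_of_card_eq _ (by rw [hj, pow_zero]))
    have hpN : ¬ p ∣ Nat.card N := by
      intro h
      have hpi : p ∣ N.index :=
        ((dvd_pow_self p hj0).trans (hj ▸ hrel ▸ dvd_rfl)).trans (relIndex_dvd_index_of_le hNM)
      exact hp.one_lt.ne' (Nat.eq_one_of_dvd_one (hcop ▸ Nat.dvd_gcd h hpi))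
    have hcop1 : (Nat.card N).Coprime (p ^ j) :=
      ((hp.coprime_iff_not_dvd.2 hpN).symm).pow_right j
    have hint : ∀ X : Subgroup G, IsComplement' N X → Nat.card ↥(X ⊓ M) = p ^ j := by
      intro X hX
      have hd : X ⊓ N = ⊥ := inf_comm X N ▸ eq_bot_iff.2 hX.disjoint.le_bot
      have h' : (X ⊓ M) ⊔ N = M := by
        refine le_antisymm (sup_le inf_le_right hNM) fun m hm => ?_
        obtain ⟨⟨x, y⟩, hxy⟩ := hX.symm.2 m
        simp only at hxy
        rw [← hxy]
        refine mul_mem_sup ⟨x.2, ?_⟩ y.2
        have := mul_mem hm (inv_mem (hNM y.2))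
        rwa [← hxy, mul_inv_cancel_right] at this
      have := card_sup_of_disjoint (A := X ⊓ M) (K := N) le_normalizer_of_normal
        (eq_bot_iff.2 (le_trans (inf_le_inf inf_le_left le_rfl) hd.le))
      rw [h', hMcard, mul_comm] at this
      exact (Nat.eq_of_mul_eq_mul_right Nat.card_pos this).symm
    have hfac : p ^ j = p ^ (Nat.card M).factorization p := by
      rw [hMcard, Nat.factorization_mul Nat.card_pos.ne' (pow_ne_zero _ hp.ne_zero)]
      simp [hp.factorization_pow, Nat.factorization_eq_zero_of_not_dvd hpN]
    let syl : ∀ X : Subgroup G, IsComplement' N X → Sylow p M := fun X hX =>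
      Sylow.ofCard ((X ⊓ M).subgroupOf M) (by
        rw [Nat.card_congr (subgroupOfEquivOfLe inf_le_right).toEquiv, hint X hX]
        exact hfac)
    obtain ⟨m, hm⟩ := exists_smul_eq M (syl H hH) (syl K hK)
    set H' := MulAut.conj (m : G) • H
    have hH' : IsComplement' N H' := hconjc _
    have hP : H' ⊓ M = K ⊓ M := by
      have := congr_arg (fun P : Sylow p M => (P : Subgroup M).map M.subtype) hm
      rw [show ((m • syl H hH : Sylow p M) : Subgroup M) = MulAut.conj m • (syl H hH : Subgroup M)
        from rfl] at this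
      simp only [syl, Sylow.coe_ofCard, conj_smul_map, map_subgroupOf_eq_of_le inf_le_right] at this
      rw [← this, Subgroup.smul_inf, coe_subtype, conj_smul_normal (m : G) M]
    set P := K ⊓ M
    have hPH : H' ≤ normalizer (P : Set G) := by
      rw [← hP]
      exact fun x hx => conj_smul_eq_iff_mem_normalizer.1
        (by rw [Subgroup.smul_inf, conj_smul_self_of_mem hx, conj_smul_normal])
    have hPK : K ≤ normalizer (P : Set G) := fun x hx => conj_smul_eq_iff_mem_normalizer.1
      (by rw [Subgroup.smul_inf, conj_smul_self_of_mem hx, conj_smul_normal])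
    suffices ∃ g, MulAut.conj g • H' = K by
      obtain ⟨g, hg⟩ := this
      exact ⟨g * m, by rw [conj_smul_mul]; exact hg⟩
    by_cases hPn : normalizer (P : Set G) = ⊤
    · haveI : P.Normal := normalizer_eq_top_iff.1 hPn
      have hP1 : P ≠ ⊥ := by
        intro h
        have := hint K hK
        rw [show K ⊓ M = ⊥ from h, card_bot] at this
        exact hj0 ((Nat.pow_eq_one.1 this.symm).resolve_left hp.one_lt.ne')
      let e := QuotientGroup.mk' P
      have he : Function.Surjective e := QuotientGroup.mk'_surjective P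
      have hek : e.ker = P := QuotientGroup.ker_mk' P
      have hNP : P ⊓ N = ⊥ := eq_bot_iff.2 (le_trans (inf_le_inf inf_le_left le_rfl)
        (inf_comm K N ▸ hK.disjoint.le_bot))
      have hcN' : Nat.card (N.map e) = Nat.card N := by
        rw [← relIndex_ker, hek, ← inf_relIndex_right, hNP, relIndex_bot_left]
      have hcX : ∀ X : Subgroup G, IsComplement' N X → P ≤ X →
          Nat.card (N.map e) * Nat.card (X.map e) = Nat.card (G ⧸ P) ∧
            (Nat.card (N.map e)).Coprime (Nat.card (X.map e)) := by
        intro X hX hPX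
        have h1 : Nat.card P * Nat.card (X.map e) = Nat.card X := by
          rw [← relIndex_ker, hek, ← relIndex_bot_left, ← relIndex_bot_left]
          exact relIndex_mul_relIndex ⊥ P X bot_le hPX
        refine ⟨?_, ?_⟩
        · apply Nat.eq_of_mul_eq_mul_left (Nat.card_pos (α := P))
          rw [hcN', ← index_eq_card, card_mul_index, ← hX.card_mul_card, ← h1]
          ring
        · rw [hcN']
          exact hcop.coprime_dvd_right ((Dvd.intro_left _ h1).trans hX.symm.index_eq_card.symm.dvd)
      obtain ⟨c1, d1⟩ := hcX H' hH' (hP ▸ inf_le_left)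
      obtain ⟨c2, d2⟩ := hcX K hK inf_le_left
      have hidx' : (N.map e).index = Nat.card (H'.map e) :=
        (isComplement'_of_coprime c1 d1).symm.index_eq_card
      have hNS' : N.map e ⊔ S.map e = ⊤ := by
        rw [← Subgroup.map_sup, hNS, map_top_of_surjective e he]
      obtain ⟨g', hg'⟩ := ih _ (card_quotient_lt hP1) (G ⧸ P) rfl (N.map e) (hN.map e he)
        (hidx' ▸ d1) (Or.inr ⟨S.map e,
          (haveI := hS; Group.isSolvable_of_surjective (e.subgroupMap_surjective S)), hNS'⟩)
        (H'.map e) (K.map e) (isComplement'_of_coprime c1 d1) (isComplement'_of_coprime c2 d2)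
      obtain ⟨g, rfl⟩ := he g'
      refine ⟨g, ?_⟩
      rw [← conj_smul_map] at hg'
      have := congr_arg (Subgroup.comap e) hg'
      have hle : P ≤ MulAut.conj g • H' := by
        rw [← conj_smul_normal g P]
        exact pointwise_smul_le_pointwise_smul_iff.2 (hP ▸ inf_le_left)
      rwa [comap_map_eq_self (hek.le.trans hle), comap_map_eq_self (hek.le.trans inf_le_left)]
        at this
    · set R := normalizer (P : Set G)
      have hcR : ∀ X : Subgroup G, IsComplement' N X → X ≤ R →
          IsComplement' (N.subgroupOf R) (X.subgroupOf R) := by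
        intro X hX hXR
        apply isComplement'_of_disjoint_and_mul_eq_univ
        · rw [disjoint_iff_inf_le]
          rintro x ⟨hx1, hx2⟩
          rw [mem_bot, ← OneMemClass.coe_eq_one]
          exact mem_bot.1 (hX.disjoint.le_bot ⟨hx1, hx2⟩)
        · refine Set.eq_univ_of_forall fun r => ?_
          obtain ⟨⟨y, x⟩, hxy⟩ := hX.2 (r : G)
          simp only at hxy
          have hy : (y : G) ∈ R := by
            have := mul_mem r.2 (inv_mem (hXR x.2))
            rwa [← hxy, mul_inv_cancel_right] at this
          exact ⟨⟨y, hy⟩, y.2, ⟨x, hXR x.2⟩, x.2, Subtype.ext hxy⟩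
      have c1 := hcR H' hH' hPH
      have c2 := hcR K hK hPK
      have hcardR : (Nat.card (N.subgroupOf R)).Coprime (N.subgroupOf R).index := by
        rw [c1.symm.index_eq_card]
        refine (hcop.coprime_dvd_left (card_comap_dvd_of_injective N R.subtype R.subtype_injective)
          ).coprime_dvd_right ?_
        rw [Nat.card_congr (subgroupOfEquivOfLe hPH).toEquiv, hH'.symm.index_eq_card]
      have hKs : Group.IsSolvable (K.subgroupOf R) := by
        have hinj : Function.Injective (f.comp K.subtype) := by
          rw [← MonoidHom.ker_eq_bot_iff, eq_bot_iff]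
          intro x hx
          rw [MonoidHom.mem_ker, MonoidHom.comp_apply] at hx
          rw [mem_bot, ← OneMemClass.coe_eq_one]
          exact mem_bot.1 (hK.disjoint.le_bot ⟨hker.le (MonoidHom.mem_ker.2 hx), x.2⟩)
        haveI : Group.IsSolvable K := Group.isSolvable_of_isSolvable_injective hinj
        exact Group.isSolvable_of_isSolvable_injective (f := (subgroupOfEquivOfLe hPK).toMonoidHom)
          (subgroupOfEquivOfLe hPK).injective
      obtain ⟨g, hg⟩ := ih _ (card_lt_of_ne_top hPn) R rfl (N.subgroupOf R) inferInstance hcardR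
        (Or.inr ⟨K.subgroupOf R, hKs, c2.sup_eq_top⟩) _ _ c1 c2
      refine ⟨g, ?_⟩
      have := congr_arg (Subgroup.map R.subtype) hg
      rwa [conj_smul_map, map_subgroupOf_eq_of_le hPH, map_subgroupOf_eq_of_le hPK] at this

end CfsgLib.SZ
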