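import Mathlib.GroupTheory.Frattini
import Cfsg.Agent.Solvable.SchurZassenhaus

/-!
Self-centralizing properties of the Fitting subgroup and the cores; the Fitting subgroup and
the Frattini subgroup.
-/

set_option autoImplicit false
set_option linter.style.haveILetI false
set_option linter.deprecated false

namespace CfsgLib.Fitting

open Subgroup Pointwise CfsgLib.Solvable CfsgLib.SZ

variable {G : Type*} [Group G] [Finite G]

/-- `C(F(G)) ≤ F(G)` for solvable `G`; more generally for the solvable normal subgroup `C(F(G))`. -/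
theorem centralizer_fittingSubgroup_le
    (hs : Group.IsSolvable ↥(centralizer (Cfsg.fittingSubgroup G : Set G))) :
    centralizer (Cfsg.fittingSubgroup G : Set G) ≤ Cfsg.fittingSubgroup G := by
  set F := Cfsg.fittingSubgroup G
  set C := centralizer (F : Set G)
  by_contra hCF
  set Z := C ⊓ F
  haveI : C.Normal := inferInstance
  haveI : Z.Normal := inferInstance
  let f := QuotientGroup.mk' Z
  have hf : Function.Surjective f := QuotientGroup.mk'_surjective Z
  have hker : f.ker = Z := QuotientGroup.ker_mk' Z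
  haveI hCm : (C.map f).Normal := Subgroup.Normal.map inferInstance f hf
  have hne : C.map f ≠ ⊥ := fun h => hCF (le_trans
    (le_trans ((Subgroup.map_eq_bot_iff C).1 h) hker.le) inf_le_right)
  haveI := hs
  obtain ⟨A, hA, hA1, hAC, hAc, -, -⟩ := exists_normal_elementary_le hne
    (Group.isSolvable_of_surjective (f.subgroupMap_surjective C))
  set B := A.comap f
  haveI hB : B.Normal := hA.comap f
  have hBC : B ≤ C :=
    (comap_mono hAC).trans (by rw [comap_map_eq, hker]; exact sup_le le_rfl inf_le_left)
  have hBB : ⁅B, B⁆ ≤ Z := by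
    rw [← hker, ← Subgroup.map_eq_bot_iff, map_commutator, map_comap_eq_self_of_surjective hf,
      commutator_eq_bot_iff_le_centralizer]
    exact le_centralizer_iff_isMulCommutative.2 hAc
  have hnil : Group.IsNilpotent B := by
    refine (Subgroup.isNilpotent_iff_lowerCentralSeries B).2 ⟨2, ?_⟩
    show ⁅⁅B, B⁆, B⁆ = ⊥
    rw [commutator_eq_bot_iff_le_centralizer]
    refine le_trans (le_trans hBB inf_le_right) ?_
    exact le_centralizer_iff.1 hBC
  have hBZ : B ≤ Z := le_inf hBC (le_fittingSubgroup hB hnil)
  apply hA1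
  rw [← map_comap_eq_self_of_surjective hf A, Subgroup.map_eq_bot_iff]
  exact hBZ.trans hker.ge

theorem centralizer_fittingSubgroup_le_of_solvable [Group.IsSolvable G] :
    centralizer (Cfsg.fittingSubgroup G : Set G) ≤ Cfsg.fittingSubgroup G :=
  centralizer_fittingSubgroup_le inferInstance

theorem pPrimeCore_quotient_eq_bot (p : ℕ) :
    Cfsg.pPrimeCore p (G ⧸ Cfsg.pPrimeCore p G) = ⊥ := by
  set O := Cfsg.pPrimeCore p G
  let f := QuotientGroup.mk' O
  have hf : Function.Surjective f := QuotientGroup.mk'_surjective O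
  have hker : f.ker = O := QuotientGroup.ker_mk' O
  set X := Cfsg.pPrimeCore p (G ⧸ O)
  have hc : Nat.card O * Nat.card X = Nat.card ↥(X.comap f) := by
    conv_lhs => rw [← map_comap_eq_self_of_surjective hf X, ← relIndex_ker, hker]
    rw [← relIndex_bot_left, ← relIndex_bot_left]
    exact relIndex_mul_relIndex ⊥ O _ bot_le (hker.ge.trans (f.ker_le_comap X))
  have hle : X.comap f ≤ O := le_pPrimeCore p (Subgroup.Normal.comap inferInstance f)
    (hc ▸ Nat.Coprime.mul_left (coprime_card_pPrimeCore p) (coprime_card_pPrimeCore p))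
  rw [← map_comap_eq_self_of_surjective hf X, Subgroup.map_eq_bot_iff]
  exact hle.trans hker.ge

theorem fittingSubgroup_eq_pCore {p : ℕ} [Fact p.Prime] (h : Cfsg.pPrimeCore p G = ⊥) :
    Cfsg.fittingSubgroup G = Cfsg.pCore p G := by
  refine le_antisymm ?_ (pCore_le_fittingSubgroup p)
  rw [fittingSubgroup_eq_iSup_pCore]
  refine iSup_le fun q => ?_
  haveI := Fact.mk q.2
  by_cases hq : (q : ℕ) = p
  · rw [hq]
  · obtain ⟨k, hk⟩ := IsPGroup.iff_card.1 (isPGroup_pCore (G := G) (q : ℕ))
    have : Cfsg.pCore (q : ℕ) G ≤ Cfsg.pPrimeCore p G := le_pPrimeCore p inferInstance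
      (hk ▸ ((Nat.coprime_primes q.2 Fact.out).2 hq).pow_left k)
    exact this.trans (h ▸ bot_le)

theorem centralizer_pCore_le [Group.IsSolvable G] {p : ℕ} [Fact p.Prime]
    (h : Cfsg.pPrimeCore p G = ⊥) :
    centralizer (Cfsg.pCore p G : Set G) ≤ Cfsg.pCore p G := by
  rw [← fittingSubgroup_eq_pCore h]
  exact centralizer_fittingSubgroup_le_of_solvable

theorem pCore_le_sylow {p : ℕ} [Fact p.Prime] (P : Sylow p G) : Cfsg.pCore p G ≤ P :=
  P.3 ((isPGroup_pCore p).to_sup_of_normal_left P.2) le_sup_right |>.le.trans' le_sup_left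

theorem pCore_eq_iInf_sylow (p : ℕ) [Fact p.Prime] :
    Cfsg.pCore p G = ⨅ P : Sylow p G, (P : Subgroup G) := by
  refine le_antisymm (le_iInf pCore_le_sylow) (le_pCore p ?_ ?_)
  · refine ⟨fun x hx g => ?_⟩
    rw [mem_iInf] at hx ⊢
    intro P
    have h2 : x ∈ MulAut.conj g⁻¹ • (P : Subgroup G) := hx (g⁻¹ • P)
    rwa [mem_conj_smul, inv_inv] at h2
  · exact IsPGroup.to_le (default : Sylow p G).2 (iInf_le _ _)

theorem abelian_sylow_eq_pCore [Group.IsSolvable G] {p : ℕ} [Fact p.Prime]
    (h : Cfsg.pPrimeCore p G = ⊥) (P : Sylow p G)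
    (hP : (P : Subgroup G) ≤ centralizer (P : Set G)) : (P : Subgroup G) = Cfsg.pCore p G :=
  le_antisymm (fun _ hx => centralizer_pCore_le h (mem_centralizer_iff.2 fun y hy =>
    mem_centralizer_iff.1 (hP hx) y (pCore_le_sylow P hy))) (pCore_le_sylow P)

/-- Abelian Sylow `p`-subgroups in a solvable group give `p`-length one. -/
theorem sup_pPrimeCore_normal [Group.IsSolvable G] {p : ℕ} [Fact p.Prime] (P : Sylow p G)
    (hP : IsMulCommutative P) : ((P : Subgroup G) ⊔ Cfsg.pPrimeCore p G).Normal := by
  set O := Cfsg.pPrimeCore p G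
  let f := QuotientGroup.mk' O
  have hf : Function.Surjective f := QuotientGroup.mk'_surjective O
  have hker : f.ker = O := QuotientGroup.ker_mk' O
  let P' := P.mapSurjective hf
  have hcomm : (P' : Subgroup (G ⧸ O)) ≤ centralizer (P' : Set (G ⧸ O)) := by
    intro x hx
    rw [mem_centralizer_iff]
    intro y hy
    obtain ⟨a, ha, rfl⟩ := hx
    obtain ⟨b, hb, rfl⟩ := hy
    rw [← map_mul, ← map_mul]
    exact congr_arg f (mem_centralizer_iff.1
      (le_centralizer_iff_isMulCommutative.2 hP ha) b hb)
  have heq : (P : Subgroup G).map f = Cfsg.pCore p (G ⧸ O) :=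
    abelian_sylow_eq_pCore (G := G ⧸ O) (pPrimeCore_quotient_eq_bot (G := G) p) P' hcomm
  rw [← hker, ← comap_map_eq, heq]
  exact Subgroup.Normal.comap inferInstance f

/-! ### Frattini -/

/-- Gaschütz: nilpotency lifts over a normal subgroup inside the Frattini subgroup. -/
theorem isNilpotent_of_le_frattini {A B : Subgroup G} [A.Normal] [B.Normal] (hBA : B ≤ A)
    (hB : B ≤ frattini G) (h : Group.IsNilpotent (↥A ⧸ B.subgroupOf A)) :
    Group.IsNilpotent A := by
  refine (Group.isNilpotent_of_finite_tfae (G := A)).out 3 0 |>.1 fun p hp P => ?_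
  haveI := hp
  set R := (P : Subgroup A).map A.subtype
  set B' := B.subgroupOf A
  have hq : Function.Surjective (QuotientGroup.mk' B') := QuotientGroup.mk'_surjective B'
  haveI hPn : (P.mapSurjective hq).toSubgroup.Normal := inferInstance
  have hRB : (R ⊔ B).Normal := by
    -- it corresponds to the normal, hence characteristic, Sylow subgroup of `A/B`
    refine ⟨fun x hx g => ?_⟩
    have hxA : x ∈ A := (sup_le (map_subtype_le _) hBA : R ⊔ B ≤ A) hx
    have e1 : R ⊔ B = ((P : Subgroup A) ⊔ B').map A.subtype := by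
      rw [Subgroup.map_sup, map_subgroupOf_eq_of_le hBA]
    rw [e1] at hx ⊢
    obtain ⟨a, ha, rfl⟩ := hx
    refine ⟨MulAut.conjNormal g a, ?_, MulAut.conjNormal_apply g a⟩
    rw [← QuotientGroup.ker_mk' B', ← comap_map_eq] at ha ⊢
    simp only [mem_comap, SetLike.mem_coe] at ha ⊢
    haveI := Sylow.characteristic_of_normal _ hPn
    have hB' : B'.map (MulAut.conjNormal g : ↥A ≃* ↥A).toMonoidHom = B' := by
      ext y
      rw [mem_map_equiv, mem_subgroupOf, mem_subgroupOf, MulAut.conjNormal_symm_apply]
      constructor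
      · intro hy
        have := (inferInstance : B.Normal).conj_mem _ hy g
        simpa [mul_assoc] using this
      · intro hy
        have := (inferInstance : B.Normal).conj_mem _ hy g⁻¹
        simpa using this
    let φ : (↥A ⧸ B') ≃* (↥A ⧸ B') := QuotientGroup.congr B' B' (MulAut.conjNormal g) hB'
    have := (characteristic_iff_map_eq.1 (inferInstance :
      (P.mapSurjective hq).toSubgroup.Characteristic)) φ
    rw [Sylow.coe_mapSurjective] at this
    rw [← this]
    exact ⟨_, ha, rfl⟩
  -- Frattini argument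
  set N := R ⊔ B
  have hNA : N ≤ A := sup_le (map_subtype_le _) hBA
  let Q : Sylow p N := P.comapOfInjective (inclusion hNA) (inclusion_injective hNA) (by
    intro x hx
    rw [inclusion_range]
    exact mem_sup_left (mem_map_of_mem _ hx))
  have hQ : (Q : Subgroup N).map N.subtype = R := by
    show ((P : Subgroup A).comap (inclusion hNA)).map N.subtype = R
    ext x
    constructor
    · rintro ⟨y, hy, rfl⟩
      exact ⟨_, hy, rfl⟩
    · rintro ⟨y, hy, rfl⟩
      exact ⟨⟨y, mem_sup_left (mem_map_of_mem _ hy)⟩, hy, rfl⟩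
  have htop := Sylow.normalizer_sup_eq_top Q
  rw [hQ] at htop
  have hnorm : normalizer (R : Set G) = ⊤ := by
    refine frattini_nongenerating (eq_top_iff.2 (htop ▸ ?_))
    refine sup_le le_sup_left (sup_le (le_trans le_normalizer le_sup_left) ?_)
    exact hB.trans le_sup_right
  exact (normalizer_eq_top_iff.1 hnorm).of_map_subtype

theorem isNilpotent_of_frattini_quotient (h : Group.IsNilpotent (G ⧸ frattini G)) :
    Group.IsNilpotent G := by
  rw [← Group.isNilpotent_top]
  refine isNilpotent_of_le_frattini (B := frattini G) le_top le_rfl ?_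
  haveI := h
  refine Group.nilpotent_of_mulEquiv
    (QuotientGroup.congr _ _ Subgroup.topEquiv.symm ?_ :
      (G ⧸ frattini G) ≃* ↥(⊤ : Subgroup G) ⧸ (frattini G).subgroupOf ⊤)
  ext x
  exact ⟨fun ⟨y, hy, hxy⟩ => hxy ▸ hy, fun hx => ⟨x, hx, rfl⟩⟩

theorem fittingSubgroup_quotient_frattini :
    Cfsg.fittingSubgroup (G ⧸ frattini G) =
      (Cfsg.fittingSubgroup G).map (QuotientGroup.mk' (frattini G)) := by
  let f := QuotientGroup.mk' (frattini G)
  have hf : Function.Surjective f := QuotientGroup.mk'_surjective _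
  refine le_antisymm ?_ ?_
  · set X := Cfsg.fittingSubgroup (G ⧸ frattini G)
    haveI : (X.comap f).Normal := Subgroup.Normal.comap inferInstance f
    have hnil : Group.IsNilpotent (X.comap f) := by
      have hle : frattini G ≤ X.comap f := (QuotientGroup.ker_mk' _).ge.trans (f.ker_le_comap X)
      refine isNilpotent_of_le_frattini hle le_rfl ?_
      haveI : Group.IsNilpotent X := isNilpotent_fittingSubgroup
      have hk : (f.subgroupComap X).ker = (frattini G).subgroupOf (X.comap f) := by
        ext x
        simp only [MonoidHom.mem_ker, mem_subgroupOf]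
        rw [← Subtype.val_inj]
        exact QuotientGroup.eq_one_iff _
      have e := (QuotientGroup.quotientMulEquivOfEq hk).symm.trans
        (QuotientGroup.quotientKerEquivOfSurjective _
          (f.subgroupComap_surjective_of_surjective X hf))
      exact Group.nilpotent_of_mulEquiv e.symm
    exact (map_comap_eq_self_of_surjective hf X).ge.trans
      (map_mono (le_fittingSubgroup inferInstance hnil))
  · haveI : Group.IsNilpotent (Cfsg.fittingSubgroup G) := isNilpotent_fittingSubgroup
    exact le_fittingSubgroup (Subgroup.Normal.map inferInstance f hf)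
      (Group.nilpotent_of_surjective _ (f.subgroupMap_surjective _))

end CfsgLib.Fitting
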