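import Mathlib.GroupTheory.Frattini
import Mathlib.GroupTheory.Nilpotent
import Mathlib.GroupTheory.Sylow
import Mathlib.GroupTheory.Abelianization.Defs
import Mathlib.RingTheory.Int.Basic
import Cfsg.Agent.Solvable.Basics

/-!
# Elementary facts on finite p-groups and nilpotent groups
-/

set_option autoImplicit false

namespace CfsgLib.PGroupBasic

open Subgroup

variable {G : Type*} [Group G]

/-- A nontrivial normal subgroup of a nilpotent group meets the centre. -/
theorem inf_center_ne_bot [Group.IsNilpotent G] (N : Subgroup G) [hN : N.Normal] (h : N ≠ ⊥) :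
    N ⊓ center G ≠ ⊥ := by
  intro hbot
  have key : ∀ n, N ⊓ Subgroup.upperCentralSeries G n = ⊥ := by
    intro n
    induction n with
    | zero => simp
    | succ n ih =>
      rw [eq_bot_iff]
      rintro x ⟨hxN, hx⟩
      rw [← hbot]
      refine ⟨hxN, mem_center_iff.2 fun g => ?_⟩
      have hcN : x * g * x⁻¹ * g⁻¹ ∈ N := by
        have := N.mul_mem hxN (hN.conj_mem _ (N.inv_mem hxN) g)
        simpa [mul_assoc] using this
      have hcU : x * g * x⁻¹ * g⁻¹ ∈ Subgroup.upperCentralSeries G n :=
        Subgroup.mem_upperCentralSeries_succ_iff.1 hx g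
      have h1 : x * g * x⁻¹ * g⁻¹ = 1 := by
        have : x * g * x⁻¹ * g⁻¹ ∈ N ⊓ Subgroup.upperCentralSeries G n := ⟨hcN, hcU⟩
        rwa [ih, mem_bot] at this
      calc g * x = (x * g * x⁻¹ * g⁻¹)⁻¹ * (x * g) := by group
        _ = x * g := by rw [h1]; group
  obtain ⟨n, hn⟩ := Group.IsNilpotent.nilpotent (G := G)
  exact h (by simpa [hn] using key n)

/-- A subgroup that properly contains a normal subgroup of a nilpotent group contains an element
outside it that is central modulo it. -/
theorem exists_central_mod [Group.IsNilpotent G] (N C : Subgroup G) [N.Normal] [hC : C.Normal]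
    (h : N < C) : ∃ x ∈ C, x ∉ N ∧ ∀ g : G, x * g * x⁻¹ * g⁻¹ ∈ N := by
  let f := QuotientGroup.mk' N
  have hne : C.map f ≠ ⊥ := by
    intro hb
    rw [Subgroup.map_eq_bot_iff, QuotientGroup.ker_mk'] at hb
    exact not_le_of_gt h hb
  have : (C.map f).Normal := hC.map f (QuotientGroup.mk'_surjective N)
  obtain ⟨y, hy, hy1⟩ := (bot_or_exists_ne_one _).resolve_left (inf_center_ne_bot (C.map f) hne)
  obtain ⟨x, hxC, rfl⟩ := hy.1
  refine ⟨x, hxC, fun hxN => hy1 ((QuotientGroup.eq_one_iff x).2 hxN), fun g => ?_⟩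
  rw [← QuotientGroup.eq_one_iff]
  have := mem_center_iff.1 hy.2 (f g)
  simp only [f, QuotientGroup.mk'_apply] at this
  simp only [QuotientGroup.mk_mul, QuotientGroup.mk_inv]
  rw [← this]; group

variable {p : ℕ} [hp : Fact p.Prime]

/-- In a finite p-group a maximal subgroup is normal of index p. -/
theorem coatom_normal_index [Finite G] (hG : IsPGroup p G) {M : Subgroup G} (hM : IsCoatom M) :
    M.Normal ∧ M.index = p := by
  have := hG.isNilpotent
  have hn : M.Normal := NormalizerCondition.normal_of_coatom M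
    (Group.normalizerCondition_of_isNilpotent) hM
  refine ⟨hn, ?_⟩
  obtain ⟨n, hn'⟩ := hG.index M
  have hn0 : n ≠ 0 := by
    rintro rfl
    exact hM.1 (index_eq_one.1 (by simpa using hn'))
  have hdvd : p ∣ Nat.card (G ⧸ M) := by
    rw [← index_eq_card, hn']; exact dvd_pow_self p hn0
  obtain ⟨x, hx⟩ := exists_prime_orderOf_dvd_card' p hdvd
  have hle : M ≤ (zpowers x).comap (QuotientGroup.mk' M) :=
    (QuotientGroup.ker_mk' M).ge.trans (MonoidHom.ker_le_comap _ _)
  rcases eq_or_lt_of_le hle with heq | hlt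
  · exfalso
    have := congrArg (Subgroup.map (QuotientGroup.mk' M)) heq
    rw [map_comap_eq_self_of_surjective (QuotientGroup.mk'_surjective M),
      (Subgroup.map_eq_bot_iff M).2 (QuotientGroup.ker_mk' M).ge] at this
    have h1 : x = 1 := by rw [← mem_bot, this]; exact mem_zpowers x
    rw [h1, orderOf_one] at hx
    exact hp.out.ne_one hx.symm
  · have htop := hM.2 _ hlt
    have h2 : (zpowers x).index = 1 := by
      rw [← index_comap_of_surjective (zpowers x) (QuotientGroup.mk'_surjective M), htop, index_top]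
    rw [index_eq_one] at h2
    rw [index_eq_card, ← card_top, ← h2, Nat.card_zpowers, hx]

/-- Commutators and p-th powers lie in the Frattini subgroup of a finite p-group. -/
theorem commutator_pow_le_frattini [Finite G] (hG : IsPGroup p G) :
    commutator G ≤ frattini G ∧ ∀ x : G, x ^ p ∈ frattini G := by
  have key : ∀ M : Subgroup G, IsCoatom M → commutator G ≤ M ∧ ∀ x : G, x ^ p ∈ M := by
    intro M hM
    obtain ⟨hn, hi⟩ := coatom_normal_index hG hM
    refine ⟨?_, fun x => ?_⟩
    · have : IsCyclic (G ⧸ M) := isCyclic_of_prime_card (p := p) (by rw [← index_eq_card, hi])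
      exact Normal.quotient_commutative_iff_commutator_le.1
        ⟨⟨(IsCyclic.commGroup (α := G ⧸ M)).mul_comm⟩⟩
    · have h := pow_card_eq_one' (x := (x : G ⧸ M))
      rw [← index_eq_card, hi] at h
      exact (QuotientGroup.eq_one_iff _).1 (by simpa using h)
  refine ⟨le_iInf₂ fun M hM => (key M hM).1, fun x => ?_⟩
  rw [frattini, Order.radical]
  simp only [mem_iInf]
  exact fun M hM => (key M hM).2 x

/-- A subgroup with elementary abelian quotient contains the Frattini subgroup. -/
theorem frattini_le_of_elementary [Finite G] (N : Subgroup G) [N.Normal]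
    (hcomm : commutator G ≤ N) (hpow : ∀ x : G, x ^ p ∈ N) : frattini G ≤ N := by
  intro x hx
  by_contra hxN
  obtain ⟨M, hMmax⟩ := (Set.toFinite {M : Subgroup G | N ≤ M ∧ x ∉ M}).exists_maximal
    ⟨N, le_rfl, hxN⟩
  obtain ⟨hNM, hxM⟩ := hMmax.prop
  have hMn : M.Normal := ⟨fun m hm g => by
    have hc : g * m * g⁻¹ * m⁻¹ ∈ M := by
      refine hNM (hcomm ?_)
      rw [_root_.commutator_def, ← commutatorElement_def]
      exact commutator_mem_commutator (mem_top g) (mem_top m)
    simpa [mul_assoc] using M.mul_mem hc hm⟩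
  have hMco : IsCoatom M := by
    refine ⟨fun h => hxM (h ▸ mem_top x), fun K hK => eq_top_iff.2 fun y _ => ?_⟩
    have hxK : x ∈ K := by
      by_contra hxK
      exact not_le_of_gt hK (hMmax.2 ⟨hNM.trans hK.le, hxK⟩ hK.le)
    by_cases hyM : y ∈ M
    · exact hK.le hyM
    have hlt : M < zpowers y ⊔ M := by
      refine lt_of_le_of_ne le_sup_right fun h => hyM ?_
      rw [h]
      exact mem_sup_left (mem_zpowers y)
    have hx' : x ∈ zpowers y ⊔ M := by
      by_contra hx'
      exact not_le_of_gt hlt (hMmax.2 ⟨hNM.trans le_sup_right, hx'⟩ le_sup_right)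
    rw [← SetLike.mem_coe, mul_normal (zpowers y) M] at hx'
    obtain ⟨a, ha, m, hm, ham⟩ := hx'
    obtain ⟨k, rfl⟩ := mem_zpowers_iff.1 ha
    have hyk : y ^ k ∈ K := by
      have : y ^ k = x * m⁻¹ := by rw [← ham]; simp
      rw [this]
      exact K.mul_mem hxK (K.inv_mem (hK.le hm))
    have hyp : y ^ (p : ℤ) ∈ K := by
      rw [zpow_natCast]; exact hK.le (hNM (hpow y))
    have hk : ¬ (p : ℤ) ∣ k := by
      rintro ⟨j, rfl⟩
      apply hxM
      rw [← ham]
      refine M.mul_mem ?_ hm
      rw [zpow_mul, zpow_natCast]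
      exact M.zpow_mem (hNM (hpow y)) j
    have hcop : IsCoprime (p : ℤ) k :=
      (Nat.prime_iff_prime_int.1 hp.out).coprime_iff_not_dvd.2 hk
    obtain ⟨u, v, huv⟩ := hcop
    have : y = (y ^ (p : ℤ)) ^ u * (y ^ k) ^ v := by
      rw [← zpow_mul, ← zpow_mul, ← zpow_add, mul_comm (p : ℤ) u, mul_comm k v, huv, zpow_one]
    rw [this]
    exact K.mul_mem (K.zpow_mem hyp u) (K.zpow_mem hyk v)
  exact hxM ((frattini_le_coatom hMco) hx)

/-- Adjoining an element whose p-th power lies in a normal subgroup multiplies the order by at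
most p. -/
theorem card_sup_zpowers_le [Finite G] (H : Subgroup G) [H.Normal] (x : G) (hx : x ^ p ∈ H) :
    Nat.card ↥(zpowers x ⊔ H) ≤ p * Nat.card H := by
  have h := CfsgLib.Solvable.card_sup_mul_card_inf (A := zpowers x) (K := H) (le_normalizer_of_normal)
  have h1 : zpowers (x ^ p) ≤ zpowers x ⊓ H :=
    le_inf (by rw [zpowers_le]; exact pow_mem (mem_zpowers x) p) (by rwa [zpowers_le])
  have h2 : orderOf x ≤ p * Nat.card ↥(zpowers x ⊓ H) := by
    refine le_trans ?_ (Nat.mul_le_mul_left p (card_le_of_le h1))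
    rw [Nat.card_zpowers, orderOf_pow' x hp.out.ne_zero]
    calc orderOf x = Nat.gcd (orderOf x) p * (orderOf x / Nat.gcd (orderOf x) p) :=
          (Nat.mul_div_cancel' (Nat.gcd_dvd_left _ _)).symm
      _ ≤ p * (orderOf x / Nat.gcd (orderOf x) p) :=
          Nat.mul_le_mul_right _ (Nat.gcd_le_right _ hp.out.pos)
  rw [Nat.card_zpowers] at h
  refine Nat.le_of_mul_le_mul_right ?_ (Nat.card_pos (α := ↥(zpowers x ⊓ H)))
  rw [h]
  calc orderOf x * Nat.card H ≤ p * Nat.card ↥(zpowers x ⊓ H) * Nat.card H :=
        Nat.mul_le_mul_right _ h2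
    _ = p * Nat.card H * Nat.card ↥(zpowers x ⊓ H) := by ring

/-- Burnside basis theorem. -/
theorem burnside_basis [Finite G] (hG : IsPGroup p G) {n : ℕ}
    (hn : (frattini G).index = p ^ n) :
    (∀ S : Finset G, closure (S : Set G) = ⊤ →
      ∃ T : Finset G, T ⊆ S ∧ T.card = n ∧ closure (T : Set G) = ⊤) ∧
    (∀ T : Finset G, closure (T : Set G) = ⊤ → n ≤ T.card) := by
  classical
  obtain ⟨hc, hpw⟩ := commutator_pow_le_frattini hG
  have hnorm : ∀ H : Subgroup G, frattini G ≤ H → H.Normal := fun H hH => ⟨fun m hm g => by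
    have hcm : g * m * g⁻¹ * m⁻¹ ∈ H := by
      refine hH (hc ?_)
      rw [_root_.commutator_def, ← commutatorElement_def]
      exact commutator_mem_commutator (mem_top g) (mem_top m)
    simpa [mul_assoc] using H.mul_mem hcm hm⟩
  have hstep : ∀ (T : Finset G) (x : G),
      closure ((insert x T : Finset G) : Set G) ⊔ frattini G =
        zpowers x ⊔ (closure (T : Set G) ⊔ frattini G) := by
    intro T x
    rw [Finset.coe_insert, Set.insert_eq, Subgroup.closure_union, ← zpowers_eq_closure, sup_assoc]
  have hle : ∀ T : Finset G,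
      Nat.card ↥(closure (T : Set G) ⊔ frattini G) ≤ p ^ T.card * Nat.card (frattini G) := by
    intro T
    induction T using Finset.induction_on with
    | empty => simp
    | insert x T hxT ih =>
      rw [hstep, Finset.card_insert_of_notMem hxT, pow_succ', mul_assoc]
      have := hnorm (closure (T : Set G) ⊔ frattini G) le_sup_right
      exact (card_sup_zpowers_le _ x ((le_sup_right : frattini G ≤ _) (hpw x))).trans
        (Nat.mul_le_mul_left p ih)
  have hcard : Nat.card G = p ^ n * Nat.card (frattini G) := by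
    rw [← hn, mul_comm, card_mul_index]
  have hpow : ∀ T : Finset G, closure (T : Set G) = ⊤ → n ≤ T.card := by
    intro T hT
    have h := hle T
    rw [hT, top_sup_eq, card_top, hcard] at h
    exact (Nat.pow_le_pow_iff_right hp.out.one_lt).1 (Nat.le_of_mul_le_mul_right h Nat.card_pos)
  refine ⟨fun S hS => ?_, hpow⟩
  have key : ∀ S : Finset G, ∃ T : Finset G, T ⊆ S ∧
      closure (T : Set G) ⊔ frattini G = closure (S : Set G) ⊔ frattini G ∧
      p ^ T.card * Nat.card (frattini G) ≤ Nat.card ↥(closure (T : Set G) ⊔ frattini G) := by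
    intro S
    induction S using Finset.induction_on with
    | empty => exact ⟨∅, Finset.Subset.refl _, rfl, by simp⟩
    | insert x S hxS ih =>
      obtain ⟨T, hTS, hT, hTc⟩ := ih
      by_cases hx : x ∈ closure (T : Set G) ⊔ frattini G
      · refine ⟨T, hTS.trans (Finset.subset_insert _ _), ?_, hTc⟩
        rw [hstep S x, ← hT]
        exact (sup_eq_right.2 (by rwa [zpowers_le])).symm
      · refine ⟨insert x T, Finset.insert_subset_insert _ hTS, ?_, ?_⟩
        · rw [hstep, hstep, hT]
        · have hxT : x ∉ T := fun h => hx (mem_sup_left (subset_closure h))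
          rw [hstep, Finset.card_insert_of_notMem hxT, pow_succ', mul_assoc]
          refine le_trans (Nat.mul_le_mul_left p hTc) ?_
          set H := closure (T : Set G) ⊔ frattini G with hH
          have hlt : H < zpowers x ⊔ H := by
            refine lt_of_le_of_ne le_sup_right fun h => hx ?_
            rw [h]
            exact mem_sup_left (mem_zpowers x)
          obtain ⟨a, ha⟩ := IsPGroup.iff_card.1 (hG.to_subgroup H)
          obtain ⟨b, hb⟩ := IsPGroup.iff_card.1 (hG.to_subgroup (zpowers x ⊔ H))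
          have hab := CfsgLib.Solvable.card_lt_of_lt hlt
          rw [ha, hb, Nat.pow_lt_pow_iff_right hp.out.one_lt] at hab
          rw [ha, hb, ← pow_succ']
          exact Nat.pow_le_pow_right hp.out.pos hab
  obtain ⟨T, hTS, hT, hTc⟩ := key S
  rw [hS, top_sup_eq] at hT
  rw [hT, card_top, hcard] at hTc
  have hTtop : closure (T : Set G) = ⊤ := frattini_nongenerating hT
  exact ⟨T, hTS, le_antisymm
    ((Nat.pow_le_pow_iff_right hp.out.one_lt).1 (Nat.le_of_mul_le_mul_right hTc Nat.card_pos))
    (hpow T hTtop), hTtop⟩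

end CfsgLib.PGroupBasic
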