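import Mathlib.GroupTheory.Frattini
import Mathlib.GroupTheory.Nilpotent
import Mathlib.GroupTheory.FixedPointFree
import Mathlib.GroupTheory.GroupAction.Quotient
import Cfsg.Agent.Solvable.Glauberman

/-!
Internal coprime action: `A` normalizes `K`, coprime orders, `A` or `K` solvable.
-/

set_option autoImplicit false
set_option linter.unusedSectionVars false
set_option linter.unusedVariables false
set_option linter.style.haveILetI false
set_option linter.deprecated false

namespace CfsgLib.CoprimeAct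

open Subgroup Pointwise CfsgLib.Solvable CfsgLib.SZ
open scoped commutatorElement

variable {G : Type*} [Group G] [Finite G]

omit [Finite G] in
theorem solvable_or {A K N : Subgroup G} (hNK : N ≤ K)
    (h : Group.IsSolvable A ∨ Group.IsSolvable K) : Group.IsSolvable A ∨ Group.IsSolvable N :=
  h.imp id fun h => by
    haveI := h
    exact Group.isSolvable_of_isSolvable_injective (inclusion_injective hNK)

/-- An element of `K` normalizing `A` centralizes `A`. -/
theorem mem_centralizer_of_normalizes {A K : Subgroup G} (hA : A ≤ normalizer (K : Set G))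
    (hcop : (Nat.card A).Coprime (Nat.card K)) {c : G} (hc : c ∈ K)
    (hn : c ∈ normalizer (A : Set G)) : c ∈ centralizer (A : Set G) := by
  refine mem_centralizer_iff.2 fun a ha => ?_
  have h1 : ⁅a, c⁆ ∈ K := mul_mem ((mem_normalizer_iff.1 (hA ha) c).1 hc) (inv_mem hc)
  have h2 : ⁅a, c⁆ ∈ A := by
    rw [show ⁅a, c⁆ = a * (c * a⁻¹ * c⁻¹) by simp [commutatorElement_def, mul_assoc]]
    exact mul_mem ha ((mem_normalizer_iff.1 hn _).1 (inv_mem ha))
  exact commutatorElement_eq_one_iff_mul_comm.1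
    (mem_bot.1 (inf_eq_bot_of_coprime hcop ▸ ⟨h2, h1⟩))

/-- A coset `kN` fixed by `A` contains an element centralizing `A`. -/
theorem exists_centralizing_mem_coset {A K N : Subgroup G} (hA : A ≤ normalizer (K : Set G))
    (hcop : (Nat.card A).Coprime (Nat.card K)) (hNK : N ≤ K) (hNA : A ≤ normalizer (N : Set G))
    (hsolv : Group.IsSolvable A ∨ Group.IsSolvable N) {k : G} (hk : k ∈ K)
    (hfix : ∀ a ∈ A, k⁻¹ * (a * k * a⁻¹) ∈ N) :
    ∃ c ∈ K ⊓ centralizer (A : Set G), k⁻¹ * c ∈ N := by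
  have hB : MulAut.conj k⁻¹ • A ≤ A ⊔ N := by
    intro x hx
    rw [mem_conj_smul, inv_inv] at hx
    have e : x = (k⁻¹ * ((k * x * k⁻¹) * k * (k * x * k⁻¹)⁻¹)) * (k * x * k⁻¹) := by group
    rw [e]
    exact mul_mem (mem_sup_right (hfix _ hx)) (mem_sup_left hx)
  obtain ⟨n, hn, he⟩ := conj_rel hNA (hcop.coprime_dvd_right (card_dvd_of_le hNK)) hsolv hB
    (card_conj_smul _ _)
  have hkn : MulAut.conj (k * n) • A = A := by
    rw [conj_smul_mul, he, ← conj_smul_mul, mul_inv_cancel, map_one, one_smul]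
  exact ⟨k * n, ⟨mul_mem hk (hNK hn), mem_centralizer_of_normalizes hA hcop (mul_mem hk (hNK hn))
    (conj_smul_eq_iff_mem_normalizer.1 hkn)⟩, by simpa using hn⟩

section

variable {A K : Subgroup G} (hAK : A ≤ normalizer (K : Set G))
  (hcop : (Nat.card A).Coprime (Nat.card K)) (hsolv : Group.IsSolvable A ∨ Group.IsSolvable K)

theorem conj_smul_sylow_map {a : G} {p : ℕ} [Fact p.Prime] (ha : a ∈ normalizer (K : Set G))
    (P : Sylow p K) : ∃ Q : Sylow p K,
      (Q : Subgroup K).map K.subtype = MulAut.conj a • (P : Subgroup K).map K.subtype := by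
  have hle : MulAut.conj a • (P : Subgroup K).map K.subtype ≤ K :=
    (pointwise_smul_le_pointwise_smul_iff.2 (map_subtype_le _)).trans
      (conj_smul_eq_iff_mem_normalizer.2 ha).le
  refine ⟨Sylow.ofCard ((MulAut.conj a • (P : Subgroup K).map K.subtype).subgroupOf K) ?_, ?_⟩
  · rw [Nat.card_congr (subgroupOfEquivOfLe hle).toEquiv, card_conj_smul,
      card_map_of_injective K.subtype_injective, P.card_eq_multiplicity]
  · simp [map_subgroupOf_eq_of_le hle]

include hAK hcop hsolv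

theorem exists_invariant_sylow (p : ℕ) [Fact p.Prime] :
    ∃ P : Sylow p K, A ≤ normalizer ((P : Subgroup K).map K.subtype : Set G) := by
  letI := MulAction.compHom (Subgroup G) (MulAut.conj : G →* MulAut G)
  have hsm : ∀ (g : G) (X : Subgroup G), g • X = MulAut.conj g • X := fun _ _ => rfl
  obtain ⟨S, ⟨P, hP⟩, hfix⟩ := exists_fixed hAK hcop hsolv
    (Set.range fun P : Sylow p K => (P : Subgroup K).map K.subtype) (Set.range_nonempty _)
    (by
      rintro a ha _ ⟨P, rfl⟩
      exact conj_smul_sylow_map (hAK ha) P)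
    (by
      rintro _ ⟨P, rfl⟩ _ ⟨Q, rfl⟩
      obtain ⟨k, hk⟩ := MulAction.exists_smul_eq K P Q
      refine ⟨k, k.2, ?_⟩
      rw [← hk, hsm]
      exact (conj_smul_map K.subtype k (P : Subgroup K)).symm)
    (by
      rintro k hk _ ⟨P, rfl⟩
      exact conj_smul_sylow_map (le_normalizer hk) P)
  subst hP
  exact ⟨P, fun a ha => conj_smul_eq_iff_mem_normalizer.1 (hfix a ha)⟩

theorem invariant_sylow_conj (p : ℕ) [Fact p.Prime] (P Q : Sylow p K)
    (hP : A ≤ normalizer ((P : Subgroup K).map K.subtype : Set G))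
    (hQ : A ≤ normalizer ((Q : Subgroup K).map K.subtype : Set G)) :
    ∃ c : K, (c : G) ∈ centralizer (A : Set G) ∧ MulAut.conj c • (P : Subgroup K) = Q := by
  letI := MulAction.compHom (Subgroup G) (MulAut.conj : G →* MulAut G)
  obtain ⟨k, hk, hkPQ⟩ := exists_smul_eq_of_fixed hAK hcop hsolv
    (fun a ha => conj_smul_eq_iff_mem_normalizer.2 (hP ha))
    (fun a ha => conj_smul_eq_iff_mem_normalizer.2 (hQ ha)) (by
      obtain ⟨k, hk⟩ := MulAction.exists_smul_eq K P Q
      refine ⟨k, k.2, ?_⟩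
      rw [← hk]
      exact (conj_smul_map K.subtype k (P : Subgroup K)).symm)
  refine ⟨⟨k, hk.1⟩, hk.2, map_injective K.subtype_injective ?_⟩
  rw [conj_smul_map]
  exact hkPQ

theorem exists_invariant_sylow_ge (p : ℕ) [Fact p.Prime] {U : Subgroup G} (hUK : U ≤ K)
    (hU : IsPGroup p U) (hUA : A ≤ normalizer (U : Set G)) :
    ∃ P : Sylow p K, U ≤ (P : Subgroup K).map K.subtype ∧
      A ≤ normalizer ((P : Subgroup K).map K.subtype : Set G) := by
  obtain ⟨W, hUW, ⟨hWK, hW, hWA⟩, hmax⟩ := exists_maximal_ge_of_wellFoundedGT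
    (fun W : Subgroup G => W ≤ K ∧ IsPGroup p W ∧ A ≤ normalizer (W : Set G)) U ⟨hUK, hU, hUA⟩
  set N := K ⊓ normalizer (W : Set G)
  have hAN : A ≤ normalizer (N : Set G) := fun a ha => by
    rw [← conj_smul_eq_iff_mem_normalizer, Subgroup.smul_inf,
      conj_smul_eq_iff_mem_normalizer.2 (hAK ha), conj_smul_self_of_mem (hWA ha)]
  obtain ⟨R, hR⟩ := exists_invariant_sylow (K := N) hAN
    (hcop.coprime_dvd_right (card_dvd_of_le inf_le_left)) (solvable_or inf_le_left hsolv) p
  have hWN : W ≤ N := le_inf hWK le_normalizer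
  haveI : (W.subgroupOf N).Normal := (normal_subgroupOf_iff_le_normalizer hWN).2 inf_le_right
  have hWp : IsPGroup p (W.subgroupOf N) := hW.comap_subtype
  have hWR : W.subgroupOf N ≤ R :=
    le_trans le_sup_left (R.3 (hWp.to_sup_of_normal_left R.2) le_sup_right).le
  have hWR' : W ≤ (R : Subgroup N).map N.subtype := by
    rw [← map_subgroupOf_eq_of_le hWN]; exact map_mono hWR
  have hRW : (R : Subgroup N).map N.subtype ≤ W :=
    hmax ⟨(map_subtype_le _).trans inf_le_left, R.2.map _, hR⟩ hWR'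
  obtain ⟨P, hP⟩ := (hW.comap_subtype (K := K)).exists_le_sylow
  have hWP : W ≤ (P : Subgroup K).map K.subtype := by
    rw [← map_subgroupOf_eq_of_le hWK]; exact map_mono hP
  have heq : W = (P : Subgroup K).map K.subtype := by
    by_contra hne
    have hlt : W < (P : Subgroup K).map K.subtype := lt_of_le_of_ne hWP hne
    set P' := (P : Subgroup K).map K.subtype
    haveI : Group.IsNilpotent P' := (P.2.map K.subtype).isNilpotent
    have hlt' : W.subgroupOf P' < ⊤ :=
      lt_top_iff_ne_top.2 fun h => hne (le_antisymm hWP (subgroupOf_eq_top.1 h))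
    obtain ⟨x, hxN, hxW⟩ := SetLike.exists_of_lt (Group.normalizerCondition_of_isNilpotent _ hlt')
    -- `W` together with `x` is a `p`-subgroup of `N` larger than `W`
    have hxN' : (x : G) ∈ normalizer (W : Set G) := by
      have := mem_map_of_mem P'.subtype hxN
      have h2 := le_normalizer_map P'.subtype this
      rwa [map_subgroupOf_eq_of_le hWP] at h2
    have hxK : (x : G) ∈ K := map_subtype_le _ x.2
    have hxWp : IsPGroup p ↥(W ⊔ zpowers (x : G)) :=
      (P.2.map K.subtype).to_le (sup_le hWP (zpowers_le.2 x.2))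
    obtain ⟨S, hS⟩ := (hxWp.comap_subtype (K := N)).exists_le_sylow
    have h1 : Nat.card S = Nat.card R := S.card_eq_multiplicity.trans R.card_eq_multiplicity.symm
    have h2 : Nat.card ↥(W ⊔ zpowers (x : G)) ≤ Nat.card W := by
      calc Nat.card ↥(W ⊔ zpowers (x : G))
          = Nat.card ↥((W ⊔ zpowers (x : G)).subgroupOf N) :=
            (Nat.card_congr (subgroupOfEquivOfLe
              (sup_le hWN (zpowers_le.2 ⟨hxK, hxN'⟩))).toEquiv).symm
        _ ≤ Nat.card S := Subgroup.card_le_of_le hS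
        _ = Nat.card ((R : Subgroup N).map N.subtype) := by
            rw [h1, card_map_of_injective N.subtype_injective]
        _ ≤ Nat.card W := Subgroup.card_le_of_le hRW
    exact hxW ((eq_of_le_of_card_le le_sup_left h2).ge (mem_sup_right (mem_zpowers _)))
  exact ⟨P, hUW.trans hWP, heq ▸ hWA⟩

theorem commutator_sup_centralizer :
    ⁅K, A⁆ ⊔ (K ⊓ centralizer (A : Set G)) = K := by
  have hle : ⁅K, A⁆ ≤ K := le_normalizer_iff_commutator_le_left.1 hAK
  refine le_antisymm (sup_le hle inf_le_left) fun k hk => ?_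
  obtain ⟨c, hc, hc'⟩ := exists_centralizing_mem_coset hAK hcop hle
    (normalizer_commutator_ge_right _ _) (solvable_or hle hsolv) hk (fun a ha => by
      rw [show k⁻¹ * (a * k * a⁻¹) = ⁅k⁻¹, a⁆ by simp [commutatorElement_def, mul_assoc]]
      exact commutator_mem_commutator (inv_mem hk) ha)
  rw [show k = c * (k⁻¹ * c)⁻¹ by simp]
  exact mul_mem (mem_sup_right hc) (mem_sup_left (inv_mem hc'))

theorem exists_mul_of_mem {k : G} (hk : k ∈ K) :
    ∃ x ∈ ⁅K, A⁆, ∃ c ∈ K ⊓ centralizer (A : Set G), x * c = k := by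
  have hle : K ⊓ centralizer (A : Set G) ≤ normalizer ((⁅K, A⁆ : Subgroup G) : Set G) :=
    inf_le_left.trans (normalizer_commutator_ge_left _ _)
  have h : k ∈ ⁅K, A⁆ ⊔ (K ⊓ centralizer (A : Set G)) :=
    (commutator_sup_centralizer hAK hcop hsolv).symm ▸ hk
  rwa [sup_comm, ← SetLike.mem_coe, coe_mul_of_left_le_normalizer_right _ _ hle,
    set_mul_normalizer_comm _ _ hle, Set.mem_mul] at h

theorem commutator_commutator : ⁅⁅K, A⁆, A⁆ = ⁅K, A⁆ := by
  refine le_antisymm (commutator_mono (le_normalizer_iff_commutator_le_left.1 hAK) le_rfl) ?_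
  rw [commutator_le]
  intro k hk a ha
  obtain ⟨x, hx, c, hc, rfl⟩ := exists_mul_of_mem hAK hcop hsolv hk
  have hac : ⁅c, a⁆ = 1 :=
    commutatorElement_eq_one_iff_mul_comm.2 ((mem_centralizer_iff.1 hc.2) a ha).symm
  rw [commutatorElement_mul_left_eq_conj_mul, hac, mul_one, mul_inv_cancel, one_mul]
  exact commutator_mem_commutator hx ha

theorem fixed_factor {X Y : Subgroup G} (hX : X ≤ K) (hY : Y ≤ K)
    (hXA : A ≤ normalizer (X : Set G)) (hYA : A ≤ normalizer (Y : Set G))
    (hXY : ∀ k ∈ K, ∃ x ∈ X, ∃ y ∈ Y, k = x * y) {k : G}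
    (hk : k ∈ K ⊓ centralizer (A : Set G)) :
    ∃ x ∈ X ⊓ centralizer (A : Set G), ∃ y ∈ Y ⊓ centralizer (A : Set G), k = x * y := by
  obtain ⟨x, hx, y, hy, rfl⟩ := hXY k hk.1
  have hfix : ∀ a ∈ A, x⁻¹ * (a * x * a⁻¹) ∈ X ⊓ Y := by
    intro a ha
    have h1 : a * (x * y) = x * y * a := mem_centralizer_iff.1 hk.2 a ha
    refine mem_inf.2 ⟨mul_mem (inv_mem hx) ((mem_normalizer_iff.1 (hXA ha) x).1 hx), ?_⟩
    have e : x⁻¹ * (a * x * a⁻¹) = y * (a * y⁻¹ * a⁻¹) := by
      calc x⁻¹ * (a * x * a⁻¹) = x⁻¹ * (a * (x * y)) * y⁻¹ * a⁻¹ := by group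
        _ = x⁻¹ * (x * y * a) * y⁻¹ * a⁻¹ := by rw [h1]
        _ = y * (a * y⁻¹ * a⁻¹) := by group
    rw [e]
    exact mul_mem hy ((mem_normalizer_iff.1 (hYA ha) _).1 (inv_mem hy))
  obtain ⟨c, hc, hc'⟩ := exists_centralizing_mem_coset hAK hcop (inf_le_left.trans hX)
    (fun a ha => by
      rw [← conj_smul_eq_iff_mem_normalizer, Subgroup.smul_inf,
        conj_smul_eq_iff_mem_normalizer.2 (hXA ha), conj_smul_eq_iff_mem_normalizer.2 (hYA ha)])
    (solvable_or (inf_le_left.trans hX) hsolv) (hX hx) hfix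
  rw [mem_inf] at hc hc' hk
  refine ⟨c, mem_inf.2 ⟨?_, hc.2⟩, c⁻¹ * (x * y), mem_inf.2 ⟨?_, ?_⟩, by group⟩
  · simpa using mul_mem hx hc'.1
  · simpa [mul_assoc] using mul_mem (inv_mem hc'.2) hy
  · exact mul_mem (inv_mem hc.2) hk.2

end

theorem trivial_on_frattini_quotient {A K : Subgroup G} (hAK : A ≤ normalizer (K : Set G))
    (hcop : (Nat.card A).Coprime (Nat.card (frattini K)))
    (htriv : ∀ a ∈ A, ∀ k ∈ K, a * k * a⁻¹ * k⁻¹ ∈ (frattini K).map K.subtype) :
    A ≤ centralizer (K : Set G) := by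
  set Φ := (frattini K).map K.subtype
  have hΦc : Nat.card Φ = Nat.card (frattini K) := card_map_of_injective K.subtype_injective
  have hΦs : Group.IsSolvable Φ := by
    haveI : Group.IsNilpotent (frattini K) := frattini_nilpotent
    haveI : Group.IsSolvable (frattini K) := IsNilpotent.to_isSolvable
    exact Group.isSolvable_of_surjective (K.subtype.subgroupMap_surjective _)
  have hΦA : A ≤ normalizer (Φ : Set G) := by
    rw [le_normalizer_iff]
    intro a ha n hn
    have := mul_mem (htriv a ha n (map_subtype_le _ hn)) hn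
    simpa using this
  have hkΦ : ∀ a ∈ A, ∀ k ∈ K, k⁻¹ * (a * k * a⁻¹) ∈ Φ := by
    intro a ha k hk
    have h := (frattini K).map K.subtype |>.inv_mem (htriv a ha k⁻¹ (inv_mem hk))
    simp only [mul_inv_rev, inv_inv, mul_assoc] at h ⊢
    exact h
  have hfix : ∀ k ∈ K, ∃ c ∈ K, c ∈ centralizer (A : Set G) ∧ k⁻¹ * c ∈ Φ := by
    intro k hk
    -- conjugation inside `A ⊔ Φ`
    have hB : MulAut.conj k⁻¹ • A ≤ A ⊔ Φ := by
      intro x hx
      rw [mem_conj_smul, inv_inv] at hx
      have e : x = (k⁻¹ * ((k * x * k⁻¹) * k * (k * x * k⁻¹)⁻¹)) * (k * x * k⁻¹) := by group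
      rw [e]
      exact mul_mem (mem_sup_right (hkΦ _ hx k hk)) (mem_sup_left hx)
    obtain ⟨n, hn, he⟩ := conj_rel hΦA (hΦc.symm ▸ hcop) (Or.inr hΦs) hB (card_conj_smul _ _)
    have hkn : k * n ∈ normalizer (A : Set G) := conj_smul_eq_iff_mem_normalizer.1
      (by rw [conj_smul_mul, he, ← conj_smul_mul, mul_inv_cancel, map_one, one_smul])
    have hknK : k * n ∈ K := mul_mem hk (map_subtype_le _ hn)
    refine ⟨k * n, hknK, mem_centralizer_iff.2 fun a ha => ?_, by simpa using hn⟩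
    have h1 : ⁅a, k * n⁆ ∈ Φ := htriv a ha _ hknK
    have h2 : ⁅a, k * n⁆ ∈ A := by
      rw [show ⁅a, k * n⁆ = a * ((k * n) * a⁻¹ * (k * n)⁻¹) by
        simp [commutatorElement_def, mul_assoc]]
      exact mul_mem ha ((mem_normalizer_iff.1 hkn _).1 (inv_mem ha))
    exact commutatorElement_eq_one_iff_mul_comm.1
      (mem_bot.1 (inf_eq_bot_of_coprime (hΦc.symm ▸ hcop) ▸ ⟨h2, h1⟩))
  have htop : (centralizer (A : Set G)).subgroupOf K = ⊤ := by
    refine frattini_nongenerating (eq_top_iff.2 fun k _ => ?_)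
    obtain ⟨c, hcK, hcA, hc'⟩ := hfix k k.2
    obtain ⟨φ, hφ, hφe⟩ := hc'
    have e : k = ⟨c, hcK⟩ * φ⁻¹ := by
      apply Subtype.ext
      simp only [coe_subtype] at hφe
      simp [hφe]
    rw [e]
    exact mul_mem_sup hcA (inv_mem hφ)
  exact le_centralizer_iff.1 (subgroupOf_eq_top.1 htop)

/-- Thompson's `P × Q` lemma. -/
theorem p_times_q_aux (n : ℕ) (p : ℕ) [Fact p.Prime] : ∀ P Q U : Subgroup G, Nat.card U = n →
    IsPGroup p P → (Nat.card Q).Coprime p → IsPGroup p U → P ≤ centralizer (Q : Set G) →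
    P ≤ normalizer (U : Set G) → Q ≤ normalizer (U : Set G) →
    U ⊓ centralizer (P : Set G) ≤ centralizer (Q : Set G) → ⁅U, Q⁆ = ⊥ := by
  induction n using Nat.strongRecOn with | ind n ih => ?_
  rintro P Q U rfl hP hQ hU hPQ hPU hQU hC
  obtain ⟨j, hj⟩ := IsPGroup.iff_card.1 hU
  have hcop : (Nat.card Q).Coprime (Nat.card U) := hj ▸ hQ.pow_right j
  have hsU : Group.IsSolvable U := by
    haveI := hU.isNilpotent
    infer_instance
  have hUP : ⁅U, P⁆ ≤ U := le_normalizer_iff_commutator_le_left.1 hPU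
  have hne : ⁅U, P⁆ = U → U = ⊥ := by
    intro he
    have hL : IsPGroup p ↥(P ⊔ U) := hP.to_sup_of_normal_right' hU hPU
    obtain ⟨m, hm⟩ := (Subgroup.isNilpotent_iff_lowerCentralSeries _).1 hL.isNilpotent
    have : ∀ i, U ≤ (P ⊔ U).lowerCentralSeries i := by
      intro i
      induction i with
      | zero => exact le_sup_right
      | succ i hi => exact he.ge.trans (commutator_mono hi le_sup_left)
    exact eq_bot_iff.2 (hm ▸ this m)
  rcases eq_or_lt_of_le hUP with he | hlt
  · rw [hne he, commutator_bot_left]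
  have hQn : Q ≤ normalizer ((⁅U, P⁆ : Subgroup G) : Set G) := by
    rw [le_normalizer_iff]
    intro q hq x hx
    suffices h : ⁅U, P⁆ ≤ MulAut.conj q⁻¹ • ⁅U, P⁆ by
      have := (mem_conj_smul (g := q⁻¹)).1 (h hx)
      rwa [inv_inv] at this
    rw [commutator_le]
    intro u hu v hv
    rw [mem_conj_smul, inv_inv]
    have : q * v * q⁻¹ = v := by
      rw [← (mem_centralizer_iff.1 (hPQ hv) q hq).symm]; group
    rw [conjugate_commutatorElement, this]
    exact commutator_mem_commutator ((mem_normalizer_iff.1 (hQU hq) u).1 hu) hv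
  have h1 : ⁅⁅U, P⁆, Q⁆ = ⊥ := ih _ (card_lt_of_lt hlt) P Q _ rfl hP hQ (hU.to_le hUP) hPQ
    (normalizer_commutator_ge_right _ _) hQn ((inf_le_inf hUP le_rfl).trans hC)
  have h2 : ⁅⁅P, Q⁆, U⁆ = ⊥ := by
    rw [commutator_eq_bot_iff_le_centralizer.2 hPQ, commutator_bot_left]
  have h3 : ⁅⁅Q, U⁆, P⁆ = ⊥ := commutator_commutator_eq_bot_of_rotate h1 h2
  have h4 : ⁅U, Q⁆ ≤ U ⊓ centralizer (P : Set G) := by
    refine le_inf (le_normalizer_iff_commutator_le_left.1 hQU) ?_
    rw [commutator_comm]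
    exact commutator_eq_bot_iff_le_centralizer.1 h3
  rw [← commutator_commutator (A := Q) (K := U) hQU hcop (Or.inr hsU),
    commutator_eq_bot_iff_le_centralizer]
  exact h4.trans hC

end CfsgLib.CoprimeAct
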