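import Mathlib.Algebra.BigOperators.Group.Finset.Basic
import Cfsg.Agent.Solvable.CoprimeAct
import Cfsg.Agent.Coprime.Generation

/-!
Coprime action on abelian groups; generation by fixed point subgroups.
-/

set_option autoImplicit false
set_option linter.style.haveILetI false
set_option linter.deprecated false
set_option linter.unusedSectionVars false

namespace CfsgLib.CoprimeAct

open Subgroup Pointwise CfsgLib.Solvable CfsgLib.SZ
open scoped commutatorElement IsMulCommutative

variable {G : Type*} [Group G] [Finite G]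

theorem fixed_inf_commutator_abelian {A V : Subgroup G} [IsMulCommutative V]
    (hAV : A ≤ normalizer (V : Set G)) (hcop : (Nat.card A).Coprime (Nat.card V)) :
    (V ⊓ centralizer (A : Set G)) ⊓ ⁅V, A⁆ = ⊥ := by
  classical
  haveI := Fintype.ofFinite A
  have hmem : ∀ (a : A) (v : V), (a : G) * v * (a : G)⁻¹ ∈ V := fun a v =>
    (mem_normalizer_iff.1 (hAV a.2) v).1 v.2
  let c : A → V → V := fun a v => ⟨(a : G) * v * (a : G)⁻¹, hmem a v⟩
  let f : V → V := fun v => ∏ a : A, c a v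
  have hf : ∀ v w, f (v * w) = f v * f w := fun v w => by
    rw [← Finset.prod_mul_distrib]
    refine Finset.prod_congr rfl fun a _ => ?_
    apply Subtype.ext
    show (a : G) * ((v : G) * w) * (a : G)⁻¹ = (a * v * (a : G)⁻¹) * (a * w * (a : G)⁻¹)
    group
  let F : V →* V := MonoidHom.mk' f hf
  have hinv : ∀ (b : A) (v : V), F (c b v) = F v := by
    intro b v
    show f (c b v) = f v
    refine (Finset.prod_congr rfl fun a _ => ?_).trans (Equiv.prod_comp (Equiv.mulRight b) fun a => c a v)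
    apply Subtype.ext
    show (a : G) * ((b : G) * v * (b : G)⁻¹) * (a : G)⁻¹ = ((a * b : A) : G) * v * ((a * b : A) : G)⁻¹
    simp [mul_assoc]
  have hker : ⁅V, A⁆ ≤ F.ker.map V.subtype := by
    rw [commutator_le]
    intro v hv a ha
    refine ⟨⟨v, hv⟩ * (c ⟨a, ha⟩ ⟨v, hv⟩)⁻¹, ?_, ?_⟩
    · rw [SetLike.mem_coe, MonoidHom.mem_ker, map_mul, map_inv, hinv, mul_inv_cancel]
    · simp [c, commutatorElement_def, mul_assoc]
  rw [eq_bot_iff]
  rintro x ⟨⟨hxV, hxA⟩, hx⟩
  obtain ⟨w, hw, rfl⟩ := hker hx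
  have h1 : ∀ a : A, c a w = w := fun a => by
    apply Subtype.ext
    show (a : G) * w * (a : G)⁻¹ = w
    have h : (a : G) * w = w * a := mem_centralizer_iff.1 hxA a a.2
    rw [h]
    simp
  have h2 : w ^ Nat.card A = 1 := by
    have : f w = 1 := hw
    rwa [show f w = ∏ _a : A, w from Finset.prod_congr rfl fun a _ => h1 a, Finset.prod_const,
      Finset.card_univ, ← Nat.card_eq_fintype_card] at this
  have h3 : w = 1 := orderOf_eq_one_iff.1
    (Nat.eq_one_of_dvd_coprimes hcop (orderOf_dvd_of_pow_eq_one h2) (orderOf_dvd_natCard w))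
  simp [h3]

theorem abelian_trivial_of_prime_order {A V : Subgroup G} [IsMulCommutative V]
    (hAV : A ≤ normalizer (V : Set G)) (hcop : (Nat.card A).Coprime (Nat.card V))
    (hΩ : ∀ v ∈ V, (orderOf v).Prime → ∀ a ∈ A, a * v = v * a) :
    A ≤ centralizer (V : Set G) := by
  rw [le_centralizer_iff, ← commutator_eq_bot_iff_le_centralizer]
  by_contra hne
  have hc1 : (Nat.card ↥⁅V, A⁆) ≠ 1 := fun h => hne (eq_bot_of_card_eq _ h)
  haveI := Fact.mk (Nat.minFac_prime hc1)
  obtain ⟨x, hx⟩ := exists_prime_orderOf_dvd_card' (G := ↥⁅V, A⁆) _ (Nat.minFac_dvd _)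
  have hxV : (x : G) ∈ V := le_normalizer_iff_commutator_le_left.1 hAV x.2
  have ho : (orderOf (x : G)).Prime := by rw [orderOf_coe, hx]; exact Fact.out
  have hfix : (x : G) ∈ V ⊓ centralizer (A : Set G) :=
    ⟨hxV, mem_centralizer_iff.2 fun a ha => hΩ x hxV ho a ha⟩
  have h3 : (x : G) ∈ (V ⊓ centralizer (A : Set G)) ⊓ ⁅V, A⁆ := ⟨hfix, x.2⟩
  rw [fixed_inf_commutator_abelian hAV hcop] at h3
  have := mem_bot.1 h3
  rw [this, orderOf_one] at ho
  exact Nat.not_prime_one ho

theorem generated_by_centralizers {A K : Subgroup G} [IsMulCommutative A] (hA : ¬ IsCyclic A)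
    (hAK : A ≤ normalizer (K : Set G)) (hcop : (Nat.card A).Coprime (Nat.card K)) :
    (⨆ a ∈ {a : G | a ∈ A ∧ a ≠ 1}, K ⊓ centralizer {a}) = K := by
  refine le_antisymm (iSup₂_le fun _ _ => inf_le_left) ?_
  letI : MulDistribMulAction A K :=
    { smul := fun a k => ⟨(a : G) * k * (a : G)⁻¹, (mem_normalizer_iff.1 (hAK a.2) k).1 k.2⟩
      one_smul := fun k => Subtype.ext (show (1 : G) * k * (1 : G)⁻¹ = k by simp)
      mul_smul := fun a b k => Subtype.ext
        (show ((a * b : A) : G) * k * ((a * b : A) : G)⁻¹ = (a : G) * ((b : G) * k * (b : G)⁻¹) * (a : G)⁻¹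
          by simp [mul_assoc])
      smul_mul := fun a k l => Subtype.ext
        (show (a : G) * ((k : G) * l) * (a : G)⁻¹ = ((a : G) * k * (a : G)⁻¹) * ((a : G) * l * (a : G)⁻¹)
          by group)
      smul_one := fun a => Subtype.ext (show (a : G) * 1 * (a : G)⁻¹ = 1 by simp) }
  have h := CfsgLib.Coprime.closure_fixed_eq_top (G := K) (A := A) hA hcop
  have hK : K = (⊤ : Subgroup K).map K.subtype := by
    rw [← MonoidHom.range_eq_map, range_subtype]
  refine le_trans hK.le ?_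
  rw [← h, MonoidHom.map_closure, closure_le]
  rintro _ ⟨k, ⟨a, ha, hk⟩, rfl⟩
  have hk' : (a : G) * k * (a : G)⁻¹ = k := congr_arg Subtype.val hk
  have hmem : (k : G) ∈ K ⊓ centralizer {(a : G)} :=
    ⟨k.2, mem_centralizer_singleton_iff.2 (mul_inv_eq_iff_eq_mul.1 hk').symm⟩
  exact SetLike.mem_coe.2 ((le_iSup₂_of_le (f := fun b (_ : b ∈ {b : G | b ∈ A ∧ b ≠ 1}) => K ⊓ centralizer {b})
    (a : G) ⟨a.2, fun h => ha (Subtype.ext h)⟩ le_rfl) hmem)

end CfsgLib.CoprimeAct
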