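import Cfsg.Prelude.Def_Transfer
import Cfsg.Agent.Solvable.PGroupBasic
import Mathlib.GroupTheory.Abelianization.Defs

/-!
Coprime automorphism groups acting trivially on all characteristic abelian subgroups.
-/

set_option autoImplicit false
set_option linter.style.haveILetI false

namespace CfsgLib.SpecialAction

open Subgroup
open scoped commutatorElement

variable {G : Type*} [Group G] [Finite G] {p : ℕ} [hp : Fact p.Prime]

theorem special (hG : IsPGroup p G) (A : Subgroup (MulAut G)) (hA : Nat.Coprime (Nat.card A) p)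
    (hGA : closure {x : G | ∃ g : G, ∃ a ∈ A, x = g⁻¹ * a g} = ⊤)
    (hchar : ∀ H : Subgroup G, H.Characteristic → IsMulCommutative H → ∀ a ∈ A, ∀ h ∈ H, a h = h) :
    Cfsg.IsSpecial p G ∧ (∀ g : G, (g ∈ center G ↔ ∀ a ∈ A, a g = g)) := by
  classical
  haveI := hG.isNilpotent
  have htop : ∀ K : Subgroup G, (∀ g : G, ∀ a ∈ A, g⁻¹ * a g ∈ K) → K = ⊤ := fun K hK =>
    top_unique (hGA.ge.trans ((closure_le _).2 (by rintro _ ⟨g, a, ha, rfl⟩; exact hK g a ha)))
  have hcen : ∀ K : Subgroup G, K.Characteristic → IsMulCommutative K → K ≤ center G := by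
    intro K hK hKc k hk
    haveI := hK
    refine mem_center_iff.2 fun g => ?_
    have h1 : centralizer {k} = ⊤ := htop _ fun g a ha => mem_centralizer_singleton_iff.2 (by
      have h2 := hchar K hK hKc a ha (g * k * g⁻¹) (Normal.conj_mem inferInstance k hk g)
      rw [map_mul, map_mul, map_inv, hchar K hK hKc a ha k hk] at h2
      calc g⁻¹ * a g * k = g⁻¹ * (a g * k * (a g)⁻¹) * a g := by group
        _ = k * (g⁻¹ * a g) := by rw [h2]; group)
    exact mem_centralizer_singleton_iff.1 (h1 ▸ mem_top g)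
  have hzfix : ∀ a ∈ A, ∀ z ∈ center G, a z = z := hchar (center G) inferInstance inferInstance
  have hG' : commutator G ≤ center G := by
    set L := fun i => (⊤ : Subgroup G).lowerCentralSeries i with hL
    have hex : ∃ i, L (i + 1) ≤ center G := by
      obtain ⟨n, hn⟩ := Subgroup.nilpotent_iff_lowerCentralSeries.1 ‹Group.IsNilpotent G›
      refine ⟨n, le_trans ?_ bot_le⟩
      rw [← hn]
      exact Subgroup.lowerCentralSeries_antitone _ (Nat.le_succ n)
    rcases Nat.eq_zero_or_pos (Nat.find hex) with h0 | h0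
    · have := Nat.find_spec hex
      rw [h0] at this
      exact this
    · exfalso
      obtain ⟨i, hi⟩ := Nat.exists_eq_succ_of_ne_zero h0.ne'
      have hne := Nat.find_min hex (m := i) (by omega)
      have hsucc : ⁅L (i + 1), (⊤ : Subgroup G)⁆ ≤ center G := by
        have := Nat.find_spec hex
        rw [hi] at this
        exact this
      have h3 : ⁅⁅L (i + 1), (⊤ : Subgroup G)⁆, (⊤ : Subgroup G)⁆ = ⊥ := by
        rw [Subgroup.commutator_eq_bot_iff_le_centralizer, coe_top, centralizer_univ]
        exact hsucc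
      have h4 : ⁅⁅(⊤ : Subgroup G), (⊤ : Subgroup G)⁆, L (i + 1)⁆ = ⊥ :=
        Subgroup.commutator_commutator_eq_bot_of_rotate
          (by rw [Subgroup.commutator_comm (⊤ : Subgroup G) (L (i + 1))]; exact h3) h3
      haveI : (L (i + 1)).Characteristic := inferInstanceAs ((⊤ : Subgroup G).lowerCentralSeries (i + 1)).Characteristic
      refine hne (hcen _ inferInstance (le_centralizer_iff_isMulCommutative.1 ?_))
      refine (Subgroup.commutator_eq_bot_iff_le_centralizer).1 (le_bot_iff.1 (le_trans ?_ h4.le))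
      refine commutator_mono ?_ le_rfl
      exact (Subgroup.lowerCentralSeries_antitone (⊤ : Subgroup G) (by omega : 1 ≤ i + 1)).trans le_rfl
  have hcomm : ∀ a b : G, ⁅a, b⁆ ∈ center G := fun a b =>
    hG' (commutator_mem_commutator (mem_top a) (mem_top b))
  let ψ : G → (G →* G) := fun y => MonoidHom.mk' (fun h => ⁅h, y⁆) fun a b => by
    have h1 := mem_center_iff.1 (hcomm b y)
    calc ⁅a * b, y⁆ = a * ⁅b, y⁆ * a⁻¹ * ⁅a, y⁆ := by simp only [commutatorElement_def]; group
      _ = _ := by rw [h1 a, mul_inv_cancel_right, h1 ⁅a, y⁆]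
  have hiff : ∀ g : G, g ∈ center G ↔ ∀ a ∈ A, a g = g := by
    refine fun g => ⟨fun hg a ha => hzfix a ha g hg, fun hg => mem_center_iff.2 fun h => ?_⟩
    have h1 : (ψ g).ker = ⊤ := htop _ fun x a ha => by
      have h2 : ⁅a x, g⁆ = ⁅x, g⁆ := by
        rw [← hzfix a ha _ (hcomm x g), map_commutatorElement, hg a ha]
      show ψ g (x⁻¹ * a x) = 1
      rw [map_mul, map_inv]
      show ⁅x, g⁆⁻¹ * ⁅a x, g⁆ = 1
      rw [h2, inv_mul_cancel]
    exact commutatorElement_eq_one_iff_mul_comm.1 (show ψ g h = 1 from (h1 ▸ mem_top h : h ∈ (ψ g).ker))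
  have hZG' : center G ≤ commutator G := by
    intro z hz
    haveI := Fintype.ofFinite A
    let N : G →* Abelianization G :=
      ∏ a : A, Abelianization.of.comp (a : MulAut G).toMonoidHom
    have hN : N.ker = ⊤ := htop _ fun g a ha => by
      rw [MonoidHom.mem_ker, map_mul, map_inv, MonoidHom.finset_prod_apply,
        MonoidHom.finset_prod_apply, inv_mul_eq_one]
      exact (Fintype.prod_equiv (Equiv.mulRight (⟨a, ha⟩ : A))
        (fun b : A => Abelianization.of ((b : MulAut G) (a g)))
        (fun b : A => Abelianization.of ((b : MulAut G) g)) (fun b => rfl)).symm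
    have h1 : Abelianization.of (z ^ Nat.card A) = 1 := by
      have h2 : N z = 1 := (hN ▸ mem_top z : z ∈ N.ker)
      rw [MonoidHom.finset_prod_apply] at h2
      rw [map_pow, Nat.card_eq_fintype_card, ← Finset.card_univ, ← Finset.prod_const, ← h2]
      exact Finset.prod_congr rfl fun b _ => by
        show Abelianization.of z = Abelianization.of ((b : MulAut G) z)
        rw [hzfix b b.2 z hz]
    have h3 : z ^ Nat.card A ∈ commutator G := by
      rw [← Abelianization.ker_of]; exact h1
    obtain ⟨k, hk⟩ := IsPGroup.iff_orderOf.1 hG z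
    have h4 : (z : G ⧸ commutator G) ^ Nat.gcd (Nat.card A) (p ^ k) = 1 :=
      pow_gcd_eq_one.2 ⟨(QuotientGroup.eq_one_iff _).2 h3, (QuotientGroup.eq_one_iff _).2
        (show z ^ (p ^ k) ∈ commutator G by rw [← hk, pow_orderOf_eq_one]; exact one_mem _)⟩
    rw [show Nat.gcd (Nat.card A) (p ^ k) = 1 from hA.pow_right k, pow_one] at h4
    exact (QuotientGroup.eq_one_iff _).1 h4
  have heq : commutator G = center G := le_antisymm hG' hZG'
  have hpow : ∀ x : G, x ^ p ∈ center G := by
    have hex : ∃ e, ∀ x : G, x ^ p ^ e ∈ center G := by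
      obtain ⟨k, hk⟩ := IsPGroup.iff_card.1 hG
      exact ⟨k, fun x => by rw [← hk, pow_card_eq_one']; exact one_mem _⟩
    rcases Nat.lt_or_ge (Nat.find hex) 2 with h2 | h2
    · intro x
      have := Nat.find_spec hex x
      interval_cases h : Nat.find hex
      · exact pow_mem (by simpa using this) p
      · simpa using this
    · exfalso
      obtain ⟨e, he⟩ : ∃ e, Nat.find hex = e + 1 := ⟨Nat.find hex - 1, by omega⟩
      set S := {x : G | ∃ y : G, y ^ p ^ e = x} with hS
      haveI hch : (closure S).Characteristic := characteristic_iff_map_le.2 fun φ => by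
        rw [MonoidHom.map_closure, closure_le]
        rintro _ ⟨_, ⟨y, rfl⟩, rfl⟩
        exact subset_closure ⟨φ y, (map_pow φ y _).symm⟩
      refine Nat.find_min hex (show e < Nat.find hex by omega) fun x =>
        hcen (closure S) hch ?_ (subset_closure ⟨x, rfl⟩)
      have hgen : ∀ x y : G, Commute (x ^ p ^ e) (y ^ p ^ e) := fun x y => by
        refine commutatorElement_eq_one_iff_mul_comm.1 ?_
        show ψ (y ^ p ^ e) (x ^ p ^ e) = 1
        rw [map_pow]
        show ⁅x, y ^ p ^ e⁆ ^ p ^ e = 1
        rw [← commutatorElement_inv, inv_pow, show ⁅y ^ p ^ e, x⁆ = ψ x (y ^ p ^ e) from rfl,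
          ← map_pow, ← pow_mul, ← pow_add]
        have h1 : y ^ p ^ (e + e) ∈ center G := by
          rw [show e + e = Nat.find hex + (e - 1) by omega, pow_add, pow_mul]
          exact pow_mem (Nat.find_spec hex y) _
        show (⁅y ^ p ^ (e + e), x⁆)⁻¹ = 1
        rw [inv_eq_one, commutatorElement_eq_one_iff_mul_comm, mem_center_iff.1 h1 x]
      refine le_centralizer_iff_isMulCommutative.1 ((closure_le _).2 ?_)
      rintro _ ⟨u, rfl⟩
      rw [centralizer_closure]
      exact mem_centralizer_iff.2 (by rintro _ ⟨v, rfl⟩; exact (hgen v u).eq)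
  refine ⟨⟨hG, le_antisymm ?_ (heq ▸ (CfsgLib.PGroupBasic.commutator_pow_le_frattini hG).1), heq⟩, hiff⟩
  exact CfsgLib.PGroupBasic.frattini_le_of_elementary (p := p) _ hG' hpow

end CfsgLib.SpecialAction
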