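import Cfsg.Agent.Solvable.PGroupRank
import Cfsg.Agent.PLocal.Uniserial
import Cfsg.Agent.FGSA.AbelianIndexP

/-!
`p`-groups of `p`-rank at most two.
-/

set_option autoImplicit false
set_option linter.style.haveILetI false

namespace CfsgLib.RankTwo

open Subgroup
open scoped commutatorElement

universe u

/-- A group of exponent `p` and rank at most two has order at most `p ^ 3`. -/
theorem card_le_cube_of_exponent {K : Type u} [Group K] [Finite K] {p : ℕ} [hp : Fact p.Prime]
    (he : ∀ a : K, a ^ p = 1)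
    (hrk : ∀ E : Subgroup K, Cfsg.IsElementaryAbelian p E → Nat.card E ≤ p ^ 2) :
    Nat.card K ≤ p ^ 3 := by
  classical
  have hK : IsPGroup p K := fun x => ⟨1, by rw [pow_one]; exact he x⟩
  obtain ⟨A, ⟨hA, hAc⟩, hmax⟩ := Set.Finite.exists_maximal
    (s := {X : Subgroup K | X.Normal ∧ IsMulCommutative X}) (Set.toFinite _)
    ⟨⊥, inferInstance, ⟨⟨fun a b => Subsingleton.elim _ _⟩⟩⟩
  haveI := hA
  obtain ⟨a, ha⟩ := IsPGroup.iff_card.1 (hK.to_subgroup A)
  have h2 : a ≤ 2 := (Nat.pow_le_pow_iff_right hp.out.one_lt).1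
    (ha ▸ hrk A ⟨hAc, fun x _ => he x⟩)
  refine (CfsgLib.PGroupRank.card_le_of_maximal_normal_abelian hK A hAc
    (fun B hB hBc hle => le_antisymm (hmax ⟨hB, hBc⟩ hle) hle) ha).trans ?_
  exact Nat.pow_le_pow_right hp.out.pos (by interval_cases a <;> norm_num)

/-- Groups of order at most `p ^ 4` have class at most three. -/
theorem class_le_three {G : Type u} [Group G] [Finite G] {p : ℕ} [hp : Fact p.Prime]
    (hG : IsPGroup p G) (h : Nat.card G ≤ p ^ 4) :
    ⁅⁅commutator G, (⊤ : Subgroup G)⁆, (⊤ : Subgroup G)⁆ = ⊥ := by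
  classical
  set L := fun i => (⊤ : Subgroup G).lowerCentralSeries i with hL
  show L 3 = ⊥
  by_contra h3
  have hne : ∀ i, i ≤ 3 → L i ≠ ⊥ := fun i hi e => h3 (le_bot_iff.1
    ((Subgroup.lowerCentralSeries_antitone (⊤ : Subgroup G) hi).trans e.le))
  have hd : ∀ i, i ≤ 2 → p * Nat.card (L (i + 1)) ≤ Nat.card (L i) := fun i hi =>
    CfsgLib.Uniserial.descend (hG.to_subgroup ⊤) le_top le_top
      ((⊤ : Subgroup G).self_le_normalizer_lowerCentralSeries i) (hne i (by omega))
  have h1 := CfsgLib.Uniserial.sq_le_index_commutator hG (hne 1 (by omega))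
  have h2 := hd 1 (by omega)
  have h2' := hd 2 (by omega)
  have h4 : p ≤ Nat.card (L 3) := by
    obtain ⟨k, hk⟩ := IsPGroup.iff_card.1 (hG.to_subgroup (L 3))
    rw [hk]
    refine (pow_one p).ge.trans (Nat.pow_le_pow_right hp.out.pos ?_)
    by_contra hk0
    exact h3 (eq_bot_of_card_eq _ (by rw [hk, show k = 0 by omega, pow_zero]))
  have h5 := (L 1).card_mul_index
  have h6 : p ^ 5 ≤ Nat.card (L 1) * (L 1).index := by
    calc p ^ 5 = (p * (p * p)) * p ^ 2 := by ring
      _ ≤ _ := Nat.mul_le_mul (le_trans (Nat.mul_le_mul_left _ ((Nat.mul_le_mul_left _ h4).trans h2')) h2) h1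
  have : p ^ 4 < p ^ 5 := Nat.pow_lt_pow_right hp.out.one_lt (by norm_num)
  rw [h5] at h6
  omega

/-- For `p > 3` the elements of order `p` of a group of rank at most two generate a group of
exponent `p`. -/
theorem omega_one_exponent {p : ℕ} [hp : Fact p.Prime] (hp3 : 3 < p) : ∀ (n : ℕ) {R : Type u}
    [Group R] [Finite R], Nat.card R ≤ n → IsPGroup p R →
    (∀ E : Subgroup R, Cfsg.IsElementaryAbelian p E → Nat.card E ≤ p ^ 2) →
    ∀ g ∈ closure {x : R | x ^ p = 1}, g ^ p = 1 := by
  intro n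
  induction n with
  | zero => intro R _ _ h; exact absurd h (Nat.not_le.2 Nat.card_pos)
  | succ n ih =>
    intro R _ _ hn hR hrk g hg
    classical
    have hrk' : ∀ S : Subgroup R, ∀ E : Subgroup S, Cfsg.IsElementaryAbelian p E →
        Nat.card E ≤ p ^ 2 := fun S E hE => by
      rw [← card_map_of_injective (K := E) S.subtype_injective]
      refine hrk _ ⟨?_, ?_⟩
      · haveI := hE.1
        infer_instance
      · rintro _ ⟨a, ha, rfl⟩
        rw [← map_pow, hE.2 a ha, map_one]
    have hsub : ∀ S : Subgroup R, S ≠ ⊤ → ∀ z ∈ closure {x : S | x ^ p = 1}, z ^ p = 1 :=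
      fun S hS => ih (by
        have := CfsgLib.Solvable.card_lt_of_lt (lt_of_le_of_ne le_top hS : S < ⊤)
        rw [card_top] at this
        omega) (hR.to_subgroup S) (hrk' S)
    have hpair : ∀ x y : R, x ^ p = 1 → y ^ p = 1 → (x * y) ^ p = 1 := by
      intro x y hx hy
      set S := closure ({x, y} : Set R) with hS
      by_cases htop : S = ⊤
      swap
      · have h1 := hsub S htop (⟨x, subset_closure (Set.mem_insert _ _)⟩ *
          ⟨y, subset_closure (Set.mem_insert_of_mem _ rfl)⟩)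
          (mul_mem (subset_closure (Subtype.ext hx)) (subset_closure (Subtype.ext hy)))
        exact congrArg Subtype.val h1
      by_cases hcyc : zpowers x = ⊤
      · obtain ⟨i, rfl⟩ := mem_zpowers_iff.1 (hcyc ▸ mem_top y : y ∈ zpowers x)
        rw [((Commute.refl x).zpow_right i).mul_pow, hx, hy, one_mul]
      obtain ⟨M, hM, hxM⟩ := (eq_top_or_exists_le_coatom (zpowers x)).resolve_left hcyc
      obtain ⟨hMn, -⟩ := CfsgLib.PGroupBasic.coatom_normal_index hR hM
      haveI := hMn
      set K := closure {g : R | g ∈ M ∧ g ^ p = 1} with hK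
      haveI hKn : K.Normal := ⟨fun k hk g => by
        induction hk using closure_induction with
        | mem k hk =>
          exact subset_closure ⟨hMn.conj_mem k hk.1 g, by rw [conj_pow, hk.2, mul_one, mul_inv_cancel]⟩
        | one => simp
        | mul a b _ _ ha hb => rw [← conj_mul]; exact mul_mem ha hb
        | inv a _ ha => rw [← conj_inv]; exact inv_mem ha⟩
      have hKe : ∀ k ∈ K, k ^ p = 1 := by
        intro k hk
        have hle : K ≤ (closure {z : M | z ^ p = 1}).map M.subtype := by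
          rw [hK, closure_le]
          exact fun z hz => ⟨⟨z, hz.1⟩, subset_closure (Subtype.ext hz.2), rfl⟩
        obtain ⟨z, hz, rfl⟩ := hle hk
        rw [← map_pow, hsub M hM.1 z hz, map_one]
      have hK3 : Nat.card K ≤ p ^ 3 :=
        card_le_cube_of_exponent (fun a => Subtype.ext (hKe a a.2)) (hrk' K)
      have htop' : K ⊔ zpowers y = ⊤ := by
        refine top_unique (htop.ge.trans ((closure_le _).2 ?_))
        rintro z (rfl | rfl)
        · exact mem_sup_left (subset_closure ⟨hxM (mem_zpowers _), hx⟩)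
        · exact mem_sup_right (mem_zpowers _)
      have hcard : Nat.card R ≤ p ^ 4 := by
        have h1 := CfsgLib.PGroupBasic.card_sup_zpowers_le (p := p) K y
          (by rw [hy]; exact one_mem _)
        rw [sup_comm, htop', card_top] at h1
        exact h1.trans (le_trans (Nat.mul_le_mul_left _ hK3) (le_of_eq (by ring)))
      exact CfsgLib.PGroupPower.pow_eq_one_of_closure (Or.inr ⟨hp3, class_le_three hR hcard⟩)
        (mul_mem (subset_closure hx) (subset_closure hy))
    induction hg using closure_induction with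
    | mem x hx => exact hx
    | one => exact one_pow p
    | mul x y _ _ hx hy => exact hpair x y hx hy
    | inv x _ hx => rw [inv_pow, hx, inv_one]

section Normal

variable {G : Type u} [Group G] [Finite G] {p : ℕ} [hp : Fact p.Prime]

/-- A maximal normal elementary abelian subgroup contains the elements of order `p` centralizing it. -/
theorem exists_omega (hp2 : p ≠ 2) (hG : IsPGroup p G) : ∃ A : Subgroup G, A.Normal ∧
    Cfsg.IsElementaryAbelian p A ∧ ∀ x ∈ centralizer (A : Set G), x ^ p = 1 → x ∈ A := by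
  obtain ⟨A, ⟨hA, hAc, hAe⟩, hmax⟩ := Set.Finite.exists_maximal
    (s := {X : Subgroup G | X.Normal ∧ IsMulCommutative X ∧ ∀ a ∈ X, a ^ p = 1})
    (Set.toFinite _) ⟨⊥, inferInstance, ⟨⟨fun a b => Subsingleton.elim _ _⟩⟩,
      fun a ha => by rw [mem_bot.1 ha, one_pow]⟩
  haveI := hA
  exact ⟨A, hA, ⟨hAc, hAe⟩, fun x hx hxp => CfsgLib.PGroupPower.alperin hG 1
    (by rw [pow_one]; exact hp2) A hAc (fun a ha => by rw [pow_one]; exact hAe a ha)
    (fun B hB hBc hBe hle => le_antisymm
      (hmax ⟨hB, hBc, fun b hb => by simpa using hBe b hb⟩ hle) hle)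
    x hx (by rw [pow_one]; exact hxp)⟩

theorem mul_card_inf_le (hG : IsPGroup p G) {A E : Subgroup G}
    (hA : Cfsg.IsElementaryAbelian p A) (hE : Cfsg.IsElementaryAbelian p E)
    (hΩ : ∀ x ∈ centralizer (A : Set G), x ^ p = 1 → x ∈ A) :
    E ≤ A ∨ (E ⊓ centralizer (A : Set G) = E ⊓ A ∧
      p * Nat.card (E ⊓ centralizer (A : Set G) : Subgroup G) ≤ Nat.card A) := by
  by_cases hAE : A ≤ E
  · refine Or.inl fun e he => hΩ e (mem_centralizer_iff.2 fun a ha => ?_) (hE.2 e he)
    exact congrArg Subtype.val (hE.1.is_comm.comm ⟨a, hAE ha⟩ ⟨e, he⟩)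
  · refine Or.inr ?_
    have h1 : E ⊓ centralizer (A : Set G) = E ⊓ A :=
      le_antisymm (fun x hx => ⟨hx.1, hΩ x hx.2 (hE.2 x hx.1)⟩)
        (inf_le_inf_left _ (le_centralizer_iff_isMulCommutative.2 hA.1))
    refine ⟨h1, ?_⟩
    rw [h1]
    exact CfsgLib.Uniserial.mul_card_le (hG.to_subgroup ⊤) le_top
      (lt_of_le_of_ne inf_le_right fun e => hAE (inf_eq_right.1 e))

/-- Without normal elementary abelian subgroups of order `p ^ 3` the rank is at most two. -/
theorem rank_le_two (hp2 : p ≠ 2) (hG : IsPGroup p G)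
    (h : ∀ A : Subgroup G, A.Normal → IsMulCommutative A → (∀ a ∈ A, a ^ p = 1) → Nat.card A ≠ p ^ 3)
    (E : Subgroup G) (hE : Cfsg.IsElementaryAbelian p E) : Nat.card E ≤ p ^ 2 := by
  obtain ⟨A, hA, hAe, hΩ⟩ := exists_omega hp2 hG
  haveI := hA
  obtain ⟨a, ha⟩ := IsPGroup.iff_card.1 (hG.to_subgroup A)
  have ha2 : a ≤ 2 := by
    by_contra hc
    obtain ⟨B, hB, hBA, h1, h2, -⟩ := CfsgLib.PGroupRank.exists_normal_le hG A ha 3 (by omega)
    exact h B hB (le_centralizer_iff_isMulCommutative.1 (hBA.trans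
      ((le_centralizer_iff_isMulCommutative.2 hAe.1).trans (centralizer_le hBA))))
      (fun b hb => hAe.2 b (hBA hb)) (le_antisymm h2 h1)
  have hA2 : Nat.card A ≤ p ^ 2 := ha ▸ Nat.pow_le_pow_right hp.out.pos ha2
  rcases mul_card_inf_le hG hAe hE hΩ with h1 | ⟨-, h1⟩
  · exact (card_le_of_le h1).trans hA2
  · have h2 := CfsgLib.PGroupRank.index_centralizer_le hG A ha
    have h3 := (inf_le_left : E ⊓ centralizer (A : Set G) ≤ E)
    have h4 : Nat.card E ≤ Nat.card (E ⊓ centralizer (A : Set G) : Subgroup G) * p := by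
      rw [← (centralizer (A : Set G)).subgroupOf E |>.card_mul_index]
      refine Nat.mul_le_mul (le_of_eq ?_) ?_
      · rw [← card_map_of_injective (K := (centralizer (A : Set G)).subgroupOf E) E.subtype_injective,
          subgroupOf_map_subtype, inf_comm]
      · refine le_trans (le_of_eq rfl) (le_trans (relIndex_le_of_le_right (K := E) (L := ⊤) le_top
          (by rw [relIndex_top_right]; exact index_ne_zero_of_finite)) ?_)
        rw [relIndex_top_right]
        refine h2.trans (le_trans (Nat.pow_le_pow_right hp.out.pos ?_) (pow_one p).le)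
        interval_cases a <;> norm_num
    exact h4.trans (by rw [mul_comm]; exact h1.trans hA2)

/-- In the critical configuration an elementary abelian subgroup of order `p ^ 4` meets a normal
subgroup of order `p ^ 3` in at least `p ^ 2` elements. -/
theorem sq_le_card_inf (hG : IsPGroup p G) {A E : Subgroup G} [A.Normal]
    (hA : Cfsg.IsElementaryAbelian p A) (hA3 : Nat.card A = p ^ 3)
    (hE : Cfsg.IsElementaryAbelian p E) (hE4 : Nat.card E = p ^ 4)
    (hΩ : ∀ x ∈ centralizer (A : Set G), x ^ p = 1 → x ∈ A) :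
    p ^ 2 ≤ Nat.card (E ⊓ A : Subgroup G) := by
  classical
  haveI := hG.isNilpotent
  obtain ⟨i, hi⟩ := IsPGroup.iff_card.1 (hG.to_subgroup (E ⊓ A : Subgroup G))
  by_contra hlt
  rw [hi] at hlt
  have hi1 : i ≤ 1 := by
    by_contra hc
    exact hlt (Nat.pow_le_pow_right hp.out.pos (by omega))
  obtain ⟨B, hB, hBA, hB1, hB2, hBi⟩ := CfsgLib.PGroupRank.exists_normal_le hG A hA3 2 (by norm_num)
  haveI := hB
  have hBc : Nat.card B = p ^ 2 := le_antisymm hB2 hB1
  have hcomA : ∀ x ∈ A, ∀ y ∈ A, x * y = y * x := fun x hx y hy =>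
    congrArg Subtype.val (hA.1.is_comm.comm ⟨x, hx⟩ ⟨y, hy⟩)
  have hlt' : B < A := lt_of_le_of_ne hBA fun e => by
    rw [e, hA3] at hBc
    exact absurd (Nat.pow_right_injective hp.out.two_le hBc) (by norm_num)
  obtain ⟨a, haA, haB, hac⟩ := CfsgLib.PGroupBasic.exists_central_mod B A hlt'
  have hsup : zpowers a ⊔ B = A := by
    refine eq_of_le_of_card_ge (sup_le (zpowers_le.2 haA) hBA) ?_
    have := CfsgLib.Uniserial.mul_card_le (A := B) (B := zpowers a ⊔ B) (hG.to_subgroup ⊤) le_top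
      (lt_of_le_of_ne le_sup_right fun e => haB (e.ge (mem_sup_left (mem_zpowers a))))
    rw [hA3]
    refine le_trans (le_of_eq ?_) this
    rw [hBc]; ring
  set E1 := E ⊓ centralizer (B : Set G) with hE1
  have hmem : ∀ x : E1, ⁅(x : G), a⁆ ∈ B := fun x => by
    simpa [commutatorElement_def, mul_assoc] using inv_mem (hac x)
  let φ : E1 →* B := MonoidHom.mk' (fun x => ⟨⁅(x : G), a⁆, hmem x⟩) fun x y => Subtype.ext (by
    show ⁅(x : G) * y, a⁆ = ⁅(x : G), a⁆ * ⁅(y : G), a⁆
    have h1 : (x : G) * ⁅(y : G), a⁆ = ⁅(y : G), a⁆ * x :=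
      (mem_centralizer_iff.1 x.2.2 _ (hmem y)).symm
    calc ⁅(x : G) * y, a⁆ = (x : G) * ⁅(y : G), a⁆ * (x : G)⁻¹ * ⁅(x : G), a⁆ := by
          simp only [commutatorElement_def]; group
      _ = _ := by rw [h1, mul_inv_cancel_right, hcomA _ (hBA (hmem y)) _ (hBA (hmem x))])
  have hker : Nat.card φ.ker ≤ p := by
    rw [← card_map_of_injective (K := φ.ker) E1.subtype_injective]
    refine le_trans (card_le_of_le (K := (E ⊓ A : Subgroup G)) ?_) ?_
    · rintro _ ⟨x, hx, rfl⟩
      refine ⟨x.2.1, hΩ _ (mem_centralizer_iff.2 fun b hb => ?_) (hE.2 _ x.2.1)⟩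
      have h1 : A ≤ centralizer {(x : G)} := hsup.ge.trans (sup_le
        (zpowers_le.2 (mem_centralizer_singleton_iff.2 (commutatorElement_eq_one_iff_mul_comm.1
          (congrArg Subtype.val (MonoidHom.mem_ker.1 hx))).symm))
        (fun c hc => mem_centralizer_singleton_iff.2 (mem_centralizer_iff.1 x.2.2 c hc)))
      exact mem_centralizer_singleton_iff.1 (h1 hb)
    · rw [hi]
      exact (Nat.pow_le_pow_right hp.out.pos hi1).trans (pow_one p).le
  have hrange : Nat.card E1 ≤ p * Nat.card φ.range := by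
    rw [← φ.ker.card_mul_index, index_ker]
    exact Nat.mul_le_mul_right _ hker
  have hE13 : p ^ 4 ≤ Nat.card E1 * p := by
    rw [← hE4, ← (centralizer (B : Set G)).subgroupOf E |>.card_mul_index]
    refine Nat.mul_le_mul (le_of_eq ?_) ?_
    · rw [← card_map_of_injective (K := (centralizer (B : Set G)).subgroupOf E) E.subtype_injective,
        subgroupOf_map_subtype, hE1, inf_comm]
    · refine le_trans (le_of_eq rfl) (le_trans (relIndex_le_of_le_right (K := E) (L := ⊤) le_top
        (by rw [relIndex_top_right]; exact index_ne_zero_of_finite)) ?_)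
      rw [relIndex_top_right]
      exact hBi.trans (le_of_eq (by norm_num))
  have htop : φ.range = ⊤ := eq_top_of_le_card _ (by
    rw [hBc]
    refine Nat.le_of_mul_le_mul_left ?_ (Nat.mul_pos hp.out.pos hp.out.pos)
    calc p * p * p ^ 2 = p ^ 4 := by ring
      _ ≤ Nat.card E1 * p := hE13
      _ ≤ p * Nat.card φ.range * p := Nat.mul_le_mul_right _ hrange
      _ = p * p * Nat.card φ.range := by ring)
  have hEB : E ≤ centralizer (B : Set G) := fun e he => by
    refine mem_centralizer_iff.2 fun u hu => ?_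
    obtain ⟨x, hx⟩ : (⟨u, hu⟩ : B) ∈ φ.range := htop ▸ mem_top _
    have hxu : ⁅(x : G), a⁆ = u := congrArg Subtype.val hx
    have hex : e * x * e⁻¹ = x := by
      rw [show e * (x : G) = x * e from congrArg Subtype.val (hE.1.is_comm.comm ⟨e, he⟩ ⟨x, x.2.1⟩),
        mul_inv_cancel_right]
    have hb : ⁅e, a⁆ ∈ B := by simpa [commutatorElement_def, mul_assoc] using inv_mem (hac e)
    have hxb : (x : G) * ⁅e, a⁆ = ⁅e, a⁆ * x := (mem_centralizer_iff.1 x.2.2 _ hb).symm
    have h2 : e * u * e⁻¹ = u := by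
      have h3 : e * a * e⁻¹ = ⁅e, a⁆ * a := by simp only [commutatorElement_def]; group
      rw [← hxu]
      calc e * ⁅(x : G), a⁆ * e⁻¹ = ⁅e * x * e⁻¹, e * a * e⁻¹⁆ := by
            simp only [commutatorElement_def]; group
        _ = ⁅(x : G), ⁅e, a⁆ * a⁆ := by rw [hex, h3]
        _ = (x : G) * ⁅e, a⁆ * a * (x : G)⁻¹ * a⁻¹ * ⁅e, a⁆⁻¹ := by
            simp only [commutatorElement_def]; group
        _ = ⁅e, a⁆ * ⁅(x : G), a⁆ * ⁅e, a⁆⁻¹ := by
            rw [hxb]; simp only [commutatorElement_def]; group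
        _ = _ := by rw [hcomA _ (hBA hb) _ (hBA (hmem x)), mul_inv_cancel_right]
    exact (mul_inv_eq_iff_eq_mul.1 h2).symm
  have hE1c : Nat.card E1 = p ^ 4 := by rw [hE1, inf_eq_left.2 hEB, hE4]
  rw [hE1c] at hrange
  have h4 : p ^ 4 ≤ p ^ 3 := hrange.trans (le_trans (Nat.mul_le_mul_left p
    (card_le_card_group _)) (le_of_eq (by rw [hBc]; ring)))
  exact absurd ((Nat.pow_le_pow_iff_right hp.out.one_lt).1 h4) (by norm_num)

end Normal

/-- For odd `p` an elementary abelian subgroup of order `p ^ 4` yields a normal one. -/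
theorem exists_normal_rank_four {p : ℕ} [hp : Fact p.Prime] (hp2 : p ≠ 2) : ∀ (n : ℕ) {G : Type u}
    [Group G] [Finite G], Nat.card G ≤ n → IsPGroup p G → ∀ E : Subgroup G,
    Cfsg.IsElementaryAbelian p E → Nat.card E = p ^ 4 →
    ∃ A : Subgroup G, A.Normal ∧ Cfsg.IsElementaryAbelian p A ∧ Nat.card A = p ^ 4 := by
  intro n
  induction n with
  | zero => intro G _ _ h; exact absurd h (Nat.not_le.2 Nat.card_pos)
  | succ n ih =>
    intro G _ _ hn hG E₀ hE₀ hE4₀
    classical
    haveI := hG.isNilpotent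
    rcases eq_or_ne E₀ ⊤ with rfl | hne
    · exact ⟨⊤, inferInstance, hE₀, hE4₀⟩
    obtain ⟨M, hM, hEM⟩ := (eq_top_or_exists_le_coatom E₀).resolve_left hne
    obtain ⟨hMn, -⟩ := CfsgLib.PGroupBasic.coatom_normal_index hG hM
    haveI := hMn
    obtain ⟨X', hX', hX'e, hX'c⟩ := ih (G := M) (by
        have := CfsgLib.Solvable.card_lt_of_lt hM.lt_top
        rw [card_top] at this
        omega) (hG.to_subgroup M) (E₀.subgroupOf M)
      ⟨⟨⟨fun a b => Subtype.ext (Subtype.ext (congrArg (Subtype.val : E₀ → G)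
          (hE₀.1.is_comm.comm ⟨((a : M) : G), a.2⟩ ⟨((b : M) : G), b.2⟩)))⟩⟩,
        fun a ha => Subtype.ext (hE₀.2 a ha)⟩
      (by rw [← card_map_of_injective (K := E₀.subgroupOf M) M.subtype_injective,
        map_subgroupOf_eq_of_le hEM, hE4₀])
    set X := X'.map M.subtype with hXdef
    have hX : Cfsg.IsElementaryAbelian p X := by
      refine ⟨?_, ?_⟩
      · haveI := hX'e.1
        infer_instance
      · rintro _ ⟨a, ha, rfl⟩
        rw [← map_pow, hX'e.2 a ha, map_one]
    have hX4 : Nat.card X = p ^ 4 := by rw [card_map_of_injective M.subtype_injective, hX'c]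
    have hMX : M ≤ normalizer (X : Set G) := by
      have h1 := X'.le_normalizer_map M.subtype
      rw [normalizer_eq_top, ← MonoidHom.range_eq_map, range_subtype] at h1
      exact h1
    have hXM : X ≤ M := map_subtype_le X'
    obtain ⟨A, hA, hAe, hΩ⟩ := exists_omega hp2 hG
    haveI := hA
    obtain ⟨a, ha⟩ := IsPGroup.iff_card.1 (hG.to_subgroup A)
    by_cases ha4 : 4 ≤ a
    · obtain ⟨B, hB, hBA, h1, h2, -⟩ := CfsgLib.PGroupRank.exists_normal_le hG A ha 4 ha4
      exact ⟨B, hB, ⟨le_centralizer_iff_isMulCommutative.1 (hBA.trans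
        ((le_centralizer_iff_isMulCommutative.2 hAe.1).trans (centralizer_le hBA))),
        fun b hb => hAe.2 b (hBA hb)⟩, le_antisymm h2 h1⟩
    have hXA : ¬ X ≤ A := fun h => by
      have := card_le_of_le h
      rw [hX4, ha, Nat.pow_le_pow_iff_right hp.out.one_lt] at this
      omega
    obtain ⟨hXC, hXC'⟩ := (mul_card_inf_le hG hAe hX hΩ).resolve_left hXA
    obtain ⟨j, hj⟩ := IsPGroup.iff_card.1
      (hG.to_subgroup (X ⊓ centralizer (A : Set G) : Subgroup G))
    rw [hj, ha, ← pow_succ', Nat.pow_le_pow_iff_right hp.out.one_lt] at hXC'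
    set C := centralizer (A : Set G) with hC
    have hCi := CfsgLib.PGroupRank.index_centralizer_le hG A ha
    have hXCcard := CfsgLib.Solvable.card_sup_mul_card_inf (A := X) (K := C)
      (le_top.trans (normalizer_eq_top C).ge)
    obtain ⟨i, hi⟩ := hG.index (X ⊔ C)
    have hkey : i + 4 ≤ j + a * (a - 1) / 2 := by
      have h1 := (X ⊔ C).card_mul_index
      rw [← C.card_mul_index, hi] at h1
      refine (Nat.pow_le_pow_iff_right hp.out.one_lt).1 ?_
      refine Nat.le_of_mul_le_mul_left ?_ (Nat.card_pos (α := C))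
      rw [pow_add, pow_add]
      calc Nat.card C * (p ^ i * p ^ 4) = Nat.card X * Nat.card C * p ^ i := by rw [hX4]; ring
        _ = Nat.card (X ⊔ C : Subgroup G) * p ^ i * p ^ j := by rw [← hXCcard, hj]; ring
        _ ≤ _ := by
          rw [h1, mul_assoc, mul_comm (p ^ j)]
          exact Nat.mul_le_mul_left _ (Nat.mul_le_mul_right _ hCi)
    have ha3 : a = 3 := by
      interval_cases a <;> omega
    subst ha3
    have hDn : (X ⊔ C).Normal := by
      obtain rfl | hi1 := (by omega : i = 0 ∨ i = 1)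
      · rw [show X ⊔ C = ⊤ from index_eq_one.1 (by rw [hi, pow_zero])]
        infer_instance
      · exact CfsgLib.AbelianIndexP.normal_of_index_prime hG (by rw [hi, hi1, pow_one])
    have hXA2 : Nat.card (X ⊔ A : Subgroup G) ≤ p ^ 5 := by
      have h1 := CfsgLib.Solvable.card_sup_mul_card_inf (A := X) (K := A)
        (le_top.trans (normalizer_eq_top A).ge)
      rw [hX4, ha] at h1
      refine Nat.le_of_mul_le_mul_right ?_ (pow_pos hp.out.pos 2)
      calc _ ≤ Nat.card (X ⊔ A : Subgroup G) * Nat.card (X ⊓ A : Subgroup G) :=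
            Nat.mul_le_mul_left _ (sq_le_card_inf hG hAe ha hX hX4 hΩ)
        _ = _ := by rw [h1]; ring
    refine ⟨X, ⟨fun z hz g => ?_⟩, hX, hX4⟩
    set Y := X.map (MulAut.conj g).toMonoidHom with hYdef
    suffices hYX : Y ≤ X from hYX ⟨z, hz, rfl⟩
    have hY4 : Nat.card Y = p ^ 4 := by rw [card_map_of_injective (MulAut.conj g).injective, hX4]
    have hYM : Y ≤ M := by
      rintro _ ⟨w, hw, rfl⟩
      exact hMn.conj_mem w (hXM hw) g
    have hYX1 : Y ≤ normalizer (X : Set G) := hYM.trans hMX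
    have hXY1 : X ≤ normalizer (Y : Set G) := by
      refine hXM.trans fun m hm => mem_normalizer_iff.2 fun y => ?_
      have hm' := mem_normalizer_iff.1 (hMX (show g⁻¹ * m * g ∈ M by
        simpa using hMn.conj_mem m hm g⁻¹)) (g⁻¹ * y * g)
      have hY : ∀ w, w ∈ Y ↔ g⁻¹ * w * g ∈ X := fun w => by
        constructor
        · rintro ⟨v, hv, rfl⟩
          simpa [mul_assoc] using hv
        · exact fun h => ⟨_, h, by simp [mul_assoc]⟩
      rw [hY, hY, hm']
      simp [mul_assoc]
    have hWe : ∀ w ∈ X ⊔ Y, w ^ p = 1 := fun w hw => by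
      rw [← SetLike.mem_coe, coe_mul_of_right_le_normalizer_left X Y hYX1] at hw
      obtain ⟨u, hu, v, hv, rfl⟩ := Set.mem_mul.1 hw
      change u ∈ X at hu
      change v ∈ Y at hv
      have huv : ⁅v, u⁆ ∈ X ⊓ Y := by
        constructor
        · exact X.mul_mem ((mem_normalizer_iff.1 (hYX1 hv) u).1 hu) (X.inv_mem hu)
        · show v * u * v⁻¹ * u⁻¹ ∈ Y
          have := mul_mem hv ((mem_normalizer_iff.1 (hXY1 hu) v⁻¹).1 (inv_mem hv))
          simpa [mul_assoc] using this
      have e1 : v * u = ⁅v, u⁆ * u * v := by simp [commutatorElement_def, mul_assoc]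
      have e2 : u * ⁅v, u⁆ = 1 * ⁅v, u⁆ * u := by
        rw [one_mul]; exact congrArg Subtype.val (hX.1.is_comm.comm ⟨u, hu⟩ ⟨_, huv.1⟩)
      have hvp : ∀ y ∈ Y, y ^ p = 1 := by
        rintro _ ⟨y, hy, rfl⟩
        rw [← map_pow, hX.2 y hy, map_one]
      have e3 : v * ⁅v, u⁆ = 1 * ⁅v, u⁆ * v := by
        obtain ⟨v', hv', rfl⟩ := hv
        obtain ⟨c, hc, hc'⟩ := huv.2
        rw [one_mul, ← hc', ← map_mul, ← map_mul,
          show v' * c = c * v' from congrArg Subtype.val (hX.1.is_comm.comm ⟨v', hv'⟩ ⟨c, hc⟩)]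
      have h1 := CfsgLib.PGroupPower.mul_pow_eq (x := u) (y := v) e1 e2 e3
        (fun g _ => Commute.one_left g) (fun g _ => Commute.one_left g) p
      obtain ⟨b, hb⟩ := hp.out.dvd_choose_self (k := 2) (by norm_num)
        (by have := hp.out.two_le; omega)
      rw [h1, hb, pow_mul, hX.2 _ huv.1, hX.2 u hu, hvp v hv]
      simp
    have hYA : Y ≤ X ⊔ A := fun y hy => by
      obtain ⟨x, hx, rfl⟩ := hy
      have h1 : (MulAut.conj g).toMonoidHom x ∈ X ⊔ C := hDn.conj_mem x (mem_sup_left hx) g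
      obtain ⟨u, hu, c, hc, huc⟩ := mem_sup_of_normal_right.1 h1
      have hc' : c ∈ A := hΩ c hc (hWe c (by
        rw [eq_inv_mul_of_mul_eq huc]
        exact mul_mem (mem_sup_left (X.inv_mem hu)) (mem_sup_right (mem_map_of_mem _ hx))))
      exact huc ▸ mul_mem (mem_sup_left hu) (mem_sup_right hc')
    have hXY := CfsgLib.Solvable.card_sup_mul_card_inf (A := X) (K := Y) hXY1
    obtain ⟨x1, hx1, hx1A⟩ : ∃ x1 ∈ X ⊓ Y, x1 ∉ A := by
      by_contra! hall
      have h1 : Nat.card (X ⊓ Y : Subgroup G) ≤ p ^ 2 := by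
        refine (card_le_of_le (K := X ⊓ C) fun w (hw : w ∈ X ⊓ Y) =>
          ⟨hw.1, le_centralizer_iff_isMulCommutative.2 hAe.1 (hall w hw)⟩).trans ?_
        rw [hj]
        exact Nat.pow_le_pow_right hp.out.pos (by omega)
      have h2 : Nat.card (X ⊔ Y : Subgroup G) ≤ p ^ 5 :=
        (card_le_of_le (sup_le le_sup_left hYA)).trans hXA2
      have h3 : p ^ 8 ≤ p ^ 7 := by
        calc p ^ 8 = Nat.card X * Nat.card Y := by rw [hX4, hY4]; ring
          _ ≤ p ^ 5 * p ^ 2 := hXY ▸ Nat.mul_le_mul h2 h1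
          _ = p ^ 7 := by ring
      exact absurd ((Nat.pow_le_pow_iff_right hp.out.one_lt).1 h3) (by norm_num)
    intro y hy
    obtain ⟨u, hu, c, hc, rfl⟩ := mem_sup_of_normal_right.1 (hYA hy)
    by_contra hyX
    have hcX : c ∉ X := fun h => hyX (mul_mem hu h)
    have hx1c : c ∈ centralizer {x1} := by
      have h1 : u ∈ centralizer {x1} := mem_centralizer_singleton_iff.2
        (congrArg Subtype.val (hX.1.is_comm.comm ⟨u, hu⟩ ⟨x1, hx1.1⟩))
      have h2 : u * c ∈ centralizer {x1} := by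
        refine mem_centralizer_singleton_iff.2 ?_
        obtain ⟨y', hy', hy''⟩ := hy
        obtain ⟨w, hw, hw'⟩ := hx1.2
        rw [← hy'', ← hw', ← map_mul, ← map_mul,
          show y' * w = w * y' from congrArg Subtype.val (hX.1.is_comm.comm ⟨y', hy'⟩ ⟨w, hw⟩)]
      have := mul_mem (inv_mem h1) h2
      rwa [inv_mul_cancel_left] at this
    have h1 : (X ⊓ A) ⊔ zpowers c = A := by
      refine eq_of_le_of_card_ge (sup_le inf_le_right (zpowers_le.2 hc)) ?_
      refine le_trans ?_ (CfsgLib.Uniserial.mul_card_le (hG.to_subgroup ⊤) le_top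
        (lt_of_le_of_ne le_sup_left fun e =>
          hcX (e.ge (mem_sup_right (mem_zpowers c))).1 : X ⊓ A < (X ⊓ A) ⊔ zpowers c))
      rw [ha, pow_succ' p 2]
      exact Nat.mul_le_mul_left _ (sq_le_card_inf hG hAe ha hX hX4 hΩ)
    refine hx1A (hΩ x1 ?_ (hX.2 x1 hx1.1))
    have h2 : A ≤ centralizer {x1} := h1.ge.trans (sup_le (fun w (hw : w ∈ X ⊓ A) =>
      mem_centralizer_singleton_iff.2 (congrArg Subtype.val (hX.1.is_comm.comm ⟨w, hw.1⟩ ⟨x1, hx1.1⟩)))
      (zpowers_le.2 hx1c))
    exact mem_centralizer_iff.2 fun w hw => mem_centralizer_singleton_iff.1 (h2 hw)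

end CfsgLib.RankTwo
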