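import Mathlib.Data.Nat.Factorization.Basic
import Mathlib.Algebra.BigOperators.Associated
import Mathlib.Algebra.IsPrimePow
import Cfsg.Agent.Solvable.Glauberman

/-!
Hall's theorem for finite solvable groups.
-/

set_option autoImplicit false
set_option linter.style.haveILetI false
set_option linter.deprecated false

namespace CfsgLib.Hall

open Subgroup Pointwise CfsgLib.Solvable CfsgLib.SZ

universe u

theorem hall_aux (n : ℕ) : ∀ (G : Type u) [Group G] [Finite G], Nat.card G = n →
    Group.IsSolvable G → ∀ a b : ℕ, Nat.card G = a * b → a.Coprime b →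
      ∃ H : Subgroup G, Nat.card H = a ∧
        ∀ K : Subgroup G, (Nat.card K).Coprime b → ∃ g : G, MulAut.conj g • K ≤ H := by
  induction n using Nat.strongRecOn with | ind n ih => ?_
  rintro G _ _ rfl hG a b hab hcop
  haveI := hG
  by_cases htriv : (⊤ : Subgroup G) = ⊥
  · have h1 : Nat.card G = 1 := by rw [← card_top, htriv, card_bot]
    refine ⟨⊥, ?_, fun K _ => ⟨1, ?_⟩⟩
    · have hd : a ∣ 1 := ⟨b, h1.symm.trans hab⟩
      rw [card_bot, Nat.eq_one_of_dvd_one hd]
    · exact le_trans le_top htriv.le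
  obtain ⟨M, hM, hM1, -, -, -, p, hp, -, hMp⟩ :=
    exists_normal_elementary_le htriv (Group.isSolvable_of_isSolvable_injective (subtype_injective _))
  haveI := Fact.mk hp
  obtain ⟨j, hj⟩ := IsPGroup.iff_card.1 hMp
  have hj0 : j ≠ 0 := by
    rintro rfl
    exact hM1 (eq_bot_of_card_eq _ (by rw [hj, pow_zero]))
  have hMdvd : p ^ j ∣ a * b := by rw [← hj, ← hab]; exact card_subgroup_dvd_card M
  let f := QuotientGroup.mk' M
  have hf : Function.Surjective f := QuotientGroup.mk'_surjective M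
  have hker : f.ker = M := QuotientGroup.ker_mk' M
  have hQ : Nat.card M * Nat.card (G ⧸ M) = Nat.card G := by
    rw [← index_eq_card, card_mul_index]
  have hcomap : ∀ X : Subgroup (G ⧸ M),
      Nat.card ↥(X.comap f) = Nat.card M * Nat.card X := by
    intro X
    conv_rhs => rw [← map_comap_eq_self_of_surjective hf X, ← relIndex_ker, hker]
    rw [← relIndex_bot_left, ← relIndex_bot_left]
    exact (relIndex_mul_relIndex ⊥ M _ bot_le (hker.ge.trans (f.ker_le_comap X))).symm
  rcases hp.dvd_mul.1 ((dvd_pow_self p hj0).trans hMdvd) with hpa | hpb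
  · -- `p` divides `a`
    have hpb : ¬ p ∣ b := fun h => hp.coprime_iff_not_dvd.1 (hcop.coprime_dvd_left hpa) h
    obtain ⟨a', rfl⟩ : p ^ j ∣ a :=
      ((hp.coprime_iff_not_dvd.2 hpb).pow_left j).dvd_of_dvd_mul_right hMdvd
    obtain ⟨X, hXc, hX⟩ := ih _ (card_quotient_lt hM1) (G ⧸ M) rfl inferInstance a' b
      (Nat.eq_of_mul_eq_mul_left (Nat.card_pos (α := M)) (by rw [hQ, hab, hj]; ring))
      (hcop.coprime_dvd_left (Dvd.intro_left _ rfl))
    refine ⟨X.comap f, by rw [hcomap, hj, hXc], fun K hK => ?_⟩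
    obtain ⟨g', hg⟩ := hX (K.map f) (hK.coprime_dvd_left (card_map_dvd _ _))
    obtain ⟨g, rfl⟩ := hf g'
    rw [← conj_smul_map, map_le_iff_le_comap] at hg
    exact ⟨g, hg⟩
  · -- `p` divides `b`
    have hpa : ¬ p ∣ a := fun h => hp.coprime_iff_not_dvd.1 (hcop.symm.coprime_dvd_left hpb) h
    obtain ⟨b', rfl⟩ : p ^ j ∣ b :=
      ((hp.coprime_iff_not_dvd.2 hpa).pow_left j).dvd_of_dvd_mul_left hMdvd
    obtain ⟨X, hXc, hX⟩ := ih _ (card_quotient_lt hM1) (G ⧸ M) rfl inferInstance a b'
      (Nat.eq_of_mul_eq_mul_left (Nat.card_pos (α := M)) (by rw [hQ, hab, hj]; ring))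
      (hcop.coprime_dvd_right (Dvd.intro_left _ rfl))
    set L := X.comap f
    have hL : Nat.card L = p ^ j * a := by rw [hcomap, hj, hXc]
    have hML : M ≤ L := hker ▸ f.ker_le_comap X
    have hMc : Nat.card (M.subgroupOf L) = p ^ j := by
      rw [Nat.card_congr (subgroupOfEquivOfLe hML).toEquiv, hj]
    have hMi : (M.subgroupOf L).index = a := by
      apply Nat.eq_of_mul_eq_mul_left (Nat.card_pos (α := M.subgroupOf L))
      rw [card_mul_index, hL, hMc]
    have hpa' : (p ^ j).Coprime a := (hp.coprime_iff_not_dvd.2 hpa).pow_left j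
    obtain ⟨B, hB⟩ := exists_right_complement'_of_coprime (N := M.subgroupOf L)
      (by rw [hMc, hMi]; exact hpa')
    have hBc : Nat.card (B.map L.subtype) = a := by
      rw [Nat.card_congr (B.equivMapOfInjective L.subtype L.subtype_injective).symm.toEquiv,
        ← hB.symm.index_eq_card, hMi]
    refine ⟨B.map L.subtype, hBc, fun K hK => ?_⟩
    obtain ⟨g', hg⟩ := hX (K.map f) ((hK.coprime_dvd_right (Dvd.intro_left _ rfl)).coprime_dvd_left
      (card_map_dvd _ _))
    obtain ⟨g, rfl⟩ := hf g'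
    rw [← conj_smul_map, map_le_iff_le_comap] at hg
    have hLeq : B.map L.subtype ⊔ M = L := by
      refine eq_of_le_of_card_le (sup_le (map_subtype_le B) hML) (le_of_eq ?_)
      rw [card_sup_of_disjoint le_normalizer_of_normal
        (inf_eq_bot_of_coprime (by rw [hBc, hj]; exact hpa'.symm)), hBc, hj, hL, mul_comm]
    have hMs : Group.IsSolvable M := inferInstance
    obtain ⟨k, -, hkl⟩ := conj_le (A := B.map L.subtype) (K := M) (U := MulAut.conj g • K)
      le_normalizer_of_normal (by rw [hBc, hj]; exact hpa'.symm) (Or.inr hMs)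
      (hLeq.symm ▸ hg)
      (by rw [card_conj_smul, hj]; exact hK.coprime_dvd_right (Dvd.intro _ rfl))
    exact ⟨k * g, by rw [conj_smul_mul]; exact hkl⟩

variable {G : Type*} [Group G] [Finite G] [Group.IsSolvable G]

/-- **Hall**: existence, conjugacy and dominance. -/
theorem hall {a b : ℕ} (hab : Nat.card G = a * b) (hcop : a.Coprime b) :
    ∃ H : Subgroup G, Nat.card H = a ∧
      ∀ K : Subgroup G, (Nat.card K).Coprime b → ∃ g : G, MulAut.conj g • K ≤ H :=
  hall_aux (Nat.card G) G rfl inferInstance a b hab hcop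

/-- Hall subgroups of the same order are conjugate. -/
theorem hall_conj {a b : ℕ} (hab : Nat.card G = a * b) (hcop : a.Coprime b) {H K : Subgroup G}
    (hH : Nat.card H = a) (hK : Nat.card K = a) : ∃ g : G, MulAut.conj g • H = K := by
  obtain ⟨X, hXc, hX⟩ := hall hab hcop
  obtain ⟨g, hg⟩ := hX H (hH ▸ hcop)
  obtain ⟨h, hh⟩ := hX K (hK ▸ hcop)
  refine ⟨h⁻¹ * g, ?_⟩
  rw [conj_smul_mul, eq_of_le_of_card_le hg (by rw [card_conj_smul, hH, hXc]),
    ← eq_of_le_of_card_le hh (by rw [card_conj_smul, hK, hXc]), conj_smul_inv_smul]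

/-- Every subgroup of order coprime to `b` lies in a subgroup of order `a`. -/
theorem hall_dominance {a b : ℕ} (hab : Nat.card G = a * b) (hcop : a.Coprime b) {K : Subgroup G}
    (hK : (Nat.card K).Coprime b) : ∃ H : Subgroup G, Nat.card H = a ∧ K ≤ H := by
  obtain ⟨X, hXc, hX⟩ := hall hab hcop
  obtain ⟨g, hg⟩ := hX K hK
  refine ⟨MulAut.conj g⁻¹ • X, by rw [card_conj_smul, hXc], ?_⟩
  rw [← conj_smul_inv_smul g K]
  exact pointwise_smul_le_pointwise_smul_iff.2 hg

omit [Group G] [Group.IsSolvable G] in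
/-- The factorization of the order of a finite type into the part supported on `P` and the rest. -/
theorem exists_pi_split (G : Type*) [Finite G] [Nonempty G] (P : ℕ → Prop) :
    ∃ a b : ℕ, Nat.card G = a * b ∧ a.Coprime b ∧
      (∀ q : ℕ, q.Prime → q ∣ a → P q) ∧ ∀ q : ℕ, q.Prime → q ∣ b → ¬ P q := by
  classical
  let s := (Nat.card G).primeFactors
  let f : ℕ → ℕ := fun q => q ^ (Nat.card G).factorization q
  have hs : ∀ (t : Finset ℕ), t ⊆ s → ∀ q : ℕ, q.Prime → q ∣ ∏ r ∈ t, f r → q ∈ t := by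
    intro t ht q hq hdvd
    obtain ⟨r, hr, hqr⟩ := (Prime.dvd_finsetProd_iff (Nat.prime_iff.1 hq) _).1 hdvd
    have := (Nat.prime_dvd_prime_iff_eq hq (Nat.prime_of_mem_primeFactors (ht hr))).1
      (hq.dvd_of_dvd_pow hqr)
    exact this ▸ hr
  refine ⟨∏ q ∈ s.filter P, f q, ∏ q ∈ s.filter (fun q => ¬ P q), f q, ?_, ?_, ?_, ?_⟩
  · rw [Finset.prod_filter_mul_prod_filter_not]
    exact (Nat.prod_factorization_pow_eq_self Nat.card_pos.ne').symm
  · refine Nat.coprime_of_dvd fun q hq ha hb => ?_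
    exact (Finset.mem_filter.1 (hs _ (Finset.filter_subset _ _) q hq hb)).2
      (Finset.mem_filter.1 (hs _ (Finset.filter_subset _ _) q hq ha)).2
  · exact fun q hq h => (Finset.mem_filter.1 (hs _ (Finset.filter_subset _ _) q hq h)).2
  · exact fun q hq h => (Finset.mem_filter.1 (hs _ (Finset.filter_subset _ _) q hq h)).2

/-- A solvable group has a Hall subgroup for any set `P` of primes, and it dominates all
`P`-subgroups up to conjugacy. -/
theorem hall_pi (P : ℕ → Prop) :
    ∃ H : Subgroup G, (∀ q : ℕ, q.Prime → q ∣ Nat.card H → P q) ∧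
      (∀ q : ℕ, q.Prime → q ∣ H.index → ¬ P q) ∧
      ∀ K : Subgroup G, (∀ q : ℕ, q.Prime → q ∣ Nat.card K → P q) →
        ∃ g : G, MulAut.conj g • K ≤ H := by
  obtain ⟨a, b, hab, hcop, ha, hb⟩ := exists_pi_split G P
  obtain ⟨H, hHc, hH⟩ := hall hab hcop
  have hidx : H.index = b := by
    apply Nat.eq_of_mul_eq_mul_left (Nat.card_pos (α := H))
    rw [card_mul_index, hab, hHc]
  exact ⟨H, hHc ▸ ha, hidx ▸ hb, fun K hK =>
    hH K (Nat.coprime_of_dvd fun q hq h1 h2 => hb q hq h2 (hK q hq h1))⟩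

omit [Group.IsSolvable G] in
/-- The Frattini argument for Hall subgroups of a solvable normal subgroup. -/
theorem frattini_hall (L : Subgroup G) [L.Normal] (hL : Group.IsSolvable L) (H : Subgroup G)
    (hHL : H ≤ L) (hHall : (Nat.card H).Coprime (H.relIndex L)) :
    L ⊔ normalizer (H : Set G) = ⊤ := by
  haveI := hL
  rw [eq_top_iff]
  intro g _
  have hgH : MulAut.conj g • H ≤ L := by
    rw [← conj_smul_normal g L]
    exact pointwise_smul_le_pointwise_smul_iff.2 hHL
  obtain ⟨l, hl⟩ := hall_conj (G := L) (a := Nat.card H) (b := H.relIndex L)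
    (by rw [← relIndex_bot_left, ← relIndex_bot_left]
        exact (relIndex_mul_relIndex ⊥ H L bot_le hHL).symm) hHall
    (H := (MulAut.conj g • H).subgroupOf L) (K := H.subgroupOf L)
    (by rw [Nat.card_congr (subgroupOfEquivOfLe hgH).toEquiv, card_conj_smul])
    (Nat.card_congr (subgroupOfEquivOfLe hHL).toEquiv)
  have := congr_arg (Subgroup.map L.subtype) hl
  rw [conj_smul_map, map_subgroupOf_eq_of_le hgH, map_subgroupOf_eq_of_le hHL, ← conj_smul_mul,
    conj_smul_eq_iff_mem_normalizer] at this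
  have he : g = (l : G)⁻¹ * ((l : G) * g) := (inv_mul_cancel_left _ _).symm
  rw [he]
  exact mul_mem_sup (inv_mem l.2) this

/-- Maximal subgroups of finite solvable groups have prime power index. -/
theorem isPrimePow_index_aux (n : ℕ) : ∀ (G : Type u) [Group G] [Finite G], Nat.card G = n →
    Group.IsSolvable G → ∀ M : Subgroup G, IsCoatom M → IsPrimePow M.index := by
  induction n using Nat.strongRecOn with | ind n ih => ?_
  rintro G _ _ rfl hG M hM
  haveI := hG
  have htriv : (⊤ : Subgroup G) ≠ ⊥ := fun h => hM.1 (le_antisymm le_top (h ▸ bot_le))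
  obtain ⟨N, hN, hN1, -, hNc, hmin, p, hp, -, hNp⟩ :=
    exists_normal_elementary_le htriv (Group.isSolvable_of_isSolvable_injective (subtype_injective _))
  by_cases hle : N ≤ M
  · have hf : Function.Surjective (QuotientGroup.mk' N) := QuotientGroup.mk'_surjective N
    have hk : (QuotientGroup.mk' N).ker ≤ M := (QuotientGroup.ker_mk' N).trans_le hle
    rw [← index_map_eq M hf hk]
    refine ih _ (card_quotient_lt hN1) (G ⧸ N) rfl inferInstance _
      ⟨fun h => hM.1 ?_, fun X hX => ?_⟩
    · rw [← comap_map_eq_self hk, h, comap_top]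
    · have h1 := (comap_lt_comap_of_surjective hf).2 hX
      rw [comap_map_eq_self hk] at h1
      apply comap_injective hf
      rw [hM.2 _ h1, comap_top]
  · have hsup : M ⊔ N = ⊤ := hM.2 _ (left_lt_sup.2 hle)
    have hnorm : (M ⊓ N).Normal := by
      rw [← normalizer_eq_top_iff, eq_top_iff, ← hsup, sup_le_iff]
      refine ⟨fun x hx => conj_smul_eq_iff_mem_normalizer.1 ?_, fun x hx =>
        centralizer_le_normalizer _ ?_⟩
      · rw [Subgroup.smul_inf, conj_smul_self_of_mem hx, conj_smul_normal]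
      · exact centralizer_le (SetLike.coe_subset_coe.2 inf_le_right)
          (le_centralizer_iff_isMulCommutative.2 hNc hx)
    have hbot : M ⊓ N = ⊥ :=
      (hmin _ hnorm inf_le_right).resolve_right fun h => hle (inf_eq_right.1 h)
    have hc := card_sup_of_disjoint (le_normalizer_of_normal (H := N)) hbot
    rw [hsup, card_top, ← card_mul_index M] at hc
    haveI := Fact.mk hp
    obtain ⟨j, hj⟩ := IsPGroup.iff_card.1 hNp
    rw [Nat.eq_of_mul_eq_mul_left Nat.card_pos hc, hj]
    refine ⟨p, j, hp.prime, Nat.pos_of_ne_zero ?_, rfl⟩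
    rintro rfl
    exact hN1 (eq_bot_of_card_eq _ (by rw [hj, pow_zero]))

end CfsgLib.Hall
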