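import Mathlib.GroupTheory.Index
import Mathlib.Data.Nat.GCD.BigOperators
import Mathlib.GroupTheory.Coset.Card

/-!
Subgroups of coprime index.
-/

set_option autoImplicit false

namespace CfsgLib.CoprimeIndex

open Subgroup

variable {G : Type*} [Group G] [Finite G]

theorem index_inf {H K : Subgroup G} (h : H.index.Coprime K.index) :
    (H ⊓ K).index = H.index * K.index :=
  le_antisymm index_inf_le <| Nat.le_of_dvd (Nat.pos_of_ne_zero index_ne_zero_of_finite)
    (h.mul_dvd_of_dvd_of_dvd (index_dvd_of_le inf_le_left) (index_dvd_of_le inf_le_right))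

theorem exists_mul_eq {H K : Subgroup G} (h : H.index.Coprime K.index) (g : G) :
    ∃ x ∈ H, ∃ y ∈ K, g = x * y := by
  let f : G ⧸ (H ⊓ K) → (G ⧸ H) × (G ⧸ K) :=
    fun q => (quotientMapOfLE inf_le_left q, quotientMapOfLE inf_le_right q)
  have hinj : Function.Injective f := by
    rintro ⟨a⟩ ⟨b⟩ hab
    have h1 : (QuotientGroup.mk a : G ⧸ H) = QuotientGroup.mk b := congr_arg Prod.fst hab
    have h2 : (QuotientGroup.mk a : G ⧸ K) = QuotientGroup.mk b := congr_arg Prod.snd hab
    exact QuotientGroup.eq.2 ⟨QuotientGroup.eq.1 h1, QuotientGroup.eq.1 h2⟩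
  have hcard : Nat.card (G ⧸ (H ⊓ K)) = Nat.card ((G ⧸ H) × (G ⧸ K)) := by
    rw [Nat.card_prod, ← index_eq_card, ← index_eq_card, ← index_eq_card, index_inf h]
  obtain ⟨⟨c⟩, hc⟩ := (hinj.bijective_of_nat_card_le hcard.ge).2
    ((QuotientGroup.mk 1 : G ⧸ H), (QuotientGroup.mk g : G ⧸ K))
  have h1 := QuotientGroup.eq.1 (congr_arg Prod.fst hc).symm
  have h2 := QuotientGroup.eq.1 (congr_arg Prod.snd hc)
  simp only [inv_one, one_mul] at h1
  exact ⟨c, h1, c⁻¹ * g, h2, (mul_inv_cancel_left _ _).symm⟩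

theorem index_finsetInf {ι : Type*} {K : ι → Subgroup G} (s : Finset ι)
    (h : (s : Set ι).Pairwise fun i j => (K i).index.Coprime (K j).index) :
    (s.inf K).index = ∏ i ∈ s, (K i).index := by
  classical
  induction s using Finset.induction with
  | empty => simp
  | insert a s ha ih =>
    rw [Finset.coe_insert, Set.pairwise_insert_of_notMem (Finset.mem_coe.not.2 ha)] at h
    rw [Finset.inf_insert, Finset.prod_insert ha, ← ih h.1, index_inf]
    rw [ih h.1]
    exact Nat.Coprime.prod_right fun i hi => (h.2 i hi).1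

end CfsgLib.CoprimeIndex
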