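import Cfsg.Agent.Solvable.Basics
import Cfsg.Agent.Frobenius.Fpf
import Cfsg.Agent.InvChar.UniqueInvolution
import Mathlib.GroupTheory.SpecificGroups.ZGroup

/-!
Sylow subgroups and centre of fixed-point-free complements.
-/

set_option autoImplicit false
set_option linter.style.haveILetI false

namespace CfsgLib.FpfComplement

open Subgroup CfsgLib.Frobenius

variable {E K : Type*} [Group E] [Group K]

theorem exists_fpf {G : Type*} [Group G] {K H : Subgroup G} [K.Normal]
    (hfpf : ∀ h ∈ H, h ≠ 1 → K ⊓ Subgroup.centralizer {h} = ⊥) :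
    ∃ φ : H →* MulAut K, IsFpf φ := by
  refine ⟨MulAut.conjNormal.comp H.subtype, fun h hh k hk => Subtype.ext ?_⟩
  refine mem_bot.1 (hfpf h h.2 (fun e => hh (Subtype.ext e)) ▸
    (⟨k.2, ?_⟩ : (k : G) ∈ K ⊓ Subgroup.centralizer {(h : G)}))
  have h1 : (h : G) * (k : G) * (h : G)⁻¹ = (k : G) := by
    have := congrArg Subtype.val hk
    rwa [MonoidHom.comp_apply, MulAut.conjNormal_apply, Subgroup.coe_subtype] at this
  exact mem_centralizer_singleton_iff.2 (mul_inv_eq_iff_eq_mul.1 h1).symm

/-- In a finite cyclic group, elements of equal order generate the same subgroup. -/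
theorem mem_zpowers_of_cyclic {T : Type*} [Group T] [Finite T] [IsCyclic T] {u v : T}
    (h : orderOf u = orderOf v) : u ∈ zpowers v := by
  classical
  haveI := Fintype.ofFinite T
  by_contra hu
  have hle := IsCyclic.card_pow_eq_one_le (α := T) (orderOf_pos v)
  have hlt : (Finset.univ.filter fun b : T => b ∈ zpowers v).card <
      (Finset.univ.filter fun b : T => b ^ orderOf v = 1).card := by
    refine Finset.card_lt_card (Finset.ssubset_iff_subset_ne.2 ⟨fun b hb => ?_, fun e => hu ?_⟩)
    · simp only [Finset.mem_filter, Finset.mem_univ, true_and] at hb ⊢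
      exact orderOf_dvd_iff_pow_eq_one.1 (orderOf_dvd_of_mem_zpowers hb)
    · have := (Finset.ext_iff.1 e u).2 (by simp [← h, pow_orderOf_eq_one])
      simpa using this
  rw [← Fintype.card_subtype, Fintype.card_zpowers] at hlt
  omega

variable [Finite E] [Finite K] [Nontrivial K] {φ : E →* MulAut K}

/-- A `p`-group acting fixed-point-freely has only one subgroup of order `p`. -/
theorem unique_prime_order (h : IsFpf φ) {p : ℕ} [hp : Fact p.Prime] (hE : IsPGroup p E)
    (x y : E) (hx : orderOf x = p) (hy : orderOf y = p) : y ∈ zpowers x := by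
  classical
  haveI : Nontrivial E := ⟨⟨x, 1, fun e => by
    rw [e, orderOf_one] at hx; exact hp.out.ne_one hx.symm⟩⟩
  haveI : Nontrivial (center E) := hE.center_nontrivial
  obtain ⟨z, hz⟩ := exists_prime_orderOf_dvd_card' (G := center E) p
    (((hE.to_subgroup (center E)).card_eq_or_dvd).resolve_left Finite.one_lt_card.ne')
  rw [← orderOf_coe] at hz
  have key : ∀ u : E, orderOf u = p → zpowers u = zpowers (z : E) := by
    intro u hu
    have hcomm : ∀ a ∈ ({u, (z : E)} : Set E), ∀ b ∈ ({u, (z : E)} : Set E), a * b = b * a := by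
      have := mem_center_iff.1 z.2 u
      rintro a (rfl | rfl) b (rfl | rfl) <;> first | rfl | exact this | exact this.symm
    have hT := isMulCommutative_closure hcomm
    set T := closure ({u, (z : E)} : Set E)
    haveI := (h.comp T.subtype T.subtype_injective).isCyclic_of_comm
      (fun a b => hT.is_comm.comm a b)
    have hu' : u ∈ T := subset_closure (Or.inl rfl)
    have hz' : (z : E) ∈ T := subset_closure (Or.inr rfl)
    have : (⟨u, hu'⟩ : T) ∈ zpowers (⟨z, hz'⟩ : T) :=
      mem_zpowers_of_cyclic (by rw [← orderOf_coe, ← orderOf_coe]; exact hu.trans hz.symm)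
    obtain ⟨k, hk⟩ := mem_zpowers_iff.1 this
    refine eq_of_le_of_card_ge (zpowers_le.2 (mem_zpowers_iff.2 ⟨k, congrArg Subtype.val hk⟩)) ?_
    rw [Nat.card_zpowers, Nat.card_zpowers, hu, hz]
  rw [key x hx, ← key y hy]
  exact mem_zpowers y

theorem sylow_cyclic_or_quaternion (h : IsFpf φ) (p : ℕ) [Fact p.Prime] (P : Sylow p E) :
    IsCyclic P ∨ (p = 2 ∧ ∃ n : ℕ, 1 ≤ n ∧ Nonempty (P ≃* QuaternionGroup (2 ^ n))) :=
  CfsgLib.UniqueInvol.cyclic_or_quaternion P.2
    (unique_prime_order (h.comp _ (P : Subgroup E).subtype_injective) P.2)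

/-- An element acting on a finite cyclic group of coprime order, centralising every element of
prime order, centralises it. -/
theorem centralizes_of_prime {G : Type*} [Group G] [Finite G] {A : Subgroup G} [A.Normal]
    [IsCyclic A] {x : G} (hco : (orderOf x).Coprime (Nat.card A))
    (hp : ∀ y ∈ A, (orderOf y).Prime → x * y = y * x) {a : G} (ha : a ∈ A) : x * a = a * x := by
  have hA : ∀ u ∈ A, ∀ v ∈ A, u * v = v * u := fun u hu v hv => setLike_mul_comm hu hv
  have hc : ∀ u ∈ A, x * u * x⁻¹ ∈ A := fun u hu => Normal.conj_mem inferInstance u hu x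
  let δ : A →* A :=
    { toFun := fun u => ⟨x * u * x⁻¹ * (u : G)⁻¹, mul_mem (hc u u.2) (inv_mem u.2)⟩
      map_one' := Subtype.ext (by simp)
      map_mul' := fun u v => Subtype.ext (by
        show x * ((u : G) * v) * x⁻¹ * ((u : G) * v)⁻¹ =
          x * u * x⁻¹ * (u : G)⁻¹ * (x * v * x⁻¹ * (v : G)⁻¹)
        rw [mul_inv_rev, mul_assoc (x * u * x⁻¹), hA (u : G)⁻¹ (inv_mem u.2) (x * v * x⁻¹ * (v : G)⁻¹)
          (mul_mem (hc v v.2) (inv_mem v.2))]
        group) }
  have hfix : ∀ u : A, x * (δ u : G) = (δ u : G) * x → δ u = 1 := by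
    intro u hu
    have hw : x * (δ u : G) * x⁻¹ = (δ u : G) := by rw [hu, mul_inv_cancel_right]
    have hx : x * (u : G) * x⁻¹ = (δ u : G) * u := by simp [δ, mul_assoc]
    have hi : ∀ i : ℕ, x ^ i * (u : G) * (x ^ i)⁻¹ = (δ u : G) ^ i * u := by
      intro i
      induction i with
      | zero => simp
      | succ i ih =>
        calc x ^ (i + 1) * (u : G) * (x ^ (i + 1))⁻¹
            = x * (x ^ i * (u : G) * (x ^ i)⁻¹) * x⁻¹ := by rw [pow_succ']; group
          _ = (x * (δ u : G) * x⁻¹) ^ i * (x * (u : G) * x⁻¹) := by rw [ih, conj_pow]; group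
          _ = _ := by rw [hw, hx, ← mul_assoc, ← pow_succ]
    have h1 := hi (orderOf x)
    rw [pow_orderOf_eq_one, inv_one, one_mul, mul_one, right_eq_mul] at h1
    refine orderOf_eq_one_iff.1 (Nat.eq_one_of_dvd_coprimes hco ?_ (orderOf_dvd_natCard _))
    exact orderOf_dvd_of_pow_eq_one (Subtype.ext (by simpa using h1))
  have hbot : δ.range = ⊥ := by
    by_contra hne
    obtain ⟨q, hq, hqd⟩ := Nat.exists_prime_and_dvd (show Nat.card δ.range ≠ 1 from
      fun e => hne (eq_bot_of_card_eq _ e))
    haveI : Fact q.Prime := ⟨hq⟩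
    obtain ⟨⟨w, u, rfl⟩, hw⟩ := exists_prime_orderOf_dvd_card' q hqd
    rw [← orderOf_coe] at hw
    have h1 := hfix u (hp _ (δ u).2 (by rw [orderOf_coe]; exact hw ▸ hq))
    simp only [h1, orderOf_one] at hw
    exact hq.ne_one hw.symm
  have h2 : δ ⟨a, ha⟩ = 1 := mem_bot.1 (hbot ▸ ⟨_, rfl⟩)
  exact mul_inv_eq_iff_eq_mul.1 (mul_inv_eq_one.1 (congrArg Subtype.val h2))

/-- A fixed-point-free group has nontrivial centre. -/
theorem center_ne_bot [Nontrivial E] (h : IsFpf φ) : center E ≠ ⊥ := by
  classical
  by_cases h2 : 2 ∣ Nat.card E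
  · haveI : Fact (Nat.Prime 2) := ⟨Nat.prime_two⟩
    obtain ⟨t, ht⟩ := exists_prime_orderOf_dvd_card' 2 h2
    intro hb
    have htc : t ∈ center E := mem_center_iff.2 fun g => by
      have h1 : orderOf (g * t * g⁻¹) = 2 := by
        rw [← ht]
        exact (MulAut.conj g).orderOf_eq t
      exact mul_inv_eq_iff_eq_mul.1 (h.unique_involution h1 ht)
    rw [hb, mem_bot] at htc
    rw [htc, orderOf_one] at ht
    omega
  · haveI : IsZGroup E := ⟨fun p hp P => by
      haveI : Fact p.Prime := ⟨hp⟩
      rcases sylow_cyclic_or_quaternion h p P with hP | ⟨rfl, n, hn, ⟨e⟩⟩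
      · exact hP
      · exfalso
        apply h2
        refine dvd_trans ?_ (Subgroup.card_subgroup_dvd_card (P : Subgroup E))
        rw [Nat.card_congr e.toEquiv, Nat.card_eq_fintype_card, QuaternionGroup.card]
        exact dvd_mul_of_dvd_left (by norm_num) _⟩
    haveI := IsZGroup.isCyclic_commutator (G := E)
    have hco := IsZGroup.coprime_commutator_index (G := E)
    have hne : (commutator E).index ≠ 1 := fun e =>
      (IsZGroup.commutator_lt (G := E)).ne (index_eq_one.1 e)
    obtain ⟨q, hq, hqd⟩ := Nat.exists_prime_and_dvd hne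
    haveI : Fact q.Prime := ⟨hq⟩
    obtain ⟨x, hx⟩ := exists_prime_orderOf_dvd_card' q (hqd.trans (index_dvd_card (commutator E)))
    have hqA : q.Coprime (Nat.card (commutator E)) := (hco.coprime_dvd_right hqd).symm
    have hxA : x ∉ commutator E := fun hm => hq.ne_one (Nat.eq_one_of_dvd_coprimes hqA dvd_rfl
      (by simpa only [orderOf_mk, hx] using orderOf_dvd_natCard (⟨x, hm⟩ : commutator E)))
    have hprime : ∀ y ∈ commutator E, (orderOf y).Prime → x * y = y * x := by
      intro y hy hyp
      have hn : zpowers x ≤ normalizer (zpowers y : Set E) := by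
        intro g _
        haveI : (zpowers y).Normal := by
          refine ⟨fun w hw g => ?_⟩
          obtain ⟨k, rfl⟩ := mem_zpowers_iff.1 hw
          rw [← conj_zpow]
          refine zpow_mem ?_ k
          have hg : g * y * g⁻¹ ∈ commutator E := Normal.conj_mem inferInstance y hy g
          obtain ⟨j, hj⟩ := mem_zpowers_iff.1 (mem_zpowers_of_cyclic
            (u := (⟨_, hg⟩ : commutator E)) (v := ⟨y, hy⟩)
            (by rw [orderOf_mk, orderOf_mk]; exact (MulAut.conj g).orderOf_eq y))
          exact mem_zpowers_iff.2 ⟨j, congrArg Subtype.val hj⟩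
        rw [normalizer_eq_top]
        exact mem_top g
      have hd : zpowers x ⊓ zpowers y = ⊥ := disjoint_iff.1 <| disjoint_of_coprime_natCard (by
        rw [Nat.card_zpowers, Nat.card_zpowers, hx]
        exact hqA.coprime_dvd_right (by
          simpa only [orderOf_mk] using orderOf_dvd_natCard (⟨y, hy⟩ : commutator E)))
      have hc := CfsgLib.Solvable.card_sup_of_disjoint hn hd
      rw [Nat.card_zpowers, Nat.card_zpowers, hx] at hc
      haveI : IsCyclic (zpowers x ⊔ zpowers y : Subgroup E) :=
        (h.comp _ (Subgroup.subtype_injective _)).isCyclic_of_card hq hyp hc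
      exact setLike_mul_comm (mem_sup_left (mem_zpowers x) : x ∈ zpowers x ⊔ zpowers y)
        (mem_sup_right (mem_zpowers y))
    intro hb
    have hxc : x ∈ center E := mem_center_iff.2 fun g => by
      set a := g * x * g⁻¹ * x⁻¹ with hadef
      have ha : a ∈ commutator E := by
        rw [_root_.commutator_def, hadef, ← commutatorElement_def]
        exact commutator_mem_commutator (mem_top g) (mem_top x)
      have hax : x * a = a * x :=
        centralizes_of_prime (by rw [hx]; exact hqA) hprime ha
      have h1 : g * x * g⁻¹ = a * x := by rw [hadef]; group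
      have h2 : a ^ q = 1 := by
        have := congrArg (· ^ q) h1
        simp only [conj_pow] at this
        rw [Commute.mul_pow (show Commute a x from hax.symm), ← hx, pow_orderOf_eq_one, mul_one,
          mul_inv_cancel, mul_one] at this
        rw [← hx]; exact this.symm
      have h3 : a = 1 := orderOf_eq_one_iff.1 (Nat.eq_one_of_dvd_coprimes hqA
        (orderOf_dvd_of_pow_eq_one h2)
        (by simpa only [orderOf_mk] using orderOf_dvd_natCard (⟨a, ha⟩ : commutator E)))
      rw [h3, one_mul] at h1
      exact mul_inv_eq_iff_eq_mul.1 h1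
    rw [hb, mem_bot] at hxc
    rw [hxc, orderOf_one] at hx
    exact hq.ne_one hx.symm

end CfsgLib.FpfComplement
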