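import Cfsg.Agent.Solvable.PGroupPower
import Cfsg.Agent.Kinf.Critical

/-!
Normal subgroups of order `p ^ 2`, bounds from a maximal normal abelian subgroup, automorphisms
trivial on the elements of order `p`.
-/

set_option autoImplicit false
set_option linter.style.haveILetI false
set_option linter.unusedSectionVars false

namespace CfsgLib.PGroupRank

open Subgroup
open scoped commutatorElement

variable {G : Type*} [Group G] [Finite G] {p : ℕ} [hp : Fact p.Prime]

theorem card_of_elementary {A : Subgroup G} (hG : IsPGroup p G) : ∃ k, Nat.card A = p ^ k :=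
  IsPGroup.iff_card.1 (hG.to_subgroup A)

/-- For odd `p` a non-cyclic `p`-group has a normal elementary abelian subgroup of order `p ^ 2`. -/
theorem exists_normal_sq (hp2 : p ≠ 2) (hG : IsPGroup p G) (hnc : ¬ IsCyclic G) :
    ∃ A : Subgroup G, A.Normal ∧ Cfsg.IsElementaryAbelian p A ∧ Nat.card A = p ^ 2 := by
  classical
  haveI := hG.isNilpotent
  obtain ⟨A, ⟨hA, hAc, hAe⟩, hmax⟩ := Set.Finite.exists_maximal
    (s := {X : Subgroup G | X.Normal ∧ IsMulCommutative X ∧ ∀ a ∈ X, a ^ p = 1})
    (Set.toFinite _) ⟨⊥, inferInstance, ⟨⟨fun a b => Subsingleton.elim _ _⟩⟩,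
      fun a ha => by rw [mem_bot.1 ha, one_pow]⟩
  haveI := hA
  obtain ⟨k, hk⟩ := card_of_elementary (A := A) hG
  rcases Nat.lt_or_ge k 2 with hk2 | hk2
  · exfalso
    have hAz : A ≤ center G := by
      rcases eq_or_ne A ⊥ with rfl | hne
      · exact bot_le
      have h1 : A ⊓ center G ≠ ⊥ := CfsgLib.PGroupBasic.inf_center_ne_bot A hne
      have hAp : Nat.card A = p := by
        interval_cases k
        · exact absurd (eq_bot_of_card_eq A (by simpa using hk)) hne
        · simpa using hk
      have : A ⊓ center G = A := eq_of_le_of_card_ge inf_le_left (by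
        rcases (Nat.dvd_prime hp.out).1 (hAp ▸ card_dvd_of_le (inf_le_left : A ⊓ center G ≤ A)) with h | h
        · exact absurd (eq_bot_of_card_eq _ h) h1
        · rw [h, hAp])
      exact inf_eq_left.1 this
    have hall : ∀ x : G, x ^ p = 1 → x ∈ A := fun x hx =>
      CfsgLib.PGroupPower.alperin hG 1 (by rw [pow_one]; exact hp2) A hAc
        (fun a ha => by rw [pow_one]; exact hAe a ha)
        (fun B hB hBc hBe hle => le_antisymm
          (hmax ⟨hB, hBc, fun b hb => by simpa using hBe b hb⟩ hle) hle)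
        x (mem_centralizer_iff.2 fun a ha => (mem_center_iff.1 (hAz ha) x).symm) (by rw [pow_one]; exact hx)
    refine hnc ((CfsgLib.UniqueInvol.structure_thm hG fun x y hx hy => ?_).resolve_right
      fun h => hp2 h.1)
    have hxA := hall x (hx ▸ pow_orderOf_eq_one x)
    have hyA := hall y (hy ▸ pow_orderOf_eq_one y)
    have hle : zpowers x ≤ A := zpowers_le.2 hxA
    have : zpowers x = A := eq_of_le_of_card_ge hle (by
      rw [Nat.card_zpowers, hx, hk]
      exact le_trans (Nat.pow_le_pow_right hp.out.pos (by omega : k ≤ 1)) (pow_one p).le)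
    exact this.ge hyA
  · obtain ⟨x, hxA, hx1, hxc⟩ := CfsgLib.PGroupBasic.exists_central_mod ⊥ A
      (bot_lt_iff_ne_bot.2 fun e => by
        rw [e, card_bot] at hk
        exact absurd hk (Nat.one_lt_pow (by omega) hp.out.one_lt).ne)
    have hxo : orderOf x = p := orderOf_eq_prime (hAe x hxA) (fun e => hx1 (e ▸ one_mem _))
    haveI hZn : (zpowers x).Normal := ⟨fun y hy g => by
      obtain ⟨i, rfl⟩ := mem_zpowers_iff.1 hy
      have h1 : Commute g x := (commutatorElement_eq_one_iff_mul_comm.1
        (show ⁅x, g⁆ = 1 from mem_bot.1 (by simpa [commutatorElement_def] using hxc g))).symm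
      rw [(h1.zpow_right i).eq, mul_inv_cancel_right]
      exact zpow_mem (mem_zpowers x) i⟩
    obtain ⟨y, hyA, hy, hyc⟩ := CfsgLib.PGroupBasic.exists_central_mod (zpowers x) A
      (lt_of_le_of_ne (zpowers_le.2 hxA) fun e => by
        rw [← e, Nat.card_zpowers, hxo] at hk
        have h2 : p ^ 1 < p ^ k := Nat.pow_lt_pow_right hp.out.one_lt hk2
        rw [pow_one, ← hk] at h2
        exact lt_irrefl _ h2)
    have hBn : (zpowers y ⊔ zpowers x).Normal := by
      refine ⟨fun z hz g => ?_⟩
      obtain ⟨a, ha, b, hb, rfl⟩ := mem_sup_of_normal_right.1 hz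
      obtain ⟨i, rfl⟩ := mem_zpowers_iff.1 ha
      have h1 : g * y * g⁻¹ ∈ zpowers y ⊔ zpowers x := by
        have h2 : g * y * g⁻¹ * y⁻¹ ∈ zpowers x := by
          have := inv_mem (hyc g)
          simpa [mul_assoc] using this
        have := mul_mem (mem_sup_right h2 : g * y * g⁻¹ * y⁻¹ ∈ zpowers y ⊔ zpowers x)
          (mem_sup_left (mem_zpowers y))
        rwa [inv_mul_cancel_right] at this
      rw [← conj_mul, ← conj_zpow]
      exact mul_mem (zpow_mem h1 i) (mem_sup_right (hZn.conj_mem b hb g))
    have hle : zpowers y ⊔ zpowers x ≤ A := sup_le (zpowers_le.2 hyA) (zpowers_le.2 hxA)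
    refine ⟨_, hBn, ⟨?_, fun a ha => hAe a (hle ha)⟩, ?_⟩
    · exact le_centralizer_iff_isMulCommutative.1 (hle.trans
        ((le_centralizer_iff_isMulCommutative.2 hAc).trans (centralizer_le hle)))
    · obtain ⟨j, hj⟩ := card_of_elementary (A := zpowers y ⊔ zpowers x) hG
      have h1 := CfsgLib.PGroupBasic.card_sup_zpowers_le (p := p) (zpowers x) y
        (by rw [hAe y hyA]; exact one_mem _)
      rw [Nat.card_zpowers, hxo, hj, ← pow_two] at h1
      have h2 : p ^ 1 < p ^ j := by
        rw [← hj, pow_one]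
        calc p = Nat.card (zpowers x) := by rw [Nat.card_zpowers, hxo]
          _ < _ := CfsgLib.Solvable.card_lt_of_lt (lt_of_le_of_ne le_sup_right
            fun e => hy (e.ge (mem_sup_left (mem_zpowers y))))
      have := (Nat.pow_le_pow_iff_right hp.out.one_lt).1 h1
      have := (Nat.pow_lt_pow_iff_right hp.out.one_lt).1 h2
      rw [hj, show j = 2 by omega]

/-- For odd `p`, `Ω₁` of a non-cyclic `p`-group with a cyclic maximal subgroup. -/
theorem omega_one_of_cyclic_maximal (hp2 : p ≠ 2) (hG : IsPGroup p G) (hnc : ¬ IsCyclic G)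
    (C : Subgroup G) (hC : IsCyclic C) (hCi : C.index = p) :
    Cfsg.IsElementaryAbelian p (closure {x : G | x ^ p = 1}) ∧
      Nat.card (closure {x : G | x ^ p = 1}) = p ^ 2 := by
  classical
  haveI := hG.isNilpotent
  haveI := Fintype.ofFinite C
  obtain ⟨E, hEn, hEe, hEc⟩ := exists_normal_sq hp2 hG hnc
  haveI := hEn
  have hcp : ∀ X : Subgroup G, X ≤ C → (∀ a ∈ X, a ^ p = 1) → Nat.card X ≤ p := by
    intro X hX he
    refine le_trans ?_ (IsCyclic.card_pow_eq_one_le (α := C) hp.out.pos)
    rw [← Fintype.card_subtype, ← Nat.card_eq_fintype_card]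
    exact Nat.card_le_card_of_injective (fun a : X => (⟨⟨a, hX a.2⟩, Subtype.ext (he a a.2)⟩ :
      {c : C // c ^ p = 1})) (fun a b h => by
        exact Subtype.ext (congrArg (fun c : {c : C // c ^ p = 1} => ((c.1 : C) : G)) h))
  obtain ⟨e, heE, heC⟩ : ∃ e ∈ E, e ∉ C := by
    by_contra h
    push Not at h
    have := hcp E h hEe.2
    rw [hEc, pow_two] at this
    exact absurd this (Nat.not_le.2 (lt_mul_of_one_lt_left hp.out.pos hp.out.one_lt))
  have hCm : IsCoatom C := by
    refine ⟨fun e => heC (e ▸ mem_top _), fun X hX => ?_⟩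
    have h1 := relIndex_mul_index hX.le
    rw [hCi] at h1
    rcases (Nat.dvd_prime hp.out).1 (Dvd.intro_left _ h1) with h | h
    · exact index_eq_one.1 h
    · exact absurd (relIndex_eq_one.1 (Nat.eq_of_mul_eq_mul_right hp.out.pos
        (by rw [one_mul, ← h]; exact h1.trans h.symm)) ) hX.not_ge
  haveI hCn : C.Normal := (CfsgLib.PGroupBasic.coatom_normal_index hG hCm).1
  have htop : E ⊔ C = ⊤ := hCm.2 _ (lt_of_le_of_ne le_sup_right
    fun h => heC (h.ge (mem_sup_left heE)))
  have hIz : E ⊓ C ≤ center G := by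
    rcases eq_or_ne (E ⊓ C) ⊥ with h | h
    · rw [h]; exact bot_le
    have h1 : (E ⊓ C) ⊓ center G ≠ ⊥ := CfsgLib.PGroupBasic.inf_center_ne_bot _ h
    have h2 : Nat.card (E ⊓ C : Subgroup G) ≤ p := hcp _ inf_le_right fun a ha => hEe.2 a ha.1
    obtain ⟨i, hi⟩ := card_of_elementary (A := (E ⊓ C) ⊓ center G) hG
    have h3 : p ≤ Nat.card ((E ⊓ C) ⊓ center G : Subgroup G) := by
      rw [hi]
      refine le_trans (pow_one p).ge (Nat.pow_le_pow_right hp.out.pos ?_)
      by_contra hi0
      exact h1 (eq_bot_of_card_eq _ (by rw [hi, show i = 0 by omega, pow_zero]))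
    exact inf_eq_left.1 (eq_of_le_of_card_ge inf_le_left (h2.trans h3))
  have hcl : ⁅commutator G, (⊤ : Subgroup G)⁆ = ⊥ := by
    have hG' : commutator G ≤ center G := by
      refine le_trans ?_ hIz
      refine le_inf ?_ ?_
      all_goals
        rw [_root_.commutator_def, commutator_le]
        intro g _ h _
        rw [← QuotientGroup.eq_one_iff, ← QuotientGroup.mk'_apply, map_commutatorElement,
          commutatorElement_eq_one_iff_mul_comm]
      · obtain ⟨a, ha, b, hb, rfl⟩ := mem_sup_of_normal_right.1 (htop.ge (mem_top g))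
        obtain ⟨a', ha', b', hb', rfl⟩ := mem_sup_of_normal_right.1 (htop.ge (mem_top h))
        simp only [map_mul, show QuotientGroup.mk' E a = 1 from (QuotientGroup.eq_one_iff a).2 ha,
          show QuotientGroup.mk' E a' = 1 from (QuotientGroup.eq_one_iff a').2 ha', one_mul]
        haveI := hC
        rw [← map_mul, ← map_mul, setLike_mul_comm hb hb']
      · obtain ⟨a, ha, b, hb, rfl⟩ := mem_sup_of_normal_right.1 (htop.ge (mem_top g))
        obtain ⟨a', ha', b', hb', rfl⟩ := mem_sup_of_normal_right.1 (htop.ge (mem_top h))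
        simp only [map_mul, show QuotientGroup.mk' C b = 1 from (QuotientGroup.eq_one_iff b).2 hb,
          show QuotientGroup.mk' C b' = 1 from (QuotientGroup.eq_one_iff b').2 hb', mul_one]
        haveI := hEe.1
        rw [← map_mul, ← map_mul, setLike_mul_comm ha ha']
    rw [commutator_eq_bot_iff_le_centralizer, coe_top, centralizer_univ]
    exact hG'
  set Ω := closure {x : G | x ^ p = 1}
  have hΩe : ∀ a ∈ Ω, a ^ p = 1 := fun a ha =>
    CfsgLib.PGroupPower.pow_eq_one_of_closure (Or.inl ⟨hp2, hcl⟩) ha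
  have hEΩ : E ≤ Ω := fun a ha => subset_closure (hEe.2 a ha)
  have hcard : Nat.card Ω ≤ p ^ 2 := by
    have h1 : Nat.card (Ω ⊓ C : Subgroup G) ≤ p := hcp _ inf_le_right fun a ha => hΩe a ha.1
    have h2 := CfsgLib.Solvable.card_sup_mul_card_inf (A := Ω) (K := C)
      (le_top.trans (normalizer_eq_top C).ge)
    rw [show Ω ⊔ C = ⊤ from top_unique (htop.ge.trans (sup_le_sup_right hEΩ C)), card_top,
      ← C.card_mul_index, hCi] at h2
    have h3 : Nat.card Ω = p * Nat.card (Ω ⊓ C : Subgroup G) :=
      Nat.eq_of_mul_eq_mul_left (Nat.card_pos (α := C))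
        (by rw [← mul_assoc, h2, mul_comm])
    rw [h3, pow_two]
    exact Nat.mul_le_mul_left p h1
  have hEΩ' : E = Ω := eq_of_le_of_card_ge hEΩ (hEc ▸ hcard)
  rw [← hEΩ']
  exact ⟨hEe, hEc⟩

/-- Normal subgroups of every order inside a normal subgroup, with small centralizer index. -/
theorem exists_normal_le (hG : IsPGroup p G) (A : Subgroup G) [A.Normal] {a : ℕ}
    (ha : Nat.card A = p ^ a) : ∀ j, j ≤ a → ∃ B : Subgroup G, B.Normal ∧ B ≤ A ∧
      p ^ j ≤ Nat.card B ∧ Nat.card B ≤ p ^ j ∧
      (centralizer (B : Set G)).index ≤ p ^ (j * (j - 1) / 2) := by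
  classical
  haveI := hG.isNilpotent
  intro j
  induction j with
  | zero => exact fun _ => ⟨⊥, inferInstance, bot_le, by simp, by simp, by
      rw [show centralizer ((⊥ : Subgroup G) : Set G) = ⊤ from
        eq_top_iff.2 fun g _ => mem_centralizer_iff.2 fun h hh => by
          rw [SetLike.mem_coe, mem_bot] at hh; simp [hh]]
      simp⟩
  | succ j ih =>
    intro hj
    obtain ⟨B, hB, hBA, hB1, hB2, hBi⟩ := ih (by omega)
    haveI := hB
    have hBc : Nat.card B = p ^ j := le_antisymm hB2 hB1
    have hlt : B < A := lt_of_le_of_ne hBA fun e => by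
      rw [e, ha] at hBc
      have := Nat.pow_right_injective hp.out.two_le hBc
      omega
    obtain ⟨y, hyA, hyB, hyc⟩ := CfsgLib.PGroupBasic.exists_central_mod B A hlt
    obtain ⟨k, hk⟩ := IsPGroup.iff_orderOf.1 hG y
    have hex : ∃ i, y ^ p ^ i ∈ B := ⟨k, by rw [← hk, pow_orderOf_eq_one]; exact one_mem B⟩
    obtain ⟨i, hi⟩ := Nat.exists_eq_succ_of_ne_zero
      (fun e => hyB (by simpa [e] using Nat.find_spec hex) : Nat.find hex ≠ 0)
    set x := y ^ p ^ i
    have hxA : x ∈ A := pow_mem hyA _
    have hxB : x ∉ B := Nat.find_min hex (by omega)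
    have hxp : x ^ p ∈ B := by
      rw [← pow_mul, ← pow_succ]; simpa [hi] using Nat.find_spec hex
    have hxc : ∀ g : G, g * x * g⁻¹ * x⁻¹ ∈ B := fun g => by
      rw [← QuotientGroup.eq_one_iff]
      have h1 : QuotientGroup.mk' B g * QuotientGroup.mk' B y = QuotientGroup.mk' B y * QuotientGroup.mk' B g := by
        have := (QuotientGroup.eq_one_iff (N := B) _).2 (hyc g)
        rw [← QuotientGroup.mk'_apply, map_mul, map_mul, map_mul, map_inv, map_inv,
          mul_inv_eq_one, mul_inv_eq_iff_eq_mul] at this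
        exact this.symm
      rw [← QuotientGroup.mk'_apply, map_mul, map_mul, map_mul, map_inv, map_inv, map_pow,
        ((show Commute _ _ from h1).pow_right (p ^ i)).eq, mul_inv_cancel_right, mul_inv_cancel]
    have hn : (zpowers x ⊔ B).Normal := by
      refine ⟨fun z hz g => ?_⟩
      obtain ⟨u, hu, b, hb, rfl⟩ := mem_sup_of_normal_right.1 hz
      obtain ⟨l, rfl⟩ := mem_zpowers_iff.1 hu
      have h1 : g * x * g⁻¹ ∈ zpowers x ⊔ B := by
        have := mul_mem (mem_sup_right (hxc g) : g * x * g⁻¹ * x⁻¹ ∈ zpowers x ⊔ B)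
          (mem_sup_left (mem_zpowers x))
        rwa [inv_mul_cancel_right] at this
      rw [← conj_mul, ← conj_zpow]
      exact mul_mem (zpow_mem h1 l) (mem_sup_right (hB.conj_mem b hb g))
    refine ⟨zpowers x ⊔ B, hn, sup_le (zpowers_le.2 hxA) hBA, ?_, ?_, ?_⟩
    · obtain ⟨m, hm⟩ := card_of_elementary (A := zpowers x ⊔ B) hG
      have h2 : p ^ j < p ^ m := by
        rw [← hm, ← hBc]
        exact CfsgLib.Solvable.card_lt_of_lt (lt_of_le_of_ne le_sup_right
            fun e => hxB (e.ge (mem_sup_left (mem_zpowers x))))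
      rw [hm]
      exact Nat.pow_le_pow_right hp.out.pos ((Nat.pow_lt_pow_iff_right hp.out.one_lt).1 h2)
    · rw [pow_succ', ← hBc]
      exact CfsgLib.PGroupBasic.card_sup_zpowers_le B x hxp
    · have hceq : centralizer ((zpowers x ⊔ B : Subgroup G) : Set G) =
          centralizer {x} ⊓ centralizer (B : Set G) := by
        refine le_antisymm (le_inf (centralizer_le ?_) (centralizer_le (show (B : Subgroup G) ≤ zpowers x ⊔ B from le_sup_right))) ?_
        · exact Set.singleton_subset_iff.2 (mem_sup_left (mem_zpowers x))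
        · refine le_centralizer_iff.1 (sup_le (zpowers_le.2 ?_) ?_)
          · exact mem_centralizer_iff.2 fun g hg => mem_centralizer_singleton_iff.1 hg.1
          · exact le_centralizer_iff.1 inf_le_right
      rw [hceq, ← relIndex_mul_index (inf_le_right : centralizer {x} ⊓ centralizer (B : Set G) ≤ _),
        inf_relIndex_right]
      have h1 : (centralizer {x}).relIndex (centralizer (B : Set G)) ≤ Nat.card B := by
        refine Nat.card_le_card_of_injective (Quotient.lift
          (fun g : centralizer (B : Set G) => (⟨(g : G) * x * (g : G)⁻¹ * x⁻¹, hxc g⟩ : B)) ?_) ?_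
        · intro g h hgh
          have h2 : (g : G)⁻¹ * (h : G) ∈ centralizer {x} := by
            simpa [mem_subgroupOf] using (QuotientGroup.leftRel_apply.1 hgh)
          have h3 := mem_centralizer_singleton_iff.1 h2
          refine Subtype.ext ?_
          calc (g : G) * x * (g : G)⁻¹ * x⁻¹ = g * (x * ((g : G)⁻¹ * h)) * (h : G)⁻¹ * x⁻¹ := by group
            _ = (h : G) * x * (h : G)⁻¹ * x⁻¹ := by rw [← h3]; group
        · intro u v
          induction u using Quotient.inductionOn'
          induction v using Quotient.inductionOn'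
          rename_i g h
          intro huv
          have h2 : (g : G) * x * (g : G)⁻¹ * x⁻¹ = (h : G) * x * (h : G)⁻¹ * x⁻¹ :=
            congrArg Subtype.val huv
          refine Quotient.sound' (QuotientGroup.leftRel_apply.2 ?_)
          rw [mem_subgroupOf, mem_centralizer_singleton_iff]
          have h3 := mul_right_cancel h2
          calc ((g⁻¹ * h : centralizer (B : Set G)) : G) * x
              = (g : G)⁻¹ * ((h : G) * x * (h : G)⁻¹) * h := by simp [mul_assoc]
            _ = (g : G)⁻¹ * ((g : G) * x * (g : G)⁻¹) * h := by rw [h3]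
            _ = x * ((g⁻¹ * h : centralizer (B : Set G)) : G) := by simp [mul_assoc]
      rw [hBc] at h1
      refine le_trans (Nat.mul_le_mul h1 hBi) (le_of_eq ?_)
      rw [← pow_add]
      congr 1
      rcases j with - | b
      · rfl
      · have : (b + 1 + 1) * (b + 1 + 1 - 1) = (b + 1) * (b + 1 - 1) + 2 * (b + 1) := by
          simp only [Nat.add_sub_cancel]; ring
        rw [this, Nat.add_mul_div_left _ _ (by norm_num : 0 < 2), add_comm]

/-- The index of the centralizer of a normal subgroup of order `p ^ a`. -/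
theorem index_centralizer_le (hG : IsPGroup p G) (A : Subgroup G) [A.Normal] {a : ℕ}
    (ha : Nat.card A = p ^ a) : (centralizer (A : Set G)).index ≤ p ^ (a * (a - 1) / 2) := by
  obtain ⟨B, -, hBA, hB1, -, hBi⟩ := exists_normal_le hG A ha a le_rfl
  rwa [eq_of_le_of_card_ge hBA (ha ▸ hB1)] at hBi

/-- The order of a `p`-group with a maximal normal abelian subgroup of order `p ^ a`. -/
theorem card_le_of_maximal_normal_abelian (hG : IsPGroup p G) (A : Subgroup G) [A.Normal]
    (hA : IsMulCommutative A)
    (hmax : ∀ B : Subgroup G, B.Normal → IsMulCommutative B → A ≤ B → B = A) {a : ℕ}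
    (ha : Nat.card A = p ^ a) : Nat.card G ≤ p ^ (a * (a + 1) / 2) := by
  classical
  haveI := hG.isNilpotent
  have hAC : A ≤ centralizer (A : Set G) := le_centralizer_iff_isMulCommutative.2 hA
  have hCA : centralizer (A : Set G) = A := by
    refine le_antisymm (not_not.1 fun hne => ?_) hAC
    obtain ⟨x, hxC, hxA, hxc⟩ := CfsgLib.PGroupBasic.exists_central_mod A (centralizer (A : Set G))
      (lt_of_le_of_ne hAC fun e => hne e.ge)
    have hn : (zpowers x ⊔ A).Normal := by
      refine ⟨fun z hz g => ?_⟩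
      obtain ⟨u, hu, b, hb, rfl⟩ := mem_sup_of_normal_right.1 hz
      obtain ⟨i, rfl⟩ := mem_zpowers_iff.1 hu
      have h1 : g * x * g⁻¹ ∈ zpowers x ⊔ A := by
        have h2 : g * x * g⁻¹ * x⁻¹ ∈ A := by
          have := inv_mem (hxc g)
          simpa [mul_assoc] using this
        have := mul_mem (mem_sup_right h2 : g * x * g⁻¹ * x⁻¹ ∈ zpowers x ⊔ A)
          (mem_sup_left (mem_zpowers x))
        rwa [inv_mul_cancel_right] at this
      rw [← conj_mul, ← conj_zpow]
      exact mul_mem (zpow_mem h1 i) (mem_sup_right (Normal.conj_mem inferInstance b hb g))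
    have hc : IsMulCommutative (zpowers x ⊔ A : Subgroup G) := by
      refine le_centralizer_iff_isMulCommutative.1 (sup_le (zpowers_le.2 ?_) fun b hb => ?_)
      · refine mem_centralizer_iff.2 fun u hu => ?_
        obtain ⟨v, hv, w, hw, rfl⟩ := mem_sup_of_normal_right.1 hu
        obtain ⟨i, rfl⟩ := mem_zpowers_iff.1 hv
        exact (((Commute.refl x).zpow_left i).mul_left (mem_centralizer_iff.1 hxC w hw)).eq
      · refine mem_centralizer_iff.2 fun u hu => ?_
        exact ((mem_centralizer_iff.1 ((sup_le (zpowers_le.2 hxC) hAC) hu)) b hb).symm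
    exact hxA ((hmax _ hn hc le_sup_right).le (mem_sup_left (mem_zpowers x)))
  obtain ⟨B, -, hBA, hB1, -, hBi⟩ := exists_normal_le hG A ha a le_rfl
  have hBA' : B = A := eq_of_le_of_card_ge hBA (ha ▸ hB1)
  rw [hBA', hCA] at hBi
  rw [← A.card_mul_index, ha]
  refine le_trans (Nat.mul_le_mul_left _ hBi) (le_of_eq ?_)
  rw [← pow_add]
  congr 1
  rcases a with - | b
  · rfl
  · have : (b + 1) * (b + 1 + 1) = (b + 1) * (b + 1 - 1) + 2 * (b + 1) := by
      simp only [Nat.add_sub_cancel]; ring
    rw [this, Nat.add_mul_div_left _ _ (by norm_num : 0 < 2)]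
    omega

/-- For odd `p` a `p'`-automorphism fixing the elements of order `p` is trivial. -/
theorem aut_eq_one_of_omega_one (hp2 : p ≠ 2) (hG : IsPGroup p G) (f : MulAut G)
    (hf : (orderOf f).Coprime p) (h : ∀ x : G, x ^ p = 1 → f x = x) : f = 1 := by
  obtain ⟨H, hH, hHp, hHz, hHC⟩ := CfsgLib.Kinf.exists_critical hG
  haveI := hH
  have hmem : ∀ x ∈ H, f x ∈ H := fun x hx => by
    have := (characteristic_iff_map_le.1 hH f) (mem_map_of_mem f.toMonoidHom hx)
    exact this
  have key : ∀ (m : ℕ) (x : G), x ∈ H → orderOf x ≤ m → f x = x := by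
    intro m
    induction m with
    | zero => intro x _ hx; exact absurd hx (Nat.not_le.2 (orderOf_pos x))
    | succ m ih =>
      intro x hx hxm
      rcases eq_or_ne x 1 with rfl | hx1
      · exact map_one f
      have hlt : orderOf (x ^ p) < orderOf x := by
        have hd : p ∣ orderOf x := by
          obtain ⟨k, hk⟩ := IsPGroup.iff_orderOf.1 hG x
          rcases Nat.eq_zero_or_pos k with rfl | hk0
          · exact absurd (orderOf_eq_one_iff.1 (by simpa using hk)) hx1
          · exact hk ▸ dvd_pow_self p hk0.ne'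
        rw [orderOf_pow_of_dvd hp.out.ne_zero hd]
        exact Nat.div_lt_self (orderOf_pos x) hp.out.one_lt
      have hxp : f (x ^ p) = x ^ p := ih _ (pow_mem hx p) (by omega)
      set w := x⁻¹ * f x with hw
      have hwH : w ∈ H := mul_mem (inv_mem hx) (hmem x hx)
      set c := ⁅w, x⁆
      have hcz : c ∈ centralizer (H : Set G) :=
        (hHz (commutator_mem_commutator hwH (mem_top x))).2
      have e1 : w * x = c * x * w := by simp [c, commutatorElement_def, mul_assoc]
      have e2 : x * c = 1 * c * x := by rw [one_mul, (mem_centralizer_iff.1 hcz x hx)]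
      have e3 : w * c = 1 * c * w := by rw [one_mul, (mem_centralizer_iff.1 hcz w hwH)]
      have hone : ∀ g : G, g ∈ ({x, w, c, (1 : G), (1 : G)} : Set G) → Commute (1 : G) g :=
        fun g _ => Commute.one_left g
      have hxpc : Commute (x ^ p) w := (mem_centralizer_iff.1 (hHp x hx) w hwH).symm
      have hc1 : c ^ p = 1 := by
        have h2 := CfsgLib.PGroupPower.pow_mul_eq (x := x) (y := w) (d := 1) e1 e3 hone p
        have h3 : Commute (w ^ p) x := (mem_centralizer_iff.1 (hHp w hwH) x hx).symm
        rw [h3.eq, one_pow, one_mul] at h2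
        have h4 : c ^ p * (x * w ^ p) = 1 * (x * w ^ p) := by rw [one_mul, ← mul_assoc]; exact h2.symm
        exact mul_right_cancel h4
      have hf2 := CfsgLib.PGroupPower.mul_pow_eq (x := x) (y := w) e1 e2 e3 hone hone p
      have hch : c ^ p.choose 2 = 1 := by
        obtain ⟨a, ha⟩ := hp.out.dvd_choose_self (k := 2) (by norm_num)
          (by have := hp.out.two_le; omega)
        rw [ha, pow_mul, hc1, one_pow]
      have hxw : x * w = f x := mul_inv_cancel_left x (f x)
      rw [hxw, ← map_pow, hxp, hch, one_pow, one_pow, one_mul, one_mul, one_mul,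
        left_eq_mul] at hf2
      have hfw : f w = w := h w hf2
      have hpow : ∀ k : ℕ, (f ^ k) x = x * w ^ k := by
        intro k
        induction k with
        | zero => simp
        | succ k ih2 =>
          rw [pow_succ', MulAut.mul_apply, ih2, map_mul, map_pow, hfw, ← hxw, mul_assoc, ← pow_succ']
      have h5 := hpow (orderOf f)
      rw [pow_orderOf_eq_one, MulAut.one_apply, left_eq_mul] at h5
      have : w = 1 := orderOf_eq_one_iff.1 (Nat.eq_one_of_dvd_coprimes hf
        (orderOf_dvd_of_pow_eq_one h5) (orderOf_dvd_of_pow_eq_one hf2))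
      rw [← hxw, this, mul_one]
  have hz : (⊤ : Subgroup G) ⊓ centralizer (H : Set G) = H ⊓ centralizer (H : Set G) := by
    rw [top_inf_eq, inf_eq_right.2 hHC]
  let e : MulAut G ≃* MulAut (⊤ : Subgroup G) := MulAut.congr Subgroup.topEquiv.symm
  have h' := CfsgLib.Kinf.aut_eq_one_of_critical (T := (⊤ : Subgroup G)) (A := H) (p := p)
    (hG.to_subgroup ⊤) le_top (by rw [Subgroup.commutator_comm]; exact hHz) hz (e f)
    (by rw [MulEquiv.orderOf_eq]; exact hf)
    (fun x hx => Subtype.ext (key _ (x : G) hx le_rfl))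
  exact e.injective (h'.trans e.map_one.symm)

end CfsgLib.PGroupRank
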