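import Cfsg.Agent.Solvable.CoprimeIndex
import Cfsg.Agent.Solvable.Glauberman
import Cfsg.Agent.Char.Burnside
import Mathlib.GroupTheory.Solvable
import Mathlib.GroupTheory.Sylow

/-!
# Solvability criteria from factorizations
-/

set_option autoImplicit false
set_option linter.style.haveILetI false
set_option linter.deprecated false

namespace CfsgLib.Criteria

open Subgroup Pointwise CfsgLib.SZ CfsgLib.Solvable

universe u

/-- A `p`-subgroup lies in a conjugate of any subgroup of index prime to `p`. -/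
theorem exists_conj_le {G : Type u} [Group G] [Finite G] {p : ℕ} [Fact p.Prime] {M H : Subgroup G}
    (hM : IsPGroup p M) (hH : ¬ p ∣ H.index) : ∃ g : G, MulAut.conj g • M ≤ H := by
  obtain ⟨S⟩ : Nonempty (Sylow p H) := inferInstance
  have hidx : ¬ p ∣ ((S : Subgroup H).map H.subtype).index := by
    rw [index_map_subtype]
    exact fun h => ((Fact.out : p.Prime).dvd_mul.1 h).elim S.not_dvd_index hH
  let P : Sylow p G := (S.2.map H.subtype).toSylow hidx
  obtain ⟨Q, hQ⟩ := hM.exists_le_sylow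
  obtain ⟨g, hg⟩ := MulAction.exists_smul_eq G Q P
  refine ⟨g, ?_⟩
  have h1 : MulAut.conj g • M ≤ MulAut.conj g • (Q : Subgroup G) :=
    pointwise_smul_le_pointwise_smul_iff.2 hQ
  refine h1.trans ?_
  have h2 : MulAut.conj g • (Q : Subgroup G) = (P : Subgroup G) := by
    rw [← hg]; rfl
  rw [h2]
  exact map_subtype_le _

theorem factor_map {G G' : Type u} [Group G] [Group G'] {f : G →* G'} (hf : Function.Surjective f)
    {A B : Subgroup G} (h : ∀ g : G, ∃ x ∈ A, ∃ y ∈ B, g = x * y) :
    ∀ g : G', ∃ x ∈ A.map f, ∃ y ∈ B.map f, g = x * y := by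
  intro g
  obtain ⟨g, rfl⟩ := hf g
  obtain ⟨x, hx, y, hy, rfl⟩ := h g
  exact ⟨f x, mem_map_of_mem f hx, f y, mem_map_of_mem f hy, map_mul f x y⟩

theorem solvable_map {G G' : Type u} [Group G] [Group G'] (f : G →* G') (A : Subgroup G)
    (h : Group.IsSolvable A) : Group.IsSolvable (A.map f) :=
  Group.isSolvable_of_surjective (f.subgroupMap_surjective A)

theorem wielandt_aux (n : ℕ) : ∀ (G : Type u) [Group G] [Finite G], Nat.card G = n →
    ∀ H₁ H₂ H₃ : Subgroup G, Group.IsSolvable H₁ → Group.IsSolvable H₂ → Group.IsSolvable H₃ →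
    (∀ g : G, ∃ x ∈ H₁, ∃ y ∈ H₂, g = x * y) → (∀ g : G, ∃ x ∈ H₁, ∃ y ∈ H₃, g = x * y) →
    H₂.index.Coprime H₃.index → Group.IsSolvable G := by
  induction n using Nat.strong_induction_on with
  | _ n ih =>
    intro G _ _ hn H₁ H₂ H₃ h₁ h₂ h₃ h12 h13 hcop
    by_cases hH₁ : H₁ = ⊥
    · subst hH₁
      refine Group.isSolvable_of_surjective (f := H₂.subtype) fun g => ?_
      obtain ⟨x, hx, y, hy, rfl⟩ := h12 g
      rw [mem_bot] at hx
      exact ⟨⟨y, hy⟩, by simp [hx]⟩
    have : Nontrivial H₁ := (nontrivial_iff_ne_bot H₁).2 hH₁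
    obtain ⟨M, hMn, hM, -, hMmin⟩ := exists_minimal_normal_le (N := (⊤ : Subgroup H₁)) top_ne_bot
    haveI := hMn
    obtain ⟨-, p, hp, -, hpM⟩ := minimal_normal_elementary hM hMmin inferInstance
    haveI := Fact.mk hp
    have hMne : M.map H₁.subtype ≠ ⊥ := fun h =>
      hM ((map_eq_bot_iff_of_injective _ H₁.subtype_injective).1 h)
    obtain ⟨H, K, hH, hK, hfac, hpH⟩ : ∃ H K : Subgroup G, Group.IsSolvable H ∧
        (K = H₂ ∨ K = H₃) ∧ (∀ g : G, ∃ x ∈ H₁, ∃ y ∈ H, g = x * y) ∧ ¬ p ∣ H.index := by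
      by_cases hp2 : p ∣ H₂.index
      · exact ⟨H₃, H₃, h₃, Or.inr rfl, h13, fun h => Nat.not_coprime_of_dvd_of_dvd hp.one_lt hp2 h hcop⟩
      · exact ⟨H₂, H₂, h₂, Or.inl rfl, h12, hp2⟩
    obtain ⟨g, hg⟩ := exists_conj_le (hpM.map H₁.subtype) hpH
    obtain ⟨x, hx, y, hy, hxy⟩ := hfac g⁻¹
    have hgi : g = y⁻¹ * x⁻¹ := by rw [← mul_inv_rev, ← hxy, inv_inv]
    have hxM : MulAut.conj x⁻¹ • M.map H₁.subtype = M.map H₁.subtype := by
      have h1 := conj_smul_normal (G := H₁) ⟨x⁻¹, inv_mem hx⟩ M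
      have h2 := congrArg (Subgroup.map H₁.subtype) h1
      rwa [conj_smul_map] at h2
    have hMH : M.map H₁.subtype ≤ H := by
      rw [hgi, conj_smul_mul, hxM] at hg
      rw [← conj_smul_inv_smul y⁻¹ (M.map H₁.subtype)]
      calc MulAut.conj y⁻¹⁻¹ • MulAut.conj y⁻¹ • M.map H₁.subtype
          ≤ MulAut.conj y⁻¹⁻¹ • H := pointwise_smul_le_pointwise_smul_iff.2 hg
        _ = H := conj_smul_self_of_mem (by simpa using hy)
    set N := normalClosure ((M.map H₁.subtype : Subgroup G) : Set G) with hN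
    have hNH : N ≤ H := by
      rw [hN, normalClosure, closure_le]
      intro z hz
      obtain ⟨m, hm, hmz⟩ := Group.mem_conjugatesOfSet_iff.1 hz
      obtain ⟨c, hc⟩ := isConj_iff.1 hmz
      subst hc
      obtain ⟨a, ha, b, hb, hab⟩ := hfac c⁻¹
      have hc' : c = b⁻¹ * a⁻¹ := by rw [← mul_inv_rev, ← hab, inv_inv]
      have hma : a⁻¹ * m * a ∈ M.map H₁.subtype := by
        obtain ⟨w, hw, rfl⟩ := hm
        refine ⟨⟨a, ha⟩⁻¹ * w * ⟨a, ha⟩, ?_, rfl⟩
        simpa using hMn.conj_mem w hw (⟨a, ha⟩ : H₁)⁻¹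
      have : c * m * c⁻¹ = b⁻¹ * (a⁻¹ * m * a) * b := by rw [hc']; group
      rw [this]
      exact H.mul_mem (H.mul_mem (H.inv_mem hb) (hMH hma)) hb
    have hN0 : N ≠ ⊥ := fun h => hMne (eq_bot_iff.2 (h ▸ le_normalClosure))
    have hNs : Group.IsSolvable N :=
      Group.isSolvable_of_isSolvable_injective (f := inclusion hNH) (inclusion_injective hNH)
    have hq := QuotientGroup.mk'_surjective N
    have hcop' : (H₂.map (QuotientGroup.mk' N)).index.Coprime (H₃.map (QuotientGroup.mk' N)).index :=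
      (hcop.coprime_dvd_left (index_map_dvd H₂ hq)).coprime_dvd_right (index_map_dvd H₃ hq)
    have := ih _ (hn ▸ card_quotient_lt hN0) (G ⧸ N) rfl _ _ _ (solvable_map _ H₁ h₁)
      (solvable_map _ H₂ h₂) (solvable_map _ H₃ h₃) (factor_map hq h12) (factor_map hq h13) hcop'
    exact (Group.isSolvable_iff_subgroup_quotient N).2 ⟨hNs, this⟩

/-- Wielandt: two factorizations with solvable factors. -/
theorem wielandt {G : Type u} [Group G] [Finite G] (H₁ H₂ H₃ : Subgroup G)
    (h₁ : Group.IsSolvable H₁) (h₂ : Group.IsSolvable H₂) (h₃ : Group.IsSolvable H₃)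
    (h12 : ∀ g : G, ∃ x ∈ H₁, ∃ y ∈ H₂, g = x * y) (h13 : ∀ g : G, ∃ x ∈ H₁, ∃ y ∈ H₃, g = x * y)
    (hcop : H₂.index.Coprime H₃.index) : Group.IsSolvable G :=
  wielandt_aux _ G rfl H₁ H₂ H₃ h₁ h₂ h₃ h12 h13 hcop

/-- A group with three proper subgroups of pairwise coprime index, all solvable, is solvable;
otherwise Burnside's theorem applies. -/
theorem solvable_of_primePow_index {G : Type u} [Group G] [Finite G]
    (hex : ∀ p : ℕ, p.Prime → p ∣ Nat.card G →
      ∃ K : Subgroup G, Group.IsSolvable K ∧ ∃ k : ℕ, K.index = p ^ k) : Group.IsSolvable G := by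
  by_cases h3 : ∃ p q r : ℕ, (p.Prime ∧ p ∣ Nat.card G) ∧ (q.Prime ∧ q ∣ Nat.card G) ∧
      (r.Prime ∧ r ∣ Nat.card G) ∧ p ≠ q ∧ p ≠ r ∧ q ≠ r
  · obtain ⟨p, q, r, ⟨hp, hp'⟩, ⟨hq, hq'⟩, ⟨hr, hr'⟩, hpq, hpr, hqr⟩ := h3
    obtain ⟨A, hA, a, ha⟩ := hex p hp hp'
    obtain ⟨B, hB, b, hb⟩ := hex q hq hq'
    obtain ⟨C, hC, c, hc⟩ := hex r hr hr'
    refine wielandt A B C hA hB hC (CfsgLib.CoprimeIndex.exists_mul_eq ?_)
      (CfsgLib.CoprimeIndex.exists_mul_eq ?_) ?_
    · rw [ha, hb]; exact Nat.Coprime.pow a b ((Nat.coprime_primes hp hq).2 hpq)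
    · rw [ha, hc]; exact Nat.Coprime.pow a c ((Nat.coprime_primes hp hr).2 hpr)
    · rw [hb, hc]; exact Nat.Coprime.pow b c ((Nat.coprime_primes hq hr).2 hqr)
  · push Not at h3
    classical
    have hn : Nat.card G ≠ 0 := Nat.card_pos.ne'
    by_cases h1 : Nat.card G = 1
    · have : Subsingleton G := (Nat.card_eq_one_iff_unique.1 h1).1
      infer_instance
    obtain ⟨p, hp, hp'⟩ := Nat.exists_prime_and_dvd h1
    obtain ⟨q, hq, hq'⟩ : ∃ q, q.Prime ∧ ∀ r, r.Prime → r ∣ Nat.card G → r = p ∨ r = q := by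
      by_cases h2 : ∃ q, q.Prime ∧ q ∣ Nat.card G ∧ p ≠ q
      · obtain ⟨q, hq, hqd, hpq⟩ := h2
        refine ⟨q, hq, fun r hr hrd => ?_⟩
        by_contra hcon
        push Not at hcon
        exact hcon.2 (h3 p q r ⟨hp, hp'⟩ ⟨hq, hqd⟩ ⟨hr, hrd⟩ hpq (Ne.symm hcon.1)).symm
      · push Not at h2
        exact ⟨p, hp, fun r hr hrd => Or.inl (h2 r hr hrd).symm⟩
    refine CfsgLib.Char.isSolvable_of_card_eq p q ((Nat.card G).factorization p)
      (if p = q then 0 else (Nat.card G).factorization q) hp hq ?_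
    refine Nat.eq_of_factorization_eq hn (mul_ne_zero (pow_ne_zero _ hp.ne_zero)
      (pow_ne_zero _ hq.ne_zero)) fun r => ?_
    rw [Nat.factorization_mul (pow_ne_zero _ hp.ne_zero) (pow_ne_zero _ hq.ne_zero),
      hp.factorization_pow, hq.factorization_pow, Finsupp.add_apply, Finsupp.single_apply,
      Finsupp.single_apply]
    by_cases hrp : p = r
    · subst hrp
      by_cases hpq : p = q
      · subst hpq; simp
      · simp [Ne.symm hpq]
    · rw [if_neg hrp, zero_add]
      by_cases hrq : q = r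
      · subst hrq; simp [hrp]
      · rw [if_neg hrq]
        by_cases hr : r.Prime
        · exact Nat.factorization_eq_zero_of_not_dvd fun h => by
            rcases hq' r hr h with h' | h'
            · exact hrp h'.symm
            · exact hrq h'.symm
        · exact Nat.factorization_eq_zero_of_not_prime _ hr

theorem hereditary_aux (n : ℕ) : ∀ (G : Type u) [Group G] [Finite G], Nat.card G = n →
    (∀ H : Subgroup G, H ≠ ⊥ → ∀ p : ℕ, p.Prime → p ∣ Nat.card H →
      ∃ K : Subgroup H, K ≠ ⊤ ∧ ∃ k : ℕ, K.index = p ^ k) → Group.IsSolvable G := by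
  induction n using Nat.strong_induction_on with
  | _ n ih =>
    intro G _ _ hn h
    refine solvable_of_primePow_index fun p hp hpd => ?_
    have htop : (⊤ : Subgroup G) ≠ ⊥ := fun he => hp.not_dvd_one (by
      rw [← Subgroup.card_top, he, card_bot] at hpd; exact hpd)
    obtain ⟨K, hK, k, hk⟩ := h ⊤ htop p hp (by rwa [card_top])
    set K' := K.map (⊤ : Subgroup G).subtype with hK'
    have hne : K' ≠ ⊤ := fun he => hK (eq_top_iff.2 fun x _ => by
      obtain ⟨y, hy, hyx⟩ := he.ge (mem_top (x : G))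
      rwa [← Subtype.ext hyx])
    refine ⟨K', ?_, k, by rw [hK', index_map_subtype, index_top, mul_one, hk]⟩
    refine ih _ (hn ▸ card_lt_of_ne_top hne) K' rfl fun H hH q hq hqd => ?_
    have hH' : H.map K'.subtype ≠ ⊥ := fun he =>
      hH ((map_eq_bot_iff_of_injective _ K'.subtype_injective).1 he)
    obtain ⟨L, hL, l, hl⟩ := h (H.map K'.subtype) hH' q hq
      (by rwa [card_map_of_injective K'.subtype_injective])
    let e := H.equivMapOfInjective K'.subtype K'.subtype_injective
    refine ⟨L.comap e.toMonoidHom, fun he => hL ?_, l, ?_⟩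
    · rw [← comap_top e.toMonoidHom] at he
      exact comap_injective e.surjective he
    · rw [index_comap_of_surjective _ (f := e.toMonoidHom) e.surjective, hl]

theorem complements_aux (n : ℕ) : ∀ (G : Type u) [Group G] [Finite G], Nat.card G = n →
    (∀ p : ℕ, p.Prime → ∃ H : Subgroup G, H.index = p ^ (Nat.card G).factorization p) →
    Group.IsSolvable G := by
  induction n using Nat.strong_induction_on with
  | _ n ih =>
    intro G _ _ hn h
    refine solvable_of_primePow_index fun p hp hpd => ?_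
    obtain ⟨H, hH⟩ := h p hp
    have hpos : 0 < (Nat.card G).factorization p := hp.factorization_pos_of_dvd Nat.card_pos.ne' hpd
    have hne : H ≠ ⊤ := fun he => by
      rw [he, index_top] at hH
      exact (Nat.one_lt_pow hpos.ne' hp.one_lt).ne hH
    refine ⟨H, ih _ (hn ▸ card_lt_of_ne_top hne) H rfl fun q hq => ?_, _, hH⟩
    have hfac : ∀ r, (Nat.card H).factorization r + H.index.factorization r =
        (Nat.card G).factorization r := fun r => by
      rw [← card_mul_index H, Nat.factorization_mul Nat.card_pos.ne' index_ne_zero_of_finite,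
        Finsupp.add_apply]
    rcases eq_or_ne q p with rfl | hqp
    · refine ⟨⊤, ?_⟩
      have := hfac q
      rw [hH, hq.factorization_pow, Finsupp.single_eq_same] at this
      rw [index_top, show (Nat.card H).factorization q = 0 by omega, pow_zero]
    · obtain ⟨L, hL⟩ := h q hq
      refine ⟨L.subgroupOf H, ?_⟩
      have hcop : L.index.Coprime H.index := by
        rw [hL, hH]; exact Nat.Coprime.pow _ _ ((Nat.coprime_primes hq hp).2 hqp)
      have h1 := CfsgLib.CoprimeIndex.index_inf hcop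
      have h2 : (L ⊓ H).subgroupOf H = L.subgroupOf H := inf_subgroupOf_right L H
      have h3 := relIndex_mul_index (inf_le_right : L ⊓ H ≤ H)
      rw [relIndex, h2, h1] at h3
      rw [Nat.eq_of_mul_eq_mul_right (Nat.pos_of_ne_zero index_ne_zero_of_finite) h3, hL]
      have := hfac q
      rw [hH, hp.factorization_pow, Finsupp.single_eq_of_ne hqp, add_zero] at this
      rw [this]

/-- Permuting subgroups: their product is a subgroup. -/
theorem coe_sup_of_comm {G : Type u} [Group G] {A B : Subgroup G}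
    (h : (A : Set G) * B = (B : Set G) * A) : ((A ⊔ B : Subgroup G) : Set G) = A * B := by
  refine Set.Subset.antisymm ?_ fun x ⟨a, ha, b, hb, hab⟩ => hab ▸ mul_mem_sup ha hb
  rw [sup_eq_closure]
  intro x hx
  induction hx using closure_induction with
  | mem x hx =>
    rcases hx with hx | hx
    · exact ⟨x, hx, 1, one_mem _, mul_one x⟩
    · exact ⟨1, one_mem _, x, hx, one_mul x⟩
  | one => exact ⟨1, one_mem _, 1, one_mem _, one_mul 1⟩
  | mul x y _ _ hx hy =>
    have h1 : x * y ∈ ((A : Set G) * B) * ((A : Set G) * B) := Set.mul_mem_mul hx hy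
    rwa [mul_assoc, ← mul_assoc (B : Set G), ← h, mul_assoc (A : Set G) B B, ← mul_assoc,
      coe_mul_coe, coe_mul_coe] at h1
  | inv x _ hx =>
    obtain ⟨a, ha, b, hb, rfl⟩ := hx
    rw [h]
    exact ⟨b⁻¹, inv_mem hb, a⁻¹, inv_mem ha, (mul_inv_rev a b).symm⟩

/-- The order of a product of permuting subgroups of coprime order. -/
theorem card_sup_of_comm {G : Type u} [Group G] {A B : Subgroup G}
    (h : (A : Set G) * B = (B : Set G) * A) (hd : A ⊓ B = ⊥) :
    Nat.card ↥(A ⊔ B) = Nat.card A * Nat.card B := by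
  rw [← Nat.card_prod]
  refine (Nat.card_congr (Equiv.ofBijective
    (fun z : A × B => (⟨z.1 * z.2, mul_mem_sup z.1.2 z.2.2⟩ : ↥(A ⊔ B))) ⟨?_, ?_⟩)).symm
  · exact fun z w hzw => mul_injective_of_disjoint (disjoint_iff.2 hd) (congrArg Subtype.val hzw)
  · rintro ⟨x, hx⟩
    have : x ∈ (A : Set G) * B := by rw [← coe_sup_of_comm h]; exact hx
    obtain ⟨a, ha, b, hb, rfl⟩ := this
    exact ⟨(⟨a, ha⟩, ⟨b, hb⟩), rfl⟩

theorem system_spec {G : Type u} [Group G] [Finite G] (S : (p : Nat.Primes) → Sylow (p : ℕ) G)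
    (hS : ∀ p q : Nat.Primes, (S p : Set G) * (S q : Set G) = (S q : Set G) * (S p : Set G))
    (T : Finset Nat.Primes) :
    (∀ q, ((S q : Subgroup G) : Set G) * ((T.sup (fun r => (S r : Subgroup G)) : Subgroup G) : Set G) =
      ((T.sup (fun r => (S r : Subgroup G)) : Subgroup G) : Set G) * ((S q : Subgroup G) : Set G)) ∧
      Nat.card ↥(T.sup fun r => (S r : Subgroup G)) = ∏ r ∈ T, Nat.card (S r : Subgroup G) := by
  classical
  induction T using Finset.induction_on with
  | empty => exact ⟨fun q => by simp, by simp⟩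
  | insert a T haT ih =>
    obtain ⟨h1, h2⟩ := ih
    simp only [Finset.sup_insert, Finset.prod_insert haT]
    refine ⟨fun q => ?_, ?_⟩
    · rw [coe_sup_of_comm (h1 a), ← mul_assoc]
      have hqa : ((S q : Subgroup G) : Set G) * ((S a : Subgroup G) : Set G) =
          ((S a : Subgroup G) : Set G) * ((S q : Subgroup G) : Set G) := hS q a
      rw [hqa, mul_assoc, h1 q, mul_assoc]
    · rw [card_sup_of_comm (h1 a), h2]
      refine inf_eq_bot_of_coprime ?_
      rw [h2, Nat.coprime_prod_right_iff]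
      intro r hr
      have hra : (a : ℕ) ≠ r := fun h => haT (by rwa [Subtype.ext h])
      haveI := Fact.mk a.2
      haveI := Fact.mk r.2
      obtain ⟨i, hi⟩ := IsPGroup.iff_card.1 (S a).2
      obtain ⟨j, hj⟩ := IsPGroup.iff_card.1 (S r).2
      rw [hi, hj]
      exact Nat.Coprime.pow i j ((Nat.coprime_primes a.2 r.2).2 hra)

/-- A group with a Sylow system is solvable. -/
theorem solvable_of_system {G : Type u} [Group G] [Finite G]
    (S : (p : Nat.Primes) → Sylow (p : ℕ) G)
    (hS : ∀ p q : Nat.Primes, (S p : Set G) * (S q : Set G) = (S q : Set G) * (S p : Set G)) :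
    Group.IsSolvable G := by
  classical
  refine complements_aux _ G rfl fun p hp => ?_
  let T : Finset Nat.Primes := (((Nat.card G).primeFactors.erase p).subtype Nat.Prime)
  refine ⟨T.sup fun r => (S r : Subgroup G), ?_⟩
  set H := T.sup fun r => (S r : Subgroup G)
  have hc : Nat.card H * p ^ (Nat.card G).factorization p = Nat.card G := by
    rw [(system_spec S hS T).2]
    have hcard : ∀ r : Nat.Primes, Nat.card (S r : Subgroup G) =
        (r : ℕ) ^ (Nat.card G).factorization r := fun r => by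
      haveI := Fact.mk r.2
      exact (S r).card_eq_multiplicity
    simp only [hcard]
    rw [show ∏ r ∈ T, (r : ℕ) ^ (Nat.card G).factorization r =
        ∏ r ∈ (Nat.card G).primeFactors.erase p, r ^ (Nat.card G).factorization r from
      Finset.prod_subtype_of_mem (fun r => r ^ (Nat.card G).factorization r)
        fun r hr => Nat.prime_of_mem_primeFactors (Finset.mem_of_mem_erase hr)]
    by_cases hpm : p ∈ (Nat.card G).primeFactors
    · rw [Finset.prod_erase_mul _ _ hpm]
      exact (Nat.prod_factorization_eq_prod_primeFactors _).symm.trans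
        (Nat.prod_factorization_pow_eq_self Nat.card_pos.ne')
    · rw [Finset.erase_eq_of_notMem hpm,
        Nat.factorization_eq_zero_of_not_dvd fun h =>
          hpm (Nat.mem_primeFactors.2 ⟨hp, h, Nat.card_pos.ne'⟩), pow_zero, mul_one]
      exact (Nat.prod_factorization_eq_prod_primeFactors _).symm.trans
        (Nat.prod_factorization_pow_eq_self Nat.card_pos.ne')
  exact Nat.eq_of_mul_eq_mul_left Nat.card_pos ((card_mul_index H).trans hc.symm)

end CfsgLib.Criteria
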