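import Cfsg.Agent.Solvable.MaximalClass
import Cfsg.Agent.InvChar.UniqueInvolution
import Cfsg.Prelude.Def_CaseTheorems

/-!
Classification of 2-groups of maximal class, and 2-groups of sectional rank two containing a
non-abelian subgroup of order eight.
-/

set_option autoImplicit false
set_option linter.style.haveILetI false
set_option linter.unusedSectionVars false

namespace CfsgLib.TwoMax

open Subgroup
open scoped commutatorElement

universe u

/-- The dihedral / semidihedral / quaternion alternatives. -/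
def DSQ (S : Type u) [Group S] : Prop :=
  (∃ k : ℕ, Nonempty (S ≃* DihedralGroup (2 ^ (k + 2)))) ∨
    (∃ k : ℕ, Nat.card S = 2 ^ (k + 4) ∧ ∃ a b : S, orderOf a = 2 ^ (k + 3) ∧ orderOf b = 2 ∧
      b * a * b⁻¹ = a ^ (2 ^ (k + 2) - 1)) ∨
    (∃ k : ℕ, Nonempty (S ≃* QuaternionGroup (2 ^ (k + 1))))

variable {S : Type u} [Group S] [Finite S]

theorem index_two_conj {a : S} {m : ℕ} (ha : orderOf a = 2 ^ m) (hS : IsPGroup 2 S)
    (hi : (zpowers a).index = 2) (b : S) :
    ∃ r : ℕ, b * a * b⁻¹ = a ^ r ∧ r * r ≡ 1 [MOD 2 ^ m] ∧ b ^ 2 ∈ zpowers a := by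
  haveI := CfsgLib.AbelianIndexP.normal_of_index_prime (p := 2) hS hi
  obtain ⟨r, hr⟩ := mem_powers_iff_mem_zpowers.mpr
    (Normal.conj_mem inferInstance a (mem_zpowers a) b : b * a * b⁻¹ ∈ zpowers a)
  have hr : a ^ r = b * a * b⁻¹ := hr
  have hb2 : b ^ 2 ∈ zpowers a := hi ▸ pow_index_mem (zpowers a) b
  refine ⟨r, hr.symm, ?_, hb2⟩
  obtain ⟨i, hi'⟩ := hb2
  have h1 : b ^ 2 * a * (b ^ 2)⁻¹ = a := by
    rw [← hi']; exact mul_inv_eq_of_eq_mul (Commute.zpow_self a i).eq
  have h2 : b ^ 2 * a * (b ^ 2)⁻¹ = a ^ (r * r) := by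
    rw [pow_two, mul_inv_rev, show b * b * a * (b⁻¹ * b⁻¹) = b * (b * a * b⁻¹) * b⁻¹ by group,
      ← hr, ← conj_pow, ← hr, ← pow_mul]
  have h3 : a ^ (r * r) = a ^ 1 := by rw [pow_one, ← h2, h1]
  rwa [pow_eq_pow_iff_modEq, ha] at h3

/-- A group with cyclic index two subgroup on which some element acts with exponent 3 mod 4. -/
theorem dsq_of_cyclic {a b : S} {m : ℕ} (hS : IsPGroup 2 S) (hm : 2 ≤ m) (ha : orderOf a = 2 ^ m)
    (hi : (zpowers a).index = 2) {r : ℕ} (hb : b * a * b⁻¹ = a ^ r) (hr : r % 4 = 3) : DSQ S := by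
  have hbn : b ∉ zpowers a := fun h => by
    obtain ⟨i, rfl⟩ := h
    rw [mul_inv_eq_of_eq_mul (Commute.zpow_self a i).eq] at hb
    have h1 : a ^ r = a ^ 1 := by rw [pow_one, ← hb]
    rw [pow_eq_pow_iff_modEq, ha] at h1
    have h4 : r ≡ 1 [MOD 2 ^ 2] := h1.of_dvd (pow_dvd_pow 2 hm)
    have : r % 4 = 1 % 4 := h4
    omega
  obtain ⟨r', hr', hsq, hb2⟩ := index_two_conj ha hS hi b
  have hrr : r ≡ r' [MOD 2 ^ m] := by
    rw [← ha, ← pow_eq_pow_iff_modEq, ← hb, hr']
  have hsq' : r * r ≡ 1 [MOD 2 ^ m] := (hrr.mul hrr).trans hsq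
  have hcard : Nat.card S = 2 ^ (m + 1) := by
    have := (zpowers a).card_mul_index
    rw [Nat.card_zpowers, ha, hi] at this
    rw [pow_succ]; exact this.symm
  obtain ⟨q, rfl⟩ : ∃ q, m = q + 1 := ⟨m - 1, by omega⟩
  -- r ≡ -1 or -1 + 2^q
  have hdiv : (2 : ℤ) ^ q ∣ (r : ℤ) + 1 := by
    have h1 : ((2 ^ (q + 1) : ℕ) : ℤ) ∣ ((r * r : ℕ) : ℤ) - ((1 : ℕ) : ℤ) :=
      (Nat.modEq_iff_dvd.mp hsq'.symm)
    push_cast at h1
    obtain ⟨u, hu⟩ : ∃ u : ℤ, (r : ℤ) - 1 = 2 * (2 * u + 1) := ⟨((r : ℤ) - 3) / 4, by omega⟩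
    rw [show (r : ℤ) * r - 1 = (2 * ((r : ℤ) + 1)) * (2 * u + 1) by linear_combination ((r:ℤ) + 1) * hu,
      pow_succ'] at h1
    have h2 : IsCoprime ((2 : ℤ) * 2 ^ q) (2 * u + 1) := by
      rw [← pow_succ']
      exact IsCoprime.pow_left ⟨-u, 1, by ring⟩
    exact Int.dvd_of_mul_dvd_mul_left (by norm_num : (2 : ℤ) ≠ 0)
      (by simpa using (IsCoprime.dvd_of_dvd_mul_right h2 h1))
  set z := a ^ 2 ^ q with hz
  have hz1 : z ≠ 1 := fun h => by
    have h' := orderOf_dvd_of_pow_eq_one (hz ▸ h)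
    rw [ha, Nat.pow_dvd_pow_iff_le_right (by norm_num)] at h'
    omega
  have hz2 : z * z = 1 := by
    rw [hz, ← pow_add, ← two_mul, ← pow_succ', ← ha, pow_orderOf_eq_one]
  have htype : b * a * b⁻¹ = a⁻¹ ∨ b * a * b⁻¹ = a⁻¹ * z := by
    obtain ⟨w, hw⟩ := hdiv
    rw [hb, ← zpow_natCast]
    rcases Int.even_or_odd' w with ⟨t, rfl | rfl⟩
    · left
      rw [show (r : ℤ) = ((2 : ℕ) ^ (q + 1) : ℕ) * t + (-1) by push_cast; rw [pow_succ]; linarith [hw],
        zpow_add, zpow_mul, zpow_natCast, ← ha, pow_orderOf_eq_one, one_zpow, one_mul, zpow_neg_one]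
    · right
      rw [show (r : ℤ) = ((2 : ℕ) ^ (q + 1) : ℕ) * t + (-1) + ((2 : ℕ) ^ q : ℕ) by
          push_cast; rw [pow_succ]; linarith [hw],
        zpow_add, zpow_add, zpow_mul, zpow_natCast, ← ha, pow_orderOf_eq_one, one_zpow, one_mul,
        zpow_neg_one, hz, zpow_natCast]
  have hzc : Commute b z := by
    have h0 : b * z * b⁻¹ = z ^ r := by
      rw [hz, ← conj_pow, hb, ← pow_mul, ← pow_mul, mul_comm]
    obtain ⟨u, rfl⟩ : ∃ u, r = 2 * u + 1 := ⟨r / 2, by omega⟩
    rw [pow_succ, pow_mul, pow_two, hz2, one_pow, one_mul, mul_inv_eq_iff_eq_mul] at h0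
    exact h0
  have hb2' : b * b = 1 ∨ b * b = z := by
    obtain ⟨i, hi'⟩ := hb2
    simp only [pow_two] at hi'
    have h1 : (a ^ r) ^ i = a ^ i := by
      rw [← hb, conj_zpow, hi']; group
    rw [← zpow_natCast a r, ← zpow_mul, zpow_eq_zpow_iff_modEq, ha, Int.modEq_iff_dvd,
      show i - (r : ℤ) * i = i * (1 - (r : ℤ)) by ring] at h1
    obtain ⟨u, hu⟩ : ∃ u : ℤ, (r : ℤ) - 1 = 2 * (2 * u + 1) := ⟨((r : ℤ) - 3) / 4, by omega⟩
    rw [show i * (1 - (r : ℤ)) = 2 * (-i) * (2 * u + 1) by linear_combination (-i) * hu] at h1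
    push_cast at h1
    have h2 : IsCoprime ((2 : ℤ) ^ (q + 1)) (2 * u + 1) := IsCoprime.pow_left ⟨-u, 1, by ring⟩
    have h3 : (2 : ℤ) ^ q ∣ -i := by
      refine Int.dvd_of_mul_dvd_mul_left (by norm_num : (2 : ℤ) ≠ 0) ?_
      rw [← pow_succ']
      exact h2.dvd_of_dvd_mul_right h1
    obtain ⟨w, rfl⟩ := (dvd_neg.mp h3)
    rw [← hi', zpow_mul, show (2 : ℤ) ^ q = ((2 ^ q : ℕ) : ℤ) by push_cast; rfl, zpow_natCast, ← hz]
    rcases Int.even_or_odd' w with ⟨t, rfl | rfl⟩
    · left; rw [zpow_mul, zpow_two, hz2, one_zpow]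
    · right; rw [zpow_add, zpow_mul, zpow_two, hz2, one_zpow, one_mul, zpow_one]
  have hord2 : ∀ x : S, x ∉ zpowers a → x * x = 1 → orderOf x = 2 := fun x hx h =>
    orderOf_eq_prime (by rw [pow_two, h]) fun h1 => hx (h1 ▸ one_mem _)
  have htopgen : ∀ K : Subgroup S, a ∈ K → b ∈ K → K = ⊤ := fun K h1 h2 =>
    CfsgLib.AbelianIndexP.eq_top_of_lt_of_index_prime Nat.prime_two hi
      (lt_of_le_of_ne (zpowers_le.2 h1) fun e => hbn (e.ge h2))
  rcases htype with hinv | hsd
  · rcases hb2' with hs | hs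
    · -- dihedral
      left
      refine ⟨q - 1, ?_⟩
      have hba : b * a ∉ zpowers a := fun h => hbn ((mul_mem_cancel_right (mem_zpowers a)).1 h)
      have h2 : b * a * (b * a) = 1 := by
        calc b * a * (b * a) = (b * a * b⁻¹) * (b * b) * a := by group
          _ = 1 := by rw [hinv, hs]; group
      obtain ⟨e⟩ := CfsgLib.Invol.nonempty_dihedral_equiv (hord2 b hbn hs) (hord2 _ hba h2) (fun h => by
        have : a = 1 := by simpa using h
        rw [this, orderOf_one] at ha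
        exact absurd ha.symm (Nat.one_lt_pow (by omega) (by norm_num)).ne')
      have htop : closure ({b, b * a} : Set S) = ⊤ := by
        refine htopgen _ ?_ (subset_closure (Set.mem_insert _ _))
        have h3 := mul_mem (inv_mem (subset_closure (Set.mem_insert b {b * a}) : b ∈ closure ({b, b * a} : Set S)))
          (subset_closure (Set.mem_insert_of_mem b rfl) : b * a ∈ closure ({b, b * a} : Set S))
        rwa [inv_mul_cancel_left] at h3
      rw [show orderOf (b * (b * a)) = 2 ^ (q + 1) by rw [← mul_assoc, hs, one_mul, ha]] at e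
      rw [show q - 1 + 2 = q + 1 by omega]
      exact ⟨Subgroup.topEquiv.symm.trans ((MulEquiv.subgroupCongr htop.symm).trans e)⟩
    · -- quaternion
      right; right
      refine ⟨q - 1, ?_⟩
      rw [show q - 1 + 1 = q + 1 - 1 by omega]
      refine CfsgLib.UniqueInvol.nonempty_quaternion_equiv (by omega) ha hi hbn hinv ?_
      rw [pow_two, hs, hz, Nat.add_sub_cancel]
  · by_cases hq : q = 1
    · -- order eight: the twisted action is trivial
      exfalso
      subst hq
      rw [hb] at hsd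
      have h1 : a ^ r = a ^ 1 := by
        rw [hsd, pow_one, hz, pow_one, pow_two, inv_mul_cancel_left]
      rw [pow_eq_pow_iff_modEq, ha] at h1
      have : r % 4 = 1 % 4 := h1
      omega
    -- semidihedral
    right; left
    refine ⟨q - 2, by rw [hcard]; congr 1; omega, a, ?_⟩
    have hsd' : ∀ g : S, g * a * g⁻¹ = a⁻¹ * z → g * a * g⁻¹ = a ^ (2 ^ (q - 2 + 2) - 1) := fun g h => by
      rw [h, hz, show q - 2 + 2 = q by omega, pow_sub _ (Nat.one_le_two_pow), pow_one]
      exact (Commute.pow_self a _).inv_right.symm.eq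
    rcases hb2' with hs | hs
    · exact ⟨b, by rw [ha]; congr 1; omega, hord2 b hbn hs, hsd' b hsd⟩
    · have hba : b * a ∉ zpowers a := fun h => hbn ((mul_mem_cancel_right (mem_zpowers a)).1 h)
      have h2 : b * a * (b * a) = 1 := by
        calc b * a * (b * a) = (b * a * b⁻¹) * (b * b) * a := by group
          _ = a⁻¹ * (z * z) * a := by rw [hsd, hs]; group
          _ = 1 := by rw [hz2]; group
      exact ⟨b * a, by rw [ha]; congr 1; omega, hord2 _ hba h2,
        hsd' _ (by rw [show b * a * a * (b * a)⁻¹ = b * a * b⁻¹ by group, hsd])⟩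

/-- Taussky's theorem, in the classification form. -/
theorem dsq_of_index_commutator (hS : IsPGroup 2 S) (hc : (commutator S).index = 4) :
    Nat.card S = 4 ∨ DSQ S := by
  obtain ⟨n, hn⟩ := IsPGroup.iff_card.1 hS
  have h4 : 4 ∣ Nat.card S := hc ▸ index_dvd_card _
  by_cases hn3 : 3 ≤ n
  swap
  · left
    rw [hn, show (4 : ℕ) = 2 ^ 2 by norm_num, Nat.pow_dvd_pow_iff_le_right (by norm_num)] at h4
    rw [hn, show n = 2 by omega]; norm_num
  right
  obtain ⟨C, hC, hCi⟩ := CfsgLib.MaximalClass.cyclic_index_two n hn3 hn hc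
  obtain ⟨c, hcg⟩ := hC.exists_generator
  have hCz : zpowers (c : S) = C := le_antisymm (zpowers_le.2 c.2) fun y hy => by
    obtain ⟨i, hi⟩ := mem_zpowers_iff.1 (hcg ⟨y, hy⟩)
    exact ⟨i, by simpa using congrArg Subtype.val hi⟩
  rw [← hCz] at hCi
  have hord : orderOf (c : S) = 2 ^ (n - 1) := by
    have h := (zpowers (c : S)).card_mul_index
    rw [Nat.card_zpowers, hCi, hn, show n = n - 1 + 1 by omega, pow_succ] at h
    omega
  obtain ⟨b, hb⟩ : ∃ b, b ∉ zpowers (c : S) := by
    by_contra! h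
    rw [(eq_top_iff' _).2 h, index_top] at hCi
    omega
  obtain ⟨r, hr, hsq, -⟩ := index_two_conj hord hS hCi b
  by_cases hr4 : r % 4 = 3
  · exact dsq_of_cyclic hS (by omega) hord hCi hr hr4
  exfalso
  set q : Subgroup S := zpowers ((c : S) ^ 4) with hqdef
  haveI := CfsgLib.AbelianIndexP.normal_of_index_prime (p := 2) hS hCi
  haveI hqn : q.Normal := ⟨fun y hy g => by
    obtain ⟨i, rfl⟩ := hy
    obtain ⟨j, hj⟩ := (Normal.conj_mem inferInstance (c : S) (mem_zpowers _) g : g * c * g⁻¹ ∈ zpowers (c : S))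
    have hj : (c : S) ^ j = g * c * g⁻¹ := hj
    refine ⟨j * i, ?_⟩
    show ((c : S) ^ 4) ^ (j * i) = g * ((c : S) ^ 4) ^ i * g⁻¹
    rw [← conj_zpow, ← conj_pow, ← hj]
    simp only [← zpow_natCast, ← zpow_mul]
    congr 1; ring⟩
  have hr1 : r % 4 = 1 := by
    have h4' : r * r ≡ 1 [MOD 2 ^ 2] := hsq.of_dvd (pow_dvd_pow 2 (by omega))
    rcases (show r % 4 = 0 ∨ r % 4 = 2 ∨ r % 4 = 1 by omega) with h | h | h
    · have : (r * r) % 4 = 1 % 4 := h4'
      rw [Nat.mul_mod, h] at this; omega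
    · have : (r * r) % 4 = 1 % 4 := h4'
      rw [Nat.mul_mod, h] at this; omega
    · exact h
  set K := zpowers (c : S) ⊔ zpowers b
  have hK : K = ⊤ := CfsgLib.AbelianIndexP.eq_top_of_lt_of_index_prime Nat.prime_two hCi
    (lt_of_le_of_ne le_sup_left fun e => hb (e.ge (mem_sup_right (mem_zpowers b))))
  let π := QuotientGroup.mk' q
  have hcb : Commute (π c) (π b) := by
    obtain ⟨u, rfl⟩ : ∃ u, r = 4 * u + 1 := ⟨r / 4, by omega⟩
    have h : π (b * c * b⁻¹) = π c := by
      rw [hr, pow_succ, map_mul, pow_mul, map_pow,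
        show π ((c : S) ^ 4) = 1 from (QuotientGroup.eq_one_iff _).2 (mem_zpowers _), one_pow, one_mul]
    rw [map_mul, map_mul, map_inv, mul_inv_eq_iff_eq_mul] at h
    exact h.symm
  have hle : commutator S ≤ q := by
    have hall : ∀ x y : S, Commute (π x) (π y) := by
      have h1 : ∀ g ∈ ({(c : S), b} : Set S), ∀ x : S, Commute (π g) (π x) := by
        intro g hg x
        have hgc : Commute (π c) (π g) ∧ Commute (π b) (π g) := by
          rcases hg with rfl | hg
          · exact ⟨Commute.refl _, hcb.symm⟩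
          · rw [Set.mem_singleton_iff.1 hg]; exact ⟨hcb, Commute.refl _⟩
        have hx : x ∈ (centralizer ({π g} : Set (S ⧸ q))).comap π := by
          refine (le_of_eq hK.symm).trans (sup_le (zpowers_le.2 ?_) (zpowers_le.2 ?_)) (mem_top x) <;>
            rw [mem_comap, mem_centralizer_singleton_iff]
          · exact hgc.1.eq
          · exact hgc.2.eq
        exact (show Commute (π x) (π g) from mem_centralizer_singleton_iff.1 hx).symm
      intro x y
      have hx : x ∈ (centralizer ({π y} : Set (S ⧸ q))).comap π := by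
        refine (le_of_eq hK.symm).trans (sup_le (zpowers_le.2 ?_) (zpowers_le.2 ?_)) (mem_top x) <;>
          rw [mem_comap, mem_centralizer_singleton_iff]
        · exact (h1 c (Set.mem_insert _ _) y).eq
        · exact (h1 b (Set.mem_insert_of_mem _ rfl) y).eq
      exact mem_centralizer_singleton_iff.1 hx
    rw [_root_.commutator_def, Subgroup.commutator_le]
    intro x _ y _
    refine (QuotientGroup.eq_one_iff _).1 ?_
    show π ⁅x, y⁆ = 1
    rw [map_commutatorElement, commutatorElement_eq_one_iff_mul_comm]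
    exact (hall x y).eq
  have h5 := card_dvd_of_le hle
  have h6 := (commutator S).card_mul_index
  rw [hc, hn] at h6
  rw [Nat.card_zpowers, orderOf_pow, hord,
    show Nat.gcd (2 ^ (n - 1)) 4 = 2 ^ 2 from Nat.gcd_eq_right (show 2 ^ 2 ∣ 2 ^ (n - 1) from pow_dvd_pow 2 (by omega)),
    Nat.pow_div (by omega) (by norm_num)] at h5
  have h7 := Nat.le_of_dvd (Nat.two_pow_pos _) h5
  have h8 : 2 ^ n = 2 ^ (n - 1 - 2) * 8 := by
    rw [show (8 : ℕ) = 2 ^ 3 by norm_num, ← pow_add]; congr 1; omega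
  have := Nat.two_pow_pos (n - 1 - 2)
  omega

/-- A cyclic index two subgroup with an element acting with exponent 3 mod 4. -/
def Str (S : Type u) [Group S] : Prop :=
  ∃ (m : ℕ) (a b : S) (r : ℕ), 2 ≤ m ∧ orderOf a = 2 ^ m ∧ (zpowers a).index = 2 ∧
    b * a * b⁻¹ = a ^ r ∧ r % 4 = 3

/-- In a group with a cyclic subgroup of index two, containing a non-abelian group of order 8. -/
theorem str_of_cyclic (hS : IsPGroup 2 S) {H : Subgroup S} (hH : Nat.card H = 8)
    (hna : ¬ IsMulCommutative H) {a : S} (hi : (zpowers a).index = 2) : Str S := by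
  have hr4 : ∀ x ∈ H, ∀ y ∈ H, x ∈ zpowers a → y ∈ zpowers a → Commute x y := fun x _ y _ hx hy => by
    obtain ⟨i, rfl⟩ := hx
    obtain ⟨j, rfl⟩ := hy
    exact (Commute.refl a).zpow_zpow i j
  obtain ⟨m, hm⟩ := IsPGroup.iff_orderOf.1 hS a
  obtain ⟨b, hbH, hba⟩ : ∃ b ∈ H, b ∉ zpowers a := by
    by_contra! h
    exact hna ⟨⟨fun x y => Subtype.ext (hr4 x x.2 y y.2 (h x x.2) (h y y.2)).eq⟩⟩
  have hm2 : 2 ≤ m := by
    have h1 := (zpowers a).card_mul_index
    rw [Nat.card_zpowers, hm, hi] at h1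
    have h2 := H.card_le_card_group
    rw [hH, ← h1] at h2
    by_contra h
    have : 2 ^ m ≤ 2 ^ 1 := Nat.pow_le_pow_right two_pos (by omega)
    omega
  obtain ⟨r, hr, hsq, -⟩ := index_two_conj hm hS hi b
  refine ⟨m, a, b, r, hm2, hm, hi, hr, ?_⟩
  by_contra h3
  have h1 : r % 4 = 1 := by
    have h4 : (r * r) % 4 = 1 % 4 := (hsq.of_dvd (pow_dvd_pow 2 hm2) : r * r ≡ 1 [MOD 2 ^ 2])
    rw [Nat.mul_mod] at h4
    rcases (show r % 4 = 0 ∨ r % 4 = 1 ∨ r % 4 = 2 by omega) with h | h | h <;> rw [h] at h4 <;> omega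
  set K := H ⊓ zpowers a
  set Q := centralizer (K : Set S)
  apply hna
  have hbK : ∀ x ∈ K, Commute b x := by
    intro x hx
    have hx4 : orderOf x ∣ 4 := by
      have hd : orderOf x ∣ 8 := hH ▸ Subgroup.orderOf_dvd_natCard _ hx.1
      obtain ⟨i, hi', hi''⟩ := (Nat.dvd_prime_pow Nat.prime_two).1 (show orderOf x ∣ 2 ^ 3 from hd)
      by_contra h
      have hi3 : i = 3 := by
        by_contra hne
        apply h
        rw [hi'', show (4 : ℕ) = 2 ^ 2 by norm_num]
        exact pow_dvd_pow 2 (by omega)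
      subst hi3
      have hxH : zpowers x = H := eq_of_le_of_card_ge (zpowers_le.2 hx.1)
        (by rw [Nat.card_zpowers, hi'', hH]; norm_num)
      exact hna ⟨⟨fun u v => Subtype.ext (hr4 u u.2 v v.2 ((zpowers_le.2 hx.2) (hxH.ge u.2))
        ((zpowers_le.2 hx.2) (hxH.ge v.2))).eq⟩⟩
    obtain ⟨i, hi'⟩ := hx.2
    have hi' : a ^ i = x := hi'
    have e : b * x * b⁻¹ = x := by
      rw [← hi', ← conj_zpow, hr, ← zpow_natCast, ← zpow_mul, mul_comm, zpow_mul, zpow_natCast, hi']
      have : x ^ r = x ^ 1 := by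
        rw [pow_eq_pow_iff_modEq]
        exact Nat.ModEq.of_dvd hx4 (show r % 4 = 1 % 4 from h1)
      rwa [pow_one] at this
    exact mul_inv_eq_iff_eq_mul.1 e
  have hdec : ∀ x ∈ H, x ∈ zpowers a ∨ b * x ∈ K := fun x hx => by
    by_cases h : x ∈ zpowers a
    · exact Or.inl h
    · exact Or.inr ⟨mul_mem hbH hx, (Subgroup.mul_mem_iff_of_index_two hi).2 (iff_of_false hba h)⟩
  have hall : ∀ x ∈ H, Commute b x := fun x hx => by
    rcases hdec x hx with h | h
    · exact hbK x ⟨hx, h⟩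
    · have := hbK _ h
      have h2 := (Commute.refl b).inv_right.mul_right this
      rwa [inv_mul_cancel_left] at h2
  refine ⟨⟨fun u v => Subtype.ext ?_⟩⟩
  show (u : S) * v = v * u
  rcases hdec u u.2 with hu | hu <;> rcases hdec v v.2 with hv | hv
  · exact (hr4 u u.2 v v.2 hu hv).eq
  · have := (hr4 u u.2 (b * v) hv.1 hu hv.2)
    have h2 := ((hall u u.2).symm).inv_right.mul_right this
    rw [inv_mul_cancel_left] at h2
    exact h2.eq
  · have := (hr4 v v.2 (b * u) hu.1 hv hu.2)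
    have h2 := ((hall v v.2).symm).inv_right.mul_right this
    rw [inv_mul_cancel_left] at h2
    exact h2.eq.symm
  · have := hr4 (b * u) hu.1 (b * v) hv.1 hu.2 hv.2
    have h2 : Commute (b⁻¹ * (b * u)) (b⁻¹ * (b * v)) := by
      refine Commute.mul_left ?_ ?_
      · exact ((Commute.refl b).inv_left.inv_right).mul_right (hall _ hv.1).inv_left
      · exact ((hall _ hu.1).symm.inv_right).mul_right this
    rw [inv_mul_cancel_left, inv_mul_cancel_left] at h2
    exact h2.eq

theorem str_of_order_eight : ∀ (n : ℕ) (S : Type u) [Group S] [Finite S], Nat.card S ≤ n →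
    IsPGroup 2 S → ∀ H : Subgroup S, Nat.card H = 8 → ¬ IsMulCommutative H →
      centralizer (H : Set S) ≤ H → Str S := by
  intro n
  induction n with
  | zero => intro S _ _ h; exact absurd h (Nat.not_le.2 Nat.card_pos)
  | succ n ih =>
  intro S _ _ hn hS H hH hna hC
  by_cases hHtop : H = ⊤
  · -- order eight
    have hS8 : Nat.card S = 8 := by rw [← hH, hHtop, card_top]
    obtain ⟨x, hx⟩ : ∃ x : S, x ^ 2 ≠ 1 := by
      by_contra! h
      refine hna ⟨⟨fun u v => Subtype.ext ?_⟩⟩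
      have e := fun g : S => inv_eq_of_mul_eq_one_right (show g * g = 1 by rw [← pow_two]; exact h g)
      show (u : S) * v = v * u
      calc (u : S) * v = (u * v : S)⁻¹ := (e _).symm
        _ = (v : S)⁻¹ * (u : S)⁻¹ := mul_inv_rev _ _
        _ = v * u := by rw [e, e]
    refine str_of_cyclic hS hH hna (a := x) ?_
    have h1 := (zpowers x).card_mul_index
    rw [Nat.card_zpowers, hS8] at h1
    obtain ⟨i, hi, hi'⟩ := (Nat.dvd_prime_pow Nat.prime_two).1
      (show orderOf x ∣ 2 ^ 3 from (orderOf_dvd_natCard x).trans (dvd_of_eq (hS8.trans (by norm_num))))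
    interval_cases i
    · exact absurd (show x ^ 2 = 1 by rw [orderOf_eq_one_iff.1 (show orderOf x = 1 by simpa using hi'), one_pow]) hx
    · exact absurd (orderOf_dvd_iff_pow_eq_one.1 (by simpa using hi'.dvd)) hx
    · rw [hi'] at h1; omega
    · refine absurd ?_ hna
      have hxH : zpowers x = ⊤ := eq_top_of_card_eq _ (by rw [Nat.card_zpowers, hi', hS8]; norm_num)
      exact ⟨⟨fun u v => Subtype.ext (by
        obtain ⟨i, hu⟩ := mem_zpowers_iff.1 (hxH.ge (mem_top (u : S)))
        obtain ⟨j, hv⟩ := mem_zpowers_iff.1 (hxH.ge (mem_top (v : S)))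
        show (u : S) * v = v * u
        rw [← hu, ← hv, ← zpow_add, ← zpow_add, add_comm])⟩⟩
  obtain ⟨M, hM, hHM⟩ := (eq_top_or_exists_le_coatom H).resolve_left hHtop
  obtain ⟨hMn, hMi⟩ := CfsgLib.PGroupBasic.coatom_normal_index hS hM
  haveI := hMn
  -- the maximal subgroup has the structure
  obtain ⟨m, aM, bM, r, hm, haM, hiM, hrM, hr⟩ : Str M := by
    refine ih M ?_ (hS.to_subgroup M) (H.subgroupOf M) ?_ ?_ ?_
    · have := M.card_mul_index
      rw [hMi] at this
      have : 0 < Nat.card M := Nat.card_pos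
      omega
    · rw [Nat.card_congr (subgroupOfEquivOfLe hHM).toEquiv, hH]
    · exact fun h => hna ⟨⟨fun u v => Subtype.ext (congrArg (fun x : H.subgroupOf M => ((x : M) : S))
        (h.is_comm.comm ⟨⟨u, hHM u.2⟩, u.2⟩ ⟨⟨v, hHM v.2⟩, v.2⟩))⟩⟩
    · intro x hx
      refine hC (mem_centralizer_iff.2 fun h hh => ?_)
      exact congrArg Subtype.val (mem_centralizer_iff.1 hx ⟨h, hHM hh⟩ hh)
  -- a normal cyclic subgroup of index two in `M`
  obtain ⟨a, haM', ha, hai, hanorm, b, hbM, r, hr, hr4⟩ :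
      ∃ a ∈ M, orderOf a = 2 ^ m ∧ (zpowers a).relIndex M = 2 ∧ (zpowers a).Normal ∧
        ∃ b ∈ M, ∃ r : ℕ, b * a * b⁻¹ = a ^ r ∧ r % 4 = 3 := by
    have hb_not : bM ∉ zpowers aM := fun h => by
      obtain ⟨i, rfl⟩ := h
      rw [mul_inv_eq_of_eq_mul (Commute.zpow_self aM i).eq] at hrM
      have h1 : aM ^ r = aM ^ 1 := by rw [pow_one, ← hrM]
      rw [pow_eq_pow_iff_modEq, haM] at h1
      have : r % 4 = 1 % 4 := (h1.of_dvd (pow_dvd_pow 2 hm) : r ≡ 1 [MOD 2 ^ 2])
      omega
    haveI := CfsgLib.AbelianIndexP.normal_of_index_prime (p := 2) (hS.to_subgroup M) hiM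
    have hMcard : Nat.card M = 2 ^ (m + 1) := by
      have := (zpowers aM).card_mul_index
      rw [Nat.card_zpowers, haM, hiM] at this
      rw [pow_succ]; exact this.symm
    have hconjM : ∀ x : M, x ∉ zpowers aM → x * aM * x⁻¹ = aM ^ r := fun x hx => by
      obtain ⟨i, hi⟩ := mem_zpowers_iff.1 ((Subgroup.mul_mem_iff_of_index_two hiM).2
        (iff_of_false (fun h => hb_not ((inv_mem_iff).1 h)) hx) : bM⁻¹ * x ∈ zpowers aM)
      rw [show x = bM * aM ^ i by rw [hi, mul_inv_cancel_left]]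
      calc bM * aM ^ i * aM * (bM * aM ^ i)⁻¹ = bM * (aM ^ i * aM * (aM ^ i)⁻¹) * bM⁻¹ := by group
        _ = aM ^ r := by rw [mul_inv_eq_of_eq_mul (Commute.zpow_self aM i).eq, hrM]
    obtain ⟨u, hu⟩ : ∃ u : ℤ, (r : ℤ) - 1 = 2 * (2 * u + 1) := ⟨((r : ℤ) - 3) / 4, by omega⟩
    have hout : ∀ x : M, x ∉ zpowers aM → x ^ 4 = 1 := fun x hx => by
      obtain ⟨j, hj⟩ := mem_zpowers_iff.1 (hiM ▸ pow_index_mem (zpowers aM) x : x ^ 2 ∈ zpowers aM)
      have h1 : (aM ^ r) ^ j = aM ^ j := by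
        rw [← hconjM x hx, conj_zpow, hj]; group
      rw [← zpow_natCast aM r, ← zpow_mul, zpow_eq_zpow_iff_modEq, haM, Int.modEq_iff_dvd,
        show j - (r : ℤ) * j = (2 * -j) * (2 * u + 1) by linear_combination (-j) * hu] at h1
      push_cast at h1
      have h3 : (2 : ℤ) ^ m ∣ 2 * -j :=
        (IsCoprime.pow_left (⟨-u, 1, by ring⟩ : IsCoprime (2 : ℤ) (2 * u + 1))).dvd_of_dvd_mul_right h1
      rw [show (4 : ℕ) = 2 * 2 by norm_num, pow_mul, ← hj, ← zpow_natCast, ← zpow_mul, ← orderOf_dvd_iff_zpow_eq_one, haM]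
      push_cast
      obtain ⟨w, hw⟩ := h3
      exact ⟨-w, by linear_combination -hw⟩
    by_cases hchar : ∀ x : M, orderOf x = 2 ^ m → x ∈ zpowers aM
    · refine ⟨aM, aM.2, by rw [orderOf_coe, haM], ?_, ⟨?_⟩, bM, bM.2, r, ?_, hr⟩
      · rw [relIndex, ← hiM]
        congr 1
        refine le_antisymm (fun x hx => ?_) (zpowers_le.2 (mem_subgroupOf.2 (mem_zpowers (aM : S))))
        obtain ⟨i, hi⟩ := mem_zpowers_iff.1 (mem_subgroupOf.1 hx)
        exact ⟨i, Subtype.ext (by simpa using hi)⟩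
      · rintro y ⟨i, rfl⟩ g
        have hmem : g * (aM : S) * g⁻¹ ∈ M := hMn.conj_mem _ aM.2 g
        have hord : orderOf (⟨_, hmem⟩ : M) = 2 ^ m := by
          rw [orderOf_mk, show g * (aM : S) * g⁻¹ = MulAut.conj g aM from rfl, MulEquiv.orderOf_eq,
            orderOf_coe, haM]
        obtain ⟨j, hj⟩ := mem_zpowers_iff.1 (hchar _ hord)
        refine ⟨j * i, ?_⟩
        show (aM : S) ^ (j * i) = g * (aM : S) ^ i * g⁻¹
        rw [← conj_zpow, zpow_mul, ← SubgroupClass.coe_zpow, hj]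
      · exact congrArg Subtype.val hrM
    · -- quaternion group of order eight
      push Not at hchar
      obtain ⟨x₀, hx₀, hx₀n⟩ := hchar
      have hm2 : m = 2 := by
        have h := orderOf_dvd_of_pow_eq_one (hout x₀ hx₀n)
        rw [hx₀, show (4 : ℕ) = 2 ^ 2 by norm_num, Nat.pow_dvd_pow_iff_le_right (by norm_num)] at h
        omega
      subst hm2
      have hx02 : x₀ ^ 2 = aM ^ 2 := by
        obtain ⟨j, hj⟩ := mem_zpowers_iff.1 (hiM ▸ pow_index_mem (zpowers aM) x₀ : x₀ ^ 2 ∈ zpowers aM)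
        have h2 : (aM ^ j) ^ (2 : ℤ) = 1 := by
          rw [hj, zpow_ofNat, ← pow_mul, show 2 * 2 = orderOf x₀ by rw [hx₀]; norm_num, pow_orderOf_eq_one]
        rw [← zpow_mul, ← orderOf_dvd_iff_zpow_eq_one, haM] at h2
        have h3 : aM ^ j ≠ 1 := fun h => by
          rw [hj] at h
          have := orderOf_dvd_of_pow_eq_one h
          rw [hx₀] at this
          exact absurd (Nat.le_of_dvd (by norm_num) this) (by norm_num)
        rw [Ne, ← orderOf_dvd_iff_zpow_eq_one, haM] at h3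
        push_cast at h2 h3
        rw [← hj, ← zpow_natCast, zpow_eq_zpow_iff_modEq, haM, Int.modEq_iff_dvd]
        push_cast
        omega
      have hsq : ∀ x : M, x ∉ zpowers aM → x ^ 2 = aM ^ 2 := fun x hx => by
        obtain ⟨i, hi⟩ := mem_zpowers_iff.1 ((Subgroup.mul_mem_iff_of_index_two hiM).2
          (iff_of_false (fun h => hx₀n ((inv_mem_iff).1 h)) hx) : x₀⁻¹ * x ∈ zpowers aM)
        have hc : x₀ * aM * x₀⁻¹ = aM⁻¹ := by
          rw [hconjM x₀ hx₀n, ← zpow_natCast, ← zpow_neg_one, zpow_eq_zpow_iff_modEq, haM,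
            Int.modEq_iff_dvd]
          push_cast
          omega
        have hc2 : x₀⁻¹ * aM * x₀ = aM⁻¹ := by
          have h := congrArg (fun y => x₀⁻¹ * y⁻¹ * x₀) hc
          simp [mul_assoc] at h
          simpa [mul_assoc] using h.symm
        rw [show x = x₀ * aM ^ i by rw [hi, mul_inv_cancel_left], pow_two,
          show x₀ * aM ^ i * (x₀ * aM ^ i) = x₀ * x₀ * ((x₀⁻¹ * aM ^ i * x₀) * aM ^ i) by group,
          show x₀⁻¹ * aM ^ i * x₀ = (x₀⁻¹ * aM * x₀) ^ i by
            simpa using (conj_zpow (i := i) (a := x₀⁻¹) (b := aM)).symm,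
          hc2, inv_zpow, inv_mul_cancel, mul_one, ← pow_two, hx02]
      haveI hZn : ((center M).map M.subtype).Normal := inferInstance
      haveI := hS.isNilpotent
      have hlt : (center M).map M.subtype < M := by
        refine lt_of_le_of_ne (map_subtype_le _) fun h => hb_not ?_
        have h1 : center M = ⊤ := map_injective M.subtype_injective
          (by rw [h, ← MonoidHom.range_eq_map, range_subtype])
        exfalso
        have h2 : bM * aM * bM⁻¹ = aM := mul_inv_eq_of_eq_mul (mem_center_iff.1 (h1 ▸ mem_top aM) bM)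
        rw [h2] at hrM
        have h3 : aM ^ r = aM ^ 1 := by rw [pow_one, ← hrM]
        rw [pow_eq_pow_iff_modEq, haM] at h3
        have : r % 4 = 1 % 4 := h3
        omega
      obtain ⟨x, hxM, hxZ, hxc⟩ := CfsgLib.PGroupBasic.exists_central_mod _ _ hlt
      set xM : M := ⟨x, hxM⟩
      have hxsq : xM ^ 2 = aM ^ 2 ∧ orderOf xM = 2 ^ 2 := by
        by_cases h : xM ∈ zpowers aM
        · obtain ⟨i, hi⟩ := mem_zpowers_iff.1 h
          have hodd : ¬ (2 : ℤ) ∣ i := by
            rintro ⟨k, rfl⟩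
            refine hxZ ⟨xM, ?_, rfl⟩
            rw [SetLike.mem_coe, mem_center_iff]
            intro g
            rw [← hi, zpow_mul]
            have hcc : Commute g (aM ^ (2 : ℤ)) := by
              by_cases hg : g ∈ zpowers aM
              · obtain ⟨l, rfl⟩ := hg; exact (Commute.refl aM).zpow_zpow l 2
              · rw [zpow_ofNat, ← hsq g hg]; exact Commute.self_pow g 2
            exact (hcc.zpow_right k).eq
          refine ⟨?_, ?_⟩
          · rw [← hi, ← zpow_natCast, ← zpow_natCast, ← zpow_mul, zpow_eq_zpow_iff_modEq, haM,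
              Int.modEq_iff_dvd]
            push_cast
            omega
          · rw [← hi]
            refine orderOf_eq_prime_pow (n := 1) ?_ ?_
            · rw [pow_one, ← zpow_natCast, ← zpow_mul, ← orderOf_dvd_iff_zpow_eq_one, haM]
              push_cast
              omega
            · rw [← zpow_natCast, ← zpow_mul, ← orderOf_dvd_iff_zpow_eq_one, haM]
              exact dvd_mul_left _ _
        · refine ⟨hsq xM h, orderOf_eq_prime_pow (n := 1) ?_ ?_⟩
          · rw [pow_one, hsq xM h]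
            exact fun h1 => by
              have := orderOf_dvd_of_pow_eq_one h1
              rw [haM] at this
              exact absurd (Nat.le_of_dvd (by norm_num) this) (by norm_num)
          · exact hout xM h
      have hxcard : (zpowers xM).index = 2 := by
        have h := (zpowers xM).card_mul_index
        rw [Nat.card_zpowers, hxsq.2, hMcard] at h
        omega
      have hxconj : ∀ g : S, x * g * x⁻¹ * g⁻¹ ∈ zpowers x := fun g => by
        obtain ⟨z, hz, hzeq⟩ := hxc g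
        rw [← hzeq]
        have hz2 : z ∈ zpowers xM := by
          by_contra hzn
          -- the centre is contained in every subgroup of index two
          have hz' : ∀ w : M, Commute z w := fun w => (mem_center_iff.1 hz w).symm
          have h3 : ∀ w : M, Commute xM w := by
            intro w
            by_cases hw : w ∈ zpowers xM
            · obtain ⟨l, rfl⟩ := hw; exact (Commute.refl xM).zpow_right l
            · obtain ⟨l, hl⟩ := mem_zpowers_iff.1 ((Subgroup.mul_mem_iff_of_index_two hxcard).2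
                (iff_of_false (fun h => hzn ((inv_mem_iff).1 h)) hw) : z⁻¹ * w ∈ zpowers xM)
              rw [show w = z * xM ^ l by rw [hl, mul_inv_cancel_left]]
              exact ((hz' xM).symm).mul_right ((Commute.refl xM).zpow_right l)
          exact hxZ ⟨xM, mem_center_iff.2 fun w => (h3 w).symm.eq, rfl⟩
        obtain ⟨l, rfl⟩ := hz2
        exact ⟨l, by simp [xM]⟩
      have hnot : ∃ w : M, w ∉ zpowers xM := by
        by_contra! h
        rw [(eq_top_iff' _).2 h, index_top] at hxcard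
        omega
      obtain ⟨w, hw⟩ := hnot
      obtain ⟨r', hr', hsq', -⟩ := index_two_conj hxsq.2 (hS.to_subgroup M) hxcard w
      refine ⟨x, hxM, by rw [← orderOf_mk x hxM]; exact hxsq.2, ?_, ⟨?_⟩, w, w.2, r',
        congrArg Subtype.val hr', ?_⟩
      · rw [relIndex, ← hxcard]
        congr 1
        refine le_antisymm (fun y hy => ?_) (zpowers_le.2 (mem_subgroupOf.2 (mem_zpowers x)))
        obtain ⟨i, hi⟩ := mem_zpowers_iff.1 (mem_subgroupOf.1 hy)
        exact ⟨i, Subtype.ext (by simpa [xM] using hi)⟩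
      · rintro y ⟨i, rfl⟩ g
        show g * x ^ i * g⁻¹ ∈ zpowers x
        rw [← conj_zpow]
        refine zpow_mem ?_ i
        have h := mul_mem (inv_mem (hxconj g)) (mem_zpowers x)
        simpa [mul_assoc] using h
      · have h4 : (r' * r') % 4 = 1 % 4 := hsq'
        rw [Nat.mul_mod] at h4
        by_contra h3
        have hr1 : r' % 4 = 1 := by
          rcases (show r' % 4 = 0 ∨ r' % 4 = 1 ∨ r' % 4 = 2 by omega) with h | h | h <;>
            rw [h] at h4 <;> omega
        apply hxZ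
        refine ⟨xM, mem_center_iff.2 fun g => ?_, rfl⟩
        have hwx : Commute w xM := by
          have hp : xM ^ r' = xM ^ 1 := by
            rw [pow_eq_pow_iff_modEq, hxsq.2]
            exact (show r' % 4 = 1 % 4 from hr1)
          rw [hp, pow_one, mul_inv_eq_iff_eq_mul] at hr'
          exact hr'
        by_cases hg : g ∈ zpowers xM
        · obtain ⟨l, rfl⟩ := hg; exact ((Commute.refl xM).zpow_left l).eq
        · obtain ⟨l, hl⟩ := mem_zpowers_iff.1 ((Subgroup.mul_mem_iff_of_index_two hxcard).2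
            (iff_of_false (fun h => hw ((inv_mem_iff).1 h)) hg) : w⁻¹ * g ∈ zpowers xM)
          rw [show g = w * xM ^ l by rw [hl, mul_inv_cancel_left]]
          exact (hwx.mul_left ((Commute.refl xM).zpow_left l)).eq
  haveI := hanorm
  set C := zpowers a with hCdef
  have hCM : C ≤ M := zpowers_le.2 haM'
  have hMcard : Nat.card M = 2 ^ (m + 1) := by
    have h := (C.subgroupOf M).card_mul_index
    rw [Nat.card_congr (subgroupOfEquivOfLe hCM).toEquiv, Nat.card_zpowers, ha] at h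
    rw [pow_succ, ← h]; congr 1
  have hScard : Nat.card S = 2 ^ (m + 2) := by
    have h := M.card_mul_index
    rw [hMi, hMcard] at h
    rw [pow_succ]; omega
  -- exponents of the action
  have hexp : ∀ g : S, ∃ q : ℕ, g * a * g⁻¹ = a ^ q := fun g => by
    obtain ⟨q, hq⟩ := mem_powers_iff_mem_zpowers.mpr (hanorm.conj_mem a (mem_zpowers a) g)
    exact ⟨q, hq.symm⟩
  have hmod4 : ∀ k l : ℕ, a ^ k = a ^ l → k % 4 = l % 4 := fun k l h => by
    rw [pow_eq_pow_iff_modEq, ha] at h
    exact (h.of_dvd (pow_dvd_pow 2 hm) : k ≡ l [MOD 2 ^ 2])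
  have hbC : b ∉ C := fun h => by
    obtain ⟨i, rfl⟩ := h
    rw [mul_inv_eq_of_eq_mul (Commute.zpow_self a i).eq] at hr
    have := hmod4 r 1 (by rw [pow_one, ← hr])
    omega
  have hMdec : ∀ x ∈ M, x ∈ C ∨ ∀ q : ℕ, x * a * x⁻¹ = a ^ q → q % 4 = 3 := by
    intro x hx
    by_cases hxC : x ∈ C
    · exact Or.inl hxC
    refine Or.inr fun q hq => ?_
    have hi2 : (C.subgroupOf M).index = 2 := hai
    have h1 : (⟨b, hbM⟩⁻¹ * ⟨x, hx⟩ : M) ∈ C.subgroupOf M :=
      (Subgroup.mul_mem_iff_of_index_two hi2).2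
        (iff_of_false (fun h => hbC (mem_subgroupOf.1 ((inv_mem_iff).1 h))) hxC)
    obtain ⟨i, hi⟩ := mem_zpowers_iff.1 (mem_subgroupOf.1 h1)
    have hx' : x = b * a ^ i := by rw [hi]; simp
    rw [hx', show b * a ^ i * a * (b * a ^ i)⁻¹ = b * (a ^ i * a * (a ^ i)⁻¹) * b⁻¹ by group,
      mul_inv_eq_of_eq_mul (Commute.zpow_self a i).eq, hr] at hq
    rw [← hmod4 _ _ hq]; exact hr4
  have hmul : ∀ g h : S, ∀ q q' : ℕ, g * a * g⁻¹ = a ^ q → h * a * h⁻¹ = a ^ q' →
      g * h * a * (g * h)⁻¹ = a ^ (q * q') := fun g h q q' hq hq' => by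
    rw [show g * h * a * (g * h)⁻¹ = g * (h * a * h⁻¹) * g⁻¹ by group, hq', ← conj_pow, hq, ← pow_mul]
  -- an element outside `M` acting with exponent one mod four
  obtain ⟨s, hsM, q, hq, hq4⟩ : ∃ s, s ∉ M ∧ ∃ q : ℕ, s * a * s⁻¹ = a ^ q ∧ q % 4 = 1 := by
    obtain ⟨s₀, hs₀⟩ : ∃ s, s ∉ M := by
      by_contra! h
      exact hM.1 ((eq_top_iff' _).2 h)
    obtain ⟨q, hq⟩ := hexp s₀
    have hodd : q % 2 = 1 := by
      obtain ⟨q', hq'⟩ := hexp s₀⁻¹
      have h := hmul _ _ _ _ hq hq'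
      rw [mul_inv_cancel, one_mul, inv_one, mul_one] at h
      have := hmod4 (q * q') 1 (by rw [pow_one, ← h])
      rw [Nat.mul_mod] at this
      rcases (show q % 4 = 0 ∨ q % 4 = 2 ∨ q % 2 = 1 by omega) with h | h | h
      · rw [h] at this; omega
      · rw [h] at this; omega
      · exact h
    rcases (show q % 4 = 1 ∨ q % 4 = 3 by omega) with h | h
    · exact ⟨s₀, hs₀, q, hq, h⟩
    · refine ⟨s₀ * b, fun h' => hs₀ ((M.mul_mem_cancel_right hbM).1 h'), q * r,
        hmul _ _ _ _ hq hr, ?_⟩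
      rw [Nat.mul_mod, h, hr4]
  have hs2M : s * s ∈ M := by rw [← pow_two]; exact hMi ▸ pow_index_mem M s
  obtain ⟨c, hc⟩ : s * s ∈ C := by
    rcases hMdec _ hs2M with h | h
    · exact h
    · have := h _ (hmul _ _ _ _ hq hq)
      rw [Nat.mul_mod, hq4] at this
      omega
  have hc : a ^ c = s * s := hc
  obtain ⟨c', rfl | rfl⟩ := Int.even_or_odd' c
  swap
  · -- a cyclic subgroup of index two
    refine str_of_cyclic hS hH hna (a := s) ?_
    have hCs : C ≤ zpowers s := by
      refine zpowers_le.2 ?_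
      obtain ⟨u, v, huv⟩ : IsCoprime (2 * c' + 1) ((2 ^ m : ℕ) : ℤ) := by
        push_cast
        exact IsCoprime.pow_right ⟨1, -c', by ring⟩
      have h1 : a = (s * s) ^ u := by
        rw [← hc, ← zpow_mul]
        conv_lhs => rw [← zpow_one a, ← huv]
        rw [zpow_add, mul_comm u, mul_comm v, zpow_mul a ((2 ^ m : ℕ) : ℤ), zpow_natCast, ← ha,
          pow_orderOf_eq_one, one_zpow, mul_one]
      rw [h1]
      exact zpow_mem (mul_mem (mem_zpowers s) (mem_zpowers s)) u
    have hlt : C < zpowers s := lt_of_le_of_ne hCs fun e => hsM (hCM (e.ge (mem_zpowers s)))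
    have hne : zpowers s ≠ ⊤ := fun h => hna ⟨⟨fun u v => Subtype.ext (by
      obtain ⟨i, hi⟩ := mem_zpowers_iff.1 (h.ge (mem_top (u : S)))
      obtain ⟨j, hj⟩ := mem_zpowers_iff.1 (h.ge (mem_top (v : S)))
      show (u : S) * v = v * u
      rw [← hi, ← hj, ← zpow_add, ← zpow_add, add_comm])⟩⟩
    obtain ⟨j, hj, hj'⟩ := (Nat.dvd_prime_pow Nat.prime_two).1
      (hScard ▸ (zpowers s).card_subgroup_dvd_card)
    have h1 : 2 ^ m < 2 ^ j := by
      rw [← hj', ← ha, ← Nat.card_zpowers]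
      exact CfsgLib.Solvable.card_lt_of_lt hlt
    have h2 : j ≠ m + 2 := fun e => hne (eq_top_of_card_eq _ (by rw [hj', hScard, e]))
    have h3 := (Nat.pow_lt_pow_iff_right (by norm_num)).1 h1
    have h4 := (zpowers s).card_mul_index
    rw [hj', hScard, show j = m + 1 by omega, pow_succ 2 (m + 1)] at h4
    exact Nat.eq_of_mul_eq_mul_left (Nat.two_pow_pos (m + 1)) h4
  -- an involution outside `M`
  exfalso
  obtain ⟨w, hw⟩ : ∃ w : ℤ, (q : ℤ) + 1 = 2 * (2 * w + 1) := ⟨((q : ℤ) - 1) / 4, by omega⟩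
  obtain ⟨u, v, huv⟩ : IsCoprime (2 * w + 1) ((2 ^ m : ℕ) : ℤ) := by
    push_cast
    exact IsCoprime.pow_right ⟨1, -w, by ring⟩
  set t := a ^ (-(c' * u)) * s with htdef
  have hsconj : ∀ i : ℤ, s * a ^ i = a ^ ((q : ℤ) * i) * s := fun i => by
    rw [zpow_mul, zpow_natCast, ← hq, conj_zpow]; group
  have htt : t * t = 1 := by
    rw [htdef, show a ^ (-(c' * u)) * s * (a ^ (-(c' * u)) * s) =
      a ^ (-(c' * u)) * (s * a ^ (-(c' * u))) * s by group, hsconj,
      show a ^ (-(c' * u)) * (a ^ ((q : ℤ) * -(c' * u)) * s) * s =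
        a ^ (-(c' * u)) * a ^ ((q : ℤ) * -(c' * u)) * (s * s) by group, ← hc, ← zpow_add, ← zpow_add,
      ← orderOf_dvd_iff_zpow_eq_one, ha]
    exact ⟨2 * c' * v, by linear_combination (-(c' * u)) * hw + (-2 * c') * huv⟩
  have htM : t ∉ M := fun h => hsM ((M.mul_mem_cancel_left (zpow_mem haM' _)).1 h)
  have htq : t * a * t⁻¹ = a ^ q := by
    rw [htdef, show a ^ (-(c' * u)) * s * a * (a ^ (-(c' * u)) * s)⁻¹ =
      a ^ (-(c' * u)) * (s * a * s⁻¹) * (a ^ (-(c' * u)))⁻¹ by group, hq]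
    exact mul_inv_eq_of_eq_mul ((Commute.refl a).zpow_left _ |>.pow_right q).eq
  have htfix : ∀ y ∈ C, y ^ 4 = 1 → Commute t y := by
    intro y hy hy4
    obtain ⟨i, hi⟩ := mem_zpowers_iff.1 hy
    have e : t * y * t⁻¹ = y := by
      rw [← hi, ← conj_zpow, htq, ← zpow_natCast, ← zpow_mul, mul_comm, zpow_mul, zpow_natCast, hi]
      have : y ^ q = y ^ 1 := by
        rw [pow_eq_pow_iff_modEq]
        exact Nat.ModEq.of_dvd (orderOf_dvd_of_pow_eq_one hy4) (show q % 4 = 1 % 4 from hq4)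
      rwa [pow_one] at this
    exact mul_inv_eq_iff_eq_mul.1 e
  set z := a ^ 2 ^ (m - 1) with hzdef
  have hz2 : z * z = 1 := by
    rw [hzdef, ← pow_add, ← two_mul, ← pow_succ', Nat.sub_add_cancel (by omega), ← ha, pow_orderOf_eq_one]
  have hzC : z ∈ C := pow_mem (mem_zpowers a) _
  have hzt : Commute t z := htfix z hzC (by
    rw [show (4 : ℕ) = 2 * 2 by norm_num, pow_mul, pow_two z, hz2, one_pow])
  have hinv2 : ∀ y ∈ C, y * y = 1 → y = 1 ∨ y = z := by
    intro y hy hyy
    obtain ⟨i, hi⟩ := mem_zpowers_iff.1 hy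
    rw [← hi, ← zpow_add, ← orderOf_dvd_iff_zpow_eq_one, ha, ← two_mul] at hyy
    have h2 : ((2 : ℤ) ^ (m - 1)) ∣ i := by
      refine Int.dvd_of_mul_dvd_mul_left (by norm_num : (2 : ℤ) ≠ 0) ?_
      rw [← pow_succ', Nat.sub_add_cancel (by omega)]
      exact_mod_cast hyy
    obtain ⟨k, rfl⟩ := h2
    rw [show (2 : ℤ) ^ (m - 1) = ((2 ^ (m - 1) : ℕ) : ℤ) by push_cast; rfl, zpow_mul, zpow_natCast,
      ← hzdef] at hi
    rcases Int.even_or_odd' k with ⟨l, rfl | rfl⟩
    · left; rw [← hi, zpow_mul, zpow_two, hz2, one_zpow]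
    · right; rw [← hi, zpow_add, zpow_mul, zpow_two, hz2, one_zpow, one_mul, zpow_one]
  have hgt : ∀ g : S, g * t * g⁻¹ = t ∨ g * t * g⁻¹ = z * t := by
    intro g
    have hw1 : g * t * g⁻¹ * t⁻¹ ∈ M := by
      refine (QuotientGroup.eq_one_iff _).1 ?_
      haveI : IsCyclic (S ⧸ M) := isCyclic_of_prime_card (p := 2) (by rw [← index_eq_card, hMi])
      have : IsMulCommutative (S ⧸ M) := inferInstance
      simp only [QuotientGroup.mk_mul, QuotientGroup.mk_inv]
      rw [this.is_comm.comm (g : S ⧸ M) t]; group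
    obtain ⟨qg, hqg⟩ := hexp g
    obtain ⟨qg', hqg'⟩ := hexp g⁻¹
    obtain ⟨qt, hqt⟩ := hexp t⁻¹
    have hwC : g * t * g⁻¹ * t⁻¹ ∈ C := by
      rcases hMdec _ hw1 with h | h
      · exact h
      · exfalso
        have h1 := h _ (hmul _ _ _ _ (hmul _ _ _ _ (hmul _ _ _ _ hqg htq) hqg') hqt)
        have e1 := hmul _ _ _ _ hqg hqg'
        rw [mul_inv_cancel, one_mul, inv_one, mul_one] at e1
        have e2 := hmul _ _ _ _ htq hqt
        rw [mul_inv_cancel, one_mul, inv_one, mul_one] at e2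
        have f1 := hmod4 (qg * qg') 1 (by rw [pow_one, ← e1])
        have f2 := hmod4 (q * qt) 1 (by rw [pow_one, ← e2])
        rw [show qg * q * qg' * qt = (qg * qg') * (q * qt) by ring, Nat.mul_mod, f1, f2] at h1
        omega
    obtain ⟨y, hy⟩ := mem_zpowers_iff.1 hwC
    have hgt' : g * t * g⁻¹ = a ^ y * t := by rw [hy]; group
    have hy2 : a ^ y * (t * a ^ y * t⁻¹) = 1 := by
      have h : (g * t * g⁻¹) * (g * t * g⁻¹) = 1 := by
        rw [show g * t * g⁻¹ * (g * t * g⁻¹) = g * (t * t) * g⁻¹ by group, htt]; group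
      rw [hgt'] at h
      have ht' : t⁻¹ = t := inv_eq_of_mul_eq_one_right htt
      rw [ht', ← h]; group
    rw [← conj_zpow, htq, ← zpow_natCast a q, ← zpow_mul, ← zpow_add, ← orderOf_dvd_iff_zpow_eq_one,
      ha, show y + (q : ℤ) * y = (2 * y) * (2 * w + 1) by linear_combination y * hw] at hy2
    push_cast at hy2
    have h3 : (2 : ℤ) ^ m ∣ 2 * y :=
      (IsCoprime.pow_left (⟨-w, 1, by ring⟩ : IsCoprime (2 : ℤ) (2 * w + 1))).dvd_of_dvd_mul_right hy2
    have h4 : a ^ y * a ^ y = 1 := by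
      rw [← zpow_add, ← orderOf_dvd_iff_zpow_eq_one, ha, ← two_mul]
      exact_mod_cast h3
    rcases hinv2 _ (zpow_mem (mem_zpowers a) y) h4 with h | h
    · left; rw [hgt', h, one_mul]
    · right; rw [hgt', h]
  -- the element of order four of `H` in `C`
  have hKc : Nat.card (H ⊓ C : Subgroup S) = 4 := by
    have h1 : 4 ≤ Nat.card (H ⊓ C : Subgroup S) := by
      have h := Subgroup.card_mul_index ((H ⊓ C).subgroupOf H)
      rw [Nat.card_congr (subgroupOfEquivOfLe inf_le_left).toEquiv, hH, show ((H ⊓ C).subgroupOf H).index = (H ⊓ C).relIndex H from rfl, inf_relIndex_left] at h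
      have h2 : C.relIndex H ≤ 2 := hai ▸ relIndex_le_of_le_right hHM (by rw [hai]; norm_num)
      by_contra h3
      push Not at h3
      have : Nat.card (H ⊓ C : Subgroup S) * C.relIndex H ≤ 3 * 2 := Nat.mul_le_mul (by omega) h2
      omega
    have h8 : Nat.card (H ⊓ C : Subgroup S) ∣ 8 := hH ▸ card_dvd_of_le inf_le_left
    have hne : Nat.card (H ⊓ C : Subgroup S) ≠ 8 := fun h => hna ⟨⟨fun x y => Subtype.ext (by
      have he : H ⊓ C = H := eq_of_le_of_card_ge inf_le_left (by rw [h, hH])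
      obtain ⟨i, hi⟩ := mem_zpowers_iff.1 (he.ge x.2).2
      obtain ⟨j, hj⟩ := mem_zpowers_iff.1 (he.ge y.2).2
      show (x : S) * y = y * x
      rw [← hi, ← hj, ← zpow_add, ← zpow_add, add_comm])⟩⟩
    have h8le := Nat.le_of_dvd (by norm_num) h8
    interval_cases (Nat.card (H ⊓ C : Subgroup S)) <;> omega
  haveI : IsCyclic (H ⊓ C : Subgroup S) :=
    isCyclic_of_injective (Subgroup.inclusion inf_le_right) (Subgroup.inclusion_injective _)
  obtain ⟨y', hy'⟩ := IsCyclic.exists_ofOrder_eq_natCard (α := (H ⊓ C : Subgroup S))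
  set y : S := (y' : S) with hydef
  have hy4 : orderOf y = 4 := by rw [hydef, orderOf_coe, hy', hKc]
  have hyC : y ∈ C := y'.2.2
  have hyt : Commute t y := htfix y hyC (hy4 ▸ pow_orderOf_eq_one y)
  obtain ⟨g₀, hg₀, hg₀C⟩ : ∃ g ∈ H, g ∉ C := by
    by_contra! h
    rw [inf_eq_left.2 h] at hKc
    omega
  set L := closure ({y, g₀} : Set S) with hL
  have hLH : L = H := by
    have hle : L ≤ H := (closure_le _).2 (by
      rintro x (rfl | rfl)
      exacts [y'.2.1, hg₀])
    refine eq_of_le_of_card_ge hle ?_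
    have h4 : zpowers y ≤ L := zpowers_le.2 (subset_closure (Set.mem_insert _ _))
    have hlt : zpowers y < L := lt_of_le_of_ne h4 fun e =>
      hg₀C ((zpowers_le.2 hyC : zpowers y ≤ C) (e.ge (subset_closure (Set.mem_insert_of_mem _ rfl))))
    have h5 := CfsgLib.Solvable.card_lt_of_lt hlt
    rw [Nat.card_zpowers, hy4] at h5
    have h6 := card_dvd_of_le hle
    rw [hH] at h6 ⊢
    have h8le := Nat.le_of_dvd (by norm_num) h6
    interval_cases (Nat.card L) <;> omega
  have hcent : ∀ x : S, Commute x y → Commute x g₀ → x ∈ M := fun x h1 h2 => by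
    refine hHM (hC ?_)
    rw [← hLH, hL, Subgroup.centralizer_closure]
    rw [mem_centralizer_iff]
    rintro h (rfl | rfl)
    · exact h1.eq.symm
    · exact h2.eq.symm
  rcases hgt g₀ with hg | hg
  · exact htM (hcent t hyt (mul_inv_eq_iff_eq_mul.1 hg).symm)
  · obtain ⟨q₀, hq₀⟩ := hexp g₀
    have hq₀4 : q₀ % 4 = 3 := ((hMdec g₀ (hHM hg₀)).resolve_left hg₀C) q₀ hq₀
    have hy2 : y * y = z := by
      refine (hinv2 _ (mul_mem hyC hyC) ?_).resolve_left fun h => ?_
      · rw [show y * y * (y * y) = y ^ 4 by simp [pow_succ, mul_assoc], ← hy4, pow_orderOf_eq_one]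
      · have h' : y ^ 2 = 1 := by rw [pow_two, h]
        have := orderOf_dvd_of_pow_eq_one h'
        rw [hy4] at this
        omega
    have hgy : g₀ * y * g₀⁻¹ = z * y := by
      obtain ⟨i, hi⟩ := mem_zpowers_iff.1 hyC
      rw [← hi, ← conj_zpow, hq₀, ← zpow_natCast, ← zpow_mul, mul_comm, zpow_mul, zpow_natCast, hi]
      have : y ^ q₀ = y ^ 3 := by
        rw [pow_eq_pow_iff_modEq, hy4]
        exact (show q₀ % 4 = 3 % 4 from hq₀4)
      rw [this, ← hy2, pow_succ, pow_two]
    have hw : g₀ * (t * y) * g₀⁻¹ = t * y := by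
      calc g₀ * (t * y) * g₀⁻¹ = (g₀ * t * g₀⁻¹) * (g₀ * y * g₀⁻¹) := by group
        _ = z * t * z * y := by rw [hg, hgy]; group
        _ = z * z * (t * y) := by rw [mul_assoc z t z, hzt.eq]; group
        _ = t * y := by rw [hz2, one_mul]
    exact htM ((M.mul_mem_cancel_right (hCM hyC)).1
      (hcent (t * y) (hyt.mul_left (Commute.refl y)) (mul_inv_eq_iff_eq_mul.1 hw).symm))

/-- Sectional rank two and a non-abelian subgroup of order eight force maximal class. -/
theorem dsq_of_rank {S : Type u} [Group S] [Finite S] (hS : IsPGroup 2 S)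
    (hr : Cfsg.SectionalPRankLE 2 2 S) {H : Subgroup S} (hH : Nat.card H = 8)
    (hna : ¬ IsMulCommutative H) : DSQ S := by
  classical
  have hH2 : IsPGroup 2 H := IsPGroup.of_card (n := 3) (hH.trans (by norm_num))
  -- squares and commutators of `H` are central
  have hZ : 4 ≤ (center H).index := CfsgLib.AbelianIndexP.le_index_center (p := 2) hH2 hna
  have hZ2 : Nat.card (center H) = 2 := by
    haveI := hH2.isNilpotent
    haveI : Nontrivial H := Finite.one_lt_card_iff_nontrivial.1 (by omega)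
    have h := (center H).card_mul_index
    rw [hH] at h
    have h1 : 1 < Nat.card (center H) := by
      rw [Finite.one_lt_card_iff_nontrivial, nontrivial_iff_ne_bot]
      have := CfsgLib.PGroupBasic.inf_center_ne_bot (⊤ : Subgroup H) top_ne_bot
      rwa [top_inf_eq] at this
    by_contra h2
    have : 3 * 4 ≤ Nat.card (center H) * (center H).index := Nat.mul_le_mul (by omega) hZ
    omega
  have hQ4 : Nat.card (H ⧸ center H) = 4 := by
    have h := (center H).card_mul_index
    rw [hZ2, hH, index_eq_card] at h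
    omega
  have hQsq : ∀ g : H ⧸ center H, g * g = 1 := by
    intro g
    by_contra hg
    have hcyc : IsCyclic (H ⧸ center H) := by
      obtain ⟨i, hi, hi'⟩ := (Nat.dvd_prime_pow Nat.prime_two).1
        (show orderOf g ∣ 2 ^ 2 from (orderOf_dvd_natCard g).trans (dvd_of_eq (hQ4.trans (by norm_num))))
      refine isCyclic_of_orderOf_eq_card g ?_
      by_contra hne
      rw [hQ4, hi'] at hne
      have : i ≠ 2 := fun e => hne (by rw [e]; norm_num)
      refine hg ?_
      rw [← pow_two]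
      refine orderOf_dvd_iff_pow_eq_one.1 ?_
      rw [hi']
      exact pow_dvd_pow 2 (by omega : i ≤ 1) |>.trans (by norm_num)
    exact hna ⟨⟨(commGroupOfCyclicCenterQuotient (QuotientGroup.mk' (center H))
      (by rw [QuotientGroup.ker_mk'])).mul_comm⟩⟩
  have hQc : ∀ g h : H ⧸ center H, g * h = h * g := fun g h => by
    have e := fun x : H ⧸ center H => inv_eq_of_mul_eq_one_right (hQsq x)
    calc g * h = (g * h)⁻¹ := (e _).symm
      _ = h⁻¹ * g⁻¹ := mul_inv_rev _ _
      _ = h * g := by rw [e, e]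
  -- the centralizer lies in `H`
  have hC : centralizer (H : Set S) ≤ H := by
    intro x hx
    by_contra hxH
    obtain ⟨n, hn⟩ := hS x
    obtain ⟨t, htC, htH, htt⟩ : ∃ t, t ∈ centralizer (H : Set S) ∧ t ∉ H ∧ t ^ 2 ∈ H := by
      clear hr
      induction n generalizing x with
      | zero => exact absurd (by rw [pow_zero, pow_one] at hn; exact hn ▸ one_mem H) hxH
      | succ n ihn =>
        by_cases h2 : x ^ 2 ∈ H
        · exact ⟨x, hx, hxH, h2⟩
        · exact ihn (pow_mem hx 2) h2 (by rw [← pow_mul, ← pow_succ', hn])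
    set K := H ⊔ zpowers t
    set Z := (center H).map H.subtype
    have hZc : ∀ z ∈ Z, ∀ k ∈ K, Commute z k := by
      rintro _ ⟨z, hz, rfl⟩ k hk
      have h1 : K ≤ centralizer {(z : S)} := sup_le (fun h hh => mem_centralizer_singleton_iff.2
        (congrArg Subtype.val (mem_center_iff.1 hz ⟨h, hh⟩)))
        (zpowers_le.2 (mem_centralizer_singleton_iff.2 ((mem_centralizer_iff.1 htC z z.2).symm)))
      exact (mem_centralizer_singleton_iff.1 (h1 hk)).symm
    haveI hN : (Z.subgroupOf K).Normal := ⟨fun z hz g => by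
      rw [show g * z * g⁻¹ = z from mul_inv_eq_of_eq_mul
        (Subtype.ext (hZc z (mem_subgroupOf.1 hz) g g.2).symm)]
      exact hz⟩
    let π := QuotientGroup.mk' (Z.subgroupOf K)
    have hgenK : ∀ P : Subgroup K, (∀ h (hh : h ∈ H), (⟨h, mem_sup_left hh⟩ : K) ∈ P) →
        (⟨t, mem_sup_right (mem_zpowers t)⟩ : K) ∈ P → ∀ k : K, k ∈ P := by
      intro P h1 h2 k
      have : K ≤ P.map K.subtype := sup_le (fun h hh => ⟨_, h1 h hh, rfl⟩) (zpowers_le.2 ⟨_, h2, rfl⟩)
      obtain ⟨k', hk', e⟩ := this k.2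
      rwa [← (Subtype.ext e : k' = k)]
    have hmemZ : ∀ u : H, u ∈ center H → π ⟨u, mem_sup_left u.2⟩ = 1 := fun u hu =>
      (QuotientGroup.eq_one_iff _).2 (mem_subgroupOf.2 (mem_map_of_mem _ hu))
    have hcomm : ∀ u v : K, Commute (π u) (π v) := by
      have h1 : ∀ h (hh : h ∈ H), ∀ v : K, Commute (π ⟨h, mem_sup_left hh⟩) (π v) := fun h hh v => by
        refine (show v ∈ (centralizer {π ⟨h, mem_sup_left hh⟩}).comap π from hgenK _ (fun h' hh' => ?_) ?_ v)
          |> mem_centralizer_singleton_iff.1 |>.symm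
        · rw [mem_comap, mem_centralizer_singleton_iff, ← map_mul, ← map_mul]
          have e := hQc ((⟨h', hh'⟩ : H) : H ⧸ center H) ((⟨h, hh⟩ : H) : H ⧸ center H)
          rw [← QuotientGroup.mk_mul, ← QuotientGroup.mk_mul, QuotientGroup.eq] at e
          refine QuotientGroup.eq.2 (mem_subgroupOf.2 ?_)
          exact ⟨_, e, rfl⟩
        · rw [mem_comap, mem_centralizer_singleton_iff, ← map_mul, ← map_mul]
          exact congrArg π (Subtype.ext (mem_centralizer_iff.1 htC h hh).symm)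
      intro u v
      refine (show u ∈ (centralizer {π v}).comap π from hgenK _ (fun h hh => ?_) ?_ u)
        |> mem_centralizer_singleton_iff.1
      · rw [mem_comap, mem_centralizer_singleton_iff]; exact (h1 h hh v).eq
      · rw [mem_comap, mem_centralizer_singleton_iff]
        refine (show v ∈ (centralizer {π ⟨t, mem_sup_right (mem_zpowers t)⟩}).comap π from
          hgenK _ (fun h hh => ?_) ?_ v) |> mem_centralizer_singleton_iff.1 |>.symm
        · rw [mem_comap, mem_centralizer_singleton_iff]; exact (h1 h hh _).eq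
        · rw [mem_comap, mem_centralizer_singleton_iff]
    have hexp : ∀ u : K, π u ^ 2 = 1 := by
      let P : Subgroup K :=
        { carrier := {u | π u ^ 2 = 1}
          one_mem' := by simp
          mul_mem' := fun {u v} hu hv => by
            show π (u * v) ^ 2 = 1
            rw [map_mul, (hcomm u v).mul_pow, hu, hv, one_mul]
          inv_mem' := fun {u} hu => by
            show π u⁻¹ ^ 2 = 1
            rw [map_inv, inv_pow, hu, inv_one] }
      refine hgenK P (fun h hh => ?_) ?_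
      · show π _ ^ 2 = 1
        rw [← map_pow]
        have e := hQsq ((⟨h, hh⟩ : H) : H ⧸ center H)
        rw [← QuotientGroup.mk_mul, QuotientGroup.eq_one_iff] at e
        refine (congrArg π (Subtype.ext ?_)).trans (hmemZ _ e)
        simp [pow_two]
      · show π _ ^ 2 = 1
        rw [← map_pow]
        refine (congrArg π (Subtype.ext ?_)).trans (hmemZ ⟨t ^ 2, htt⟩ (mem_center_iff.2 fun g => Subtype.ext ?_))
        · simp
        · exact (mem_centralizer_iff.1 (pow_mem htC 2) g g.2)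
    have hbound := hr K (Z.subgroupOf K) ⊤
      ⟨⟨fun u v => Subtype.ext (by
        obtain ⟨u', hu⟩ := QuotientGroup.mk'_surjective (Z.subgroupOf K) u.1
        obtain ⟨v', hv⟩ := QuotientGroup.mk'_surjective (Z.subgroupOf K) v.1
        show u.1 * v.1 = v.1 * u.1
        rw [← hu, ← hv]
        exact (hcomm u' v').eq)⟩⟩
      (fun u _ => by
        obtain ⟨u, rfl⟩ := QuotientGroup.mk'_surjective _ u
        exact hexp u)
    rw [card_top] at hbound
    have h1 := (Z.subgroupOf K).card_mul_index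
    rw [Nat.card_congr (subgroupOfEquivOfLe ((map_subtype_le _).trans le_sup_left)).toEquiv,
      card_map_of_injective H.subtype_injective, hZ2, index_eq_card] at h1
    have h2 := CfsgLib.Solvable.card_lt_of_lt (show H < K from lt_of_le_of_ne le_sup_left fun e =>
      htH (e.ge (mem_sup_right (mem_zpowers t))))
    rw [hH] at h2
    omega
  obtain ⟨m, a, b, r, hm, ha, hi, hb, hr4⟩ := str_of_order_eight _ S le_rfl hS H hH hna hC
  exact dsq_of_cyclic hS hm ha hi hb hr4

end CfsgLib.TwoMax
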