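import Cfsg.Agent.Solvable.PGroupBasic
import Cfsg.Prelude.Def_CaseTheorems
import Cfsg.Prelude.Def_OddOrderLocal

/-!
2-groups of sectional rank two are metacyclic.
-/

set_option autoImplicit false
set_option linter.style.haveILetI false
set_option linter.unusedSectionVars false

namespace CfsgLib.TwoMetacyclic

open Subgroup
open scoped commutatorElement

variable {S : Type*} [Group S] [Finite S]

theorem exists_two_pow : ∀ (n : ℕ) (x y : ℤ), x.natAbs + y.natAbs ≤ n → (x ≠ 0 ∨ y ≠ 0) →
    ∃ (t : ℕ) (x' y' : ℤ), x = (2 : ℤ) ^ t * x' ∧ y = (2 : ℤ) ^ t * y' ∧ (Odd x' ∨ Odd y') := by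
  intro n
  induction n with
  | zero => intro x y h h'; omega
  | succ n ih =>
    intro x y h h'
    by_cases hodd : Odd x ∨ Odd y
    · exact ⟨0, x, y, by simp, by simp, hodd⟩
    push Not at hodd
    rw [Int.not_odd_iff_even, Int.not_odd_iff_even] at hodd
    obtain ⟨⟨u, rfl⟩, v, rfl⟩ := hodd
    obtain ⟨t, x', y', hx, hy, ho⟩ := ih u v (by omega) (by omega)
    exact ⟨t + 1, x', y', by rw [hx]; ring, by rw [hy]; ring, ho⟩

/-- Generators: replacing `a` by `a ^ x * b ^ y` with `x` odd. -/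
theorem closure_pair_eq_top (hS : IsPGroup 2 S) {a b w : S} (hgen : closure ({a, b} : Set S) = ⊤)
    {x y : ℤ} (hx : Odd x) (hw : w = a ^ x * b ^ y) : closure ({w, b} : Set S) = ⊤ := by
  refine eq_top_iff.2 (hgen ▸ (closure_le _).2 ?_)
  have hb : b ∈ closure ({w, b} : Set S) := subset_closure (Set.mem_insert_of_mem _ rfl)
  have hax : a ^ x ∈ closure ({w, b} : Set S) := by
    have h := mul_mem (subset_closure (Set.mem_insert w {b}) : w ∈ closure ({w, b} : Set S))
      (inv_mem (zpow_mem hb y))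
    subst hw
    rwa [mul_inv_cancel_right] at h
  rintro g (rfl | rfl)
  · obtain ⟨k, hk⟩ := IsPGroup.iff_orderOf.1 hS g
    obtain ⟨c, rfl⟩ := hx
    obtain ⟨u, v, huv⟩ : IsCoprime (2 * c + 1) ((2 ^ k : ℕ) : ℤ) := by
      push_cast
      exact IsCoprime.pow_right ⟨1, -c, by ring⟩
    have e : g = (g ^ (2 * c + 1)) ^ u := by
      rw [← zpow_mul]
      conv_lhs => rw [← zpow_one g, ← huv]
      rw [zpow_add, mul_comm u, mul_comm v, zpow_mul g ((2 ^ k : ℕ) : ℤ), zpow_natCast, ← hk,
        pow_orderOf_eq_one, one_zpow, mul_one]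
    rw [SetLike.mem_coe, e]
    exact zpow_mem hax u
  · exact hb

/-- A generating pair in a group of class two with commutator of order two. -/
structure Hyp (a b z : S) : Prop where
  gen : closure ({a, b} : Set S) = ⊤
  hz : z = a * b * a⁻¹ * b⁻¹
  hz2 : z * z = 1
  hz1 : z ≠ 1
  hzc : ∀ g : S, Commute z g

theorem swap_eq_top (u v : S) (h : closure ({u, v} : Set S) = ⊤) :
    closure ({v, u} : Set S) = ⊤ := by
  rw [Set.pair_comm]; exact h

theorem Hyp.comm_cases {a b z : S} (H : Hyp a b z) :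
    ∀ g ∈ ({a, b} : Set S), ∀ h : S, g * h * g⁻¹ * h⁻¹ = 1 ∨ g * h * g⁻¹ * h⁻¹ = z := by
  obtain ⟨hgen, hz, hz2, hz1, hzc⟩ := H
  intro g hg
  let P : Subgroup S :=
    { carrier := {h | g * h * g⁻¹ * h⁻¹ = 1 ∨ g * h * g⁻¹ * h⁻¹ = z}
      one_mem' := Or.inl (by group)
      mul_mem' := fun {u v} hu hv => by
        have e : g * (u * v) * g⁻¹ * (u * v)⁻¹ = (g * u * g⁻¹ * u⁻¹) * (u * (g * v * g⁻¹ * v⁻¹) * u⁻¹) := by group
        have ez : u * z * u⁻¹ = z := mul_inv_eq_of_eq_mul (hzc u).eq.symm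
        show g * (u * v) * g⁻¹ * (u * v)⁻¹ = 1 ∨ g * (u * v) * g⁻¹ * (u * v)⁻¹ = z
        rw [e]
        rcases hu with hu | hu <;> rcases hv with hv | hv <;> rw [hu, hv] <;>
          simp [ez, hz2]
      inv_mem' := fun {u} hu => by
        have e : g * u⁻¹ * g⁻¹ * u⁻¹⁻¹ = u⁻¹ * (g * u * g⁻¹ * u⁻¹)⁻¹ * u := by group
        show g * u⁻¹ * g⁻¹ * u⁻¹⁻¹ = 1 ∨ g * u⁻¹ * g⁻¹ * u⁻¹⁻¹ = z
        rw [e]
        rcases hu with hu | hu <;> rw [hu]
        · exact Or.inl (by group)
        · refine Or.inr ?_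
          rw [inv_eq_of_mul_eq_one_right hz2, mul_assoc, (hzc u).eq, inv_mul_cancel_left] }
  have : P = ⊤ := top_le_iff.1 (hgen ▸ (closure_le _).2 (by
    rintro h (rfl | rfl)
    · rcases hg with rfl | rfl
      · exact Or.inl (by group)
      · refine Or.inr ?_
        show g * h * g⁻¹ * h⁻¹ = z
        rw [← inv_eq_of_mul_eq_one_right hz2, hz]; group
    · rcases hg with rfl | rfl
      · exact Or.inr hz.symm
      · exact Or.inl (by group)))
  exact fun h => (this ▸ mem_top h : h ∈ P)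

theorem Hyp.sq_central {a b z : S} (H : Hyp a b z) :
    ∀ g ∈ ({a, b} : Set S), ∀ h : S, Commute (g ^ (2 : ℤ)) h := by
  have hab := H.comm_cases
  obtain ⟨hgen, hz, hz2, hz1, hzc⟩ := H
  intro g hg h
  rw [zpow_two]
  rcases hab g hg h with e | e
  · have : Commute g h := commutatorElement_eq_one_iff_mul_comm.1 (by rw [commutatorElement_def, e])
    exact this.mul_left this
  · have e1 : g * h * g⁻¹ = z * h := by rw [← e]; group
    refine mul_inv_eq_iff_eq_mul.1 ?_
    calc g * g * h * (g * g)⁻¹ = g * (g * h * g⁻¹) * g⁻¹ := by group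
      _ = g * (z * h) * g⁻¹ := by rw [e1]
      _ = g * z * g⁻¹ * (g * h * g⁻¹) := by group
      _ = z * (z * h) := by rw [mul_inv_eq_of_eq_mul (hzc g).eq.symm, e1]
      _ = h := by rw [← mul_assoc, hz2, one_mul]

theorem Hyp.sq_mul {a b z : S} (H : Hyp a b z) :
    ∀ i j : ℤ, (a ^ i * b ^ j) * (a ^ i * b ^ j) =
      a ^ (2 * i) * b ^ (2 * j) * (if Odd i ∧ Odd j then z else 1) := by
  have hsq := H.sq_central
  obtain ⟨hgen, hz, hz2, hz1, hzc⟩ := H
  have hga : a ∈ ({a, b} : Set S) := Set.mem_insert _ _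
  have hgb : b ∈ ({a, b} : Set S) := Set.mem_insert_of_mem _ rfl
  have key : ∀ i j : ℤ, b ^ j * a ^ i = a ^ i * b ^ j * (if Odd i ∧ Odd j then z else 1) := by
    intro i j
    have heven : ∀ g ∈ ({a, b} : Set S), ∀ k : ℤ, ∀ h : S, Commute (g ^ (2 * k)) h :=
      fun g hg k h => by rw [zpow_mul]; exact (hsq g hg h).zpow_left k
    rcases Int.even_or_odd' i with ⟨i', rfl | rfl⟩
    · rw [if_neg (fun h => (Int.not_odd_iff_even.2 (even_two_mul i')) h.1), mul_one]
      exact (heven a hga i' _).eq.symm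
    rcases Int.even_or_odd' j with ⟨j', rfl | rfl⟩
    · rw [if_neg (fun h => (Int.not_odd_iff_even.2 (even_two_mul j')) h.2), mul_one]
      exact (heven b hgb j' _).eq
    · rw [if_pos ⟨⟨i', rfl⟩, ⟨j', rfl⟩⟩, zpow_add, zpow_add, zpow_one, zpow_one]
      have e : b * a = a * b * z := by
        rw [(hzc (a * b)).eq.symm, hz]
        have hz' : z = b * a * b⁻¹ * a⁻¹ := by
          rw [← inv_eq_of_mul_eq_one_right hz2, hz]; group
        rw [← hz, hz']; group
      calc b ^ (2 * j') * b * (a ^ (2 * i') * a)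
          = b ^ (2 * j') * (b * a ^ (2 * i')) * a := by group
        _ = b ^ (2 * j') * a ^ (2 * i') * (b * a) := by rw [(heven a hga i' b).eq.symm]; group
        _ = a ^ (2 * i') * (b ^ (2 * j') * a) * b * z := by
          rw [(heven b hgb j' _).eq, e]; group
        _ = a ^ (2 * i') * a * (b ^ (2 * j') * b) * z := by rw [(heven b hgb j' a).eq]; group
  intro i j
  calc (a ^ i * b ^ j) * (a ^ i * b ^ j) = a ^ i * (b ^ j * a ^ i) * b ^ j := by group
    _ = a ^ i * a ^ i * b ^ j * ((if Odd i ∧ Odd j then z else 1) * b ^ j) := by rw [key]; group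
    _ = a ^ (2 * i) * b ^ (2 * j) * (if Odd i ∧ Odd j then z else 1) := by
      have : Commute (if Odd i ∧ Odd j then z else 1) (b ^ j) := by
        split
        · exact hzc _
        · exact Commute.one_left _
      rw [this.eq, two_mul, two_mul, zpow_add, zpow_add]; group

/-- If the commutator is no product of squares, then the squares generate the same subgroup. -/
theorem Hyp.dichotomy {a b z : S} (H : Hyp a b z) (hS : IsPGroup 2 S)
    (hr : Cfsg.SectionalPRankLE 2 2 S)
    (hzn : z ∉ zpowers (a ^ (2 : ℤ)) ⊔ zpowers (b ^ (2 : ℤ))) :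
    ∃ j : ℤ, Odd j ∧ a ^ (2 : ℤ) = b ^ (2 * j) := by
  have hsq := H.sq_central
  obtain ⟨hgen, hz, hz2, hz1, hzc⟩ := H
  have hswap := @swap_eq_top S _ _
  have hga : a ∈ ({a, b} : Set S) := Set.mem_insert _ _
  have hgb : b ∈ ({a, b} : Set S) := Set.mem_insert_of_mem _ rfl
  have hnb : Commute a b → False := fun h => hz1 (by rw [hz, h.eq]; group)
  have hcase : ∀ u v : S, u ∈ ({a, b} : Set S) → v ∈ ({a, b} : Set S) →
      closure ({u, v} : Set S) = ⊤ → z ∉ zpowers (u ^ (2 : ℤ)) ⊔ zpowers (v ^ (2 : ℤ)) →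
      u ^ (2 : ℤ) ∈ zpowers (v ^ (2 : ℤ)) := by
    intro u v hu hv huv hzuv
    by_contra hcon
    set U := zpowers (u ^ (4 : ℤ)) ⊔ zpowers (v ^ (2 : ℤ))
    set U1 := zpowers (u ^ (2 : ℤ)) ⊔ zpowers (v ^ (2 : ℤ))
    set U2 := U1 ⊔ zpowers z
    set U3 := U2 ⊔ zpowers v
    have hU1c : U1 ≤ center S := sup_le (zpowers_le.2 (mem_center_iff.2 fun g => (hsq u hu g).eq.symm))
      (zpowers_le.2 (mem_center_iff.2 fun g => (hsq v hv g).eq.symm))
    have hUU1 : U ≤ U1 := sup_le_sup_right (zpowers_le.2 (by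
      rw [show (4 : ℤ) = 2 * 2 by norm_num, zpow_mul]; exact zpow_mem (mem_zpowers _) 2)) _
    have hU2c : U2 ≤ center S := sup_le hU1c (zpowers_le.2 (mem_center_iff.2 fun g => (hzc g).eq.symm))
    have h1 : U < U1 := by
      refine lt_of_le_of_ne hUU1 fun e => hcon ?_
      have hmem : u ^ (2 : ℤ) ∈ U := e.ge (mem_sup_left (mem_zpowers _))
      haveI : (zpowers (v ^ (2 : ℤ))).Normal := ⟨fun x hx g => by
        rwa [(mem_center_iff.1 ((le_sup_right.trans hU1c) hx) g), mul_inv_cancel_right]⟩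
      obtain ⟨_, ⟨i, rfl⟩, q, hq, hpq⟩ := mem_sup_of_normal_right.1 hmem
      have hpq : (u ^ (4 : ℤ)) ^ i * q = u ^ (2 : ℤ) := hpq
      have h2 : u ^ (2 * (1 - 2 * i)) ∈ zpowers (v ^ (2 : ℤ)) := by
        have e2 : u ^ (2 * (1 - 2 * i)) = q := by
          rw [show 2 * (1 - 2 * i) = -(4 * i) + 2 by ring, zpow_add, ← hpq, zpow_neg, zpow_mul,
            inv_mul_cancel_left]
        rwa [e2]
      obtain ⟨k, hk⟩ := IsPGroup.iff_orderOf.1 hS u
      obtain ⟨s, t, hst⟩ : IsCoprime (1 - 2 * i) ((2 ^ k : ℕ) : ℤ) := by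
        push_cast
        exact IsCoprime.pow_right ⟨1, i, by ring⟩
      have : u ^ (2 : ℤ) = (u ^ (2 * (1 - 2 * i))) ^ s := by
        rw [← zpow_mul]
        conv_lhs => rw [show (2 : ℤ) = 2 * (s * (1 - 2 * i) + t * ((2 ^ k : ℕ) : ℤ)) by rw [hst, mul_one]]
        rw [mul_add, zpow_add, show 2 * (t * ((2 ^ k : ℕ) : ℤ)) = ((2 ^ k : ℕ) : ℤ) * (2 * t) by ring,
          zpow_mul u ((2 ^ k : ℕ) : ℤ), zpow_natCast, ← hk, pow_orderOf_eq_one, one_zpow, mul_one]
        congr 1; ring
      rw [this]; exact zpow_mem h2 s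
    have h2 : U1 < U2 := lt_of_le_of_ne le_sup_left fun e => hzuv (e.ge (mem_sup_right (mem_zpowers z)))
    have h3 : U2 < U3 := by
      refine lt_of_le_of_ne le_sup_left fun e => ?_
      have hvc : v ∈ center S := hU2c (e.ge (mem_sup_right (mem_zpowers v)))
      have hcl : closure ({u, v} : Set S) ≤ centralizer {u} := (closure_le _).2 (by
        rintro g (rfl | rfl)
        · exact mem_centralizer_singleton_iff.2 rfl
        · exact mem_centralizer_singleton_iff.2 (mem_center_iff.1 hvc u).symm)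
      have huc : u ∈ center S := mem_center_iff.2 fun g =>
        mem_centralizer_singleton_iff.1 ((huv ▸ hcl) (mem_top g))
      have hall : closure ({u, v} : Set S) ≤ center S := (closure_le _).2 (by
        rintro g (rfl | rfl)
        exacts [huc, hvc])
      exact hnb ((mem_center_iff.1 ((huv ▸ hall) (mem_top b)) a))
    haveI hUn : (U.subgroupOf U3).Normal := ⟨fun x hx g => by
      rw [show g * x * g⁻¹ = x from mul_inv_eq_of_eq_mul (Subtype.ext
        (mem_center_iff.1 ((hUU1.trans hU1c) (mem_subgroupOf.1 hx)) g))]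
      exact hx⟩
    have hU3c : U3 ≤ centralizer (U3 : Set S) := by
      have hv' : zpowers v ≤ centralizer (U3 : Set S) := zpowers_le.2 (mem_centralizer_iff.2 fun x hx => by
        have hle : U3 ≤ centralizer {v} := sup_le (hU2c.trans (center_le_centralizer _))
          (zpowers_le.2 (mem_centralizer_singleton_iff.2 rfl))
        exact mem_centralizer_singleton_iff.1 (hle hx))
      exact sup_le (hU2c.trans (center_le_centralizer _)) hv'
    have hbound := hr U3 (U.subgroupOf U3) ⊤ ⟨⟨fun x y => Subtype.ext (by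
        obtain ⟨x', hx'⟩ := QuotientGroup.mk'_surjective (U.subgroupOf U3) x.1
        obtain ⟨y', hy'⟩ := QuotientGroup.mk'_surjective (U.subgroupOf U3) y.1
        show x.1 * y.1 = y.1 * x.1
        rw [← hx', ← hy', ← map_mul, ← map_mul]
        exact congrArg _ (Subtype.ext (mem_centralizer_iff.1 (hU3c y'.2) x' x'.2)))⟩⟩ (fun g _ => by
      obtain ⟨g, rfl⟩ := QuotientGroup.mk'_surjective _ g
      rw [← map_pow, QuotientGroup.mk'_apply, QuotientGroup.eq_one_iff, mem_subgroupOf]
      -- squares land in `U`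
      have hle : U3 ≤ (U.comap (MonoidHom.id S)) ⊔ U3 := le_sup_right
      let P : Subgroup U3 :=
        { carrier := {x | (x : S) * x ∈ U}
          one_mem' := by simp
          mul_mem' := fun {x y} hx hy => by
            show (x : S) * y * ((x : S) * y) ∈ U
            have hxy : Commute (x : S) y := (mem_centralizer_iff.1 (hU3c y.2) x x.2)
            rw [show (x : S) * y * ((x : S) * y) = (x : S) * ((y : S) * x) * y by group, ← hxy.eq,
              show (x : S) * ((x : S) * y) * y = (x : S) * x * ((y : S) * y) by group]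
            exact mul_mem hx hy
          inv_mem' := fun {x} hx => by
            show (x : S)⁻¹ * (x : S)⁻¹ ∈ U
            rw [← mul_inv_rev]; exact inv_mem hx }
      have hP : U3 ≤ P.map U3.subtype := by
        refine sup_le (sup_le (sup_le (zpowers_le.2 ?_) (zpowers_le.2 ?_)) (zpowers_le.2 ?_)) (zpowers_le.2 ?_)
        · refine ⟨⟨_, mem_sup_left (mem_sup_left (mem_sup_left (mem_zpowers _)))⟩, ?_, rfl⟩
          show u ^ (2 : ℤ) * u ^ (2 : ℤ) ∈ U
          rw [← zpow_add]; exact mem_sup_left (by norm_num)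
        · refine ⟨⟨_, mem_sup_left (mem_sup_left (mem_sup_right (mem_zpowers _)))⟩, ?_, rfl⟩
          exact mul_mem (mem_sup_right (mem_zpowers _)) (mem_sup_right (mem_zpowers _))
        · refine ⟨⟨z, mem_sup_left (mem_sup_right (mem_zpowers _))⟩, ?_, rfl⟩
          show z * z ∈ U
          rw [hz2]; exact one_mem U
        · refine ⟨⟨v, mem_sup_right (mem_zpowers _)⟩, ?_, rfl⟩
          show v * v ∈ U
          rw [← zpow_two]; exact mem_sup_right (mem_zpowers _)
      obtain ⟨g', hg', e⟩ := hP g.2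
      obtain rfl : g' = g := Subtype.ext e
      rw [SubmonoidClass.coe_pow, pow_two]
      exact hg')
    rw [card_top, ← index_eq_card, ← relIndex] at hbound
    have e1 := relIndex_mul_relIndex U U1 U2 hUU1 h2.le
    have e2 := relIndex_mul_relIndex U U2 U3 (hUU1.trans h2.le) h3.le
    have two_le : ∀ {A B : Subgroup S}, A < B → 2 ≤ A.relIndex B := fun {A B} h => by
      have : A.relIndex B ≠ 1 := fun e => not_le_of_gt h (relIndex_eq_one.1 e)
      have : A.relIndex B ≠ 0 := index_ne_zero_of_finite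
      omega
    rw [← e2, ← e1] at hbound
    have := Nat.mul_le_mul (Nat.mul_le_mul (two_le h1) (two_le h2)) (two_le h3)
    omega
  have ha2 := hcase a b hga hgb hgen hzn
  have hb2 := hcase b a hgb hga (hswap _ _ hgen) (by rwa [sup_comm])
  obtain ⟨j, hj⟩ := mem_zpowers_iff.1 ha2
  obtain ⟨k, hk⟩ := mem_zpowers_iff.1 hb2
  rw [← zpow_mul] at hj hk
  rcases Int.even_or_odd' j with ⟨j', rfl | rfl⟩
  · -- then both squares are trivial
    refine ⟨1, odd_one, ?_⟩
    have h1 : b ^ (2 * (1 - 2 * j' * k)) = 1 := by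
      rw [mul_sub, mul_one, zpow_sub, ← mul_assoc, zpow_mul b (2 * (2 * j')) k, hj, ← zpow_mul, hk,
        mul_inv_cancel]
    obtain ⟨n, hn⟩ := IsPGroup.iff_orderOf.1 hS b
    rw [← orderOf_dvd_iff_zpow_eq_one, hn] at h1
    push_cast at h1
    have h2 : (2 : ℤ) ^ n ∣ 2 :=
      (IsCoprime.pow_left (⟨j' * k, 1, by ring⟩ : IsCoprime (2 : ℤ) (1 - 2 * j' * k))).dvd_of_dvd_mul_right h1
    have h3 : b ^ (2 : ℤ) = 1 := by
      rw [← orderOf_dvd_iff_zpow_eq_one, hn]; exact_mod_cast h2
    rw [← hj, zpow_mul b 2, h3, one_zpow, mul_one, h3]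
  · exact ⟨2 * j' + 1, odd_two_mul_add_one j', hj.symm⟩

theorem Hyp.of_dichotomy {a b z : S} (H : Hyp a b z) (hS : IsPGroup 2 S)
    (hr : Cfsg.SectionalPRankLE 2 2 S)
    (hzn : z ∉ zpowers (a ^ (2 : ℤ)) ⊔ zpowers (b ^ (2 : ℤ))) :
    ∃ w v : S, ∃ m : ℤ, closure ({w, v} : Set S) = ⊤ ∧ Even m ∧ w ^ m = z := by
  obtain ⟨j, hj, he⟩ := H.dichotomy hS hr hzn
  refine ⟨a ^ (1 : ℤ) * b ^ (-j), b, 2, closure_pair_eq_top hS H.gen odd_one rfl, even_two, ?_⟩
  rw [zpow_two, H.sq_mul, if_pos ⟨odd_one, hj.neg⟩, mul_one, he, ← zpow_add,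
    show 2 * j + 2 * -j = 0 by ring, zpow_zero, one_mul]

/-- The class two case: the commutator is an even power of a member of a generating pair. -/
theorem Hyp.exists_power {a b z : S} (H : Hyp a b z) (hS : IsPGroup 2 S)
    (hr : Cfsg.SectionalPRankLE 2 2 S) :
    ∃ w v : S, ∃ m : ℤ, closure ({w, v} : Set S) = ⊤ ∧ Even m ∧ w ^ m = z := by
  have hga : a ∈ ({a, b} : Set S) := Set.mem_insert _ _
  have hgb : b ∈ ({a, b} : Set S) := Set.mem_insert_of_mem _ rfl
  by_cases hzQ : z ∈ zpowers (a ^ (2 : ℤ)) ⊔ zpowers (b ^ (2 : ℤ))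
  swap
  · exact H.of_dichotomy hS hr hzQ
  haveI : (zpowers (b ^ (2 : ℤ))).Normal := ⟨fun x hx g => by
    obtain ⟨i, rfl⟩ := hx
    show g * (b ^ (2 : ℤ)) ^ i * g⁻¹ ∈ zpowers (b ^ (2 : ℤ))
    rw [((H.sq_central b hgb g).zpow_left i).eq.symm, mul_inv_cancel_right]
    exact zpow_mem (mem_zpowers _) i⟩
  obtain ⟨_, ⟨x, rfl⟩, _, ⟨y, rfl⟩, hxy⟩ := mem_sup_of_normal_right.1 hzQ
  have hxy : a ^ (2 * x) * b ^ (2 * y) = z := by rw [zpow_mul, zpow_mul]; exact hxy
  obtain ⟨t, x', y', rfl, rfl, hodd⟩ := exists_two_pow _ x y le_rfl (by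
    by_contra h
    push Not at h
    rw [h.1, h.2, mul_zero, zpow_zero, zpow_zero, one_mul] at hxy
    exact H.hz1 hxy.symm)
  by_cases hzero : t = 0 ∧ Odd x' ∧ Odd y'
  · -- the product is an involution
    obtain ⟨rfl, hx, hy⟩ := hzero
    simp only [pow_zero, one_mul] at hxy
    set w := a ^ x' * b ^ y' with hw
    have hw2 : w * w = 1 := by rw [hw, H.sq_mul, if_pos ⟨hx, hy⟩, hxy, H.hz2]
    have hwb := closure_pair_eq_top hS H.gen hx hw
    by_cases hzb : z ∈ zpowers (b ^ (2 : ℤ))
    · obtain ⟨i, hi⟩ := mem_zpowers_iff.1 hzb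
      exact ⟨b, w, 2 * i, swap_eq_top _ _ hwb, even_two_mul i, by rw [zpow_mul, hi]⟩
    have Hw : Hyp w b z := ⟨hwb, by
      obtain ⟨c, rfl⟩ := hx
      have hc : Commute (a ^ (2 * c)) (a * b * a⁻¹) := by
        rw [zpow_mul]; exact (H.sq_central a hga _).zpow_left c
      calc z = a * b * a⁻¹ * b⁻¹ := H.hz
        _ = a ^ (2 * c) * (a * b * a⁻¹) * (a ^ (2 * c))⁻¹ * b⁻¹ := by rw [hc.eq]; group
        _ = w * b * w⁻¹ * b⁻¹ := by rw [hw, zpow_add, zpow_one]; group,
      H.hz2, H.hz1, H.hzc⟩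
    refine Hw.of_dichotomy hS hr fun h => hzb ?_
    rwa [zpow_two w, hw2, zpowers_one_eq_bot, bot_sup_eq] at h
  have hgen' : ∃ v, closure ({a ^ x' * b ^ y', v} : Set S) = ⊤ := by
    by_cases hx : Odd x'
    · exact ⟨b, closure_pair_eq_top hS H.gen hx rfl⟩
    · refine ⟨a, closure_pair_eq_top hS (y := x') (swap_eq_top _ _ H.gen) (hodd.resolve_left hx) ?_⟩
      obtain ⟨c, rfl⟩ := (Int.not_odd_iff_even.1 hx).two_dvd
      rw [zpow_mul]
      exact ((H.sq_central a hga (b ^ y')).zpow_left c).eq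
  obtain ⟨v, hv⟩ := hgen'
  refine ⟨_, v, ((2 : ℤ) ^ (t + 1)), hv, ⟨2 ^ t, by ring⟩, ?_⟩
  rw [pow_succ', zpow_mul, zpow_two, H.sq_mul]
  have hzt : (if Odd x' ∧ Odd y' then z else 1) ^ ((2 : ℤ) ^ t) = 1 := by
    split
    · rename_i h
      obtain ⟨s, rfl⟩ : ∃ s, t = s + 1 := ⟨t - 1, by
        have : t ≠ 0 := fun e => hzero ⟨e, h⟩
        omega⟩
      rw [pow_succ', zpow_mul, zpow_two, H.hz2, one_zpow]
    · exact one_zpow _
  have hc1 : Commute (a ^ (2 * x') * b ^ (2 * y')) (if Odd x' ∧ Odd y' then z else 1) := by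
    split
    · exact (H.hzc _).symm
    · exact Commute.one_right _
  have hc2 : Commute (a ^ (2 * x')) (b ^ (2 * y')) := by
    rw [zpow_mul]; exact (H.sq_central a hga _).zpow_left x'
  rw [hc1.mul_zpow, hzt, mul_one, hc2.mul_zpow, ← zpow_mul, ← zpow_mul,
    show 2 * x' * 2 ^ t = 2 * (2 ^ t * x') by ring, show 2 * y' * 2 ^ t = 2 * (2 ^ t * y') by ring, hxy]

theorem sectional_quotient {p k : ℕ} (hr : Cfsg.SectionalPRankLE p k S) (N : Subgroup S) [N.Normal] :
    Cfsg.SectionalPRankLE p k (S ⧸ N) := by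
  intro H M _ A hA hAp
  set K := H.comap (QuotientGroup.mk' N)
  set f : K →* H ⧸ M := (QuotientGroup.mk' M).comp ((QuotientGroup.mk' N).subgroupComap H) with hf
  have hfs : Function.Surjective f := (QuotientGroup.mk'_surjective M).comp fun y => by
    obtain ⟨x, hx⟩ := QuotientGroup.mk'_surjective N y.1
    exact ⟨⟨x, show QuotientGroup.mk' N x ∈ H by rw [hx]; exact y.2⟩, Subtype.ext hx⟩
  set e := QuotientGroup.quotientKerEquivOfSurjective f hfs
  have h := hr K f.ker (A.map e.symm.toMonoidHom) ⟨⟨by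
    rintro ⟨_, x, hx, rfl⟩ ⟨_, y, hy, rfl⟩
    refine Subtype.ext ?_
    show e.symm x * e.symm y = e.symm y * e.symm x
    rw [← map_mul, ← map_mul]
    exact congrArg _ (congrArg Subtype.val (hA.is_comm.comm ⟨x, hx⟩ ⟨y, hy⟩))⟩⟩ (by
    rintro _ ⟨x, hx, rfl⟩
    rw [← map_pow, hAp x hx, map_one])
  rwa [card_map_of_injective e.symm.injective] at h

theorem exists_generators (hS : IsPGroup 2 S) (hr : Cfsg.SectionalPRankLE 2 2 S) :
    ∃ a b : S, closure ({a, b} : Set S) = ⊤ := by
  obtain ⟨hcomm, hpow⟩ := CfsgLib.PGroupBasic.commutator_pow_le_frattini hS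
  set F := frattini S
  haveI : F.Normal := inferInstance
  set π := QuotientGroup.mk' F
  have hA : ∀ x y : S ⧸ F, x * y = y * x := fun x y => by
    obtain ⟨x, rfl⟩ := QuotientGroup.mk'_surjective F x
    obtain ⟨y, rfl⟩ := QuotientGroup.mk'_surjective F y
    rw [← commutatorElement_eq_one_iff_mul_comm, ← map_commutatorElement]
    exact (QuotientGroup.eq_one_iff _).2 (hcomm (commutator_mem_commutator (mem_top x) (mem_top y)))
  have hexp : ∀ x : S ⧸ F, x ^ 2 = 1 := fun x => by
    obtain ⟨x, rfl⟩ := QuotientGroup.mk'_surjective F x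
    rw [← map_pow]
    exact (QuotientGroup.eq_one_iff _).2 (hpow x)
  have hcard : Nat.card (S ⧸ F) ≤ 4 := by
    have h := sectional_quotient hr F (⊤ : Subgroup (S ⧸ F)) ⊥ ⊤ ⟨⟨fun x y => Subtype.ext (by
        obtain ⟨x', hx'⟩ := QuotientGroup.mk'_surjective _ x.1
        obtain ⟨y', hy'⟩ := QuotientGroup.mk'_surjective _ y.1
        show x.1 * y.1 = y.1 * x.1
        rw [← hx', ← hy', ← map_mul, ← map_mul]
        exact congrArg _ (Subtype.ext (hA _ _)))⟩⟩ (fun x _ => by
      obtain ⟨x, rfl⟩ := QuotientGroup.mk'_surjective _ x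
      rw [← map_pow, show x ^ 2 = 1 from Subtype.ext (hexp _), map_one])
    rw [card_top, ← index_eq_card, index_bot, card_top] at h
    simpa using h
  -- choose successively
  have key : ∀ U : Subgroup S, F ≤ U → ∃ g : S, F ≤ U ⊔ zpowers g ∧
      (U ≠ ⊤ → (U ⊔ zpowers g).index * 2 ≤ U.index) := by
    intro U hU
    by_cases h : U = ⊤
    · exact ⟨1, hU.trans le_sup_left, fun h' => absurd h h'⟩
    obtain ⟨g, hg⟩ : ∃ g, g ∉ U := by
      by_contra! h'
      exact h ((eq_top_iff' _).2 h')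
    refine ⟨g, hU.trans le_sup_left, fun _ => ?_⟩
    have e := relIndex_mul_index (le_sup_left : U ≤ U ⊔ zpowers g)
    have h1 : U.relIndex (U ⊔ zpowers g) ≠ 1 := fun e1 =>
      hg (relIndex_eq_one.1 e1 (mem_sup_right (mem_zpowers g)))
    have h0 : U.relIndex (U ⊔ zpowers g) ≠ 0 := index_ne_zero_of_finite
    rw [← e, mul_comm (U.relIndex _)]
    exact Nat.mul_le_mul_left _ (by omega)
  obtain ⟨a, ha, ha'⟩ := key F le_rfl
  obtain ⟨b, hb, hb'⟩ := key _ ha
  refine ⟨a, b, frattini_nongenerating ?_⟩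
  have htop : F ⊔ zpowers a ⊔ zpowers b = ⊤ := by
    by_contra h
    have hne1 : F ⊔ zpowers a ≠ ⊤ := fun e => h (by rw [e, top_sup_eq])
    have hne0 : F ≠ ⊤ := fun e => hne1 (by rw [e, top_sup_eq])
    have h2 : (F ⊔ zpowers a ⊔ zpowers b).index ≠ 1 := fun e => h (index_eq_one.1 e)
    have h0 : (F ⊔ zpowers a ⊔ zpowers b).index ≠ 0 := index_ne_zero_of_finite
    have := ha' hne0
    have := hb' hne1
    rw [index_eq_card F] at *
    omega
  refine top_le_iff.1 (htop ▸ sup_le (sup_le le_sup_right (zpowers_le.2 ?_)) (zpowers_le.2 ?_))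
  · exact mem_sup_left (subset_closure (Set.mem_insert _ _))
  · exact mem_sup_left (subset_closure (Set.mem_insert_of_mem _ rfl))

theorem isMetacyclic_of_pair {w v : S} (hgen : closure ({w, v} : Set S) = ⊤)
    (hc : commutator S ≤ zpowers w) : Cfsg.IsMetacyclic S := by
  haveI hn : (zpowers w).Normal := ⟨fun x hx g => by
    have h : ⁅g, x⁆ ∈ zpowers w := hc (commutator_mem_commutator (mem_top g) (mem_top x))
    have e : g * x * g⁻¹ = ⁅g, x⁆ * x := by rw [commutatorElement_def]; group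
    rw [e]; exact mul_mem h hx⟩
  refine ⟨zpowers w, hn, inferInstance, ⟨QuotientGroup.mk' (zpowers w) v, fun x => ?_⟩⟩
  obtain ⟨x, rfl⟩ := QuotientGroup.mk'_surjective _ x
  have hx : x ∈ (zpowers (QuotientGroup.mk' (zpowers w) v)).comap (QuotientGroup.mk' (zpowers w)) := by
    refine (hgen ▸ (closure_le _).2 ?_ : (⊤ : Subgroup S) ≤ _) (mem_top x)
    rintro g (rfl | rfl)
    · rw [SetLike.mem_coe, mem_comap, show QuotientGroup.mk' (zpowers g) g = 1 from
        (QuotientGroup.eq_one_iff _).2 (mem_zpowers g)]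
      exact one_mem _
    · exact mem_zpowers _
  exact hx

/-- 2-groups of sectional rank at most two are metacyclic. -/
theorem isMetacyclic_of_rank (hS : IsPGroup 2 S) (hr : Cfsg.SectionalPRankLE 2 2 S) :
    Cfsg.IsMetacyclic S := by
  haveI := hS.isNilpotent
  obtain ⟨a, b, hgen⟩ := exists_generators hS hr
  set D := commutator S with hD
  by_cases hD1 : D = ⊥
  · exact isMetacyclic_of_pair hgen (by rw [← hD, hD1]; exact bot_le)
  set P := closure {x : S | ∃ c ∈ D, c * c = x} with hP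
  haveI hPn : P.Normal := ⟨fun x hx g => by
    have hle : P ≤ P.comap (MulAut.conj g).toMonoidHom := by
      refine (closure_le _).2 ?_
      rintro _ ⟨c, hc, rfl⟩
      refine subset_closure ⟨g * c * g⁻¹, (inferInstance : (commutator S).Normal).conj_mem c hc g, ?_⟩
      simp [mul_assoc]
    simpa using hle hx⟩
  have hPD : P ≤ D := (closure_le _).2 (by rintro _ ⟨c, hc, rfl⟩; exact mul_mem hc hc)
  -- descending lemma: normal subgroups contained in their commutator with `S`
  have descend : ∀ (N M : Subgroup S) [N.Normal] [M.Normal], N ≤ ⁅N, ⊤⁆ ⊔ M → N ≤ M := by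
    intro N M _ _ h
    set q := QuotientGroup.mk' M
    haveI : (N.map q).Normal := Normal.map inferInstance q (QuotientGroup.mk'_surjective M)
    have h1 : N.map q ≤ ⁅N.map q, ⊤⁆ := by
      rw [← map_top_of_surjective q (QuotientGroup.mk'_surjective M), ← map_commutator]
      refine (map_mono h).trans ?_
      rw [Subgroup.map_sup, (Subgroup.map_eq_bot_iff M).2 (QuotientGroup.ker_mk' M).ge, sup_bot_eq]
    have h2 : ∀ k, N.map q ≤ (⊤ : Subgroup (S ⧸ M)).lowerCentralSeries k := by
      intro k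
      induction k with
      | zero => simp
      | succ k ih =>
        rw [Subgroup.lowerCentralSeries_succ]
        exact h1.trans (commutator_mono ih le_rfl)
    obtain ⟨k, hk⟩ := Subgroup.nilpotent_iff_lowerCentralSeries.1 (inferInstance : Group.IsNilpotent (S ⧸ M))
    have h3 := h2 k
    rw [hk, le_bot_iff, Subgroup.map_eq_bot_iff, QuotientGroup.ker_mk'] at h3
    exact h3
  haveI hDn : D.Normal := (inferInstance : (commutator S).Normal)
  set R := ⁅D, ⊤⁆ ⊔ P with hR
  have hRD : R ≤ D := sup_le (commutator_le_left D ⊤) hPD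
  have hRne : ¬ D ≤ R := by
    intro h
    have h1 : D ≤ P := descend D P h
    obtain ⟨-, hpow⟩ := CfsgLib.PGroupBasic.commutator_pow_le_frattini (hS.to_subgroup D)
    have hle : P ≤ (frattini D).map D.subtype := (closure_le _).2 (by
      rintro _ ⟨c, hc, rfl⟩
      exact ⟨⟨c, hc⟩ ^ 2, hpow _, by simp [pow_two]⟩)
    have h2 : frattini D = ⊤ := map_injective D.subtype_injective (le_antisymm
      (by rw [← MonoidHom.range_eq_map, range_subtype]; exact map_subtype_le _)
      (by rw [← MonoidHom.range_eq_map, range_subtype]; exact h1.trans hle))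
    have h3 : (⊥ : Subgroup D) = ⊤ := frattini_nongenerating (by rw [bot_sup_eq, h2])
    refine hD1 (eq_bot_iff.2 fun x hx => ?_)
    have := h3.ge (mem_top (⟨x, hx⟩ : D))
    simpa using this
  let q := QuotientGroup.mk' R
  have hq : Function.Surjective q := QuotientGroup.mk'_surjective R
  have hgenQ : closure ({q a, q b} : Set (S ⧸ R)) = ⊤ := by
    have h := congrArg (Subgroup.map q) hgen
    rw [MonoidHom.map_closure, Set.image_pair, map_top_of_surjective q hq] at h
    exact h
  set z := q a * q b * (q a)⁻¹ * (q b)⁻¹ with hz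
  have hz' : z = q ⁅a, b⁆ := by simp [hz, commutatorElement_def]
  have habD : ⁅a, b⁆ ∈ D := commutator_mem_commutator (mem_top a) (mem_top b)
  have H : Hyp (q a) (q b) z := by
    refine ⟨hgenQ, hz, ?_, ?_, ?_⟩
    · rw [hz', ← map_mul]
      exact (QuotientGroup.eq_one_iff _).2 (mem_sup_right (subset_closure ⟨_, habD, rfl⟩))
    · intro h1
      apply hRne
      have hcomm : ∀ x y : S ⧸ R, Commute x y := by
        have hb' : Commute (q a) (q b) := commutatorElement_eq_one_iff_mul_comm.1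
          (by rw [commutatorElement_def, ← hz]; exact h1)
        have h2 : ∀ g ∈ ({q a, q b} : Set (S ⧸ R)), ∀ x, Commute g x := by
          intro g hg x
          refine (mem_centralizer_singleton_iff.1 ((hgenQ ▸ (closure_le _).2 ?_ :
            (⊤ : Subgroup (S ⧸ R)) ≤ centralizer {g}) (mem_top x))).symm
          rintro h (rfl | rfl) <;> rw [SetLike.mem_coe, mem_centralizer_singleton_iff] <;>
            rcases hg with rfl | rfl
          · rfl
          · exact hb'.eq
          · exact hb'.eq.symm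
          · rfl
        intro x y
        refine mem_centralizer_singleton_iff.1 ((hgenQ ▸ (closure_le _).2 ?_ :
          (⊤ : Subgroup (S ⧸ R)) ≤ centralizer {y}) (mem_top x))
        intro h hh
        exact mem_centralizer_singleton_iff.2 (h2 h hh y).eq
      rw [hD, _root_.commutator_def, Subgroup.commutator_le]
      intro x _ y _
      refine (QuotientGroup.eq_one_iff _).1 ?_
      show q ⁅x, y⁆ = 1
      rw [map_commutatorElement, commutatorElement_eq_one_iff_mul_comm]
      exact (hcomm _ _).eq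
    · intro g
      obtain ⟨g, rfl⟩ := hq g
      rw [hz']
      refine commutatorElement_eq_one_iff_mul_comm.1 ?_
      rw [← map_commutatorElement]
      exact (QuotientGroup.eq_one_iff _).2 (mem_sup_left (commutator_mem_commutator habD (mem_top g)))
  obtain ⟨w', v', m, hwv, ⟨m', hm⟩, hwm⟩ :=
    H.exists_power (hS.to_quotient R) (sectional_quotient hr R)
  obtain ⟨w, rfl⟩ := hq w'
  obtain ⟨v, rfl⟩ := hq v'
  have hRF : R ≤ frattini S := hRD.trans (CfsgLib.PGroupBasic.commutator_pow_le_frattini hS).1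
  have hwvS : closure ({w, v} : Set S) = ⊤ := by
    refine frattini_nongenerating (top_le_iff.1 (le_trans ?_ (sup_le_sup_left hRF _)))
    intro x _
    have h1 : q x ∈ (closure ({w, v} : Set S)).map q := by
      rw [MonoidHom.map_closure, Set.image_pair, hwv]; exact mem_top _
    obtain ⟨y, hy, hyx⟩ := h1
    have h2 : y⁻¹ * x ∈ R := QuotientGroup.eq.1 hyx
    have := mul_mem (mem_sup_left (T := R) hy) (mem_sup_right (S := closure ({w, v} : Set S)) h2)
    rwa [mul_inv_cancel_left] at this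
  refine isMetacyclic_of_pair hwvS ?_
  set h := w ^ m with hh
  have hhR : h⁻¹ * ⁅a, b⁆ ∈ R := QuotientGroup.eq.1 (show q h = q ⁅a, b⁆ by rw [hh, map_zpow, hwm, hz'])
  have hhD : h ∈ D := by
    have := mul_mem habD (inv_mem (hRD hhR))
    rwa [mul_inv_rev, inv_inv, mul_inv_cancel_left] at this
  -- the commutator is generated by `h` modulo `R`
  have hDh : D ≤ zpowers h ⊔ R := by
    have hzR : ((zpowers h).map q).Normal := ⟨fun x hx g => by
      obtain ⟨_, ⟨i, rfl⟩, rfl⟩ := hx
      have hc : Commute g (q (h ^ i)) := by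
        rw [map_zpow, hh, map_zpow, hwm]
        exact ((H.hzc g).zpow_left i).symm
      rw [hc.eq, mul_inv_cancel_right]
      exact mem_map_of_mem _ (zpow_mem (mem_zpowers h) i)⟩
    haveI := hzR
    let π := QuotientGroup.mk' ((zpowers h).map q)
    have hab' : Commute (π (q a)) (π (q b)) := commutatorElement_eq_one_iff_mul_comm.1 (by
      rw [← map_commutatorElement, commutatorElement_def, ← hz, ← hwm, ← map_zpow]
      exact (QuotientGroup.eq_one_iff _).2 (mem_map_of_mem _ (mem_zpowers h)))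
    have hcomm : ∀ x y, Commute (π x) (π y) := by
      have h2 : ∀ g ∈ ({q a, q b} : Set (S ⧸ R)), ∀ x, Commute (π g) (π x) := by
        intro g hg x
        have hx : x ∈ (centralizer {π g}).comap π := (hgenQ ▸ (closure_le _).2 (by
          rintro k (rfl | rfl) <;> rw [SetLike.mem_coe, mem_comap, mem_centralizer_singleton_iff] <;>
            rcases hg with rfl | rfl
          · rfl
          · exact hab'.eq
          · exact hab'.eq.symm
          · rfl) : (⊤ : Subgroup (S ⧸ R)) ≤ _) (mem_top x)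
        exact (show Commute (π x) (π g) from mem_centralizer_singleton_iff.1 hx).symm
      intro x y
      exact mem_centralizer_singleton_iff.1 (show x ∈ (centralizer {π y}).comap π from
        (hgenQ ▸ (closure_le _).2 (fun k hk => mem_comap.2
          (mem_centralizer_singleton_iff.2 (h2 k hk y).eq)) : (⊤ : Subgroup (S ⧸ R)) ≤ _) (mem_top x))
    intro x hx
    have h4 : q x ∈ (zpowers h).map q := by
      have hle : commutator S ≤ ((zpowers h).map q).comap q := by
        rw [_root_.commutator_def, Subgroup.commutator_le]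
        intro u _ v' _
        rw [mem_comap, ← QuotientGroup.eq_one_iff]
        show π (q ⁅u, v'⁆) = 1
        rw [map_commutatorElement, map_commutatorElement, commutatorElement_eq_one_iff_mul_comm]
        exact (hcomm _ _).eq
      exact hle hx
    obtain ⟨y, hy, hyx⟩ := h4
    have h5 : y⁻¹ * x ∈ R := QuotientGroup.eq.1 hyx
    have := mul_mem (mem_sup_left (T := R) hy) (mem_sup_right (S := zpowers h) h5)
    rwa [mul_inv_cancel_left] at this
  -- `h` is central modulo `[D,S,S]P`
  set W := ⁅⁅D, (⊤ : Subgroup S)⁆, (⊤ : Subgroup S)⁆ ⊔ P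
  have hV1 : ⁅D, (⊤ : Subgroup S)⁆ ≤ W := by
    let π := QuotientGroup.mk' W
    have hVc : ∀ k ∈ R, ∀ g : S, Commute (π k) (π g) := by
      intro k hk g
      have hk' : π k ∈ (⁅D, (⊤ : Subgroup S)⁆).map π := by
        rw [hR] at hk
        have := mem_map_of_mem π hk
        rwa [Subgroup.map_sup, (Subgroup.map_eq_bot_iff P).2 (le_sup_right.trans (QuotientGroup.ker_mk' W).ge),
          sup_bot_eq] at this
      obtain ⟨k', hk'', e⟩ := hk'
      rw [← e]
      refine commutatorElement_eq_one_iff_mul_comm.1 ?_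
      rw [← map_commutatorElement]
      exact (QuotientGroup.eq_one_iff _).2 (mem_sup_left (commutator_mem_commutator hk'' (mem_top g)))
    have hsqD : ∀ c ∈ D, π c * π c = 1 := fun c hc => by
      rw [← map_mul]
      exact (QuotientGroup.eq_one_iff _).2 (mem_sup_right (subset_closure ⟨c, hc, rfl⟩))
    have hhw : Commute (π h) (π w) := by rw [hh, map_zpow]; exact Commute.zpow_self _ _
    have hDw : ∀ c ∈ D, Commute (π c) (π w) := by
      intro c hc
      have h1 : π c ∈ (zpowers h ⊔ R).map π := mem_map_of_mem π (hDh hc)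
      rw [Subgroup.map_sup] at h1
      have h2 : (zpowers h).map π ⊔ R.map π ≤ centralizer {π w} := by
        refine sup_le ?_ ?_
        · rw [MonoidHom.map_zpowers, zpowers_le, mem_centralizer_singleton_iff]
          exact hhw.eq
        · rintro _ ⟨k, hk, rfl⟩
          exact mem_centralizer_singleton_iff.2 (hVc k hk w).eq
      exact mem_centralizer_singleton_iff.1 (h2 h1)
    have hhv : Commute (π h) (π v) := by
      set c := ⁅v, w⁆
      have hc : c ∈ D := commutator_mem_commutator (mem_top v) (mem_top w)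
      have h1 : π v * π w * (π v)⁻¹ = π c * π w := by
        rw [← map_mul, ← map_inv, ← map_mul, ← map_mul]
        congr 1
        simp [c, commutatorElement_def]
      have h2 : π v * π h * (π v)⁻¹ = π h := by
        rw [hh, map_zpow, ← conj_zpow, h1, (hDw c hc).mul_zpow, hm, zpow_add (π c),
          ← (Commute.refl (π c)).mul_zpow, hsqD c hc, one_zpow, one_mul]
      exact (mul_inv_eq_iff_eq_mul.1 h2).symm
    have hhc : ∀ g : S, Commute (π h) (π g) := fun g => by
      have hg : g ∈ (centralizer {π h}).comap π := (hwvS.ge.trans ((closure_le _).2 (by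
        rintro k (rfl | rfl) <;> rw [SetLike.mem_coe, mem_comap, mem_centralizer_singleton_iff]
        · exact hhw.eq.symm
        · exact hhv.eq.symm))) (mem_top g)
      exact (show Commute (π g) (π h) from mem_centralizer_singleton_iff.1 hg).symm
    rw [Subgroup.commutator_le]
    intro c hc g _
    refine (QuotientGroup.eq_one_iff _).1 ?_
    show π ⁅c, g⁆ = 1
    rw [map_commutatorElement, commutatorElement_eq_one_iff_mul_comm]
    have h1 : π c ∈ (zpowers h ⊔ R).map π := mem_map_of_mem π (hDh hc)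
    have h2 : (zpowers h ⊔ R).map π ≤ centralizer {π g} := by
      rw [Subgroup.map_sup]
      refine sup_le ?_ ?_
      · rw [MonoidHom.map_zpowers, zpowers_le, mem_centralizer_singleton_iff]
        exact (hhc g).eq
      · rintro _ ⟨k, hk, rfl⟩
        exact mem_centralizer_singleton_iff.2 (hVc k hk g).eq
    exact mem_centralizer_singleton_iff.1 (h2 h1)
  have hV1P : ⁅D, (⊤ : Subgroup S)⁆ ≤ P := descend _ P hV1
  have hDhP : D ≤ zpowers h ⊔ P := hDh.trans (sup_le le_sup_left (sup_le (hV1P.trans le_sup_right) le_sup_right))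
  have hsub : (zpowers h).subgroupOf D = ⊤ := by
    obtain ⟨-, hpow⟩ := CfsgLib.PGroupBasic.commutator_pow_le_frattini (hS.to_subgroup D)
    refine frattini_nongenerating (map_injective D.subtype_injective (le_antisymm
      (by rw [← MonoidHom.range_eq_map, range_subtype]; exact map_subtype_le _) ?_))
    rw [← MonoidHom.range_eq_map, range_subtype, Subgroup.map_sup, subgroupOf_map_subtype,
      inf_eq_left.2 (zpowers_le.2 hhD)]
    refine hDhP.trans (sup_le le_sup_left (le_sup_of_le_right ((closure_le _).2 ?_)))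
    rintro _ ⟨c, hc, rfl⟩
    exact ⟨⟨c, hc⟩ ^ 2, hpow _, by simp [pow_two]⟩
  exact (subgroupOf_eq_top.1 hsub).trans (zpowers_le.2 (zpow_mem (mem_zpowers w) m))

end CfsgLib.TwoMetacyclic
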