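import Cfsg.Agent.PLocal.MaximalClass
import Cfsg.Agent.FGSA.AbelianIndexP
import Cfsg.Agent.Invol.Dihedral

/-!
Groups of maximal class: self-centralizing subgroups of order `p ^ 2`, and `2`-groups of maximal class.
-/

set_option autoImplicit false
set_option linter.style.haveILetI false
set_option linter.unusedSectionVars false

namespace CfsgLib.MaximalClass

open Subgroup
open scoped commutatorElement

universe u

theorem class_eq_one {G : Type u} [Group G] [Nontrivial G] [Group.IsNilpotent G]
    (h : ∀ a b : G, a * b = b * a) : Group.nilpotencyClass G = 1 := by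
  have h1 : center G = ⊤ := eq_top_iff.2 fun a _ => mem_center_iff.2 fun b => h b a
  haveI : Subsingleton (G ⧸ center G) := by rw [h1]; exact QuotientGroup.subsingleton_quotient_top
  rw [Group.nilpotencyClass_eq_quotient_center_plus_one,
    Group.nilpotencyClass_zero_iff_subsingleton.2 inferInstance]

/-- A `p`-group with a self-centralizing subgroup of order `p ^ 2` has maximal class. -/
theorem class_of_self_centralizing {p : ℕ} [hp : Fact p.Prime] : ∀ (n : ℕ) {X : Type u} [Group X]
    [Finite X], Nat.card X = p ^ n → ∀ A : Subgroup X, Nat.card A = p ^ 2 →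
      centralizer (A : Set X) = A → Group.nilpotencyClass X = n - 1 := by
  intro n
  induction n with
  | zero =>
    intro X _ _ hX A hA _
    have h1 := A.card_subgroup_dvd_card
    rw [hA, hX, pow_zero] at h1
    exact absurd (Nat.dvd_one.1 h1) (Nat.one_lt_pow (by norm_num) hp.out.one_lt).ne'
  | succ m ih =>
    intro X _ _ hX A hA hC
    classical
    have hG : IsPGroup p X := IsPGroup.of_card hX
    haveI := hG.isNilpotent
    haveI : Nontrivial X := Finite.one_lt_card_iff_nontrivial.1
      (hX ▸ Nat.one_lt_pow (Nat.succ_ne_zero m) hp.out.one_lt)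
    have hcomA : ∀ a ∈ A, ∀ b ∈ A, a * b = b * a := fun a ha b hb =>
      (mem_centralizer_iff.1 (hC.ge hb) a ha)
    by_cases htop : A = ⊤
    · have : m + 1 = 2 := Nat.pow_right_injective hp.out.two_le
        (show p ^ (m + 1) = p ^ 2 by rw [← hX, ← hA, htop, card_top])
      rw [class_eq_one (fun a b => hcomA a (htop ▸ mem_top a) b (htop ▸ mem_top b))]
      omega
    have hZA : center X ≤ A := (center_le_centralizer _).trans hC.le
    have hZne : center X ≠ A := fun h => htop (by
      rw [← hC]
      exact eq_top_iff.2 fun g _ => mem_centralizer_iff.2 fun a ha =>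
        (mem_center_iff.1 (h.ge ha) g).symm)
    have hZ : Nat.card (center X) = p := by
      obtain ⟨i, hi, hi'⟩ := (Nat.dvd_prime_pow hp.out).1 (hA ▸ card_dvd_of_le hZA)
      interval_cases i
      · exact absurd (eq_bot_of_card_eq _ (by simpa using hi'))
          (by simpa using CfsgLib.PGroupBasic.inf_center_ne_bot (⊤ : Subgroup X) top_ne_bot)
      · simpa using hi'
      · exact absurd (eq_of_le_of_card_ge hZA (hA.trans hi'.symm).le) hZne
    set N := normalizer (A : Set X) with hN
    have hAN : A < N := Group.normalizerCondition_of_isNilpotent A (lt_of_le_of_ne le_top htop)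
    haveI : ((center X).subgroupOf N).Normal := Normal.subgroupOf inferInstance N
    haveI : (A.subgroupOf N).Normal := normal_in_normalizer
    haveI : Group.IsNilpotent N := inferInstance
    obtain ⟨a, ha, haZ, hac⟩ := CfsgLib.PGroupBasic.exists_central_mod ((center X).subgroupOf N)
      (A.subgroupOf N) (lt_of_le_of_ne (fun x hx => hZA hx) fun h => hZne (by
        have := congrArg (Subgroup.map N.subtype) h
        rwa [map_subgroupOf_eq_of_le (hZA.trans hAN.le), map_subgroupOf_eq_of_le hAN.le] at this))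
    rw [mem_subgroupOf] at ha haZ
    have hgenA : ∀ K : Subgroup X, center X ≤ K → (a : X) ∈ K → A ≤ K := by
      intro K h1 h2
      have h3 : zpowers (a : X) ⊔ center X = A := by
        refine eq_of_le_of_card_ge (sup_le (zpowers_le.2 ha) hZA) ?_
        obtain ⟨i, hi, hi'⟩ := (Nat.dvd_prime_pow hp.out).1
          (hA ▸ card_dvd_of_le (sup_le (zpowers_le.2 ha) hZA : zpowers (a : X) ⊔ center X ≤ A))
        have h4 : p ^ 1 < p ^ i := by
          rw [pow_one, ← hi', ← hZ]
          exact CfsgLib.Solvable.card_lt_of_lt (lt_of_le_of_ne le_sup_right fun e =>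
            haZ (e.ge (mem_sup_left (mem_zpowers _))))
        have := (Nat.pow_lt_pow_iff_right hp.out.one_lt).1 h4
        rw [hA, hi']
        exact Nat.pow_le_pow_right hp.out.pos (by omega)
      rw [← h3]
      exact sup_le (zpowers_le.2 h2) h1
    have hmem : ∀ g : N, ⁅(g : X), (a : X)⁆ ∈ center X := fun g => by
      have h1 := inv_mem (hac g)
      rw [mem_subgroupOf] at h1
      simpa [commutatorElement_def, mul_assoc] using h1
    let φ : N →* center X := MonoidHom.mk' (fun g => ⟨⁅(g : X), (a : X)⁆, hmem g⟩) fun g h =>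
      Subtype.ext (by
        show ⁅(g : X) * h, (a : X)⁆ = ⁅(g : X), (a : X)⁆ * ⁅(h : X), (a : X)⁆
        have h1 := mem_center_iff.1 (hmem h) (g : X)
        calc ⁅(g : X) * h, (a : X)⁆ = ((g : X) * ⁅(h : X), (a : X)⁆ * (g : X)⁻¹) * ⁅(g : X), (a : X)⁆ := by
              simp only [commutatorElement_def]; group
          _ = _ := by rw [h1, mul_inv_cancel_right, mem_center_iff.1 (hmem h) _])
    have hker : φ.ker.map N.subtype ≤ A := by
      rintro _ ⟨g, hg, rfl⟩
      refine hC.le (mem_centralizer_iff.2 fun b hb => ?_)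
      have h1 : A ≤ centralizer {(g : X)} := hgenA _ (center_le_centralizer _)
        (mem_centralizer_singleton_iff.2 (commutatorElement_eq_one_iff_mul_comm.1
          (congrArg Subtype.val (MonoidHom.mem_ker.1 hg))).symm)
      exact mem_centralizer_singleton_iff.1 (h1 hb)
    have hN3 : Nat.card N = p ^ 3 := by
      obtain ⟨i, hi⟩ := IsPGroup.iff_card.1 (hG.to_subgroup N)
      have h1 : p ^ 2 < p ^ i := hi ▸ hA ▸ CfsgLib.Solvable.card_lt_of_lt hAN
      have h2 : Nat.card N ≤ p ^ 3 := by
        rw [← φ.ker.card_mul_index, index_ker, pow_succ p 2]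
        refine Nat.mul_le_mul ?_ (hZ ▸ card_le_card_group φ.range)
        rw [← card_map_of_injective (K := φ.ker) N.subtype_injective, ← hA]
        exact card_le_of_le hker
      have := (Nat.pow_lt_pow_iff_right hp.out.one_lt).1 h1
      have := (Nat.pow_le_pow_iff_right hp.out.one_lt).1 (hi ▸ h2)
      rw [hi, show i = 3 by omega]
    let π := QuotientGroup.mk' (center X)
    have hπ : Function.Surjective π := QuotientGroup.mk'_surjective _
    have hQ : Nat.card (X ⧸ center X) = p ^ m := by
      have h1 := (center X).card_mul_index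
      rw [hZ, hX, index_eq_card, pow_succ'] at h1
      exact Nat.eq_of_mul_eq_mul_left hp.out.pos h1
    set B := N.map π with hB
    have hBc : Nat.card B = p ^ 2 := by
      have h1 := B.card_mul_index
      rw [hB, index_map_eq N hπ (by rw [QuotientGroup.ker_mk']; exact hZA.trans hAN.le), hQ] at h1
      have h2 := N.card_mul_index
      rw [hN3, hX, pow_succ' p m, ← h1, ← mul_assoc] at h2
      have h3 : p ^ 3 = p * Nat.card (N.map π) :=
        Nat.eq_of_mul_eq_mul_right (Nat.pos_of_ne_zero index_ne_zero_of_finite) h2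
      exact Nat.eq_of_mul_eq_mul_left hp.out.pos (by rw [← h3]; ring)
    have hBcom : IsMulCommutative B := ⟨⟨IsPGroup.commutative_of_card_eq_prime_sq hBc⟩⟩
    have hBC : centralizer (B : Set (X ⧸ center X)) = B := by
      refine le_antisymm (fun y hy => ?_) (le_centralizer_iff_isMulCommutative.2 hBcom)
      obtain ⟨g, rfl⟩ := hπ y
      refine ⟨g, ?_, rfl⟩
      have h1 := mem_centralizer_iff.1 hy (π a) (mem_map_of_mem _ a.2)
      have h2 : g * a * g⁻¹ * (a : X)⁻¹ ∈ center X := by
        rw [← QuotientGroup.ker_mk' (center X), MonoidHom.mem_ker, map_mul, map_mul, map_mul,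
          map_inv, map_inv]
        show π g * π a * (π g)⁻¹ * (π a)⁻¹ = 1
        rw [← h1, mul_inv_cancel_right, mul_inv_cancel]
      have h3 : A ≤ A.comap (MulAut.conj g).toMonoidHom := hgenA _ (fun z hz => by
          show g * z * g⁻¹ ∈ A
          rw [mem_center_iff.1 hz g, mul_inv_cancel_right]
          exact hZA hz)
        (by
          show g * (a : X) * g⁻¹ ∈ A
          have := mul_mem (hZA h2) ha
          rwa [inv_mul_cancel_right] at this)
      have h4 : A.map (MulAut.conj g).toMonoidHom = A :=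
        eq_of_le_of_card_ge (map_le_iff_le_comap.2 h3)
          (card_map_of_injective (MulAut.conj g).injective).ge
      refine mem_normalizer_iff.2 fun x => ⟨fun hx => h3 hx, fun hx => ?_⟩
      have hx' : g * x * g⁻¹ ∈ A.map (MulAut.conj g).toMonoidHom := by rw [h4]; exact hx
      obtain ⟨y, hy, hyx⟩ := hx'
      rwa [← (MulAut.conj g).injective hyx]
    rw [Group.nilpotencyClass_eq_quotient_center_plus_one, ih hQ B hBc hBC]
    have h3 := N.card_subgroup_dvd_card
    rw [hN3, hX] at h3
    have := (Nat.pow_dvd_pow_iff_le_right hp.out.one_lt).1 h3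
    omega

/-! ### `2`-groups -/

section Two

variable {X : Type u} [Group X] [Finite X]

theorem not_abelian {n : ℕ} (hn : 3 ≤ n) (hX : Nat.card X = 2 ^ n)
    (hc : (commutator X).index = 4) : ¬ IsMulCommutative X := fun h => by
  have h1 : commutator X = ⊥ := by
    rw [_root_.commutator_def, eq_bot_iff, commutator_le]
    exact fun a _ b _ => mem_bot.2 (commutatorElement_eq_one_iff_mul_comm.2 (h.is_comm.comm a b))
  rw [h1, index_bot, hX] at hc
  have : 2 ^ 3 ≤ 2 ^ n := Nat.pow_le_pow_right (by norm_num) hn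
  omega

theorem card_center {n : ℕ} (hn : 3 ≤ n) (hX : Nat.card X = 2 ^ n)
    (hc : (commutator X).index = 4) {A : Subgroup X} (hA : IsMulCommutative A) (hAi : A.index = 2) :
    Nat.card (center X) = 2 := by
  have h1 := CfsgLib.AbelianIndexP.index_center_eq (p := 2) (IsPGroup.of_card hX)
    (not_abelian hn hX hc) hA hAi
  have h2 := (commutator X).card_mul_index
  have h3 := (center X).card_mul_index
  rw [hc] at h2
  rw [h1, ← h2] at h3
  refine Nat.eq_of_mul_eq_mul_right (Nat.mul_pos (by norm_num : 0 < 2)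
    (Nat.card_pos (α := commutator X))) (h3.trans ?_)
  ring

theorem index_commutator_quotient (Z : Subgroup X) [Z.Normal] (hZ : Z ≤ commutator X) :
    (commutator (X ⧸ Z)).index = (commutator X).index := by
  have h : (commutator X).map (QuotientGroup.mk' Z) = commutator (X ⧸ Z) := by
    rw [_root_.commutator_def, _root_.commutator_def, map_commutator,
      map_top_of_surjective _ (QuotientGroup.mk'_surjective Z)]
  rw [← h, index_map_eq _ (QuotientGroup.mk'_surjective Z) (by rw [QuotientGroup.ker_mk']; exact hZ)]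

end Two

/-- A `2`-group with `[X : X'] = 4` has a cyclic subgroup of index two. -/
theorem cyclic_index_two : ∀ (n : ℕ), 3 ≤ n → ∀ {X : Type u} [Group X] [Finite X],
    Nat.card X = 2 ^ n → (commutator X).index = 4 → ∃ C : Subgroup X, IsCyclic C ∧ C.index = 2 := by
  intro n hn
  induction n, hn using Nat.le_induction with
  | base =>
    intro X _ _ hX hc
    obtain ⟨x, hx⟩ : ∃ x : X, x ^ 2 ≠ 1 := by
      by_contra! h
      refine not_abelian le_rfl hX hc ⟨⟨fun a b => ?_⟩⟩
      have h1 := h (a * b)
      have ha := h a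
      have hb := h b
      rw [pow_two] at h1 ha hb
      calc a * b = a * (a * b * (a * b)) * b := by rw [h1, mul_one]
        _ = (a * a) * (b * a) * (b * b) := by group
        _ = b * a := by rw [ha, hb, one_mul, mul_one]
    refine ⟨zpowers x, inferInstance, ?_⟩
    obtain ⟨i, hi, hi'⟩ := (Nat.dvd_prime_pow Nat.prime_two).1 (hX ▸ orderOf_dvd_natCard x)
    have h1 := (zpowers x).card_mul_index
    rw [Nat.card_zpowers, hi', hX] at h1
    interval_cases i
    · exact absurd (show x ^ 2 = 1 by rw [orderOf_eq_one_iff.1 (show orderOf x = 1 by simpa using hi'), one_pow]) hx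
    · exact absurd (orderOf_dvd_iff_pow_eq_one.1 (by simpa using hi'.dvd)) hx
    · omega
    · refine absurd ?_ (not_abelian le_rfl hX hc)
      haveI : IsCyclic X := isCyclic_of_orderOf_eq_card x (hi'.trans hX.symm)
      exact ⟨⟨(IsCyclic.commGroup (α := X)).mul_comm⟩⟩
  | succ n hn ih =>
    intro X _ _ hX hc
    classical
    have hG : IsPGroup 2 X := IsPGroup.of_card hX
    haveI := hG.isNilpotent
    have hne : commutator X ≠ ⊥ := fun h => by
      rw [h, index_bot, hX] at hc
      have : 2 ^ 4 ≤ 2 ^ (n + 1) := Nat.pow_le_pow_right (by norm_num) (by omega)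
      omega
    obtain ⟨z, hz, hz2⟩ : ∃ z ∈ commutator X ⊓ center X, orderOf z = 2 := by
      obtain ⟨k, hk⟩ := IsPGroup.iff_card.1 (hG.to_subgroup (commutator X ⊓ center X))
      have hk0 : k ≠ 0 := fun e => CfsgLib.PGroupBasic.inf_center_ne_bot _ hne
        (eq_bot_of_card_eq _ (by rw [hk, e, pow_zero]))
      obtain ⟨z, hz⟩ := exists_prime_orderOf_dvd_card' (G := (commutator X ⊓ center X : Subgroup X)) 2
        (hk ▸ dvd_pow_self 2 hk0)
      exact ⟨z, z.2, by rw [orderOf_coe, hz]⟩
    haveI hZn : (zpowers z).Normal := ⟨fun y hy g => by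
      have : y ∈ center X := zpowers_le.2 hz.2 hy
      rwa [mem_center_iff.1 this g, mul_inv_cancel_right]⟩
    let π := QuotientGroup.mk' (zpowers z)
    have hQ : Nat.card (X ⧸ zpowers z) = 2 ^ n := by
      have h1 := (zpowers z).card_mul_index
      rw [Nat.card_zpowers, hz2, hX, index_eq_card, pow_succ'] at h1
      omega
    obtain ⟨C, hC, hCi⟩ := ih hQ (by
      rw [index_commutator_quotient _ (zpowers_le.2 hz.1), hc])
    set A := C.comap π with hA
    have hAi : A.index = 2 := by
      rw [hA, index_comap_of_surjective _ (QuotientGroup.mk'_surjective _), hCi]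
    obtain ⟨c, hcg⟩ := hC.exists_generator
    obtain ⟨a, ha⟩ := QuotientGroup.mk'_surjective (zpowers z) (c : X ⧸ zpowers z)
    have haA : a ∈ A := show π a ∈ C by rw [show π a = c from ha]; exact c.2
    have hdec : ∀ b ∈ A, ∃ i j : ℤ, b = a ^ i * z ^ j := fun b hb => by
      obtain ⟨i, hi⟩ := mem_zpowers_iff.1 (hcg ⟨π b, hb⟩)
      have h1 : π (a ^ i) = π b := by
        rw [map_zpow, show π a = c from ha, ← SubgroupClass.coe_zpow, hi]
      obtain ⟨j, hj⟩ := mem_zpowers_iff.1 (QuotientGroup.eq.1 h1)
      exact ⟨i, j, by rw [hj, mul_inv_cancel_left]⟩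
    have hAc : IsMulCommutative A := ⟨⟨fun x y => by
      obtain ⟨i, j, hx⟩ := hdec x x.2
      obtain ⟨k, l, hy⟩ := hdec y y.2
      refine Subtype.ext ?_
      show (x : X) * y = y * x
      have hzc : ∀ g : X, Commute g z := fun g => mem_center_iff.1 hz.2 g
      rw [hx, hy]
      exact (((Commute.refl a).zpow_zpow i k).mul_right ((hzc (a ^ i)).zpow_right l)).mul_left
        ((((hzc (a ^ k)).zpow_right j).symm).mul_right ((Commute.refl z).zpow_zpow j l))⟩⟩
    have hC2 : Nat.card C = 2 ^ (n - 1) := by
      have h1 := C.card_mul_index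
      rw [hCi, hQ, show n = n - 1 + 1 by omega, pow_succ] at h1
      omega
    have hπa : orderOf (π a) = 2 ^ (n - 1) := by
      rw [show π a = c from ha, orderOf_coe, ← hC2, orderOf_eq_card_of_forall_mem_zpowers hcg]
    by_cases htop : a ^ 2 ^ (n - 1) = 1
    · exfalso
      have hcent := card_center (n := n + 1) (by omega) hX hc hAc hAi
      have hzc : center X = zpowers z := (eq_of_le_of_card_ge (zpowers_le.2 hz.2)
        (by rw [hcent, Nat.card_zpowers, hz2])).symm
      set w := a ^ 2 ^ (n - 2) with hw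
      have hπw : π w ≠ 1 := fun h => by
        rw [hw, map_pow] at h
        have := orderOf_dvd_of_pow_eq_one h
        rw [hπa, Nat.pow_dvd_pow_iff_le_right (by norm_num)] at this
        omega
      refine hπw ((QuotientGroup.eq_one_iff w).2 (hzc ▸ mem_center_iff.2 fun g => ?_))
      haveI : A.Normal := CfsgLib.AbelianIndexP.normal_of_index_prime (p := 2) hG hAi
      obtain ⟨i, j, hij⟩ := hdec _ (Normal.conj_mem inferInstance a haA g)
      have h1 : g * w * g⁻¹ = w ^ i := by
        rw [hw, ← conj_pow, hij, Commute.mul_pow (Commute.zpow_right (show Commute (a ^ i) z from mem_center_iff.1 hz.2 (a ^ i)) j)]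
        obtain ⟨e, he⟩ : 2 ∣ 2 ^ (n - 2) := dvd_pow_self 2 (by omega)
        have hz1 : (z ^ j) ^ (2 ^ (n - 2)) = 1 := by
          rw [he, pow_mul, ← zpow_natCast (z ^ j) 2, ← zpow_mul, mul_comm, zpow_mul, zpow_natCast,
            ← hz2, pow_orderOf_eq_one, one_zpow, one_pow]
        rw [hz1, mul_one, ← zpow_natCast, ← zpow_natCast, ← zpow_mul, ← zpow_mul, mul_comm]
      have hw2 : w ^ 2 = 1 := by
        rw [hw, ← pow_mul, ← pow_succ, show n - 2 + 1 = n - 1 by omega, htop]
      obtain ⟨t, rfl | rfl⟩ := Int.even_or_odd' i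
      · rw [zpow_mul, show ((2 : ℤ)) = ((2 : ℕ) : ℤ) from rfl, zpow_natCast, hw2, one_zpow] at h1
        exact absurd (conj_eq_one_iff.1 h1) (fun e => hπw (by rw [e, map_one]))
      · rw [zpow_add, zpow_mul, show ((2 : ℤ)) = ((2 : ℕ) : ℤ) from rfl, zpow_natCast, hw2, one_zpow,
          one_mul, zpow_one, mul_inv_eq_iff_eq_mul] at h1
        exact h1
    · refine ⟨zpowers a, inferInstance, ?_⟩
      have h1 : a ^ 2 ^ (n - 1 + 1) = 1 := by
        have h2 : π (a ^ 2 ^ (n - 1)) = 1 := by rw [map_pow, ← hπa, pow_orderOf_eq_one]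
        obtain ⟨j, hj⟩ := mem_zpowers_iff.1 ((QuotientGroup.eq_one_iff _).1 h2)
        rw [pow_succ, pow_mul, ← hj, ← zpow_natCast, ← zpow_mul, mul_comm, zpow_mul, zpow_natCast,
          ← hz2, pow_orderOf_eq_one, one_zpow]
      have h3 := orderOf_eq_prime_pow htop h1
      have h4 := (zpowers a).card_mul_index
      rw [Nat.card_zpowers, h3, hX, show n - 1 + 1 = n by omega, pow_succ] at h4
      exact Nat.eq_of_mul_eq_mul_left (Nat.pos_of_ne_zero (by positivity)) h4

/-- A `2`-group with `[X : X'] = 4` has maximal class. -/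
theorem class_of_index_commutator : ∀ (n : ℕ), 2 ≤ n → ∀ {X : Type u} [Group X] [Finite X],
    Nat.card X = 2 ^ n → (commutator X).index = 4 → Group.nilpotencyClass X = n - 1 := by
  intro n hn
  induction n, hn using Nat.le_induction with
  | base =>
    intro X _ _ hX hc
    haveI := (IsPGroup.of_card hX).isNilpotent
    haveI : Nontrivial X := Finite.one_lt_card_iff_nontrivial.1 (by rw [hX]; norm_num)
    refine class_eq_one fun a b => commutatorElement_eq_one_iff_mul_comm.1 ?_
    have h1 := (commutator X).card_mul_index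
    rw [hc, hX] at h1
    have h2 : commutator X = ⊥ := eq_bot_of_card_eq _ (by omega)
    exact mem_bot.1 (h2 ▸ commutator_mem_commutator (mem_top a) (mem_top b))
  | succ n hn ih =>
    intro X _ _ hX hc
    have hG : IsPGroup 2 X := IsPGroup.of_card hX
    haveI := hG.isNilpotent
    haveI : Nontrivial X := Finite.one_lt_card_iff_nontrivial.1
      (by rw [hX]; exact Nat.one_lt_pow (by omega) (by norm_num))
    obtain ⟨C, hC, hCi⟩ := cyclic_index_two (n + 1) (by omega) hX hc
    have hcent := card_center (n := n + 1) (by omega) hX hc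
      ⟨⟨(IsCyclic.commGroup (α := C)).mul_comm⟩⟩ hCi
    have hne : commutator X ≠ ⊥ := fun h => not_abelian (n := n + 1) (by omega) hX hc
      ⟨⟨fun a b => commutatorElement_eq_one_iff_mul_comm.1
        (mem_bot.1 (h ▸ commutator_mem_commutator (mem_top a) (mem_top b)))⟩⟩
    have hle : center X ≤ commutator X := by
      have h1 := CfsgLib.PGroupBasic.inf_center_ne_bot _ hne
      rcases (Nat.dvd_prime Nat.prime_two).1
        (hcent ▸ card_dvd_of_le (inf_le_right : commutator X ⊓ center X ≤ center X)) with h | h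
      · exact absurd (eq_bot_of_card_eq _ h) h1
      · exact inf_eq_right.1 (eq_of_le_of_card_ge inf_le_right (hcent.trans h.symm).le)
    have hQ : Nat.card (X ⧸ center X) = 2 ^ n := by
      have h1 := (center X).card_mul_index
      rw [hcent, hX, index_eq_card, pow_succ'] at h1
      omega
    rw [Group.nilpotencyClass_eq_quotient_center_plus_one,
      ih hQ (by rw [index_commutator_quotient _ hle, hc])]
    omega

theorem index_commutator_of_class {n : ℕ} (hn : 3 ≤ n) {X : Type u} [Group X] [Finite X]
    (hX : Nat.card X = 2 ^ n) (hcl : Group.nilpotencyClass X = n - 1) :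
    (commutator X).index = 4 := by
  have hG : IsPGroup 2 X := IsPGroup.of_card hX
  haveI := hG.isNilpotent
  set L := fun i => (⊤ : Subgroup X).lowerCentralSeries i with hL
  have hne : L (n - 2) ≠ ⊥ := fun h => by
    have := (Subgroup.lowerCentralSeries_eq_bot_iff_nilpotencyClass_le).1 h
    omega
  have hupper : ∀ j i, i + j = n - 1 → 2 ^ j ≤ Nat.card (L i) := by
    intro j
    induction j with
    | zero => intro i _; rw [pow_zero]; exact Nat.card_pos
    | succ j ih =>
      intro i hi
      have hLi : L i ≠ ⊥ := fun h => hne (le_bot_iff.1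
        ((Subgroup.lowerCentralSeries_antitone (⊤ : Subgroup X) (by omega : i ≤ n - 2)).trans h.le))
      have h1 : 2 * Nat.card (L (i + 1)) ≤ Nat.card (L i) :=
        CfsgLib.Uniserial.descend (hG.to_subgroup ⊤) le_top le_top
          ((⊤ : Subgroup X).self_le_normalizer_lowerCentralSeries i) hLi
      calc 2 ^ (j + 1) = 2 * 2 ^ j := by rw [pow_succ']
        _ ≤ 2 * Nat.card (L (i + 1)) := Nat.mul_le_mul_left _ (ih (i + 1) (by omega))
        _ ≤ _ := h1
  have h1 := hupper (n - 2) 1 (by omega)
  have h2 := CfsgLib.Uniserial.sq_le_index_commutator (p := 2) hG (fun h => hne (le_bot_iff.1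
    ((Subgroup.lowerCentralSeries_antitone (⊤ : Subgroup X) (by omega : 1 ≤ n - 2)).trans h.le)))
  have h3 := (L 1).card_mul_index
  rw [hX] at h3
  refine le_antisymm ?_ h2
  refine Nat.le_of_mul_le_mul_left ?_ (pow_pos (by norm_num : 0 < 2) (n - 2))
  calc 2 ^ (n - 2) * (L 1).index ≤ Nat.card (L 1) * (L 1).index := Nat.mul_le_mul_right _ h1
    _ = 2 ^ (n - 2) * 4 := by
      rw [h3, show n = n - 2 + 2 by omega, pow_add, Nat.add_sub_cancel]; norm_num

theorem klein_of_index {X : Type u} [Group X] [Finite X] {n : ℕ} (hn : 3 ≤ n)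
    (hX : Nat.card X = 2 ^ n) (hc : (commutator X).index = 4) : IsKleinFour (X ⧸ commutator X) := by
  have h4 : Nat.card (X ⧸ commutator X) = 4 := hc
  haveI : Nontrivial (X ⧸ commutator X) := Finite.one_lt_card_iff_nontrivial.1 (by omega)
  refine ⟨h4, (Monoid.exponent_eq_prime_iff (p := 2) Nat.prime_two).2 fun g hg => ?_⟩
  obtain ⟨i, hi, hi'⟩ := (Nat.dvd_prime_pow Nat.prime_two).1
    (show orderOf g ∣ 2 ^ 2 by rw [show (2 : ℕ) ^ 2 = 4 by norm_num, ← h4]; exact orderOf_dvd_natCard g)
  interval_cases i
  · exact absurd (orderOf_eq_one_iff.1 (by simpa using hi')) hg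
  · simpa using hi'
  · refine absurd (isCyclic_of_orderOf_eq_card g (hi'.trans h4.symm)) ?_
    refine CfsgLib.Uniserial.not_isCyclic_abelianization (IsPGroup.of_card hX) (fun h => ?_)
    have h5 : commutator X = ⊥ := h
    rw [h5, index_bot, hX] at hc
    have : 2 ^ 3 ≤ 2 ^ n := Nat.pow_le_pow_right (by norm_num) hn
    omega

/-- The central quotient of a `2`-group of maximal class is dihedral. -/
theorem central_quotient_dihedral {n : ℕ} (hn : 3 ≤ n) {X : Type u} [Group X] [Finite X]
    (hX : Nat.card X = 2 ^ n) (hc : (commutator X).index = 4) :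
    Nonempty (X ⧸ center X ≃* DihedralGroup (2 ^ (n - 2))) := by
  classical
  have hG : IsPGroup 2 X := IsPGroup.of_card hX
  obtain ⟨C, hC, hCi⟩ := cyclic_index_two n hn hX hc
  have hCc : IsMulCommutative C := ⟨⟨(IsCyclic.commGroup (α := C)).mul_comm⟩⟩
  have hcent := card_center hn hX hc hCc hCi
  have hZC : center X ≤ C := CfsgLib.AbelianIndexP.center_le (not_abelian hn hX hc) hCc hCi
  haveI hCn := CfsgLib.AbelianIndexP.normal_of_index_prime (p := 2) hG hCi
  obtain ⟨c, hcg⟩ := hC.exists_generator
  have hC2 : Nat.card C = 2 ^ (n - 1) := by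
    have h1 := C.card_mul_index
    rw [hCi, hX, show n = n - 1 + 1 by omega, pow_succ] at h1
    omega
  let π := QuotientGroup.mk' (center X)
  have hsq : ∀ x, x ∉ C → x ^ 2 ∈ center X := fun x hx => by
    refine mem_center_iff.2 fun g => ?_
    have h1 : C ≤ centralizer {x ^ 2} := fun y hy => mem_centralizer_singleton_iff.2
      (congrArg Subtype.val (hCc.is_comm.comm ⟨y, hy⟩
        ⟨x ^ 2, (show x ^ 2 ∈ C from hCi ▸ C.pow_index_mem x)⟩))
    have h2 := CfsgLib.AbelianIndexP.eq_top_of_lt_of_index_prime Nat.prime_two hCi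
      (lt_of_le_of_ne h1 fun e => hx (e.ge (mem_centralizer_singleton_iff.2 (Commute.self_pow x 2).eq)))
    exact mem_centralizer_singleton_iff.1 (h2 ▸ mem_top g)
  obtain ⟨x, hx⟩ : ∃ x, x ∉ C := by
    by_contra! h
    rw [show C = ⊤ from eq_top_iff.2 fun g _ => h g, index_top] at hCi
    omega
  have hxc : x * c ∉ C := fun h => hx ((C.mul_mem_cancel_right c.2).1 h)
  have hord : ∀ y, y ∉ C → orderOf (π y) = 2 := fun y hy => orderOf_eq_prime
    (by rw [← map_pow]; exact (QuotientGroup.eq_one_iff _).2 (hsq y hy))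
    (fun h => hy (hZC ((QuotientGroup.eq_one_iff _).1 h)))
  have hπc : orderOf (π c) = 2 ^ (n - 2) := by
    rw [← Nat.card_zpowers, ← MonoidHom.map_zpowers π, show zpowers (c : X) = C from
      le_antisymm (zpowers_le.2 c.2) fun y hy => by
        obtain ⟨i, hi⟩ := mem_zpowers_iff.1 (hcg ⟨y, hy⟩)
        exact ⟨i, by simpa using congrArg Subtype.val hi⟩]
    have h1 := (C.map π).card_mul_index
    rw [index_map_eq C (QuotientGroup.mk'_surjective _) (by rw [QuotientGroup.ker_mk']; exact hZC),
      hCi] at h1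
    have h2 := (center X).card_mul_index
    rw [hcent, index_eq_card, ← h1, hX, show n = n - 2 + 1 + 1 by omega, pow_succ, pow_succ] at h2
    omega
  have hne : π x ≠ π (x * c) := fun h => by
    have h1 : π c = 1 := by rwa [map_mul, left_eq_mul] at h
    rw [h1, orderOf_one] at hπc
    have : 2 ^ 1 ≤ 2 ^ (n - 2) := Nat.pow_le_pow_right (by norm_num) (by omega)
    omega
  obtain ⟨e⟩ := CfsgLib.Invol.nonempty_dihedral_equiv (hord x hx) (hord _ hxc) hne
  have htop : closure ({π x, π (x * c)} : Set (X ⧸ center X)) = ⊤ := by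
    set K := closure ({π x, π (x * c)} : Set (X ⧸ center X))
    have h1 : C ≤ K.comap π := fun y hy => by
      obtain ⟨i, hi⟩ := mem_zpowers_iff.1 (hcg ⟨y, hy⟩)
      have h2 : π c ∈ K := by
        have := mul_mem (inv_mem (subset_closure (Set.mem_insert _ _) : π x ∈ K))
          (subset_closure (Set.mem_insert_of_mem _ rfl) : π (x * c) ∈ K)
        rwa [map_mul, inv_mul_cancel_left] at this
      show π y ∈ K
      rw [show y = (c : X) ^ i by simpa using (congrArg Subtype.val hi).symm, map_zpow]
      exact zpow_mem h2 i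
    have h3 : K.comap π = ⊤ := CfsgLib.AbelianIndexP.eq_top_of_lt_of_index_prime Nat.prime_two hCi
      (lt_of_le_of_ne h1 fun e => hx (e.ge (show π x ∈ K from subset_closure (Set.mem_insert _ _))))
    exact eq_top_iff.2 fun y _ => by
      obtain ⟨y, rfl⟩ := QuotientGroup.mk'_surjective _ y
      exact (h3 ▸ mem_top y : y ∈ K.comap π)
  have ho : orderOf (π x * π (x * c)) = 2 ^ (n - 2) := by
    rw [map_mul, ← mul_assoc, ← pow_two, show π x ^ 2 = 1 from hord x hx ▸ pow_orderOf_eq_one (π x),
      one_mul, hπc]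
  rw [← ho]
  exact ⟨Subgroup.topEquiv.symm.trans ((MulEquiv.subgroupCongr htop.symm).trans e)⟩

end CfsgLib.MaximalClass
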