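import Mathlib.GroupTheory.Index
import Mathlib.GroupTheory.Complement
import Mathlib.GroupTheory.GroupAction.Quotient
import Mathlib.GroupTheory.Coset.Card
import Mathlib.GroupTheory.OrderOfElement
import Mathlib.Tactic.Group

/-!
Gaschütz's theorem: existence and conjugacy of complements of an abelian normal subgroup.
-/

set_option autoImplicit false
set_option linter.style.haveILetI false

namespace CfsgLib.Gaschutz

open Subgroup
open scoped Pointwise

variable {G : Type*} [Group G] [Finite G] {K U : Subgroup G} [K.Normal] [IsMulCommutative K]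

theorem pow_bijective {A : Type*} [Group A] {m : ℕ} (h : (Nat.card A).Coprime m) :
    Function.Bijective fun x : A => x ^ m := (powCoprime h).bijective

omit [Finite G] in
theorem conjNormal_eq_of_mem (k : K) (g : G) (hg : g ∈ K) : MulAut.conjNormal g k = k := by
  refine Subtype.ext ?_
  rw [MulAut.conjNormal_apply, setLike_mul_comm hg k.2, mul_inv_cancel_right]

theorem exists_complement (hKU : K ≤ U) (hcop : (Nat.card K).Coprime U.index)
    (A : Subgroup G) (hAU : A ≤ U) (hAK : A ⊓ K = ⊥) (hKA : K ⊔ A = U) :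
    ∃ H : Subgroup G, IsComplement' K H := by
  classical
  letI : CommGroup K := { (inferInstance : Group K) with
    mul_comm := fun a b => Subtype.ext (setLike_mul_comm a.2 b.2) }
  haveI := Fintype.ofFinite (G ⧸ U)
  have hd : ∀ u ∈ U, ∃ k : K, (k : G)⁻¹ * u ∈ A := by
    intro u hu
    rw [← hKA] at hu
    obtain ⟨k, hk, a, ha, rfl⟩ := mem_sup_of_normal_left.1 hu
    exact ⟨⟨k, hk⟩, by simpa using ha⟩
  have huniq : ∀ (k k' : K) (u : G), (k : G)⁻¹ * u ∈ A → (k' : G)⁻¹ * u ∈ A → k = k' := by
    intro k k' u h1 h2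
    have h3 : (k : G)⁻¹ * k' ∈ A ⊓ K := mem_inf.2
      ⟨by
        have := mul_mem h1 (inv_mem h2)
        rwa [mul_inv_rev, inv_inv, mul_assoc, mul_inv_cancel_left] at this,
        mul_mem (inv_mem k.2) k'.2⟩
    rw [hAK, mem_bot, inv_mul_eq_one] at h3
    exact Subtype.ext h3
  have hstep : ∀ (g : G) (q : G ⧸ U), (g • q).out⁻¹ * (g * q.out) ∈ U := fun g q => by
    rw [← QuotientGroup.eq, QuotientGroup.out_eq']
    conv_lhs => rw [← QuotientGroup.out_eq' q]
    rfl
  choose κ hκ using fun g q => hd _ (hstep g q)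
  let F : G → K := fun g => ∏ q : G ⧸ U, MulAut.conjNormal (g • q).out (κ g q)
  have hmul : ∀ g h, F (g * h) = F g * MulAut.conjNormal g (F h) := by
    intro g h
    have hk : ∀ q, MulAut.conjNormal ((g * h) • q).out (κ (g * h) q) =
        MulAut.conjNormal (g • (h • q)).out (κ g (h • q)) *
          MulAut.conjNormal g (MulAut.conjNormal (h • q).out (κ h q)) := by
      intro q
      set t := (g • (h • q)).out with htdef
      set a := (κ g (h • q) : G)⁻¹ * (t⁻¹ * (g * (h • q).out)) with hadef
      set b := (κ h q : G)⁻¹ * ((h • q).out⁻¹ * (h * q.out)) with hbdef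
      have ha : a ∈ A := hκ g (h • q)
      have hb : b ∈ A := hκ h q
      have hk1 : κ (g * h) q = κ g (h • q) * MulAut.conjNormal a (κ h q) := by
        refine huniq _ _ _ (hκ _ _) ?_
        have e : ((κ g (h • q) * MulAut.conjNormal a (κ h q) : K) : G)⁻¹ *
            (((g * h) • q).out⁻¹ * (g * h * q.out)) = a * b := by
          rw [Subgroup.coe_mul, MulAut.conjNormal_apply, mul_smul, hadef, hbdef, htdef]
          group
        rw [e]
        exact mul_mem ha hb
      rw [mul_smul, hk1, map_mul]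
      congr 1
      rw [← MulAut.mul_apply, ← map_mul, ← MulAut.mul_apply, ← map_mul]
      have e2 : g * (h • q).out = (t * (κ g (h • q) : G) * t⁻¹) * (t * a) := by rw [hadef]; group
      rw [e2, map_mul _ (t * (κ g (h • q) : G) * t⁻¹), MulAut.mul_apply]
      exact (conjNormal_eq_of_mem _ _ (Normal.conj_mem inferInstance _ (κ g (h • q)).2 t)).symm
    simp only [F, map_prod]
    rw [Finset.prod_congr rfl fun q _ => hk q, Finset.prod_mul_distrib]
    congr 1
    exact Equiv.prod_comp (MulAction.toPerm h) fun q => MulAut.conjNormal (g • q).out (κ g q)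
  have hK : ∀ n : K, F n = n ^ U.index := by
    intro n
    rw [index_eq_card, Nat.card_eq_fintype_card]
    simp only [F]
    rw [Finset.prod_congr rfl (g := fun _ => n), Finset.prod_const, Finset.card_univ]
    intro q _
    have hq : (n : G) • q = q := by
      conv_lhs => rw [← QuotientGroup.out_eq' q]
      conv_rhs => rw [← QuotientGroup.out_eq' q]
      refine QuotientGroup.eq.2 ?_
      have := hKU (Normal.conj_mem' inferInstance _ (inv_mem n.2) q.out)
      simpa [mul_assoc] using this
    have : κ (n : G) q = MulAut.conjNormal q.out⁻¹ n := by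
      refine huniq _ _ _ (hκ _ _) ?_
      rw [hq, MulAut.conjNormal_apply]
      have e : (q.out⁻¹ * (n : G) * q.out⁻¹⁻¹)⁻¹ * (q.out⁻¹ * ((n : G) * q.out)) = 1 := by group
      rw [e]; exact one_mem A
    rw [hq, this, ← MulAut.mul_apply, ← map_mul, mul_inv_cancel, map_one, MulAut.one_apply]
  have h1 : F 1 = 1 := by simpa using hK 1
  let H : Subgroup G :=
    { carrier := {g | F g = 1}
      one_mem' := h1
      mul_mem' := fun {a b} (ha : F a = 1) (hb : F b = 1) =>
        show F (a * b) = 1 by rw [hmul, ha, hb, map_one, one_mul]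
      inv_mem' := fun {a} (ha : F a = 1) => by
        have := hmul a a⁻¹
        rw [mul_inv_cancel, h1, ha, one_mul] at this
        exact (MulEquiv.map_eq_one_iff _).1 this.symm }
  refine ⟨H, isComplement'_of_disjoint_and_mul_eq_univ ?_ ?_⟩
  · rw [disjoint_iff_inf_le]
    intro x hx
    have h2 : F x = 1 := hx.2
    rw [show x = ((⟨x, hx.1⟩ : K) : G) from rfl, hK] at h2
    exact mem_bot.2 (congrArg Subtype.val
      ((pow_bijective hcop).1 (h2.trans (one_pow U.index).symm)))
  · refine Set.eq_univ_of_forall fun g => ?_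
    obtain ⟨n, hn⟩ := (pow_bijective hcop).2 (F g)⁻¹
    change n ^ U.index = (F g)⁻¹ at hn
    refine ⟨(n : G)⁻¹, inv_mem n.2, n * g, ?_, by simp⟩
    show F (n * g) = 1
    rw [hmul, hK, conjNormal_eq_of_mem _ _ n.2, hn, inv_mul_cancel]

theorem conjugate (hKU : K ≤ U) (hcop : (Nat.card K).Coprime U.index)
    (H₀ H₁ : Subgroup G) (h₀ : IsComplement' K H₀) (h₁ : IsComplement' K H₁)
    (hU : H₀ ⊓ U = H₁ ⊓ U) : ∃ g : G, MulAut.conj g • H₀ = H₁ := by
  classical
  letI : CommGroup K := { (inferInstance : Group K) with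
    mul_comm := fun a b => Subtype.ext (setLike_mul_comm a.2 b.2) }
  have hd : ∀ h : H₀, ∃ k : K, (k : G) * h ∈ H₁ := by
    intro h
    obtain ⟨⟨⟨k, hk⟩, ⟨x, hx⟩⟩, e⟩ := h₁.2 (h : G)
    exact ⟨⟨k⁻¹, inv_mem hk⟩, by rw [← e]; simpa using hx⟩
  have huniq : ∀ (k k' : K) (x : G), (k : G) * x ∈ H₁ → (k' : G) * x ∈ H₁ → k = k' := by
    intro k k' x a b
    have h3 : (k : G) * (k' : G)⁻¹ ∈ K ⊓ H₁ := mem_inf.2
      ⟨mul_mem k.2 (inv_mem k'.2), by
        have := mul_mem a (inv_mem b)
        rwa [mul_inv_rev, mul_assoc, mul_inv_cancel_left] at this⟩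
    rw [h₁.disjoint.eq_bot, mem_bot, mul_inv_eq_one] at h3
    exact Subtype.ext h3
  choose d hdd using hd
  have hmul : ∀ g h : H₀, d (g * h) = d g * MulAut.conjNormal (g : G) (d h) := fun g h => by
    refine huniq _ _ _ (hdd _) ?_
    have := mul_mem (hdd g) (hdd h)
    rw [Subgroup.coe_mul, Subgroup.coe_mul, MulAut.conjNormal_apply]
    simpa [mul_assoc] using this
  haveI := Fintype.ofFinite (H₀ ⧸ U.subgroupOf H₀)
  have htriv : ∀ a : H₀, a ∈ U.subgroupOf H₀ → d a = 1 := fun a ha =>
    huniq _ _ _ (hdd a) (by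
      rw [Subgroup.coe_one, one_mul]
      exact (hU ▸ (⟨a.2, ha⟩ : (a : G) ∈ H₀ ⊓ U) : (a : G) ∈ H₁ ⊓ U).1)
  set s := ∏ q : H₀ ⧸ U.subgroupOf H₀, d q.out with hs
  have hm : Nat.card (H₀ ⧸ U.subgroupOf H₀) = U.index := by
    rw [index_eq_card]
    refine Nat.card_eq_of_bijective (Quotient.map' (fun h : H₀ => (h : G)) fun a b hab => ?_) ⟨?_, ?_⟩
    · rw [QuotientGroup.leftRel_apply] at hab ⊢
      simpa [mem_subgroupOf] using hab
    · intro x y
      induction x using Quotient.inductionOn'
      induction y using Quotient.inductionOn'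
      intro h
      rw [Quotient.map'_mk'', Quotient.map'_mk''] at h
      have h' := Quotient.exact' h
      rw [QuotientGroup.leftRel_apply] at h'
      refine Quotient.sound' ?_
      rw [QuotientGroup.leftRel_apply]
      simpa [mem_subgroupOf] using h'
    · intro x
      induction x using Quotient.inductionOn' with
      | _ g =>
        obtain ⟨⟨⟨k, hk⟩, ⟨h, hh⟩⟩, rfl⟩ := h₀.2 g
        refine ⟨Quotient.mk'' ⟨h, hh⟩, ?_⟩
        rw [Quotient.map'_mk'']
        refine Quotient.sound' ?_
        rw [QuotientGroup.leftRel_apply]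
        have := hKU (Normal.conj_mem' inferInstance k hk h)
        simpa [mul_assoc] using this
  have hshift : ∀ g : H₀, s = d g ^ U.index * MulAut.conjNormal (g : G) s := by
    intro g
    have e : ∀ q : H₀ ⧸ U.subgroupOf H₀, d (g • q).out = d g * MulAut.conjNormal (g : G) (d q.out) := by
      intro q
      have hmem : (g * q.out)⁻¹ * (g • q).out ∈ U.subgroupOf H₀ := by
        rw [← QuotientGroup.eq, QuotientGroup.out_eq']
        conv_rhs => rw [← QuotientGroup.out_eq' q]
        rfl
      calc d (g • q).out = d (g * q.out * ((g * q.out)⁻¹ * (g • q).out)) := by rw [mul_inv_cancel_left]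
        _ = _ := by rw [hmul, htriv _ hmem, map_one, mul_one, hmul]
    calc s = ∏ q : H₀ ⧸ U.subgroupOf H₀, d (g • q).out :=
        (Equiv.prod_comp (MulAction.toPerm g) fun q : H₀ ⧸ U.subgroupOf H₀ => d q.out).symm
      _ = _ := by
        rw [Finset.prod_congr rfl fun q _ => e q, Finset.prod_mul_distrib, Finset.prod_const,
          Finset.card_univ, ← Nat.card_eq_fintype_card, hm, hs, map_prod]
  obtain ⟨r, hr⟩ := (pow_bijective hcop).2 s
  change r ^ U.index = s at hr
  refine ⟨r, Subgroup.eq_of_le_of_card_ge ?_ ?_⟩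
  · intro x hx
    rw [Subgroup.mem_pointwise_smul_iff_inv_smul_mem] at hx
    set h : H₀ := ⟨_, hx⟩ with hhdef
    have hh : d h = r * MulAut.conjNormal (h : G) r⁻¹ := by
      refine (pow_bijective hcop).1 ?_
      show d h ^ U.index = (r * MulAut.conjNormal (h : G) r⁻¹) ^ U.index
      rw [mul_pow, ← map_pow, inv_pow, hr, map_inv, eq_mul_inv_iff_mul_eq]
      exact (hshift h).symm
    have he := hdd h
    rw [hh, Subgroup.coe_mul, MulAut.conjNormal_apply, Subgroup.coe_inv] at he
    have : (r : G) * ((h : G) * (r : G)⁻¹ * (h : G)⁻¹) * (h : G) = x := by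
      simp only [hhdef, MulAut.smul_def, MulAut.conj_inv_apply]
      group
    rwa [this] at he
  · refine le_of_eq ?_
    rw [show Nat.card (MulAut.conj (r : G) • H₀ : Subgroup G) = Nat.card H₀ from
      Nat.card_congr (Subgroup.equivSMul _ _).toEquiv.symm]
    exact Nat.eq_of_mul_eq_mul_left (Nat.card_pos (α := K)) (h₁.card_mul_card.trans h₀.card_mul_card.symm)

end CfsgLib.Gaschutz
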