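import Cfsg.Prelude.Def_SolvableStructure
import Cfsg.Agent.Transfer.Basic
import Cfsg.Agent.Solvable.Fitting
import Cfsg.Agent.Solvable.PGroupBasic
import Mathlib.GroupTheory.Subgroup.Simple
import Mathlib.Data.Set.Card.Arithmetic
import Cfsg.Agent.FGSA.Nilpotent

/-!
# Schmidt's theorem on minimal non-nilpotent groups
-/

set_option autoImplicit false
set_option linter.style.haveILetI false
set_option linter.deprecated false
set_option linter.unusedSectionVars false

namespace CfsgLib.Schmidt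

open Subgroup Pointwise CfsgLib.SZ CfsgLib.Solvable
open scoped commutatorElement

universe u

theorem isNilpotent_of_comm {H : Type u} [Group H] (h : IsMulCommutative H) :
    Group.IsNilpotent H := by
  letI : CommGroup H := { (inferInstance : Group H) with mul_comm := h.is_comm.comm }
  infer_instance

theorem isNilpotent_of_le {G : Type u} [Group G] {H K : Subgroup G} (h : H ≤ K)
    (hK : Group.IsNilpotent K) : Group.IsNilpotent H := by
  exact (Group.isNilpotent_congr (subgroupOfEquivOfLe h)).mp inferInstance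

theorem coatom_conj {G : Type u} [Group G] [Finite G] {M : Subgroup G} (hM : IsCoatom M) (g : G) :
    IsCoatom (MulAut.conj g • M) := by
  refine ⟨fun h => hM.1 (eq_top_of_card_eq _ (by rw [← card_conj_smul g M, h, card_top])),
    fun K hK => ?_⟩
  have h1 : M < MulAut.conj g⁻¹ • K := by
    rw [← conj_smul_inv_smul g M]
    refine lt_of_le_of_ne (pointwise_smul_le_pointwise_smul_iff.2 hK.le) fun h => ?_
    exact hK.ne (MulAction.injective _ h)
  exact eq_top_of_card_eq _ (by rw [← card_conj_smul g⁻¹ K, hM.2 _ h1, card_top])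

/-- The conjugates of a self-normalizing subgroup with trivial intersections cover
`|G| - [G : M]` nonidentity elements. -/
theorem card_covered {G : Type u} [Group G] [Finite G] (M : Subgroup G)
    (hN : normalizer (M : Set G) = M)
    (hTI : ∀ g : G, g ∉ M → M ⊓ MulAut.conj g • M = ⊥) :
    M.index * (Nat.card M - 1) ≤ Nat.card {x : G // x ≠ 1 ∧ ∃ g : G, x ∈ MulAut.conj g • M} := by
  classical
  have e : Nat.card {m : M // m ≠ 1} = Nat.card M - 1 := by
    haveI := Fintype.ofFinite M
    rw [Nat.card_eq_fintype_card, Fintype.card_subtype_compl, Fintype.card_subtype_eq,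
      Nat.card_eq_fintype_card]
  rw [index_eq_card, ← e, ← Nat.card_prod]
  let f : (G ⧸ M) × {m : M // m ≠ 1} → {x : G // x ≠ 1 ∧ ∃ g : G, x ∈ MulAut.conj g • M} :=
    fun z => ⟨z.1.out * (z.2.1 : G) * z.1.out⁻¹, fun h => z.2.2 (Subtype.ext (by simpa using h)),
      z.1.out, mem_conj_smul.2 (by simp [mul_assoc])⟩
  refine Nat.card_le_card_of_injective f ?_
  rintro ⟨a, ⟨m, hm⟩⟩ ⟨b, ⟨k, hk⟩⟩ h
  have h1 : a.out * (m : G) * a.out⁻¹ = b.out * (k : G) * b.out⁻¹ := congrArg Subtype.val h
  have hab : a = b := by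
    by_contra hne
    have hg : a.out⁻¹ * b.out ∉ M := fun h' => hne (by
      rw [← QuotientGroup.out_eq' a, ← QuotientGroup.out_eq' b]; exact QuotientGroup.eq.2 h')
    have hmem : (m : G) ∈ M ⊓ MulAut.conj (a.out⁻¹ * b.out) • M := by
      refine ⟨m.2, mem_conj_smul.2 ?_⟩
      have : (a.out⁻¹ * b.out)⁻¹ * (m : G) * (a.out⁻¹ * b.out) = k := by
        calc (a.out⁻¹ * b.out)⁻¹ * (m : G) * (a.out⁻¹ * b.out)
            = b.out⁻¹ * (a.out * (m : G) * a.out⁻¹) * b.out := by group
          _ = b.out⁻¹ * (b.out * (k : G) * b.out⁻¹) * b.out := by rw [h1]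
          _ = k := by group
      rw [this]; exact k.2
    rw [hTI _ hg, mem_bot] at hmem
    exact hm (Subtype.ext hmem)
  subst hab
  have : (m : G) = k := mul_left_cancel (mul_right_cancel h1)
  simp [Subtype.ext this]

theorem schmidt_aux (n : ℕ) : ∀ (G : Type u) [Group G] [Finite G], Nat.card G = n →
    (∀ M : Subgroup G, IsCoatom M → Group.IsNilpotent M) → Group.IsSolvable G := by
  induction n using Nat.strong_induction_on with
  | _ n ih =>
    intro G _ _ hn h
    have hprop : ∀ H : Subgroup G, H ≠ ⊤ → Group.IsNilpotent H := fun H hH => by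
      obtain ⟨M, hM, hHM⟩ := (eq_top_or_exists_le_coatom H).resolve_left hH
      exact isNilpotent_of_le hHM (h M hM)
    by_contra hns
    have hsimple : ∀ N : Subgroup G, N.Normal → N = ⊥ ∨ N = ⊤ := by
      intro N hN
      by_contra hcon
      push Not at hcon
      haveI := hN
      haveI := hprop N hcon.2
      refine hns ((Group.isSolvable_iff_subgroup_quotient N).2 ⟨inferInstance, ?_⟩)
      refine ih _ (hn ▸ card_quotient_lt hcon.1) (G ⧸ N) rfl fun M hM => ?_
      have hne : M.comap (QuotientGroup.mk' N) ≠ ⊤ := fun he => hM.1 (by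
        rw [← map_comap_eq_self_of_surjective (QuotientGroup.mk'_surjective N) M, he,
          map_top_of_surjective _ (QuotientGroup.mk'_surjective N)])
      haveI := hprop _ hne
      exact Group.nilpotent_of_surjective _
        ((QuotientGroup.mk' N).subgroupComap_surjective_of_surjective M
          (QuotientGroup.mk'_surjective N))
    have hnc : ∀ x : G, zpowers x ≠ ⊤ := fun x hx => hns (Group.isSolvable_of_comm fun a b => by
      obtain ⟨i, rfl⟩ := mem_zpowers_iff.1 (hx.ge (mem_top a))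
      obtain ⟨j, rfl⟩ := mem_zpowers_iff.1 (hx.ge (mem_top b))
      exact zpow_mul_comm x i j)
    have hNM : ∀ M : Subgroup G, IsCoatom M → normalizer (M : Set G) = M := by
      intro M hM
      refine ((hM.le_iff.1 le_normalizer).resolve_left fun he => ?_)
      rcases hsimple M (normalizer_eq_top_iff.1 he) with h1 | h1
      · obtain ⟨x, hx⟩ : ∃ x : G, x ≠ 1 := by
          by_contra hall
          push Not at hall
          exact hns (Group.isSolvable_of_comm fun a b => by rw [hall a, hall b])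
        refine hnc x (hM.2 _ (h1 ▸ bot_lt_iff_ne_bot.2 ?_))
        rwa [Ne, zpowers_eq_bot]
      · exact hM.1 h1
    have hinter : ∀ M L : Subgroup G, IsCoatom M → IsCoatom L → M ≠ L → M ⊓ L = ⊥ := by
      by_contra hcon
      push Not at hcon
      obtain ⟨M₀, L₀, hM₀, hL₀, hne₀, hD₀⟩ := hcon
      obtain ⟨D, hDmax⟩ := (Set.toFinite {D : Subgroup G | D ≠ ⊥ ∧ ∃ M L, IsCoatom M ∧ IsCoatom L ∧
        M ≠ L ∧ D = M ⊓ L}).exists_maximal ⟨_, hD₀, M₀, L₀, hM₀, hL₀, hne₀, rfl⟩
      obtain ⟨hD, M, L, hM, hL, hne, rfl⟩ := hDmax.prop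
      have hNtop : normalizer ((M ⊓ L : Subgroup G) : Set G) ≠ ⊤ := fun he => by
        rcases hsimple _ (normalizer_eq_top_iff.1 he) with h1 | h1
        · exact hD h1
        · exact hM.1 (top_le_iff.1 (h1.ge.trans inf_le_left))
      obtain ⟨K, hK, hNK⟩ := (eq_top_or_exists_le_coatom _).resolve_left hNtop
      have side : ∀ A B : Subgroup G, IsCoatom A → IsCoatom B → A ≠ B → A ⊓ B = M ⊓ L → K = A := by
        intro A B hA hB hAB he
        by_contra hKA
        haveI := h A hA
        have hlt : (A ⊓ B).subgroupOf A < ⊤ := by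
          rw [lt_top_iff_ne_top, Ne, subgroupOf_eq_top]
          exact fun hle => hAB ((hA.le_iff.1 (hle.trans inf_le_right)).resolve_left hB.1).symm
        obtain ⟨x, hx, hxn⟩ := SetLike.exists_of_lt
          (Group.normalizerCondition_of_isNilpotent _ hlt)
        rw [← subgroupOf_normalizer_eq inf_le_left, mem_subgroupOf, he] at hx
        have hxK : (x : G) ∈ K ⊓ A := ⟨hNK hx, x.2⟩
        have hle : M ⊓ L ≤ K ⊓ A :=
          le_inf (le_normalizer.trans hNK) (he ▸ inf_le_left)
        refine hxn ?_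
        rw [mem_subgroupOf, he]
        exact hDmax.2 (y := K ⊓ A)
          ⟨fun hb => hD (eq_bot_iff.2 (hle.trans hb.le)), K, A, hK, hA, hKA, rfl⟩ hle hxK
      exact hne ((side M L hM hL hne rfl).symm.trans (side L M hL hM hne.symm (inf_comm L M)))
    have hTI : ∀ M : Subgroup G, IsCoatom M → ∀ g : G, g ∉ M → M ⊓ MulAut.conj g • M = ⊥ :=
      fun M hM g hg => hinter M _ hM (coatom_conj hM g) fun he => hg
        ((hNM M hM).le (conj_smul_eq_iff_mem_normalizer.1 he.symm))
    classical
    haveI := Fintype.ofFinite G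
    have hcover : ∀ M : Subgroup G, IsCoatom M →
        n - M.index ≤ Nat.card {x : G // x ≠ 1 ∧ ∃ g : G, x ∈ MulAut.conj g • M} := by
      intro M hM
      refine le_trans (le_of_eq ?_) (card_covered M (hNM M hM) (hTI M hM))
      rw [Nat.mul_sub, mul_one, mul_comm, card_mul_index, hn]
    have hne1 : Nat.card {x : G // x ≠ 1} = n - 1 := by
      rw [Nat.card_eq_fintype_card, Fintype.card_subtype_compl, Fintype.card_subtype_eq,
        ← Nat.card_eq_fintype_card, hn]
    have hn0 : 0 < n := hn ▸ Nat.card_pos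
    have hidx : ∀ M : Subgroup G, IsCoatom M → 2 ≤ M.index ∧ 2 * M.index ≤ n := by
      intro M hM
      have h1 : M.index ≠ 1 := fun he => hM.1 (index_eq_one.1 he)
      have h2 : M.index ≠ 0 := index_ne_zero_of_finite
      refine ⟨by omega, ?_⟩
      have hMb : M ≠ ⊥ := by
        rintro rfl
        obtain ⟨x, hx⟩ : ∃ x : G, x ≠ 1 := by
          by_contra hall
          push Not at hall
          exact hns (Group.isSolvable_of_comm fun a b => by rw [hall a, hall b])
        exact hnc x (hM.2 _ (bot_lt_iff_ne_bot.2 (by rwa [Ne, zpowers_eq_bot])))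
      have h3 := M.one_lt_card_iff_ne_bot.2 hMb
      calc 2 * M.index ≤ Nat.card M * M.index := Nat.mul_le_mul_right _ h3
        _ = n := by rw [card_mul_index, hn]
    have htop : (⊤ : Subgroup G) ≠ ⊥ := fun he => hns (Group.isSolvable_of_top_eq_bot G he)
    obtain ⟨M, hM, -⟩ : ∃ M : Subgroup G, IsCoatom M ∧ (⊥ : Subgroup G) ≤ M :=
      (eq_top_or_exists_le_coatom _).resolve_left htop.symm
    obtain ⟨x, hx1, hxM⟩ : ∃ x : G, x ≠ 1 ∧ ∀ g : G, x ∉ MulAut.conj g • M := by
      by_contra hcon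
      push Not at hcon
      have hset : {x : G | x ≠ 1} ⊆ ⋃ q : G ⧸ M, (((MulAut.conj q.out • M : Subgroup G) : Set G) \ {1}) := by
        intro x hx
        obtain ⟨g, hg⟩ := hcon x hx
        obtain ⟨m, hm⟩ := QuotientGroup.mk_out_eq_mul M g
        refine Set.mem_iUnion.2 ⟨QuotientGroup.mk g, ?_, hx⟩
        rw [SetLike.mem_coe, hm, conj_smul_mul, conj_smul_self_of_mem m.2]
        exact hg
      have hle := Set.ncard_le_ncard hset
      have hsum := le_trans hle (Set.ncard_iUnion_le_of_fintype _)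
      have hterm : ∀ q : G ⧸ M,
          Set.ncard (((MulAut.conj q.out • M : Subgroup G) : Set G) \ {1}) = Nat.card M - 1 := by
        intro q
        rw [Set.ncard_sdiff_singleton_of_mem (one_mem (MulAut.conj q.out • M)),
          ← Nat.card_coe_set_eq]
        exact congrArg (· - 1) (card_conj_smul q.out M)
      simp only [hterm, Finset.sum_const, Finset.card_univ, smul_eq_mul] at hsum
      rw [← Nat.card_coe_set_eq, ← Nat.card_eq_fintype_card, ← index_eq_card, Nat.mul_sub,
        mul_one, mul_comm, card_mul_index, hn] at hsum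
      have hsum' : n - 1 ≤ n - M.index := hne1 ▸ hsum
      have := hidx M hM
      omega
    obtain ⟨L, hL, hxL⟩ := (eq_top_or_exists_le_coatom _).resolve_left (hnc x)
    let fA : {x : G // x ≠ 1 ∧ ∃ g : G, x ∈ MulAut.conj g • M} ⊕
        {x : G // x ≠ 1 ∧ ∃ g : G, x ∈ MulAut.conj g • L} → {x : G // x ≠ 1} :=
      Sum.elim (fun z => ⟨z.1, z.2.1⟩) (fun z => ⟨z.1, z.2.1⟩)
    have hinj : Function.Injective fA := by
      have hdis : ∀ y : G, y ≠ 1 → (∃ g : G, y ∈ MulAut.conj g • M) → ¬ ∃ g : G, y ∈ MulAut.conj g • L := by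
        rintro y hy ⟨g, hg⟩ ⟨k, hk⟩
        have hne : MulAut.conj g • M ≠ MulAut.conj k • L := by
          intro he
          apply hxM (k⁻¹ * g)
          rw [conj_smul_mul, he, conj_smul_inv_smul]
          exact hxL (mem_zpowers x)
        have := hinter _ _ (coatom_conj hM g) (coatom_conj hL k) hne
        exact hy (mem_bot.1 (this ▸ ⟨hg, hk⟩))
      rintro (⟨a, ha, ha'⟩ | ⟨a, ha, ha'⟩) (⟨b, hb, hb'⟩ | ⟨b, hb, hb'⟩) he <;>
        simp only [fA, Sum.elim_inl, Sum.elim_inr, Subtype.mk.injEq] at he <;> subst he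
      · rfl
      · exact absurd hb' (hdis a ha ha')
      · exact absurd ha' (hdis a ha hb')
      · rfl
    have h1 := Nat.card_le_card_of_injective fA hinj
    rw [Nat.card_sum, hne1] at h1
    have hA := hcover M hM
    have hB := hcover L hL
    obtain ⟨-, h2M⟩ := hidx M hM
    obtain ⟨-, h2L⟩ := hidx L hL
    omega

theorem schmidt {G : Type u} [Group G] [Finite G]
    (h : ∀ M : Subgroup G, IsCoatom M → Group.IsNilpotent M) : Group.IsSolvable G :=
  schmidt_aux _ G rfl h

theorem exists_normal_prime_index {G : Type u} [Group G] [Finite G] [Group.IsSolvable G]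
    [Nontrivial G] : ∃ (p : ℕ) (M : Subgroup G), p.Prime ∧ M.Normal ∧ M.index = p := by
  have hlt := Group.IsSolvable.commutator_lt_top_of_nontrivial (G := G)
  obtain ⟨M, hM, hcM⟩ := (eq_top_or_exists_le_coatom (commutator G)).resolve_left hlt.ne
  have hn : M.Normal := ⟨fun m hm g => by
    have hc : g * m * g⁻¹ * m⁻¹ ∈ M := by
      refine hcM ?_
      rw [_root_.commutator_def, ← commutatorElement_def]
      exact commutator_mem_commutator (mem_top g) (mem_top m)
    simpa [mul_assoc] using M.mul_mem hc hm⟩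
  haveI : Nontrivial (G ⧸ M) := QuotientGroup.nontrivial_iff.2 hM.1
  have h1 : Nat.card (G ⧸ M) ≠ 1 := Finite.one_lt_card.ne'
  obtain ⟨p, hp, hpd⟩ := Nat.exists_prime_and_dvd h1
  haveI := Fact.mk hp
  obtain ⟨z, hz⟩ := exists_prime_orderOf_dvd_card' p hpd
  refine ⟨p, M, hp, hn, ?_⟩
  have hle : M ≤ (zpowers z).comap (QuotientGroup.mk' M) :=
    (QuotientGroup.ker_mk' M).ge.trans (MonoidHom.ker_le_comap _ _)
  rcases hM.le_iff.1 hle with h2 | h2
  · have h3 : (zpowers z).index = 1 := by
      rw [← index_comap_of_surjective (zpowers z) (QuotientGroup.mk'_surjective M), h2, index_top]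
    rw [index_eq_one] at h3
    rw [index_eq_card, ← card_top, ← h3, Nat.card_zpowers, hz]
  · exfalso
    have := congrArg (Subgroup.map (QuotientGroup.mk' M)) h2
    rw [map_comap_eq_self_of_surjective (QuotientGroup.mk'_surjective M),
      (Subgroup.map_eq_bot_iff M).2 (QuotientGroup.ker_mk' M).ge, zpowers_eq_bot] at this
    exact hp.ne_one (by rw [← hz, this, orderOf_one])

theorem commute_of_nilpotent {G : Type u} [Group G] {p q : ℕ} [Fact p.Prime] [Fact q.Prime]
    (hpq : p ≠ q) {P Q H : Subgroup G} (hP : IsPGroup p P) (hQ : IsPGroup q Q) (hPH : P ≤ H)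
    (hQH : Q ≤ H) (hH : Group.IsNilpotent H) : P ≤ centralizer (Q : Set G) := by
  intro a ha
  rw [mem_centralizer_iff]
  intro b hb
  obtain ⟨i, hi⟩ := IsPGroup.iff_orderOf.1 hP ⟨a, ha⟩
  obtain ⟨j, hj⟩ := IsPGroup.iff_orderOf.1 hQ ⟨b, hb⟩
  rw [← orderOf_coe] at hi hj
  haveI := hH
  have := CfsgLib.FGSA.commute_of_coprime_orderOf (⟨b, hQH hb⟩ : H) ⟨a, hPH ha⟩ (by
    rw [← orderOf_coe, ← orderOf_coe, show orderOf b = q ^ j from hj,
      show orderOf a = p ^ i from hi]
    exact Nat.Coprime.pow j i ((Nat.coprime_primes Fact.out Fact.out).2 hpq.symm))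
  exact congrArg Subtype.val this.eq

/-- Structure of minimal non-nilpotent groups. -/
theorem structure_thm {G : Type u} [Group G] [Finite G] (hG : Cfsg.IsMinimalNonNilpotent G) :
    ∃ p q : ℕ, p.Prime ∧ q.Prime ∧ p ≠ q ∧ ∃ (P : Sylow p G) (Q : Sylow q G), IsCyclic P ∧
      (Q : Subgroup G).Normal ∧ (P : Subgroup G) ⊔ Q = ⊤ ∧ ¬ (P : Subgroup G).Normal := by
  obtain ⟨hnn, hprop⟩ := hG
  haveI := schmidt fun M hM => hprop M hM.1
  haveI : Nontrivial G := by
    by_contra hnt
    rw [not_nontrivial_iff_subsingleton] at hnt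
    exact hnn inferInstance
  obtain ⟨p, M, hp, hMn, hMi⟩ := exists_normal_prime_index (G := G)
  haveI := hMn
  haveI := Fact.mk hp
  have hMtop : M ≠ ⊤ := fun h => hp.ne_one (by rw [← hMi, h, index_top])
  have hMnil := hprop M hMtop
  have hSylN : ∀ r : ℕ, r.Prime → r ≠ p → ∀ R : Sylow r G, (R : Subgroup G).Normal ∧
      (R : Subgroup G) ≤ M := by
    intro r hr hrp R
    haveI := Fact.mk hr
    have hRM : (R : Subgroup G) ≤ M := by
      intro x hx
      rw [← QuotientGroup.eq_one_iff (N := M), ← orderOf_eq_one_iff]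
      obtain ⟨j, hj⟩ := IsPGroup.iff_orderOf.1 R.2 ⟨x, hx⟩
      rw [← orderOf_coe] at hj
      refine Nat.eq_one_of_dvd_coprimes (Nat.Coprime.pow j 1 ((Nat.coprime_primes hr hp).2 hrp)) ?_ ?_
      · exact (orderOf_map_dvd (QuotientGroup.mk' M) x).trans hj.dvd
      · rw [pow_one, ← hMi, index_eq_card]; exact _root_.orderOf_dvd_natCard _
    refine ⟨?_, hRM⟩
    haveI := hMnil
    let R' : Sylow r M := R.subtype hRM
    have hn' : (R' : Subgroup M).Normal :=
      Sylow.normal_of_normalizerCondition Group.normalizerCondition_of_isNilpotent R'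
    haveI : Unique (Sylow r M) := Sylow.unique_of_normal R' hn'
    haveI : (R' : Subgroup M).Characteristic := Sylow.characteristic_of_subsingleton R'
    have hmap : (R : Subgroup G) = (R' : Subgroup M).map M.subtype :=
      (map_subgroupOf_eq_of_le hRM).symm
    rw [hmap]
    exact ConjAct.normal_of_characteristic_of_normal
  obtain ⟨P⟩ : Nonempty (Sylow p G) := inferInstance
  have hPn : ¬ (P : Subgroup G).Normal := by
    intro hn
    refine hnn (((Group.isNilpotent_of_finite_tfae (G := G)).out 0 3).2 fun r hr R => ?_)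
    by_cases hrp : r = p
    · subst hrp
      haveI : Unique (Sylow r G) := Sylow.unique_of_normal P hn
      rwa [Subsingleton.elim R P]
    · exact (hSylN r hr.out hrp R).1
  obtain ⟨q, hq, hqp, Q, hgen⟩ : ∃ q, q.Prime ∧ q ≠ p ∧
      ∃ Q : Sylow q G, (P : Subgroup G) ⊔ Q = ⊤ := by
    by_contra hcon
    push Not at hcon
    apply hPn
    rw [← normalizer_eq_top_iff, eq_top_iff]
    let S : ∀ r : Nat.Primes, Sylow (r : ℕ) G := fun r =>
      if h : (r : ℕ) = p then h ▸ P else default
    rw [← CfsgLib.Solvable.iSup_sylow_eq_top S]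
    refine iSup_le fun r => ?_
    by_cases hr : (r : ℕ) = p
    · obtain ⟨r, hr'⟩ := r
      subst hr
      simp only [S, dif_pos]
      exact le_normalizer
    · haveI := Fact.mk r.2
      have hc := hcon r r.2 hr (S r)
      exact (commute_of_nilpotent hr (S r).2 P.2 le_sup_right le_sup_left (hprop _ hc)).trans
        (centralizer_le_normalizer _)
  haveI := Fact.mk hq
  obtain ⟨hQn, hQM⟩ := hSylN q hq hqp Q
  refine ⟨p, q, hp, hq, hqp.symm, P, Q, ?_, hQn, hgen, hPn⟩
  haveI := hQn
  have hPM : ¬ (P : Subgroup G) ≤ M := fun h => hMtop (top_le_iff.1 (hgen ▸ sup_le h hQM))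
  obtain ⟨x, hx, hxM⟩ := SetLike.not_le_iff_exists.1 hPM
  by_cases hxQ : zpowers x ⊔ (Q : Subgroup G) = ⊤
  · have hle : zpowers x ≤ (P : Subgroup G) := zpowers_le.2 hx
    have hd : ∀ A : Subgroup G, A ≤ P → A ⊓ (Q : Subgroup G) = ⊥ := fun A hA =>
      eq_bot_iff.2 ((inf_le_inf_right _ hA).trans
        (IsPGroup.disjoint_of_ne p q hqp.symm _ _ P.2 Q.2).le_bot)
    have h1 := card_sup_of_disjoint (A := zpowers x) (K := (Q : Subgroup G))
      le_normalizer_of_normal (hd _ hle)
    have h2 := card_sup_of_disjoint (A := (P : Subgroup G)) (K := (Q : Subgroup G))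
      le_normalizer_of_normal (hd _ le_rfl)
    rw [hxQ] at h1
    rw [hgen, h1] at h2
    exact ⟨⟨x, hx⟩, fun y => by
      have he := eq_of_le_of_card_le hle (Nat.eq_of_mul_eq_mul_right Nat.card_pos h2).ge
      obtain ⟨i, hi⟩ := mem_zpowers_iff.1 (he.ge y.2)
      exact ⟨i, Subtype.ext (by simpa using hi)⟩⟩
  · exfalso
    apply hPn
    rw [← normalizer_eq_top_iff, eq_top_iff, ← hgen]
    refine sup_le le_normalizer (le_trans ?_ (centralizer_le_normalizer _))
    rw [le_centralizer_iff]
    set C := centralizer ((Q : Subgroup G) : Set G)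
    have hPM' : (P : Subgroup G) ⊓ M ≤ C :=
      commute_of_nilpotent hqp.symm (P.2.to_le inf_le_left) Q.2 inf_le_right hQM hMnil
    have hxC : x ∈ C :=
      commute_of_nilpotent hqp.symm (P.2.to_le (zpowers_le.2 hx)) Q.2 le_sup_left le_sup_right
        (hprop _ hxQ) (mem_zpowers x)
    intro y hy
    obtain ⟨k, hk⟩ : ∃ k : ℤ, (x : G ⧸ M) ^ k = (y : G ⧸ M) := by
      have hc : Nat.card (G ⧸ M) = p := by rw [← index_eq_card, hMi]
      exact mem_zpowers_iff.1 (mem_zpowers_of_prime_card hc fun h => hxM ((QuotientGroup.eq_one_iff x).1 h))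
    rw [← QuotientGroup.mk_zpow, QuotientGroup.eq] at hk
    have hmem : (x ^ k)⁻¹ * y ∈ (P : Subgroup G) ⊓ M :=
      ⟨(P : Subgroup G).mul_mem ((P : Subgroup G).inv_mem ((P : Subgroup G).zpow_mem hx k)) hy, hk⟩
    have he : y = x ^ k * ((x ^ k)⁻¹ * y) := by group
    rw [he]
    exact mul_mem (zpow_mem hxC k) (hPM' hmem)

theorem frattini_map_le {G : Type u} [Group G] [Finite G] (H : Subgroup G) [H.Normal] :
    (frattini ↥H).map H.subtype ≤ frattini G := by
  set F := (frattini ↥H).map H.subtype with hF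
  haveI : F.Normal := ConjAct.normal_of_characteristic_of_normal
  refine le_iInf₂ fun M hM => ?_
  by_contra hFM
  have htop : F ⊔ M = ⊤ := hM.2 _ (lt_of_le_of_ne le_sup_right fun he => hFM (he ▸ le_sup_left))
  have hsup : M.subgroupOf H ⊔ frattini ↥H = ⊤ := by
    rw [eq_top_iff]
    rintro ⟨x, hx⟩ -
    have hx' : x ∈ ((F ⊔ M : Subgroup G) : Set G) := htop ▸ Subgroup.mem_top x
    rw [Subgroup.normal_mul] at hx'
    obtain ⟨a, ⟨a', ha', rfl⟩, b, hb, rfl⟩ := hx'
    have hbH : b ∈ H := by simpa using H.mul_mem (H.inv_mem a'.2) hx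
    have he : (⟨H.subtype a' * b, hx⟩ : H) = a' * ⟨b, hbH⟩ := rfl
    rw [he]
    exact Subgroup.mul_mem _ (Subgroup.mem_sup_right ha') (Subgroup.mem_sup_left hb)
  have h1 := frattini_nongenerating hsup
  rw [Subgroup.subgroupOf_eq_top] at h1
  exact hFM (le_trans (Subgroup.map_subtype_le _) h1)

theorem isMulCommutative_of_nilpotent {G : Type u} [Group G] [Finite G] [Group.IsNilpotent G]
    (h : ∀ p : ℕ, p.Prime → ∀ P : Sylow p G, IsMulCommutative P) : IsMulCommutative G := by
  have hbot : commutator G = ⊥ := by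
    by_contra hne
    apply CfsgLib.PGroupBasic.inf_center_ne_bot (commutator G) hne
    rw [Subgroup.eq_bot_iff_forall]
    intro x hx
    by_contra hx1
    obtain ⟨r, hr, hrd⟩ := Nat.exists_prime_and_dvd (fun h => hx1 (orderOf_eq_one_iff.1 h))
    haveI := Fact.mk hr
    set y := x ^ (orderOf x / r) with hy
    have hyo : orderOf y = r := orderOf_pow_orderOf_div (orderOf_pos x).ne' hrd
    obtain ⟨R, hR⟩ := IsPGroup.exists_le_sylow (IsPGroup.of_card (n := 1)
      (show Nat.card (zpowers y) = r ^ 1 by rw [Nat.card_zpowers, hyo, pow_one]))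
    have h1 : y ∈ (R : Subgroup G) ⊓ commutator G ⊓ center G :=
      ⟨⟨hR (mem_zpowers y), pow_mem hx.1 _⟩, pow_mem hx.2 _⟩
    rw [CfsgLib.TransferBasic.inf_center_inf_commutator_eq_bot (h r hr R), mem_bot] at h1
    exact hr.ne_one (by rw [← hyo, h1, orderOf_one])
  refine ⟨⟨fun a b => ?_⟩⟩
  have : ⁅a, b⁆ ∈ commutator G := commutator_mem_commutator (mem_top a) (mem_top b)
  rw [hbot, mem_bot, commutatorElement_eq_one_iff_commute] at this
  exact this

/-- Miller–Moreno. -/
theorem minimal_nonabelian {G : Type u} [Group G] [Finite G] (hna : ¬ IsMulCommutative G)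
    (h : ∀ H : Subgroup G, H ≠ ⊤ → IsMulCommutative H) :
    (∃ p : ℕ, p.Prime ∧ IsPGroup p G) ∨ ∃ p q : ℕ, p.Prime ∧ q.Prime ∧ p ≠ q ∧
      ∃ (P : Sylow p G) (Q : Sylow q G), IsCyclic P ∧ (Q : Subgroup G).Normal ∧
        Cfsg.IsElementaryAbelian q (Q : Subgroup G) ∧ (P : Subgroup G) ⊔ Q = ⊤ := by
  by_cases hnil : Group.IsNilpotent G
  · left
    by_contra hcon
    push Not at hcon
    refine hna (isMulCommutative_of_nilpotent fun r hr R => h _ fun he => hcon r hr ?_)
    exact R.2.of_equiv ((MulEquiv.subgroupCongr he).trans Subgroup.topEquiv)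
  right
  obtain ⟨p, q, hp, hq, hpq, P, Q, hPc, hQn, hgen, hPn⟩ :=
    structure_thm ⟨hnil, fun H hH => isNilpotent_of_comm (h H hH)⟩
  haveI := Fact.mk hp
  haveI := Fact.mk hq
  haveI := hQn
  have hQtop : (Q : Subgroup G) ≠ ⊤ := fun he =>
    hnil ((Group.isNilpotent_congr ((MulEquiv.subgroupCongr he).trans Subgroup.topEquiv)).mp
      Q.2.isNilpotent)
  haveI hQa := h _ hQtop
  refine ⟨p, q, hp, hq, hpq, P, Q, hPc, hQn, ⟨hQa, ?_⟩, hgen⟩
  let Ω : Subgroup G :=
    { carrier := {x | x ∈ (Q : Subgroup G) ∧ x ^ q = 1}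
      one_mem' := ⟨one_mem _, one_pow _⟩
      mul_mem' := fun {a b} ha hb => ⟨mul_mem ha.1 hb.1, by
        have hc : Commute a b :=
          congrArg Subtype.val (hQa.is_comm.comm (⟨a, ha.1⟩ : (Q : Subgroup G)) ⟨b, hb.1⟩)
        rw [hc.mul_pow, ha.2, hb.2, one_mul]⟩
      inv_mem' := fun {a} ha => ⟨inv_mem ha.1, by rw [inv_pow, ha.2, inv_one]⟩ }
  have hΩQ : Ω ≤ Q := fun x hx => hx.1
  haveI : Ω.Normal := ⟨fun x hx g => ⟨hQn.conj_mem x hx.1 g, by rw [conj_pow, hx.2]; group⟩⟩
  by_cases htop : (P : Subgroup G) ⊔ Ω = ⊤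
  · have hd : ∀ A : Subgroup G, A ≤ Q → (P : Subgroup G) ⊓ A = ⊥ := fun A hA =>
      eq_bot_iff.2 ((inf_le_inf_left _ hA).trans (IsPGroup.disjoint_of_ne p q hpq _ _ P.2 Q.2).le_bot)
    have h1 := card_sup_of_disjoint (A := (P : Subgroup G)) (K := Ω) le_normalizer_of_normal
      (hd _ hΩQ)
    have h2 := card_sup_of_disjoint (A := (P : Subgroup G)) (K := (Q : Subgroup G))
      le_normalizer_of_normal (hd _ le_rfl)
    rw [htop] at h1
    rw [hgen, h1] at h2
    have he := eq_of_le_of_card_le hΩQ (Nat.eq_of_mul_eq_mul_left Nat.card_pos h2).ge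
    exact fun a ha => (he.ge ha).2
  exfalso
  apply hPn
  rw [← normalizer_eq_top_iff, eq_top_iff, ← hgen]
  refine sup_le le_normalizer (le_trans ?_ (centralizer_le_normalizer _))
  haveI hab := h _ htop
  have hcent : Ω ≤ centralizer ((P : Subgroup G) : Set G) := by
    intro x hx
    rw [mem_centralizer_iff]
    exact fun y hy => congrArg Subtype.val (hab.is_comm.comm
      (⟨y, mem_sup_left hy⟩ : ↥((P : Subgroup G) ⊔ Ω)) ⟨x, mem_sup_right hx⟩)
  obtain ⟨i, hi⟩ := IsPGroup.iff_card.1 P.2
  obtain ⟨j, hj⟩ := IsPGroup.iff_card.1 Q.2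
  have hd := CfsgLib.CoprimeAct.fixed_inf_commutator_abelian
    (A := (P : Subgroup G)) (V := (Q : Subgroup G)) le_normalizer_of_normal
    (by rw [hi, hj]; exact Nat.Coprime.pow i j ((Nat.coprime_primes hp hq).2 hpq))
  rw [← commutator_eq_bot_iff_le_centralizer, Subgroup.eq_bot_iff_forall]
  intro x hx
  by_contra hx1
  have hxQ : x ∈ (Q : Subgroup G) := commutator_le_left (Q : Subgroup G) (P : Subgroup G) hx
  obtain ⟨k, hk⟩ := IsPGroup.iff_orderOf.1 Q.2 ⟨x, hxQ⟩
  rw [← orderOf_coe] at hk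
  have hk0 : k ≠ 0 := fun h0 => hx1 (orderOf_eq_one_iff.1 (by simpa [h0] using hk))
  set y := x ^ (orderOf x / q) with hy
  have hyo : orderOf y = q := orderOf_pow_orderOf_div (orderOf_pos x).ne'
    (show q ∣ orderOf x by rw [show orderOf x = q ^ k from hk]; exact dvd_pow_self q hk0)
  have hyΩ : y ∈ Ω := ⟨pow_mem hxQ _, orderOf_dvd_iff_pow_eq_one.1 hyo.dvd⟩
  have hyC : y ∈ (⁅(Q : Subgroup G), (P : Subgroup G)⁆) := pow_mem hx _
  have h1 : y ∈ ((Q : Subgroup G) ⊓ centralizer ((P : Subgroup G) : Set G)) ⊓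
      ⁅(Q : Subgroup G), (P : Subgroup G)⁆ := ⟨⟨hyΩ.1, hcent hyΩ⟩, hyC⟩
  rw [hd, mem_bot] at h1
  exact hq.ne_one (by rw [← hyo, h1, orderOf_one])

theorem quotient_minimal_nonabelian {G : Type u} [Group G] [Finite G]
    (hG : Cfsg.IsMinimalNonNilpotent G) (q : ℕ) [Fact q.Prime] (hqd : q ∣ Nat.card G)
    (Q : Sylow q G) (hQ : (Q : Subgroup G).Normal) (D : Subgroup G) [D.Normal]
    (hD : D = (commutator ↥(Q : Subgroup G)).map (Q : Subgroup G).subtype) :
    ¬ IsMulCommutative (G ⧸ D) ∧ ∀ K : Subgroup (G ⧸ D), K ≠ ⊤ → IsMulCommutative K := by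
  obtain ⟨p', q', hp', hq', hpq', P, Q', hPc, hQ'n, hgen, hPn⟩ := structure_thm hG
  haveI := Fact.mk hp'
  haveI := Fact.mk hq'
  haveI := hQ
  haveI := hQ'n
  set f := QuotientGroup.mk' D
  have hsurj := QuotientGroup.mk'_surjective D
  have hqp : q ≠ p' := by
    rintro rfl
    haveI : Unique (Sylow q G) := Sylow.unique_of_normal Q hQ
    exact hPn (Subsingleton.elim Q P ▸ hQ)
  have hcomm : (P : Subgroup G).map f ⊔ (Q' : Subgroup G).map f = ⊤ := by
    rw [← Subgroup.map_sup, hgen, map_top_of_surjective f hsurj]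
  have hsyl : ∀ r : ℕ, r.Prime → ∀ R : Sylow r G, IsMulCommutative ((R : Subgroup G).map f) := by
    intro r hr R
    haveI := Fact.mk hr
    by_cases hrp : r = p'
    · subst hrp
      obtain ⟨g, hg⟩ := MulAction.exists_smul_eq G P R
      haveI := hPc
      haveI : IsCyclic (R : Subgroup G) := by
        rw [← hg, Sylow.coe_subgroup_smul]
        exact isCyclic_of_surjective _ (Subgroup.equivSMul (MulAut.conj g) (P : Subgroup G)).surjective
      haveI := isCyclic_of_surjective _ (f.subgroupMap_surjective (R : Subgroup G))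
      infer_instance
    · by_cases hrq : r = q
      · subst hrq
        haveI : Unique (Sylow r G) := Sylow.unique_of_normal Q hQ
        rw [Subsingleton.elim R Q]
        refine ⟨⟨?_⟩⟩
        rintro ⟨_, a, ha, rfl⟩ ⟨_, b, hb, rfl⟩
        apply Subtype.ext
        show f a * f b = f b * f a
        rw [← map_mul, ← map_mul]
        refine QuotientGroup.eq.2 ?_
        have h1 : ⁅(⟨b⁻¹, inv_mem hb⟩ : (Q : Subgroup G)), ⟨a⁻¹, inv_mem ha⟩⁆ ∈
            commutator ↥(Q : Subgroup G) := commutator_mem_commutator (mem_top _) (mem_top _)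
        rw [hD]
        refine ⟨_, h1, ?_⟩
        simp [commutatorElement_def, mul_assoc]
      · have hbot : (R : Subgroup G) = ⊥ := by
          refine eq_bot_of_card_eq _ ?_
          have hd : Nat.card (R : Subgroup G) ∣ Nat.card (P : Subgroup G) * Nat.card (Q' : Subgroup G) := by
            refine dvd_trans (card_subgroup_dvd_card _) ?_
            have := card_sup_dvd (A := (P : Subgroup G)) (K := (Q' : Subgroup G)) le_normalizer_of_normal
            rwa [hgen, card_top] at this
          obtain ⟨a, ha⟩ := IsPGroup.iff_card.1 R.2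
          obtain ⟨i, hi⟩ := IsPGroup.iff_card.1 P.2
          obtain ⟨j, hj⟩ := IsPGroup.iff_card.1 Q'.2
          have hrq' : r ≠ q' := by
            rintro rfl
            have h1 := card_sup_dvd (A := (P : Subgroup G)) (K := (Q' : Subgroup G)) le_normalizer_of_normal
            rw [hgen, card_top, hi, hj] at h1
            rcases (Fact.out : q.Prime).dvd_mul.1 (hqd.trans h1) with h3 | h3
            · exact hqp ((Nat.prime_dvd_prime_iff_eq Fact.out hp').1 ((Fact.out : q.Prime).dvd_of_dvd_pow h3))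
            · exact hrq ((Nat.prime_dvd_prime_iff_eq Fact.out hq').1 ((Fact.out : q.Prime).dvd_of_dvd_pow h3)).symm
          rw [ha, hi, hj] at hd
          rw [ha]
          exact Nat.eq_one_of_dvd_coprimes ((Nat.Coprime.pow a i ((Nat.coprime_primes hr hp').2 hrp)).mul_right
            (Nat.Coprime.pow a j ((Nat.coprime_primes hr hq').2 hrq'))) dvd_rfl hd
        rw [hbot, Subgroup.map_bot]
        infer_instance
  refine ⟨fun hab => ?_, fun K hK => ?_⟩
  · have hDle : D ≤ frattini G := by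
      rw [hD]
      refine le_trans (map_mono (CfsgLib.PGroupBasic.commutator_pow_le_frattini Q.2).1) ?_
      exact frattini_map_le (Q : Subgroup G)
    haveI := isNilpotent_of_comm hab
    haveI : Group.IsNilpotent (G ⧸ frattini G) :=
      Group.nilpotent_of_surjective (QuotientGroup.map D (frattini G) (MonoidHom.id G) hDle)
        (fun y => by
          obtain ⟨g, rfl⟩ := QuotientGroup.mk_surjective y
          exact ⟨QuotientGroup.mk g, rfl⟩)
    exact hG.1 (CfsgLib.Fitting.isNilpotent_of_frattini_quotient this)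
  · have hne : K.comap f ≠ ⊤ := fun he => hK (by
      rw [← map_comap_eq_self_of_surjective hsurj K, he, map_top_of_surjective f hsurj])
    haveI := hG.2 _ hne
    haveI : Group.IsNilpotent K :=
      Group.nilpotent_of_surjective _ (f.subgroupComap_surjective_of_surjective K hsurj)
    refine isMulCommutative_of_nilpotent fun r hr R => ?_
    haveI := Fact.mk hr
    obtain ⟨S, hS⟩ := (R.2.map K.subtype).exists_le_sylow
    obtain ⟨T, hT⟩ := Sylow.mapSurjective_surjective hsurj r S
    haveI := hsyl r hr T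
    refine ⟨⟨fun a b => ?_⟩⟩
    apply Subtype.ext
    apply Subtype.ext
    show ((a : K) : G ⧸ D) * ((b : K) : G ⧸ D) = ((b : K) : G ⧸ D) * ((a : K) : G ⧸ D)
    have hmem : ∀ c : (R : Subgroup K), ((c : K) : G ⧸ D) ∈ (T : Subgroup G).map f := fun c => by
      have := hS (mem_map_of_mem K.subtype c.2)
      rw [← hT] at this
      exact this
    exact congrArg Subtype.val (IsMulCommutative.is_comm.comm
      (⟨_, hmem a⟩ : (T : Subgroup G).map f) ⟨_, hmem b⟩)

end CfsgLib.Schmidt
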