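import Cfsg.Agent.Transfer.Basic
import Cfsg.Agent.Solvable.Glauberman

/-!
A group splits over `O^p` when the Sylow `p`-subgroups of `O^p` are abelian.
-/

set_option autoImplicit false
set_option linter.style.haveILetI false
set_option linter.deprecated false
set_option linter.unusedSectionVars false

namespace CfsgLib.ResidualSplit

open Subgroup CfsgLib.PResidual CfsgLib.TransferBasic
open scoped Pointwise

variable {G : Type*} [Group G] [Finite G] {p : ℕ} [hp : Fact p.Prime]

theorem pResidual_pResidual : Cfsg.pResidual p (Cfsg.pResidual p G) = ⊤ := by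
  set N := Cfsg.pResidual p G
  have h : N ≤ (Cfsg.pResidual p N).map N.subtype := by
    refine (closure_le _).2 fun g (hg : (orderOf g).Coprime p) => ?_
    exact ⟨⟨g, mem_pResidual p hg⟩, mem_pResidual p (by rwa [orderOf_mk]), rfl⟩
  refine eq_top_iff.2 fun x _ => ?_
  obtain ⟨y, hy, e⟩ := h x.2
  exact Subtype.ext e ▸ hy

theorem sylow_le_commutator {N : Type*} [Group N] [Finite N] (h : Cfsg.pResidual p N = ⊤)
    (P : Sylow p N) : (P : Subgroup N) ≤ commutator N := by
  intro x hx
  set A := Abelianization N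
  haveI : Finite A := Finite.of_surjective _ (QuotientGroup.mk'_surjective (commutator N))
  set n := Nat.card A
  set m := n / p ^ n.factorization p
  let f : N →* A := (powMonoidHom m).comp Abelianization.of
  obtain ⟨k, hk⟩ : ∃ k, f.ker.index = p ^ k := by
    rw [index_eq_card, Nat.card_congr (QuotientGroup.quotientKerEquivRange f).toEquiv]
    refine IsPGroup.iff_card.1 fun y => ⟨n.factorization p, ?_⟩
    obtain ⟨z, hz⟩ := y.2
    refine Subtype.ext ?_
    rw [SubmonoidClass.coe_pow, ← hz, OneMemClass.coe_one]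
    show (Abelianization.of z ^ m) ^ p ^ n.factorization p = 1
    rw [← pow_mul, mul_comm, Nat.ordProj_mul_ordCompl_eq_self]
    exact pow_card_eq_one'
  have h1 : (Abelianization.of x) ^ m = 1 := by
    have : x ∈ f.ker := (pResidual_le hk) (h.ge (mem_top x))
    exact this
  have h2 : (orderOf (Abelianization.of x)).Coprime m := by
    obtain ⟨j, hj⟩ := IsPGroup.iff_orderOf.1 P.2 ⟨x, hx⟩
    rw [orderOf_mk] at hj
    refine Nat.Coprime.coprime_dvd_left (hj ▸ orderOf_map_dvd Abelianization.of x) (Nat.Coprime.pow_left _ ?_)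
    exact Nat.coprime_ordCompl hp.out Nat.card_pos.ne'
  rw [← Abelianization.ker_of, MonoidHom.mem_ker, ← orderOf_eq_one_iff]
  exact Nat.eq_one_of_dvd_coprimes h2 dvd_rfl (orderOf_dvd_of_pow_eq_one h1)

theorem exists_complement (h : ∀ Q : Sylow p (Cfsg.pResidual p G), IsMulCommutative Q) :
    ∃ K : Subgroup G, K.IsComplement' (Cfsg.pResidual p G) := by
  set N := Cfsg.pResidual p G with hNdef
  obtain ⟨P₀⟩ : Nonempty (Sylow p N) := inferInstance
  have hP₀ := h P₀
  obtain ⟨A, hAN, hcop, hA⟩ := exists_normalizer_complement P₀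
  have hfix : (P₀ : Subgroup N) ⊓ centralizer (A : Set N) = ⊥ := by
    obtain ⟨hd, -⟩ := focal_disjoint_sup (P := P₀) hP₀
    rw [← inf_centralizer_complement hP₀ hA] at hd
    rw [eq_bot_iff, ← hd]
    refine le_inf le_rfl (inf_le_left.trans ?_)
    rw [← Subgroup.commutator_inf_eq_focalSubgroup]
    exact le_inf (sylow_le_commutator pResidual_pResidual P₀) le_rfl
  set P := (P₀ : Subgroup N).map N.subtype with hP
  set H := A.map N.subtype with hH
  set M := normalizer (P : Set G) with hMdef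
  have hPc : Nat.card P = Nat.card P₀ := card_map_of_injective N.subtype_injective
  have hHc : Nat.card H = Nat.card A := card_map_of_injective N.subtype_injective
  have hcop' : (Nat.card H).Coprime (Nat.card P) := by rw [hPc, hHc]; exact hcop
  have hTmap : ∀ x : N, x ∈ normalizer ((P₀ : Subgroup N) : Set N) ↔ (x : G) ∈ M := by
    intro x
    simp only [hMdef, hP, mem_normalizer_iff]
    refine ⟨fun hx g => ⟨?_, ?_⟩, fun hx g => ?_⟩
    · rintro ⟨y, hy, rfl⟩
      exact ⟨x * y * x⁻¹, (hx y).1 hy, by simp⟩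
    · rintro ⟨y, hy, e⟩
      refine ⟨x⁻¹ * y * x, (hx _).2 (by
        rw [show x * (x⁻¹ * y * x) * x⁻¹ = y by group]; exact hy), ?_⟩
      change (y : G) = x * g * (x : G)⁻¹ at e
      show ((x⁻¹ * y * x : N) : G) = g
      rw [Subgroup.coe_mul, Subgroup.coe_mul, Subgroup.coe_inv, e]
      group
    · have := hx (g : G)
      rw [mem_map_iff_mem N.subtype_injective (x := g) |>.symm]
      rw [mem_map_iff_mem N.subtype_injective (x := x * g * x⁻¹) |>.symm]
      simpa using this
  have hHM : H ≤ M := by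
    rintro _ ⟨a, ha, rfl⟩
    exact (hTmap a).1 (hAN ha)
  have hT : ∀ x, x ∈ N → x ∈ M → x ∈ H ⊔ P := by
    intro x hxN hxM
    have : (⟨x, hxN⟩ : N) ∈ (P₀ : Subgroup N) ⊔ A := hA.ge ((hTmap ⟨x, hxN⟩).2 hxM)
    have := mem_map_of_mem N.subtype this
    rwa [Subgroup.map_sup, sup_comm] at this
  have hfix' : P ⊓ centralizer (H : Set G) = ⊥ := by
    rw [eq_bot_iff]
    rintro x ⟨⟨y, hy, rfl⟩, hx⟩
    have : y ∈ (P₀ : Subgroup N) ⊓ centralizer (A : Set N) := ⟨hy, mem_centralizer_iff.2 fun a ha =>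
      Subtype.ext (mem_centralizer_iff.1 hx _ (mem_map_of_mem _ ha))⟩
    rw [hfix, mem_bot] at this
    rw [this]; simp
  have hsolvP : Group.IsSolvable P := by
    haveI := (P₀.2.map N.subtype).isNilpotent
    infer_instance
  -- Frattini: the normalizer of `H` covers `G/N`
  set M' := M ⊓ normalizer (H : Set G) with hM'
  have hcover : ∀ g : G, ∃ n ∈ N, ∃ m ∈ M', n * m = g := by
    intro g
    have hg : g ∈ M ⊔ N := by
      rw [hMdef, show P = (P₀ : Subgroup N).map N.subtype from rfl]
      exact (Sylow.normalizer_sup_eq_top P₀).ge (mem_top g)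
    rw [sup_comm, mem_sup_of_normal_left] at hg
    obtain ⟨n, hn, m, hm, rfl⟩ := hg
    have hB : MulAut.conj m • H ≤ H ⊔ P := by
      intro z hz
      rw [CfsgLib.SZ.mem_conj_smul] at hz
      have hzN : m⁻¹ * z * m ∈ N := map_subtype_le A hz
      refine hT z ?_ ?_
      · have := Normal.conj_mem inferInstance _ hzN m
        simpa [mul_assoc] using this
      · have := mul_mem (mul_mem hm (hHM hz)) (inv_mem hm)
        simpa [mul_assoc] using this
    obtain ⟨k, hk, he⟩ := CfsgLib.SZ.conj_rel (A := H) (K := P) hHM hcop' (Or.inr hsolvP) hB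
      (CfsgLib.SZ.card_conj_smul m H)
    have hkN : k ∈ N := map_subtype_le _ hk
    refine ⟨n * (m * (m⁻¹ * k * m) * m⁻¹), mul_mem hn (by simpa [mul_assoc] using hkN), k⁻¹ * m,
      mem_inf.2 ⟨mul_mem (inv_mem (le_normalizer hk)) hm, ?_⟩, by group⟩
    rw [← CfsgLib.SZ.conj_smul_eq_iff_mem_normalizer, CfsgLib.SZ.conj_smul_mul, ← he,
      CfsgLib.SZ.conj_smul_inv_smul]
  obtain ⟨Q⟩ : Nonempty (Sylow p M') := inferInstance
  set K := (Q : Subgroup M').map M'.subtype with hKdef
  refine ⟨K, isComplement'_of_disjoint_and_mul_eq_univ ?_ ?_⟩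
  · rw [disjoint_iff_inf_le]
    intro x hx
    obtain ⟨hxM, hxH⟩ := map_subtype_le _ hx.1
    have hxT := hT x hx.2 hxM
    rw [CfsgLib.Solvable.mem_sup_of_le_normalizer hHM] at hxT
    obtain ⟨a, ha, y, hy, rfl⟩ := hxT
    have hyH : y ∈ normalizer (H : Set G) := by
      have := mul_mem (inv_mem (le_normalizer ha : a ∈ normalizer (H : Set G))) hxH
      rwa [inv_mul_cancel_left] at this
    have hy1 : y = 1 := by
      refine mem_bot.1 (hfix' ▸ (⟨hy, mem_centralizer_iff.2 fun b hb => ?_⟩ :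
        y ∈ P ⊓ centralizer (H : Set G)))
      have h1 : y * b * y⁻¹ * b⁻¹ ∈ H :=
        mul_mem ((mem_normalizer_iff.1 hyH b).1 hb) (inv_mem hb)
      have h2 : y * b * y⁻¹ * b⁻¹ ∈ P := by
        have := mul_mem hy ((mem_normalizer_iff.1 (hHM hb) _).1 (inv_mem hy))
        rw [← mul_assoc, ← mul_assoc] at this
        exact this
      have h3 : y * b * y⁻¹ * b⁻¹ ∈ H ⊓ P := ⟨h1, h2⟩
      rw [inf_eq_bot_of_coprime hcop', mem_bot, mul_inv_eq_one, mul_inv_eq_iff_eq_mul] at h3
      exact h3.symm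
    rw [hy1, mul_one] at hx ⊢
    obtain ⟨j, hj⟩ := IsPGroup.iff_orderOf.1 (Q.2.map M'.subtype) ⟨a, hx.1⟩
    rw [orderOf_mk] at hj
    rcases Nat.eq_zero_or_pos j with rfl | hj0
    · exact mem_bot.2 (orderOf_eq_one_iff.1 (by simpa using hj))
    exfalso
    have hpH : p ∣ Nat.card H := (hj ▸ dvd_pow_self p hj0.ne').trans
      (Subgroup.orderOf_dvd_natCard _ ha)
    -- then `p ∤ |P|`, so `N` has no `p`-elements
    have hpN : p ∣ Nat.card N := hpH.trans (card_dvd_of_le (map_subtype_le A))
    have hpP : p ∣ Nat.card P := by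
      rw [hPc, P₀.card_eq_multiplicity]
      exact dvd_pow_self p (hp.out.factorization_pos_of_dvd Nat.card_pos.ne' hpN).ne'
    exact hp.out.ne_one (Nat.eq_one_of_dvd_coprimes hcop' hpH hpP)
  · refine Set.eq_univ_of_forall fun g => ?_
    have htop : K ⊔ N = ⊤ := by
      have hs : Function.Surjective ((QuotientGroup.mk' N).comp M'.subtype) := by
        intro z
        obtain ⟨g, rfl⟩ := QuotientGroup.mk'_surjective N z
        obtain ⟨n, hn, m, hm, rfl⟩ := hcover g
        refine ⟨⟨m, hm⟩, ?_⟩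
        rw [map_mul, show QuotientGroup.mk' N n = 1 from (QuotientGroup.eq_one_iff n).2 hn, one_mul]
        rfl
      obtain ⟨k, hk⟩ := IsPGroup.iff_card.1 (isPGroup_quotient_pResidual (p := p) (G := G))
      have h1 : (Q : Subgroup M').map ((QuotientGroup.mk' N).comp M'.subtype) = ⊤ :=
        index_eq_one.1 (Nat.eq_one_of_dvd_coprimes
          (((hp.out.coprime_iff_not_dvd.2 Q.not_dvd_index).symm).pow_right k)
          (index_map_dvd _ hs) (hk ▸ index_dvd_card _))
      rw [← Subgroup.map_map, ← hKdef] at h1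
      have := congrArg (Subgroup.comap (QuotientGroup.mk' N)) h1
      rwa [comap_map_eq, QuotientGroup.ker_mk', comap_top] at this
    obtain ⟨a, ha, b, hb, e⟩ := mem_sup_of_normal_right.1 (htop.ge (mem_top g))
    exact ⟨a, ha, b, hb, e⟩

end CfsgLib.ResidualSplit
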