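import Cfsg.Agent.Solvable.NilpotentPart
import Cfsg.Agent.Solvable.CoprimeAct
import Cfsg.Agent.Solvable.Factor
import Cfsg.Agent.Char.Burnside
import Cfsg.Agent.Transfer.Frobenius
import Mathlib.GroupTheory.GroupAction.ConjAct

/-!
Wielandt's theorem: a product of two nilpotent subgroups of coprime orders is solvable.

In a minimal counterexample `G = AB` the group is simple, the centralizer of a central element of
`A` is `A`, the normalizer of `A` is the only maximal subgroup over `A`, every nontrivial element of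
`A` lies in one conjugate of `A`, and counting gives a contradiction.
-/

set_option autoImplicit false
set_option linter.style.haveILetI false
set_option linter.deprecated false
set_option linter.unusedSectionVars false

namespace CfsgLib.ProductNilpotent

open Subgroup CfsgLib.Solvable CfsgLib.SZ CfsgLib.NilpotentPart
open scoped Pointwise commutatorElement

universe u

variable {G : Type u} [Group G] [Finite G]

theorem normalizer_le_normalizer_centralizer (U : Subgroup G) :
    normalizer (U : Set G) ≤ normalizer (centralizer (U : Set G) : Set G) := by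
  intro g hg
  have key : ∀ g ∈ normalizer (U : Set G), ∀ c ∈ centralizer (U : Set G),
      g * c * g⁻¹ ∈ centralizer (U : Set G) := by
    intro g hg c hc
    refine mem_centralizer_iff.2 fun u hu => ?_
    have hu' : g⁻¹ * u * g ∈ U := by simpa using (mem_normalizer_iff''.1 hg u).1 hu
    have h := mem_centralizer_iff.1 hc _ hu'
    calc u * (g * c * g⁻¹) = g * ((g⁻¹ * u * g) * c) * g⁻¹ := by group
      _ = g * (c * (g⁻¹ * u * g)) * g⁻¹ := by rw [h]
      _ = g * c * g⁻¹ * u := by group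
  refine mem_normalizer_iff.2 fun c => ⟨key g hg c, fun h => ?_⟩
  simpa [mul_assoc] using key g⁻¹ (inv_mem hg) _ h

/-- The standing hypotheses: a minimal non-solvable product of coprime nilpotent subgroups. -/
structure Ctx (A B : Subgroup G) : Prop where
  nilA : Group.IsNilpotent A
  nilB : Group.IsNilpotent B
  cop : (Nat.card A).Coprime (Nat.card B)
  fac : ∀ g : G, ∃ a ∈ A, ∃ b ∈ B, g = a * b
  ns : ¬ Group.IsSolvable G
  simple : ∀ N : Subgroup G, N.Normal → N = ⊥ ∨ N = ⊤
  ih : ∀ K : Subgroup G, K ≠ ⊤ →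
    (∀ k ∈ K, ∃ a ∈ A ⊓ K, ∃ b ∈ B ⊓ K, k = a * b) → Group.IsSolvable K

/-- A central element of `A`. -/
def IsCentralIn (A : Subgroup G) (z : G) : Prop := z ∈ A ∧ ∀ a ∈ A, a * z = z * a

theorem IsCentralIn.pow {A : Subgroup G} {z : G} (h : IsCentralIn A z) (n : ℕ) :
    IsCentralIn A (z ^ n) :=
  ⟨pow_mem h.1 n, fun a ha => ((show Commute a z from h.2 a ha).pow_right n).eq⟩

theorem IsCentralIn.le_centralizer {A : Subgroup G} {z : G} (h : IsCentralIn A z) :
    A ≤ centralizer {z} := fun a ha => mem_centralizer_singleton_iff.2 (h.2 a ha)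

/-- Two Sylow subgroups of a subgroup are conjugate inside it. -/
theorem sylow_conj_in {C S₁ S₂ : Subgroup G} {s : ℕ} [Fact s.Prime] (h₁ : S₁ ≤ C) (h₂ : S₂ ≤ C)
    (hc₁ : Nat.card S₁ = s ^ (Nat.card C).factorization s)
    (hc₂ : Nat.card S₂ = s ^ (Nat.card C).factorization s) :
    ∃ c ∈ C, MulAut.conj c • S₁ = S₂ := by
  let P₁ : Sylow s C := Sylow.ofCard (S₁.subgroupOf C)
    (by rw [Nat.card_congr (subgroupOfEquivOfLe h₁).toEquiv, hc₁])
  let P₂ : Sylow s C := Sylow.ofCard (S₂.subgroupOf C)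
    (by rw [Nat.card_congr (subgroupOfEquivOfLe h₂).toEquiv, hc₂])
  obtain ⟨c, hc⟩ := MulAction.exists_smul_eq C P₁ P₂
  refine ⟨c, c.2, ?_⟩
  have h := congrArg (fun P : Sylow s C => (P : Subgroup C).map C.subtype) hc
  simp only [Sylow.coe_subgroup_smul, conj_smul_map] at h
  rwa [show (P₁ : Subgroup C) = S₁.subgroupOf C from rfl,
    show (P₂ : Subgroup C) = S₂.subgroupOf C from rfl, map_subgroupOf_eq_of_le h₁,
    map_subgroupOf_eq_of_le h₂] at h

theorem exists_central {A : Subgroup G} (hA : Group.IsNilpotent A) {V : Subgroup G} (hVA : V ≤ A)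
    (hV : A ≤ normalizer (V : Set G)) (h1 : V ≠ ⊥) : ∃ z ∈ V, z ≠ 1 ∧ IsCentralIn A z := by
  haveI := hA
  haveI : (V.subgroupOf A).Normal := (normal_subgroupOf_iff_le_normalizer hVA).2 hV
  have hne : V.subgroupOf A ≠ ⊥ := fun h => h1 (by
    rw [← map_subgroupOf_eq_of_le hVA, h, Subgroup.map_bot])
  obtain ⟨z, hz, hz1⟩ := (bot_or_exists_ne_one _).resolve_left
    (CfsgLib.PGroupBasic.inf_center_ne_bot _ hne)
  exact ⟨z, hz.1, fun e => hz1 (Subtype.ext e), z.2,
    fun a ha => congrArg Subtype.val (mem_center_iff.1 hz.2 ⟨a, ha⟩)⟩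

namespace Ctx

variable {A B : Subgroup G} (c : Ctx A B)
include c

theorem fac' (g : G) : ∃ b ∈ B, ∃ a ∈ A, g = b * a := CfsgLib.Factor.swap c.fac g

theorem symm : Ctx B A where
  nilA := c.nilB
  nilB := c.nilA
  cop := c.cop.symm
  fac := c.fac'
  ns := c.ns
  simple := c.simple
  ih := fun K hK h => c.ih K hK fun k hk => by
    obtain ⟨b, hb, a, ha, e⟩ := h k⁻¹ (inv_mem hk)
    exact ⟨a⁻¹, inv_mem ha, b⁻¹, inv_mem hb, by rw [← inv_inv k, e, mul_inv_rev]⟩

theorem inf_eq_bot : A ⊓ B = ⊥ := eq_bot_of_card_eq _ (Nat.eq_one_of_dvd_coprimes c.cop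
  (card_dvd_of_le inf_le_left) (card_dvd_of_le inf_le_right))

theorem eq_one_of_mem {x : G} (hA : x ∈ A) (hB : x ∈ B) : x = 1 :=
  mem_bot.1 (c.inf_eq_bot ▸ (⟨hA, hB⟩ : x ∈ A ⊓ B))

theorem card_eq : Nat.card G = Nat.card A * Nat.card B := by
  have h := CfsgLib.Factor.card_factor c.fac
  rwa [c.inf_eq_bot, card_bot, mul_one] at h

theorem index_eq : A.index = Nat.card B :=
  Nat.eq_of_mul_eq_mul_left (Nat.card_pos (α := A)) (A.card_mul_index.trans c.card_eq)

theorem hall : (Nat.card A).Coprime A.index := c.index_eq ▸ c.cop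

theorem factorization_eq {p : ℕ} (hp : p.Prime) (hd : p ∣ Nat.card A) :
    (Nat.card A).factorization p = (Nat.card G).factorization p :=
  CfsgLib.NilpotentHall.factorization_hall c.hall hp hd

theorem card_sub {K : Subgroup G} (h : ∀ k ∈ K, ∃ a ∈ A ⊓ K, ∃ b ∈ B ⊓ K, k = a * b) :
    Nat.card K = Nat.card (A ⊓ K : Subgroup G) * Nat.card (B ⊓ K : Subgroup G) := by
  have h1 := CfsgLib.Factor.card_mul_set (A ⊓ K) (B ⊓ K)
  rw [show (A ⊓ K) ⊓ (B ⊓ K) = ⊥ from le_bot_iff.1 (le_trans (inf_le_inf inf_le_left inf_le_left)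
    c.inf_eq_bot.le), card_bot, mul_one] at h1
  rw [← h1]
  refine Nat.card_congr (Equiv.setCongr ?_)
  ext k
  constructor
  · intro hk
    obtain ⟨a, ha, b, hb, e⟩ := h k hk
    exact ⟨a, ha, b, hb, e.symm⟩
  · rintro ⟨a, ha, b, hb, rfl⟩
    exact mul_mem ha.2 hb.2

theorem factor_of_ge {K : Subgroup G} (hAK : A ≤ K) :
    ∀ k ∈ K, ∃ a ∈ A ⊓ K, ∃ b ∈ B ⊓ K, k = a * b := fun k hk => by
  obtain ⟨a, ha, b, hb, rfl⟩ := c.fac k
  exact ⟨a, ⟨ha, hAK ha⟩, b, ⟨hb, (K.mul_mem_cancel_left (hAK ha)).1 hk⟩, rfl⟩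

theorem card_ge {K : Subgroup G} (hAK : A ≤ K) :
    Nat.card K = Nat.card A * Nat.card (B ⊓ K : Subgroup G) := by
  rw [c.card_sub (c.factor_of_ge hAK), inf_eq_left.2 hAK]

theorem solvable_of_ge {K : Subgroup G} (hAK : A ≤ K) (hK : K ≠ ⊤) : Group.IsSolvable K :=
  c.ih K hK (c.factor_of_ge hAK)

theorem not_nilpotent : ¬ Group.IsNilpotent G := fun h => by
  haveI := h
  exact c.ns inferInstance

theorem A_ne_top : A ≠ ⊤ := fun h => c.not_nilpotent <| by
  haveI := c.nilA
  exact Group.nilpotent_of_mulEquiv ((MulEquiv.subgroupCongr h).trans Subgroup.topEquiv)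

theorem A_ne_bot : A ≠ ⊥ := fun h => c.symm.A_ne_top (eq_top_iff.2 fun g _ => by
  obtain ⟨a, ha, b, hb, rfl⟩ := c.fac g
  rw [h, mem_bot] at ha
  rwa [ha, one_mul])

theorem normalizer_ne_top {W : Subgroup G} (h1 : W ≠ ⊥) (h2 : W ≠ ⊤) :
    normalizer (W : Set G) ≠ ⊤ := fun h =>
  (c.simple W (normalizer_eq_top_iff.1 h)).elim h1 h2

theorem normalizer_ne_top_of_le {W : Subgroup G} (h1 : W ≠ ⊥) (h2 : W ≤ A) :
    normalizer (W : Set G) ≠ ⊤ :=
  c.normalizer_ne_top h1 fun h => c.A_ne_top (top_le_iff.1 (h ▸ h2))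

theorem centralizer_ne_top {x : G} (hx : x ≠ 1) : centralizer {x} ≠ (⊤ : Subgroup G) := fun h => by
  have hx' : x ∈ center G := mem_center_iff.2 fun g =>
    mem_centralizer_singleton_iff.1 (h ▸ mem_top g)
  rcases c.simple (center G) inferInstance with e | e
  · exact hx (mem_bot.1 (e ▸ hx'))
  · refine c.ns (Group.isSolvable_of_comm fun a b => ?_)
    exact (mem_center_iff.1 (e ▸ mem_top b : b ∈ center G) a)

/-- A proper subgroup over `B` contains no conjugate of a central element of `A`. -/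
theorem forbidden {K : Subgroup G} (hBK : B ≤ K) (hK : K ≠ ⊤) {z : G} (hz : IsCentralIn A z)
    {g : G} (hg : g * z * g⁻¹ ∈ K) : z = 1 := by
  have key : ∀ h : G, ∃ b ∈ B, h * z * h⁻¹ = b * z * b⁻¹ := fun h => by
    obtain ⟨b, hb, a, ha, rfl⟩ := c.fac' h
    refine ⟨b, hb, ?_⟩
    calc b * a * z * (b * a)⁻¹ = b * (a * z) * a⁻¹ * b⁻¹ := by group
      _ = _ := by rw [hz.2 a ha]; group
  obtain ⟨b, hb, e⟩ := key g
  have hzK : z ∈ K := by
    rw [e] at hg
    simpa [mul_assoc] using mul_mem (mul_mem (inv_mem (hBK hb)) hg) (hBK hb)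
  have hle : normalClosure {z} ≤ K := by
    rw [normalClosure, closure_le]
    intro x hx
    obtain ⟨y, rfl, hy⟩ := Group.mem_conjugatesOfSet_iff.1 hx
    obtain ⟨h, rfl⟩ := isConj_iff.1 hy
    obtain ⟨b, hb, e⟩ := key h
    rw [e]
    exact mul_mem (mul_mem (hBK hb) hzK) (inv_mem (hBK hb))
  rcases c.simple _ normalClosure_normal with h | h
  · exact mem_bot.1 (h ▸ subset_normalClosure (Set.mem_singleton z))
  · exact absurd (top_le_iff.1 (h ▸ hle)) hK

theorem le_of_normalizes {W : Subgroup G} (hW : W ≤ normalizer (A : Set G))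
    (hc : (Nat.card W).Coprime (Nat.card B)) : W ≤ A := by
  have h1 := card_sup_dvd hW
  have h2 : Nat.card (W ⊔ A : Subgroup G) ∣ Nat.card A * Nat.card B :=
    c.card_eq ▸ card_subgroup_dvd_card _
  have h3 : Nat.card (W ⊔ A : Subgroup G) ∣ Nat.card A :=
    ((Nat.Coprime.mul_left hc c.cop).coprime_dvd_left h1).dvd_of_dvd_mul_right h2
  exact le_sup_left.trans (eq_of_le_of_card_le le_sup_right (Nat.le_of_dvd Nat.card_pos h3)).ge

theorem dvd_card_of_normal {K W : Subgroup G} (hAK : A ≤ K) (hWK : W ≤ K)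
    (hn : K ≤ normalizer (W : Set G)) (h : W ⊓ B = ⊥) : Nat.card W ∣ Nat.card A := by
  have h1 := card_sup_mul_card_inf (A := B ⊓ K) (K := W) (inf_le_right.trans hn)
  rw [show (B ⊓ K) ⊓ W = ⊥ from le_bot_iff.1 (by
    rw [← h]; exact le_inf inf_le_right (inf_le_left.trans inf_le_left)), card_bot, mul_one] at h1
  have h2 : Nat.card (B ⊓ K : Subgroup G) * Nat.card W ∣
      Nat.card (B ⊓ K : Subgroup G) * Nat.card A := by
    rw [← h1, mul_comm _ (Nat.card A), ← c.card_ge hAK]
    exact card_dvd_of_le (sup_le inf_le_right hWK)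
  exact (Nat.mul_dvd_mul_iff_left Nat.card_pos).1 h2

theorem pi'_normal_eq_bot {K W : Subgroup G} (hAK : A ≤ K) (hWK : W ≤ K)
    (hn : K ≤ normalizer (W : Set G)) (hc : (Nat.card W).Coprime (Nat.card A)) : W = ⊥ := by
  have hB' : W ≤ B := by
    have h1 : Nat.card ((B ⊓ K) ⊔ W : Subgroup G) ∣ Nat.card (B ⊓ K : Subgroup G) := by
      refine Nat.Coprime.dvd_of_dvd_mul_left ?_
        (c.card_ge hAK ▸ card_dvd_of_le (sup_le inf_le_right hWK))
      refine Nat.Coprime.coprime_dvd_left (card_sup_dvd (inf_le_right.trans hn)) ?_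
      exact Nat.Coprime.mul_left (c.cop.symm.coprime_dvd_left (card_dvd_of_le inf_le_left)) hc
    exact (le_sup_right.trans (eq_of_le_of_card_le le_sup_left (Nat.le_of_dvd Nat.card_pos h1)).ge).trans
      inf_le_left
  have hle : normalClosure (W : Set G) ≤ B := by
    rw [normalClosure, closure_le]
    intro x hx
    obtain ⟨w, hw, hy⟩ := Group.mem_conjugatesOfSet_iff.1 hx
    obtain ⟨h, rfl⟩ := isConj_iff.1 hy
    obtain ⟨b, hb, a, ha, rfl⟩ := c.fac' h
    have h1 : a * w * a⁻¹ ∈ B := hB' ((mem_normalizer_iff.1 (hn (hAK ha)) w).1 hw)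
    have h2 := mul_mem (mul_mem hb h1) (inv_mem hb)
    simpa [mul_assoc] using h2
  rcases c.simple _ normalClosure_normal with h | h
  · exact le_bot_iff.1 (h ▸ subset_normalClosure)
  · exact absurd (top_le_iff.1 (h ▸ hle)) c.symm.A_ne_top

/-- `|A|` is not a prime power. -/
theorem exists_other_prime {p : ℕ} (hp : p.Prime) :
    ∃ s : ℕ, s.Prime ∧ s ≠ p ∧ s ∣ Nat.card A := by
  by_contra! h
  have hA : Nat.card A = p ^ (Nat.card A).factorization p :=
    Nat.eq_pow_of_factorization_eq_single Nat.card_pos.ne' (Finsupp.ext fun q => by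
      by_cases hq : q = p
      · simp [hq]
      · rw [Finsupp.single_apply, if_neg (Ne.symm hq), Nat.factorization_eq_zero_iff]
        by_cases hqp : q.Prime
        · exact Or.inr (Or.inl (h q hqp hq))
        · exact Or.inl hqp)
  have hne : Nontrivial G := by
    by_contra hn
    rw [not_nontrivial_iff_subsingleton] at hn
    exact c.ns (Group.isSolvable_of_comm fun a b => Subsingleton.elim _ _)
  haveI : IsSimpleGroup G := ⟨c.simple⟩
  obtain ⟨y, -, hy1, hy⟩ := exists_central c.nilB (le_refl B) le_normalizer c.symm.A_ne_bot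
  have h1 : (centralizer ({y} : Set G)).index ∣ Nat.card A := by
    rw [← c.symm.index_eq]
    exact index_dvd_of_le hy.le_centralizer
  rw [hA] at h1
  obtain ⟨k, -, hk⟩ := (Nat.dvd_prime_pow hp).1 h1
  have hP := CfsgLib.Char.prime_card_of_prime_pow_class hp hy1 hk
  haveI := Fact.mk hP
  haveI : IsCyclic G := isCyclic_of_prime_card rfl
  exact c.ns (Group.isSolvable_of_comm fun a b => (IsCyclic.commGroup (α := G)).mul_comm a b)

theorem part_ne_bot {p : ℕ} [hp : Fact p.Prime] (hd : p ∣ Nat.card A) : part A p ≠ ⊥ := fun h => by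
  have h1 := card_part (p := p) c.nilA
  rw [h, card_bot] at h1
  have := hp.out.factorization_pos_of_dvd Nat.card_pos.ne' hd
  exact (Nat.one_lt_pow this.ne' hp.out.one_lt).ne h1

theorem exists_le_conj {W : Subgroup G}
    (h : ∀ q : ℕ, q.Prime → q ∣ Nat.card W → q ∣ Nat.card A) : ∃ x : G, W ≤ MulAut.conj x • A :=
  CfsgLib.NilpotentHall.contains_conj A W c.nilA c.hall h

theorem exists_le_conj_part {p : ℕ} [hp : Fact p.Prime] (hd : p ∣ Nat.card A) {V : Subgroup G}
    (hV : IsPGroup p V) : ∃ x : G, V ≤ MulAut.conj x • part A p := by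
  obtain ⟨x, hx⟩ := c.exists_le_conj (W := V) fun q hq hqd => by
    obtain ⟨k, hk⟩ := IsPGroup.iff_card.1 hV
    rw [hk] at hqd
    rwa [(Nat.prime_dvd_prime_iff_eq hq hp.out).1 (hq.dvd_of_dvd_pow hqd)]
  refine ⟨x, ?_⟩
  rw [← inv_inv x, map_inv, ← pointwise_smul_subset_iff] at hx ⊢
  exact le_part c.nilA hx (hV.of_equiv (equivSMul (MulAut.conj x⁻¹) V))

theorem central_part {p : ℕ} [Fact p.Prime] {y : G} (hy : y ∈ part A p)
    (h : ∀ t ∈ part A p, t * y = y * t) : IsCentralIn A y := by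
  refine ⟨part_le A p hy, fun a ha => ?_⟩
  have : A ≤ centralizer {y} := le_of_parts_le c.nilA fun q hq x hx => by
    haveI := Fact.mk hq
    refine mem_centralizer_singleton_iff.2 ?_
    by_cases hqp : q = p
    · subst hqp; exact h x hx
    · refine (commute_part c.nilA (part_le A q hx) hy ?_).eq
      obtain ⟨i, hi⟩ := IsPGroup.iff_orderOf.1 (isPGroup_part (A := A) (p := q)) ⟨x, hx⟩
      rw [← orderOf_coe] at hi
      rw [hi]
      exact ((Nat.coprime_primes hq Fact.out).2 hqp).pow_left i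
  exact mem_centralizer_singleton_iff.1 (this ha)

/-- A `p`-subgroup normalized by a Sylow `t`-subgroup in `B` is centralized by a central element
of `B`. -/
theorem key {p t : ℕ} [hp : Fact p.Prime] [ht : Fact t.Prime] (hpA : p ∣ Nat.card A)
    (htB : t ∣ Nat.card B) {V : Subgroup G} (hV : IsPGroup p V)
    (hN : part B t ≤ normalizer (V : Set G)) :
    ∃ y ∈ part B t, y ≠ 1 ∧ IsCentralIn B y ∧ y ∈ centralizer (V : Set G) := by
  obtain ⟨x, hx⟩ := c.exists_le_conj_part hpA hV
  obtain ⟨s, hs, hsp, hsA⟩ := c.exists_other_prime hp.out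
  haveI := Fact.mk hs
  set T := part B t
  set C := centralizer (V : Set G) with hC
  by_cases hTC : T ⊓ C = ⊥
  swap
  · obtain ⟨y, hy, hy1, hyc⟩ := exists_central
      (CfsgLib.Schmidt.isNilpotent_of_le (part_le B t) c.nilB)
      (inf_le_left : T ⊓ C ≤ T) (fun g hg => mem_normalizer_iff.2 fun n => by
        rw [mem_inf, mem_inf, ← mem_normalizer_iff.1 (le_normalizer hg) n,
          ← mem_normalizer_iff.1 (normalizer_le_normalizer_centralizer V (hN hg)) n]) hTC
    exact ⟨y, hy.1, hy1, c.symm.central_part hy.1 hyc.2, hy.2⟩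
  exfalso
  set S := MulAut.conj x • part A s with hS
  have hSC : S ≤ C := fun a ha => mem_centralizer_iff.2 fun v hv => by
    have ha' := mem_conj_smul.1 ha
    have hv' := mem_conj_smul.1 (hx hv)
    obtain ⟨i, hi⟩ := IsPGroup.iff_orderOf.1 (isPGroup_part (A := A) (p := s)) ⟨_, ha'⟩
    rw [← orderOf_coe] at hi
    have h1 := (commute_part c.nilA (part_le A s ha') hv' (by
      rw [hi]; exact ((Nat.coprime_primes hs hp.out).2 hsp).pow_left i)).eq
    calc v * a = x * ((x⁻¹ * v * x) * (x⁻¹ * a * x)) * x⁻¹ := by group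
      _ = x * ((x⁻¹ * a * x) * (x⁻¹ * v * x)) * x⁻¹ := by rw [h1]
      _ = a * v := by group
  have hScard : Nat.card S = s ^ (Nat.card C).factorization s := by
    rw [hS, card_conj_smul, card_part c.nilA, c.factorization_eq hs hsA]
    refine congrArg _ (le_antisymm ?_ ?_)
    · have := factorization_le (le_refl S |>.trans hSC) s
      rwa [hS, card_conj_smul, card_part c.nilA, c.factorization_eq hs hsA,
        hs.factorization_pow, Finsupp.single_eq_same] at this
    · rw [← card_top (G := G)]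
      exact factorization_le le_top s
  set X := normalizer (S : Set G) ⊓ normalizer (V : Set G) with hX
  have hcov : T ≤ X ⊔ C := fun n hn => by
    have hnC := normalizer_le_normalizer_centralizer V (hN hn)
    obtain ⟨d, hd, hd'⟩ := sylow_conj_in (S₁ := S) (S₂ := MulAut.conj n • S) hSC
      ((pointwise_smul_le_pointwise_smul_iff.2 hSC).trans (conj_smul_eq_iff_mem_normalizer.2 hnC).le)
      hScard (by rw [card_conj_smul, hScard])
    have h1 : d⁻¹ * n ∈ normalizer (S : Set G) := by
      rw [← conj_smul_eq_iff_mem_normalizer, conj_smul_mul, ← hd', conj_smul_inv_smul]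
    have hdV : d ∈ normalizer (V : Set G) := centralizer_le_normalizer _ hd
    have := mul_mem (mem_sup_right hd : d ∈ X ⊔ C)
      (mem_sup_left (⟨h1, Subgroup.mul_mem _ ((normalizer (V : Set G)).inv_mem hdV) (hN hn)⟩ : d⁻¹ * n ∈ X))
    rwa [mul_inv_cancel_left] at this
  have hNC : normalizer (V : Set G) ≤ normalizer (C : Set G) :=
    normalizer_le_normalizer_centralizer V
  have e1 := card_sup_mul_card_inf (A := T) (K := C) (hN.trans hNC)
  rw [hTC, card_bot, mul_one] at e1
  have e2 := card_sup_mul_card_inf (A := X) (K := C) (inf_le_right.trans hNC)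
  have hdvd : Nat.card T ∣ Nat.card X := by
    refine (Nat.mul_dvd_mul_iff_right (Nat.card_pos (α := C))).1 ?_
    rw [← e1, ← e2]
    exact Dvd.dvd.mul_right (card_dvd_of_le (sup_le hcov le_sup_right)) _
  set N₀ := normalizer (part A s : Set G) with hN₀
  have hXc : Nat.card X ∣ Nat.card N₀ := by
    refine (card_dvd_of_le inf_le_left).trans (dvd_of_eq ?_)
    have : normalizer (S : Set G) = MulAut.conj x • N₀ := by
      ext g
      rw [mem_conj_smul, hN₀, ← conj_smul_eq_iff_mem_normalizer, ← conj_smul_eq_iff_mem_normalizer,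
        hS]
      constructor
      · intro h
        rw [conj_smul_mul, conj_smul_mul, h, conj_smul_inv_smul]
      · intro h
        conv_rhs => rw [← h]
        rw [← conj_smul_mul, ← conj_smul_mul]
        congr 2
        group
    rw [this, card_conj_smul]
  have hAN : A ≤ N₀ := le_normalizer_part A s
  have hBN : T ≤ N₀ := by
    have hTc : Nat.card T = t ^ (Nat.card B).factorization t := card_part c.nilB
    have h1 : t ^ (Nat.card B).factorization t ∣ Nat.card (B ⊓ N₀ : Subgroup G) := by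
      refine Nat.Coprime.dvd_of_dvd_mul_left (m := Nat.card A) ?_
        (c.card_ge hAN ▸ hTc ▸ hdvd.trans hXc)
      exact c.cop.symm.coprime_dvd_left (hTc ▸ card_dvd_of_le (part_le B t))
    obtain ⟨P⟩ : Nonempty (Sylow t (B ⊓ N₀ : Subgroup G)) := inferInstance
    have h2 : (P : Subgroup (B ⊓ N₀ : Subgroup G)).map (B ⊓ N₀).subtype ≤ T :=
      le_part c.nilB ((map_subtype_le _).trans inf_le_left) (P.2.map _)
    rw [← eq_of_le_of_card_le h2 (by
      rw [hTc, card_map_of_injective (B ⊓ N₀).subtype_injective, P.card_eq_multiplicity]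
      exact Nat.pow_le_pow_right ht.out.pos
        ((ht.out.pow_dvd_iff_le_factorization Nat.card_pos.ne').1 h1))]
    exact (map_subtype_le _).trans inf_le_right
  obtain ⟨y, hy, hy1, hyc⟩ := exists_central c.nilB (part_le B t) (le_normalizer_part B t)
    (c.symm.part_ne_bot htB)
  exact hy1 (c.symm.forbidden hAN
    (c.normalizer_ne_top_of_le (c.part_ne_bot hsA) (part_le A s)) hyc (g := 1)
    (by simpa using hBN hy))

theorem factorization_part {p : ℕ} [hp : Fact p.Prime] {H : Subgroup G} (hd : p ∣ Nat.card A)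
    (hH : part A p ≤ H) : (Nat.card H).factorization p = (Nat.card G).factorization p := by
  refine le_antisymm ?_ ?_
  · rw [← card_top (G := G)]
    exact factorization_le le_top p
  · have := factorization_le hH p
    rwa [card_part c.nilA, c.factorization_eq hp.out hd, hp.out.factorization_pow,
      Finsupp.single_eq_same] at this

/-- A solvable subgroup with a Sylow `t`-subgroup of `B` has a Sylow `r`-subgroup lying in a proper
subgroup over `B`. -/
theorem exists_sylow_over {H : Subgroup G} (hH : Group.IsSolvable H) {t r : ℕ} [ht : Fact t.Prime]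
    [hr : Fact r.Prime] (htB : t ∣ Nat.card B) (hrA : r ∣ Nat.card A) (hT : part B t ≤ H) :
    ∃ S : Subgroup G, S ≤ H ∧ IsPGroup r S ∧ Nat.card S = r ^ (Nat.card H).factorization r ∧
      ∃ K : Subgroup G, K ≠ ⊤ ∧ B ≤ K ∧ S ≤ K := by
  haveI := hH
  set T' := (part B t).subgroupOf H with hT'
  have hT'p : IsPGroup t T' := (isPGroup_part (A := B) (p := t)).comap_subtype
  let P : Sylow t H := Sylow.ofCard T' (by
    rw [hT', Nat.card_congr (subgroupOfEquivOfLe hT).toEquiv, card_part c.nilB,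
      c.symm.factorization_eq ht.out htB, c.symm.factorization_part htB hT])
  have hP : (P : Subgroup H) = T' := rfl
  set O := Cfsg.pPrimeCore t H with hO
  set f := QuotientGroup.mk' O with hf'
  have hf : Function.Surjective f := QuotientGroup.mk'_surjective O
  set Cq := Cfsg.pCore t (H ⧸ O) with hCq
  have hCqT : Cq ≤ T'.map f := CfsgLib.Fitting.pCore_le_sylow (P.mapSurjective hf)
  set X := Cq.comap f with hX
  haveI hXn : X.Normal := Normal.comap inferInstance f
  set T0 := X ⊓ T' with hT0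
  have hXdec : ∀ x ∈ X, ∃ o ∈ O, ∃ t0 ∈ T0, x = o * t0 := fun x hx => by
    obtain ⟨t0, ht0, e⟩ := hCqT hx
    have ht0X : t0 ∈ X := by show f t0 ∈ Cq; rw [e]; exact hx
    refine ⟨x * t0⁻¹, ?_, t0, ⟨ht0X, ht0⟩, by group⟩
    refine (QuotientGroup.eq_one_iff _).1 ?_
    rw [← QuotientGroup.mk'_apply, map_mul, map_inv]
    show f x * (f t0)⁻¹ = 1
    rw [e, mul_inv_cancel]
  obtain ⟨R, hR⟩ := CfsgLib.CoprimeAct.exists_invariant_sylow (A := T') (K := O)
    (le_top.trans (normalizer_eq_top O).ge)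
    (by
      obtain ⟨k, hk⟩ := IsPGroup.iff_card.1 hT'p
      rw [hk]; exact (coprime_card_pPrimeCore t).symm.pow_left k)
    (Or.inr inferInstance) r
  set R0 := (R : Subgroup O).map O.subtype with hR0
  have hR0O : R0 ≤ O := map_subtype_le _
  have hR0p : IsPGroup r R0 := R.2.map O.subtype
  have hR0c : Nat.card R0 = r ^ (Nat.card O).factorization r := by
    rw [hR0, card_map_of_injective O.subtype_injective, R.card_eq_multiplicity]
  obtain ⟨y, hy, hy1, hyB, hyV⟩ := c.key hrA htB (hR0p.map H.subtype) (by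
    rw [← map_subgroupOf_eq_of_le hT]
    exact (map_mono hR).trans (le_normalizer_map H.subtype))
  set T1 := T0 ⊓ centralizer (R0 : Set H) with hT1
  have hyT1 : (⟨y, hT hy⟩ : H) ∈ T1 := by
    refine ⟨⟨?_, hy⟩, mem_centralizer_iff.2 fun v hv =>
      Subtype.ext (mem_centralizer_iff.1 hyV _ (mem_map_of_mem _ hv))⟩
    refine CfsgLib.Fitting.centralizer_pCore_le (CfsgLib.Fitting.pPrimeCore_quotient_eq_bot t)
      (mem_centralizer_iff.2 fun z hz => ?_)
    obtain ⟨w, hw, rfl⟩ := hCqT hz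
    rw [← map_mul, ← map_mul, show w * (⟨y, hT hy⟩ : H) = ⟨y, hT hy⟩ * w from
      Subtype.ext (hyB.2 w (part_le B t hw))]
  set W := T1.map H.subtype with hW
  have hWpart : W ≤ part B t := by
    rintro _ ⟨w, hw, rfl⟩
    exact hw.1.2
  have hW1 : W ≠ ⊥ := fun h => hy1 (mem_bot.1 (h ▸ mem_map_of_mem H.subtype hyT1))
  have hnorm : ∀ n : H, n ∈ normalizer (R0 : Set H) → n ∈ normalizer (T0 : Set H) →
      n ∈ normalizer (T1 : Set H) := fun n hn1 hn2 => mem_normalizer_iff.2 fun w => by
    have e1 := mem_normalizer_iff.1 hn2 w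
    have e2 := mem_normalizer_iff.1 (normalizer_le_normalizer_centralizer R0 hn1) w
    exact ⟨fun h => ⟨e1.1 h.1, e2.1 h.2⟩, fun h => ⟨e1.2 h.1, e2.2 h.2⟩⟩
  have hBK : B ≤ normalizer (W : Set G) := le_of_parts_le c.nilB fun q hq => by
    haveI := Fact.mk hq
    by_cases hqt : q = t
    · subst hqt
      rw [← map_subgroupOf_eq_of_le hT]
      refine (map_mono fun n hn => ?_).trans (le_normalizer_map H.subtype)
      refine hnorm n (hR hn) (mem_normalizer_iff.2 fun w => ?_)
      rw [hT0, mem_inf, mem_inf, ← mem_normalizer_iff.1 (le_normalizer hn) w,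
        ← mem_normalizer_iff.1 ((normalizer_eq_top X).ge (mem_top n)) w]
    · refine fun b hb => centralizer_le_normalizer _ (mem_centralizer_iff.2 fun w hw => ?_)
      obtain ⟨i, hi⟩ := IsPGroup.iff_orderOf.1 (isPGroup_part (A := B) (p := q)) ⟨b, hb⟩
      rw [← orderOf_coe] at hi
      exact (commute_part c.nilB (part_le B q hb) (hWpart hw) (by
        rw [hi]; exact ((Nat.coprime_primes hq ht.out).2 hqt).pow_left i)).eq.symm
  have hK : normalizer (W : Set G) ≠ ⊤ :=
    c.symm.normalizer_ne_top_of_le hW1 (hWpart.trans (part_le B t))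
  set J := normalizer (T1 : Set H) with hJ
  have hR0J : R0 ≤ J := fun v hv => centralizer_le_normalizer _
    (mem_centralizer_iff.2 fun w hw => ((mem_centralizer_iff.1 hw.2) v hv).symm)
  have hT0p : IsPGroup t T0 := hT'p.to_le inf_le_right
  have hXt : (Nat.card X).factorization t ≤ (Nat.card T0).factorization t := by
    have hle : X ≤ T0 ⊔ O := fun x hx => by
      obtain ⟨o, ho, t0, ht0, rfl⟩ := hXdec x hx
      exact mul_mem (mem_sup_right ho) (mem_sup_left ht0)
    have h1 := (card_dvd_of_le hle).trans (card_sup_dvd (le_top.trans (normalizer_eq_top O).ge))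
    have h2 := (Nat.factorization_le_iff_dvd Nat.card_pos.ne'
      (Nat.mul_pos Nat.card_pos Nat.card_pos).ne').2 h1 t
    rw [Nat.factorization_mul Nat.card_pos.ne' Nat.card_pos.ne', Finsupp.add_apply,
      Nat.factorization_eq_zero_of_not_dvd (n := Nat.card O) (fun h => ht.out.ne_one
        (Nat.eq_one_of_dvd_coprimes (coprime_card_pPrimeCore t) h dvd_rfl)), add_zero] at h2
    exact h2
  have htop : J ⊔ O = ⊤ := eq_top_iff.2 fun h _ => by
    obtain ⟨o, ho, hoR⟩ := sylow_conj_in (S₁ := R0) (S₂ := MulAut.conj h • R0) hR0O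
      ((pointwise_smul_le_pointwise_smul_iff.2 hR0O).trans (conj_smul_normal h O).le)
      hR0c (by rw [card_conj_smul, hR0c])
    set k := o⁻¹ * h with hk
    have hkR : k ∈ normalizer (R0 : Set H) := by
      rw [hk, ← conj_smul_eq_iff_mem_normalizer, conj_smul_mul, ← hoR, conj_smul_inv_smul]
    set Y := X ⊓ normalizer (R0 : Set H) with hY
    have hT0Y : T0 ≤ Y := le_inf inf_le_left (inf_le_right.trans hR)
    have hkT0 : MulAut.conj k • T0 ≤ Y := le_inf
      ((pointwise_smul_le_pointwise_smul_iff.2 inf_le_left).trans (conj_smul_normal k X).le)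
      ((pointwise_smul_le_pointwise_smul_iff.2 (hT0Y.trans inf_le_right)).trans
        (conj_smul_self_of_mem hkR).le)
    have hT0c : Nat.card T0 = t ^ (Nat.card Y).factorization t := by
      obtain ⟨i, hi⟩ := IsPGroup.iff_card.1 hT0p
      have h1 := factorization_le hT0Y t
      have h2 := (factorization_le (inf_le_left : Y ≤ X) t).trans hXt
      rw [hi, ht.out.factorization_pow, Finsupp.single_eq_same] at h1 h2
      rw [hi, show i = (Nat.card Y).factorization t from le_antisymm h1 h2]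
    obtain ⟨x, hx, hxT⟩ := sylow_conj_in (S₁ := T0) (S₂ := MulAut.conj k • T0) hT0Y hkT0 hT0c
      (by rw [card_conj_smul, hT0c])
    obtain ⟨o', ho', t0, ht0, rfl⟩ := hXdec x hx.1
    have ho'R : o' ∈ normalizer (R0 : Set H) :=
      ((normalizer (R0 : Set H)).mul_mem_cancel_right (hR ht0.2)).1 hx.2
    have hn : o'⁻¹ * k ∈ J := by
      refine hnorm _ (Subgroup.mul_mem _ (Subgroup.inv_mem _ ho'R) hkR) ?_
      rw [← conj_smul_eq_iff_mem_normalizer, conj_smul_mul, ← hxT, conj_smul_mul,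
        conj_smul_self_of_mem ht0, conj_smul_inv_smul]
    have := mul_mem (mem_sup_right (mul_mem ho ho') : o * o' ∈ J ⊔ O) (mem_sup_left hn)
    rwa [hk, show o * o' * (o'⁻¹ * (o⁻¹ * h)) = h by group] at this
  have hJ1 : (Nat.card H).factorization r ≤ (Nat.card J).factorization r := by
    have h1 := card_sup_mul_card_inf (A := J) (K := O) (le_top.trans (normalizer_eq_top O).ge)
    rw [htop, card_top] at h1
    have h2 := congrArg (fun n => Nat.factorization n r) h1
    beta_reduce at h2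
    rw [Nat.factorization_mul Nat.card_pos.ne' Nat.card_pos.ne',
      Nat.factorization_mul Nat.card_pos.ne' Nat.card_pos.ne', Finsupp.add_apply,
      Finsupp.add_apply] at h2
    have h3 := factorization_le (le_inf hR0J hR0O : R0 ≤ J ⊓ O) r
    rw [hR0c, hr.out.factorization_pow, Finsupp.single_eq_same] at h3
    omega
  obtain ⟨Q⟩ : Nonempty (Sylow r J) := inferInstance
  refine ⟨((Q : Subgroup J).map J.subtype).map H.subtype, map_subtype_le _,
    (Q.2.map _).map _, ?_, normalizer (W : Set G), hK, hBK, ?_⟩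
  · rw [card_map_of_injective H.subtype_injective, card_map_of_injective J.subtype_injective,
      Q.card_eq_multiplicity,
      le_antisymm ((Nat.factorization_le_iff_dvd Nat.card_pos.ne' Nat.card_pos.ne').2
        (card_subgroup_dvd_card J) r) hJ1]
  · exact (map_mono (map_subtype_le _)).trans (le_normalizer_map H.subtype)

/-- A `p`-subgroup of `H` is conjugate inside `H` into a given Sylow `p`-subgroup. -/
theorem exists_conj_into {H S W : Subgroup G} {p : ℕ} [Fact p.Prime] (hSH : S ≤ H)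
    (hS : Nat.card S = p ^ (Nat.card H).factorization p) (hWH : W ≤ H) (hW : IsPGroup p W) :
    ∃ h ∈ H, MulAut.conj h • W ≤ S := by
  obtain ⟨P, hP⟩ := (hW.comap_subtype (K := H)).exists_le_sylow
  obtain ⟨h, hh, e⟩ := sylow_conj_in (S₁ := (P : Subgroup H).map H.subtype) (S₂ := S)
    (map_subtype_le _) hSH
    (by rw [card_map_of_injective H.subtype_injective, P.card_eq_multiplicity]) hS
  refine ⟨h, hh, ?_⟩
  rw [← e, pointwise_smul_le_pointwise_smul_iff, ← map_subgroupOf_eq_of_le hWH]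
  exact map_mono hP

theorem no_central {H : Subgroup G} (hH : Group.IsSolvable H) {t : ℕ} [Fact t.Prime]
    (htB : t ∣ Nat.card B) (hT : part B t ≤ H) {z g : G} (hz : IsCentralIn A z)
    (hg : g * z * g⁻¹ ∈ H) : z = 1 := by
  by_contra hz1
  obtain ⟨r, hr, hrd⟩ := Nat.exists_prime_and_dvd (n := orderOf z)
    (fun e => hz1 (orderOf_eq_one_iff.1 e))
  haveI := Fact.mk hr
  set w := z ^ (orderOf z / r) with hw
  have hwo : orderOf w = r := by
    rw [hw, orderOf_pow_of_dvd (Nat.div_pos (Nat.le_of_dvd (orderOf_pos z) hrd) hr.pos).ne'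
      (Nat.div_dvd_of_dvd hrd), Nat.div_div_self hrd (orderOf_pos z).ne']
  have hrA : r ∣ Nat.card A := hrd.trans (orderOf_dvd_natCard A hz.1)
  obtain ⟨S, hSH, -, hSc, K, hK, hBK, hSK⟩ := c.exists_sylow_over hH htB hrA hT
  have hgw : g * w * g⁻¹ ∈ H := by rw [hw, ← conj_pow]; exact pow_mem hg _
  obtain ⟨h, -, hh⟩ := c.exists_conj_into hSH hSc (W := zpowers (g * w * g⁻¹))
    (zpowers_le.2 hgw) (IsPGroup.of_card (n := 1) (by
      rw [Nat.card_zpowers, ← MulAut.conj_apply, MulEquiv.orderOf_eq, hwo, pow_one]))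
  have h1 : (h * g) * w * (h * g)⁻¹ ∈ K := hSK (hh (by
    rw [mem_conj_smul]
    convert mem_zpowers (g * w * g⁻¹) using 1
    group))
  have h2 := c.forbidden hBK hK (hz.pow _) h1
  rw [← hw] at h2
  rw [h2, orderOf_one] at hwo
  exact hr.one_lt.ne hwo

theorem centralizer_central {z : G} (hz : IsCentralIn A z) (hz1 : z ≠ 1) :
    centralizer {z} = A := by
  set K := centralizer ({z} : Set G) with hK
  have hAK : A ≤ K := hz.le_centralizer
  by_cases hBK : B ⊓ K = ⊥
  · refine le_antisymm (fun k hk => ?_) hAK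
    obtain ⟨a, ha, b, hb, rfl⟩ := c.factor_of_ge hAK k hk
    rw [hBK, mem_bot] at hb
    rw [hb, mul_one]
    exact ha.1
  exfalso
  obtain ⟨q, hq, hqd⟩ := Nat.exists_prime_and_dvd (n := Nat.card (B ⊓ K : Subgroup G))
    (fun e => hBK (eq_bot_of_card_eq _ e))
  haveI := Fact.mk hq
  have hqB : q ∣ Nat.card B := hqd.trans (card_dvd_of_le inf_le_left)
  set W := part B q ⊓ K with hW
  have hW1 : W ≠ ⊥ := fun h => by
    obtain ⟨⟨v, hv⟩, hvo⟩ := exists_prime_orderOf_dvd_card' q hqd
    rw [← orderOf_coe] at hvo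
    have : v ∈ W := ⟨le_part c.nilB (zpowers_le.2 hv.1) (IsPGroup.of_card (n := 1)
      (by rw [Nat.card_zpowers, pow_one]; exact hvo)) (mem_zpowers v), hv.2⟩
    rw [h, mem_bot] at this
    simp only [this, orderOf_one] at hvo
    exact hq.one_lt.ne hvo
  set N := normalizer (W : Set G) with hN
  have hN1 : N ≠ ⊤ := c.symm.normalizer_ne_top_of_le hW1 (inf_le_left.trans (part_le B q))
  have hfac : ∀ n ∈ N, ∃ a ∈ A ⊓ N, ∃ b ∈ B ⊓ N, n = a * b := fun n hn => by
    obtain ⟨a, ha, b, hb, rfl⟩ := c.fac n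
    have e : MulAut.conj b • W = MulAut.conj a⁻¹ • W := by
      conv_rhs => rw [← conj_smul_eq_iff_mem_normalizer.2 hn]
      rw [conj_smul_mul, conj_smul_inv_smul]
    have hbW : MulAut.conj b • W ≤ W := by
      have hK' : MulAut.conj b • W ≤ K := by
        rw [e]
        exact (pointwise_smul_le_pointwise_smul_iff.2 inf_le_right).trans
          (conj_smul_self_of_mem (inv_mem (hAK ha))).le
      exact le_inf ((pointwise_smul_le_pointwise_smul_iff.2 inf_le_left).trans
        (conj_smul_eq_iff_mem_normalizer.2 (le_normalizer_part B q hb)).le) hK'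
    have hbN : b ∈ N := conj_smul_eq_iff_mem_normalizer.1
      (eq_of_le_of_card_le hbW (card_conj_smul b W).ge)
    exact ⟨a, ⟨ha, (N.mul_mem_cancel_right hbN).1 hn⟩, b, ⟨hb, hbN⟩, rfl⟩
  obtain ⟨t, ht, htq, htB⟩ := c.symm.exists_other_prime hq
  haveI := Fact.mk ht
  refine hz1 (c.no_central (c.ih N hN1 hfac) htB (fun b hb => centralizer_le_normalizer _
    (mem_centralizer_iff.2 fun w hw => ?_)) hz (g := 1) ?_)
  · obtain ⟨i, hi⟩ := IsPGroup.iff_orderOf.1 (isPGroup_part (A := B) (p := t)) ⟨b, hb⟩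
    rw [← orderOf_coe] at hi
    exact (commute_part c.nilB (part_le B t hb) hw.1 (by
      rw [hi]; exact ((Nat.coprime_primes ht hq).2 htq).pow_left i)).eq.symm
  · refine centralizer_le_normalizer _ (mem_centralizer_iff.2 fun w hw => ?_)
    simpa using mem_centralizer_singleton_iff.1 hw.2

theorem le_of_normalized {W : Subgroup G} (hW : A ≤ normalizer (W : Set G))
    (hc : (Nat.card W).Coprime (Nat.card B)) : W ≤ A := by
  have h1 := card_sup_dvd hW
  have h2 : Nat.card (A ⊔ W : Subgroup G) ∣ Nat.card A * Nat.card B :=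
    c.card_eq ▸ card_subgroup_dvd_card _
  have h3 : Nat.card (A ⊔ W : Subgroup G) ∣ Nat.card A :=
    ((Nat.Coprime.mul_left c.cop hc).coprime_dvd_left h1).dvd_of_dvd_mul_right h2
  exact le_sup_right.trans (eq_of_le_of_card_le le_sup_left (Nat.le_of_dvd Nat.card_pos h3)).ge

theorem part_normal_step {K : Subgroup G} (hAK : A ≤ K) {p r : ℕ} [hp : Fact p.Prime]
    [hr : Fact r.Prime] (hpr : p ≠ r) {V : Subgroup G} (hV : IsPGroup r V) (hV1 : V ≠ ⊥)
    (hVA : V ≤ A) (hKV : K ≤ normalizer (V : Set G)) : K ≤ normalizer (part A p : Set G) := by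
  set C := K ⊓ centralizer (V : Set G) with hC
  have hKC : K ≤ normalizer (C : Set G) := fun k hk => mem_normalizer_iff.2 fun w => by
    rw [hC, mem_inf, mem_inf, ← mem_normalizer_iff.1 (le_normalizer hk) w,
      ← mem_normalizer_iff.1 (normalizer_le_normalizer_centralizer V (hKV hk)) w]
  obtain ⟨z, hzV, hz1, hz⟩ := exists_central c.nilA hVA (hAK.trans hKV) hV1
  have hCB : C ⊓ B = ⊥ := le_bot_iff.1 fun w hw => mem_bot.2 (c.eq_one_of_mem
    ((c.centralizer_central hz hz1).le (mem_centralizer_singleton_iff.2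
      (mem_centralizer_iff.1 hw.1.2 z hzV).symm)) hw.2)
  have hCA : C ≤ A := c.le_of_normalized (hAK.trans hKC)
    (c.cop.coprime_dvd_left (c.dvd_card_of_normal hAK inf_le_left hKC hCB))
  have hpC : part A p ≤ C := fun w hw => by
    refine ⟨hAK (part_le A p hw), mem_centralizer_iff.2 fun v hv => ?_⟩
    obtain ⟨i, hi⟩ := IsPGroup.iff_orderOf.1 hV ⟨v, hv⟩
    rw [← orderOf_coe] at hi
    exact (commute_part c.nilA (hVA hv) hw (by
      rw [hi]; exact ((Nat.coprime_primes hr.out hp.out).2 hpr.symm).pow_left i)).eq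
  intro k hk
  refine conj_smul_eq_iff_mem_normalizer.1 (eq_of_le_of_card_le ?_ (card_conj_smul k _).ge)
  exact le_part c.nilA (((pointwise_smul_le_pointwise_smul_iff.2 hpC).trans
    (conj_smul_eq_iff_mem_normalizer.2 (hKC hk)).le).trans hCA)
    ((isPGroup_part (A := A) (p := p)).of_equiv (equivSMul (MulAut.conj k) _))

/-- Proper subgroups over `A` normalize `A`. -/
theorem le_normalizer_of_ge {K : Subgroup G} (hAK : A ≤ K) (hK : K ≠ ⊤) :
    K ≤ normalizer (A : Set G) := by
  have hs := c.solvable_of_ge hAK hK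
  haveI := hs
  have hne : (⊤ : Subgroup K) ≠ ⊥ := fun h => c.A_ne_bot (eq_bot_iff.2 fun a ha => by
    have : (⟨a, hAK ha⟩ : K) ∈ (⊥ : Subgroup K) := h ▸ mem_top _
    rw [mem_bot] at this ⊢
    exact congrArg Subtype.val this)
  obtain ⟨M, hM, hM1, -, -, -, r, hr, -, hMp⟩ := exists_normal_elementary_le hne inferInstance
  haveI := Fact.mk hr
  set V := M.map K.subtype with hV
  have hV1 : V ≠ ⊥ := fun h => hM1 ((map_eq_bot_iff_of_injective M K.subtype_injective).1 h)
  have hKV : K ≤ normalizer (V : Set G) := by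
    have h := M.le_normalizer_map K.subtype
    rwa [normalizer_eq_top, ← MonoidHom.range_eq_map, range_subtype] at h
  have hVp : IsPGroup r V := hMp.map _
  obtain ⟨k, hk⟩ := IsPGroup.iff_card.1 hVp
  have hrA : r ∣ Nat.card A := by
    by_contra hrA
    exact hV1 (c.pi'_normal_eq_bot hAK (map_subtype_le _) hKV
      (hk ▸ ((hr.coprime_iff_not_dvd.2 hrA).pow_left k)))
  have hrB : ¬ r ∣ Nat.card B := fun h =>
    hr.ne_one (Nat.eq_one_of_dvd_coprimes c.cop hrA h)
  have hVA : V ≤ A := c.le_of_normalized (hAK.trans hKV)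
    (hk ▸ ((hr.coprime_iff_not_dvd.2 hrB).pow_left k))
  obtain ⟨s, hs', hsr, hsA⟩ := c.exists_other_prime hr
  haveI := Fact.mk hs'
  have hsn := c.part_normal_step hAK hsr hVp hV1 hVA hKV
  intro g hg
  refine conj_smul_eq_iff_mem_normalizer.1 (eq_of_le_of_card_le ?_ (card_conj_smul g _).ge).symm.symm
  rw [← inv_inv g, map_inv, ← subset_pointwise_smul_iff]
  refine le_of_parts_le c.nilA fun q hq => ?_
  haveI := Fact.mk hq
  have hqn : K ≤ normalizer (part A q : Set G) := by
    by_cases hqr : q = r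
    · subst hqr
      exact c.part_normal_step hAK hsr.symm isPGroup_part (c.part_ne_bot hsA) (part_le A s) hsn
    · exact c.part_normal_step hAK hqr hVp hV1 hVA hKV
  rw [← conj_smul_eq_iff_mem_normalizer.2 (hqn (inv_mem hg))]
  exact pointwise_smul_le_pointwise_smul_iff.2 (part_le A q)

theorem normalizer_part_le {p : ℕ} [Fact p.Prime] (hd : p ∣ Nat.card A) :
    normalizer (part A p : Set G) ≤ normalizer (A : Set G) :=
  c.le_normalizer_of_ge (le_normalizer_part A p)
    (c.normalizer_ne_top_of_le (c.part_ne_bot hd) (part_le A p))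

theorem centralizer_inf_le {u : G} (huB : u ∈ B) (huA : u ∈ normalizer (A : Set G))
    (hu1 : u ≠ 1) : A ⊓ centralizer {u} ≤ normalizer (B : Set G) := by
  obtain ⟨q, hq, hqd⟩ := Nat.exists_prime_and_dvd (n := orderOf u)
    (fun e => hu1 (orderOf_eq_one_iff.1 e))
  haveI := Fact.mk hq
  set w := u ^ (orderOf u / q) with hw
  have hwo : orderOf w = q := by
    rw [hw, orderOf_pow_of_dvd (Nat.div_pos (Nat.le_of_dvd (orderOf_pos u) hqd) hq.pos).ne'
      (Nat.div_dvd_of_dvd hqd), Nat.div_div_self hqd (orderOf_pos u).ne']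
  have hwB : w ∈ B := pow_mem huB _
  have hwA : w ∈ normalizer (A : Set G) := pow_mem huA _
  have hw1 : w ≠ 1 := fun e => by rw [e, orderOf_one] at hwo; exact hq.one_lt.ne hwo
  have hle : A ⊓ centralizer {u} ≤ A ⊓ centralizer {w} := inf_le_inf_left _ fun x hx =>
    mem_centralizer_singleton_iff.2
      ((show Commute x u from mem_centralizer_singleton_iff.1 hx).pow_right _).eq
  refine hle.trans ?_
  set H := centralizer ({w} : Set G) with hH
  have hfac : ∀ k ∈ H, ∃ a ∈ A ⊓ H, ∃ b ∈ B ⊓ H, k = a * b := fun k hk => by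
    obtain ⟨a, ha, b, hb, rfl⟩ := c.fac k
    have h1 := mem_centralizer_singleton_iff.1 hk
    have e : b * w * b⁻¹ = a⁻¹ * w * a := by
      calc b * w * b⁻¹ = a⁻¹ * (a * b * w) * b⁻¹ := by group
        _ = a⁻¹ * (w * (a * b)) * b⁻¹ := by rw [h1]
        _ = _ := by group
    have h2 : a⁻¹ * w * a * w⁻¹ = 1 := by
      refine c.eq_one_of_mem ?_ ?_
      · have := mul_mem (inv_mem ha) ((mem_normalizer_iff.1 hwA a).1 ha)
        simpa [mul_assoc] using this
      · rw [← e]; exact mul_mem (mul_mem (mul_mem hb hwB) (inv_mem hb)) (inv_mem hwB)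
    have haH : a ∈ H := mem_centralizer_singleton_iff.2 (by
      have := mul_inv_eq_one.1 h2
      calc a * w = a * (a⁻¹ * w * a) := by rw [this]
        _ = w * a := by group)
    exact ⟨a, ⟨ha, haH⟩, b, ⟨hb, (H.mul_mem_cancel_left haH).1 hk⟩, rfl⟩
  have hs := c.ih H (c.centralizer_ne_top hw1) hfac
  obtain ⟨t, ht, htq, htB⟩ := c.symm.exists_other_prime hq
  haveI := Fact.mk ht
  have hT : part B t ≤ H := fun b hb => mem_centralizer_singleton_iff.2 (by
    obtain ⟨i, hi⟩ := IsPGroup.iff_orderOf.1 (isPGroup_part (A := B) (p := t)) ⟨b, hb⟩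
    rw [← orderOf_coe] at hi
    exact (commute_part (p := q) c.nilB (part_le B t hb)
      (le_part c.nilB (zpowers_le.2 hwB) (IsPGroup.of_card (n := 1)
        (by rw [Nat.card_zpowers, pow_one, hwo])) (mem_zpowers w)) (by
      rw [hi]; exact ((Nat.coprime_primes ht hq).2 htq).pow_left i)).eq)
  refine le_of_parts c.nilA inf_le_left fun r hr => ?_
  haveI := Fact.mk hr
  by_cases hrA : r ∣ Nat.card A
  swap
  · have : part A r = ⊥ := eq_bot_of_card_eq _ (by
      rw [card_part c.nilA, Nat.factorization_eq_zero_of_not_dvd hrA, pow_zero])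
    rw [this, inf_bot_eq]
    exact bot_le
  obtain ⟨S, hSH, -, hSc, K, hK, hBK, hSK⟩ := c.exists_sylow_over hs htB hrA hT
  set V := (A ⊓ H) ⊓ part A r with hV
  obtain ⟨h, hh, hhS⟩ := c.exists_conj_into hSH hSc (W := V) (inf_le_left.trans inf_le_right)
    (isPGroup_part.to_le inf_le_right)
  obtain ⟨a, ha, b, hb, e⟩ := hfac h⁻¹ (inv_mem hh)
  have he : h = b⁻¹ * a⁻¹ := by rw [← inv_inv h, e, mul_inv_rev]
  have haV : MulAut.conj a⁻¹ • V = V := conj_smul_eq_iff_mem_normalizer.2 (inv_mem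
    (mem_normalizer_iff.2 fun x => by
      have e1 := mem_normalizer_iff.1 (le_normalizer ha) x
      have e2 := mem_normalizer_iff.1 (le_normalizer_part A r ha.1) x
      exact ⟨fun h => ⟨e1.1 h.1, e2.1 h.2⟩, fun h => ⟨e1.2 h.1, e2.2 h.2⟩⟩))
  have hKN := c.symm.le_normalizer_of_ge hBK hK
  intro x hx
  have h1 : b⁻¹ * x * b ∈ normalizer (B : Set G) := hKN (hSK (hhS (by
    rw [he, conj_smul_mul, haV, mem_conj_smul]
    convert hx using 1
    group)))
  have hbN : b ∈ normalizer (B : Set G) := le_normalizer hb.1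
  have := mul_mem (mul_mem hbN h1) (inv_mem hbN)
  simpa [mul_assoc] using this

/-- An element of `A ∩ N(B)` lies in no other conjugate of `A`. -/
theorem conj_fixed {a g : G} (ha : a ∈ A) (haB : a ∈ normalizer (B : Set G)) (ha1 : a ≠ 1)
    (hg : a ∈ MulAut.conj g • A) : MulAut.conj g • A = A := by
  obtain ⟨b, hb, a', ha', rfl⟩ := c.fac' g
  rw [conj_smul_mul, conj_smul_self_of_mem ha'] at hg ⊢
  have h1 := mem_conj_smul.1 hg
  have h2 : b⁻¹ * a * b * a⁻¹ = 1 := c.eq_one_of_mem (mul_mem h1 (inv_mem ha)) (by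
    have := mul_mem (inv_mem hb) ((mem_normalizer_iff.1 haB b).1 hb)
    simpa [mul_assoc] using this)
  have h3 : b ∈ B ⊓ centralizer {a} := ⟨hb, mem_centralizer_singleton_iff.2 (by
    have := mul_inv_eq_one.1 h2
    calc b * a = b * (b⁻¹ * a * b) := by rw [this]
      _ = a * b := by group)⟩
  exact conj_smul_eq_iff_mem_normalizer.2 (c.symm.centralizer_inf_le ha haB ha1 h3)

theorem dvd_of_mem_normalizer {x v : G} (hx : x ∈ A)
    (hno : ∀ h : G, h * x * h⁻¹ ∈ A → h * x * h⁻¹ ∈ normalizer (B : Set G) → False)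
    {q : ℕ} [hq : Fact q.Prime] (hvo : orderOf v = q) (hv : v ∈ normalizer (A : Set G))
    (hcomm : Commute v x) : q ∣ Nat.card A := by
  by_contra hqA
  set M := normalizer (A : Set G) with hM
  set H := (B ⊓ M).subgroupOf M with hH
  have hAM : A ≤ M := le_normalizer
  have hcard : Nat.card H = Nat.card (B ⊓ M : Subgroup G) :=
    Nat.card_congr (subgroupOfEquivOfLe inf_le_right).toEquiv
  have hidx : H.index = Nat.card A := by
    refine Nat.eq_of_mul_eq_mul_left (Nat.card_pos (α := H)) ?_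
    rw [H.card_mul_index, hcard, c.card_ge hAM, mul_comm]
  have hqB : q ∣ Nat.card (B ⊓ M : Subgroup G) :=
    ((hq.out.dvd_mul).1 (c.card_ge hAM ▸ hvo ▸ orderOf_dvd_natCard M hv)).resolve_left hqA
  haveI : Group.IsNilpotent (B ⊓ M : Subgroup G) :=
    CfsgLib.Schmidt.isNilpotent_of_le inf_le_left c.nilB
  obtain ⟨m, hm⟩ := CfsgLib.NilpotentHall.contains_conj H (zpowers (⟨v, hv⟩ : M))
    (Group.nilpotent_of_mulEquiv (subgroupOfEquivOfLe (inf_le_right : B ⊓ M ≤ M)).symm)
    (hidx ▸ hcard ▸ c.cop.symm.coprime_dvd_left (card_dvd_of_le inf_le_left))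
    (fun r hr hrd => by
      rw [Nat.card_zpowers, Subgroup.orderOf_mk, hvo, Nat.prime_dvd_prime_iff_eq hr hq.out] at hrd
      rw [hrd, hcard]; exact hqB)
  have h1 := mem_conj_smul.1 (hm (mem_zpowers _))
  rw [hH, mem_subgroupOf] at h1
  simp only [Subgroup.coe_mul, Subgroup.coe_inv] at h1
  set u := (m : G)⁻¹ * v * m with hu
  have hu1 : u ≠ 1 := fun e => by
    have : v = 1 := by
      calc v = (m : G) * u * (m : G)⁻¹ := by rw [hu]; group
        _ = 1 := by rw [e]; group
    rw [this, orderOf_one] at hvo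
    exact hq.out.one_lt.ne hvo
  have hxA : (m : G)⁻¹ * x * m ∈ A := (mem_normalizer_iff''.1 m.2 x).1 hx
  have h2 := c.centralizer_inf_le h1.1 h1.2 hu1 ⟨hxA, mem_centralizer_singleton_iff.2 (by
    calc (m : G)⁻¹ * x * m * u = (m : G)⁻¹ * (x * v) * m := by rw [hu]; group
      _ = (m : G)⁻¹ * (v * x) * m := by rw [hcomm.eq]
      _ = u * ((m : G)⁻¹ * x * m) := by rw [hu]; group)⟩
  exact hno (m : G)⁻¹ (by simpa using hxA) (by simpa using h2)

/-- Elements with a common conjugate of `part A p` and `part A s` commute. -/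
theorem conj_part_commute {p s : ℕ} [hp : Fact p.Prime] [hs : Fact s.Prime] (hsp : s ≠ p)
    {y v a : G} (hv : v ∈ MulAut.conj y • part A p) (ha : a ∈ MulAut.conj y • part A s) :
    Commute a v := by
  have ha' := mem_conj_smul.1 ha
  have hv' := mem_conj_smul.1 hv
  obtain ⟨i, hi⟩ := IsPGroup.iff_orderOf.1 (isPGroup_part (A := A) (p := s)) ⟨_, ha'⟩
  rw [← orderOf_coe] at hi
  have h1 := (commute_part c.nilA (part_le A s ha') hv' (by
    rw [hi]; exact ((Nat.coprime_primes hs.out hp.out).2 hsp).pow_left i)).eq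
  calc a * v = y * ((y⁻¹ * a * y) * (y⁻¹ * v * y)) * y⁻¹ := by group
    _ = y * ((y⁻¹ * v * y) * (y⁻¹ * a * y)) * y⁻¹ := by rw [h1]
    _ = v * a := by group

/-- The Frobenius condition inside a centralizer. -/
theorem local_of (K : Subgroup G) {r : ℕ} [hr : Fact r.Prime]
    (hS : ∀ W : Subgroup G, W ≤ K → IsPGroup r W → ∃ s : ℕ, s.Prime ∧ ∃ S : Subgroup G,
      S ≤ K ⊓ centralizer (W : Set G) ∧
      Nat.card S = s ^ (Nat.card (K ⊓ centralizer (W : Set G) : Subgroup G)).factorization s ∧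
      ∀ q : ℕ, q.Prime → ∀ v ∈ K ⊓ normalizer (W : Set G) ⊓ normalizer (S : Set G),
        orderOf v = q → q ∣ Nat.card A) :
    CfsgLib.Fusion.LocalCondition r K := by
  intro Q hQ g hg hgr
  set W := Q.map K.subtype with hW
  obtain ⟨s, hs, S, hSC, hSc, hT⟩ := hS W (map_subtype_le Q) (hQ.map _)
  haveI := Fact.mk hs
  set C := K ⊓ centralizer (W : Set G) with hC
  have hgW : (g : G) ∈ normalizer (W : Set G) := le_normalizer_map K.subtype (mem_map_of_mem _ hg)
  have hgC : (g : G) ∈ normalizer (C : Set G) := mem_normalizer_iff.2 fun x => by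
    rw [hC, mem_inf, mem_inf, ← mem_normalizer_iff.1 (le_normalizer g.2) x,
      ← mem_normalizer_iff.1 (normalizer_le_normalizer_centralizer W hgW) x]
  obtain ⟨d, hd, hd'⟩ := sylow_conj_in (S₁ := S) (S₂ := MulAut.conj (g : G) • S) hSC
    ((pointwise_smul_le_pointwise_smul_iff.2 hSC).trans (conj_smul_eq_iff_mem_normalizer.2 hgC).le)
    hSc (by rw [card_conj_smul, hSc])
  set n := d⁻¹ * (g : G) with hn
  set T := K ⊓ normalizer (W : Set G) ⊓ normalizer (S : Set G) with hT'
  have hdW : d ∈ normalizer (W : Set G) := centralizer_le_normalizer _ hd.2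
  have hnT : n ∈ T := ⟨⟨K.mul_mem (K.inv_mem hd.1) g.2,
    Subgroup.mul_mem _ ((normalizer (W : Set G)).inv_mem hdW) hgW⟩,
    conj_smul_eq_iff_mem_normalizer.1 (by rw [hn, conj_smul_mul, ← hd', conj_smul_inv_smul])⟩
  have hWT : W ≤ T := fun w hw => ⟨⟨map_subtype_le Q hw, le_normalizer hw⟩,
    centralizer_le_normalizer _ (mem_centralizer_iff.2 fun v hv =>
      (mem_centralizer_iff.1 (hSC hv).2 w hw).symm)⟩
  obtain ⟨y, hy⟩ := c.exists_le_conj (W := T) fun q hq hqd => by
    haveI := Fact.mk hq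
    obtain ⟨v, hv⟩ := exists_prime_orderOf_dvd_card' q hqd
    exact hT q hq v v.2 (by rw [orderOf_coe]; exact hv)
  have hWy : MulAut.conj y⁻¹ • W ≤ part A r := le_part c.nilA
    (by rw [pointwise_smul_subset_iff, map_inv, inv_inv]; exact hWT.trans hy)
    ((hQ.map K.subtype).of_equiv (equivSMul (MulAut.conj y⁻¹) W))
  set k := (orderOf n).factorization r with hk
  have hnC : n ^ r ^ k ∈ centralizer (W : Set G) := mem_centralizer_iff.2 fun w hw => by
    have hn' : y⁻¹ * n * y ∈ A := mem_conj_smul.1 (hy hnT)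
    have hw' : y⁻¹ * w * y ∈ part A r := hWy (by
      rw [mem_conj_smul]; convert (SetLike.mem_coe.1 hw) using 1; group)
    have hord : orderOf (y⁻¹ * n * y) = orderOf n := by
      rw [show y⁻¹ * n * y = MulAut.conj y⁻¹ n by simp, MulEquiv.orderOf_eq]
    have h1 := (commute_part c.nilA (pow_mem hn' (r ^ k)) hw' (by
      rw [orderOf_pow_of_dvd (pow_pos hr.out.pos k).ne' (hord.symm ▸ Nat.ordProj_dvd _ _), hord]
      exact (Nat.coprime_ordCompl hr.out (orderOf_pos n).ne').symm)).eq
    have e : (y⁻¹ * n * y) ^ r ^ k = y⁻¹ * n ^ r ^ k * y := by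
      simpa using (conj_pow (a := y⁻¹) (b := n) (i := r ^ k))
    rw [e] at h1
    calc w * n ^ r ^ k = y * ((y⁻¹ * w * y) * (y⁻¹ * n ^ r ^ k * y)) * y⁻¹ := by group
      _ = y * ((y⁻¹ * n ^ r ^ k * y) * (y⁻¹ * w * y)) * y⁻¹ := by rw [h1]
      _ = n ^ r ^ k * w := by group
  set φ := W.normalizerMonoidHom with hφ
  have hker : ∀ x : normalizer (W : Set G), φ x = 1 ↔ (x : G) ∈ centralizer (W : Set G) := fun x => by
    rw [hφ, ← MonoidHom.mem_ker, normalizerMonoidHom_ker, mem_subgroupOf]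
  set g' : normalizer (W : Set G) := ⟨g, hgW⟩ with hg'
  set n' : normalizer (W : Set G) := ⟨n, hnT.1.2⟩ with hn'
  have e : φ g' = φ n' := by
    have : g' = (⟨d, hdW⟩ : normalizer (W : Set G)) * n' :=
      Subtype.ext (mul_inv_cancel_left d (g : G)).symm
    rw [this, map_mul, (hker ⟨d, hdW⟩).2 hd.2, one_mul]
  have h1 : φ g' ^ r ^ k = 1 := by rw [e, ← map_pow, hker]; exact hnC
  have h2 : φ g' ^ orderOf g = 1 := by
    rw [← map_pow, show g' ^ orderOf g = 1 from Subtype.ext (by
      show (g : G) ^ orderOf g = 1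
      rw [← orderOf_coe, pow_orderOf_eq_one]), map_one]
  have h3 : φ g' ^ Nat.gcd (r ^ k) (orderOf g) = 1 := pow_gcd_eq_one.2 ⟨h1, h2⟩
  rw [(hgr.symm.pow_left k).gcd_eq_one, pow_one, hker] at h3
  exact mem_centralizer_iff.2 fun w hw =>
    Subtype.ext (mem_centralizer_iff.1 h3 _ (mem_map_of_mem _ hw))

/-- The centralizer of an element of `A` of prime order which is not conjugate into `N(B)` is a
`π`-group. -/
theorem centralizer_pi {x : G} {p : ℕ} [hp : Fact p.Prime] (hxo : orderOf x = p) (hx : x ∈ A)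
    (hno : ∀ h : G, h * x * h⁻¹ ∈ A → h * x * h⁻¹ ∈ normalizer (B : Set G) → False) :
    ∀ q : ℕ, q.Prime → q ∣ Nat.card (centralizer ({x} : Set G)) → q ∣ Nat.card A := by
  set K := centralizer ({x} : Set G) with hK
  have hpA : p ∣ Nat.card A := hxo ▸ orderOf_dvd_natCard A hx
  have hxK : x ∈ K := mem_centralizer_singleton_iff.2 rfl
  have hxp : IsPGroup p (zpowers x) :=
    IsPGroup.of_card (n := 1) (by rw [Nat.card_zpowers, hxo, pow_one])
  have hKx : ∀ L : Subgroup G, L ≤ K → L ≤ normalizer (zpowers x : Set G) := fun L hL l hl =>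
    centralizer_le_normalizer _ (mem_centralizer_iff.2 fun w hw => by
      obtain ⟨i, rfl⟩ := mem_zpowers_iff.1 hw
      exact ((show Commute l x from mem_centralizer_singleton_iff.1 (hL hl)).zpow_right i).eq.symm)
  have hp_loc : CfsgLib.Fusion.LocalCondition p K := by
    refine c.local_of K fun W hWK hW => ?_
    obtain ⟨s, hs, hsp, hsA⟩ := c.exists_other_prime hp.out
    haveI := Fact.mk hs
    obtain ⟨y, hy⟩ := c.exists_le_conj_part hpA (V := W ⊔ zpowers x) (by
      obtain ⟨i, hi⟩ := IsPGroup.iff_card.1 hW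
      obtain ⟨j, -, hj⟩ := (Nat.dvd_prime_pow hp.out).1 (show Nat.card (W ⊔ zpowers x : Subgroup G) ∣
          p ^ (i + 1) by
        rw [pow_succ, ← hi]
        exact (card_sup_dvd (hKx W hWK)).trans (by rw [Nat.card_zpowers, hxo]))
      exact IsPGroup.of_card hj)
    have hSC : MulAut.conj y • part A s ≤ K ⊓ centralizer (W : Set G) := fun a ha =>
      ⟨mem_centralizer_singleton_iff.2
          (c.conj_part_commute hsp (hy (mem_sup_right (mem_zpowers x))) ha).eq,
        mem_centralizer_iff.2 fun w hw => (c.conj_part_commute hsp (hy (mem_sup_left hw)) ha).eq.symm⟩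
    refine ⟨s, hs, _, hSC, ?_, fun q hq v hv hvo => ?_⟩
    · rw [card_conj_smul, card_part c.nilA, c.factorization_eq hs hsA]
      refine congrArg _ (le_antisymm ?_ ?_)
      · have := factorization_le hSC s
        rwa [card_conj_smul, card_part c.nilA, c.factorization_eq hs hsA,
          hs.factorization_pow, Finsupp.single_eq_same] at this
      · rw [← card_top (G := G)]
        exact factorization_le le_top s
    · haveI := Fact.mk hq
      have hx' : y⁻¹ * x * y ∈ A := part_le A p (mem_conj_smul.1 (hy (mem_sup_right (mem_zpowers x))))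
      refine c.dvd_of_mem_normalizer (v := y⁻¹ * v * y) hx'
        (fun h h1 h2 => hno (h * y⁻¹) ?_ ?_) ?_ ?_ ?_
      · convert h1 using 1; group
      · convert h2 using 1; group
      · rw [show y⁻¹ * v * y = MulAut.conj y⁻¹ v by simp, MulEquiv.orderOf_eq, hvo]
      · refine c.normalizer_part_le hsA ?_
        rw [← conj_smul_eq_iff_mem_normalizer, conj_smul_mul, conj_smul_mul,
          conj_smul_eq_iff_mem_normalizer.2 hv.2, conj_smul_inv_smul]
      · have := mem_centralizer_singleton_iff.1 hv.1.1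
        calc y⁻¹ * v * y * (y⁻¹ * x * y) = y⁻¹ * (v * x) * y := by group
          _ = y⁻¹ * (x * v) * y := by rw [this]
          _ = y⁻¹ * x * y * (y⁻¹ * v * y) := by group
  have hpc : CfsgLib.Fusion.LocalCondition p K := hp_loc
  have hpN := CfsgLib.Fusion.hasNormalPComplement_of_localCondition hp_loc
  have hloc : ∀ r ∈ (Nat.card A).primeFactors, Cfsg.HasNormalPComplement r K := by
    intro r hrm
    have hr := Nat.prime_of_mem_primeFactors hrm
    have hrA := Nat.dvd_of_mem_primeFactors hrm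
    haveI := Fact.mk hr
    by_cases hrp : r = p
    · subst hrp; exact hpN
    refine CfsgLib.Fusion.hasNormalPComplement_of_localCondition (c.local_of K fun W hWK hW => ?_)
    set C := K ⊓ centralizer (W : Set G) with hC
    obtain ⟨P⟩ : Nonempty (Sylow p C) := inferInstance
    set S0 := (P : Subgroup C).map C.subtype with hS0
    have hS0C : S0 ≤ C := map_subtype_le _
    have hS0p : IsPGroup p S0 := P.2.map _
    have hS0c : Nat.card S0 = p ^ (Nat.card C).factorization p := by
      rw [hS0, card_map_of_injective C.subtype_injective, P.card_eq_multiplicity]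
    have hxC : x ∈ C := ⟨hxK, mem_centralizer_iff.2 fun w hw =>
      mem_centralizer_singleton_iff.1 (hWK hw)⟩
    have hxS0 : x ∈ S0 := by
      obtain ⟨i, hi⟩ := IsPGroup.iff_card.1 hS0p
      obtain ⟨j, -, hj⟩ := (Nat.dvd_prime_pow hp.out).1 (show Nat.card (S0 ⊔ zpowers x : Subgroup G) ∣
          p ^ (i + 1) by
        rw [pow_succ, ← hi]
        exact (card_sup_dvd (hKx S0 (hS0C.trans inf_le_left))).trans (by rw [Nat.card_zpowers, hxo]))
      have h1 := card_eq_pow_le (IsPGroup.of_card hj : IsPGroup p (S0 ⊔ zpowers x : Subgroup G))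
        (sup_le hS0C (zpowers_le.2 hxC)) le_rfl
      rw [← hS0c] at h1
      exact (eq_of_le_of_card_le le_sup_left h1).ge (mem_sup_right (mem_zpowers x))
    obtain ⟨y, hy⟩ := c.exists_le_conj (W := S0 ⊔ W) fun q hq hqd => by
      obtain ⟨i, hi⟩ := IsPGroup.iff_card.1 hS0p
      obtain ⟨j, hj⟩ := IsPGroup.iff_card.1 hW
      have h1 := hqd.trans (card_sup_dvd (hS0C.trans (inf_le_right.trans (centralizer_le_normalizer _))))
      rw [hi, hj] at h1
      rcases (hq.dvd_mul).1 h1 with h | h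
      · rwa [(Nat.prime_dvd_prime_iff_eq hq hp.out).1 (hq.dvd_of_dvd_pow h)]
      · rwa [(Nat.prime_dvd_prime_iff_eq hq hr).1 (hq.dvd_of_dvd_pow h)]
    have hWy : W ≤ MulAut.conj y • part A r := by
      intro w hw
      rw [mem_conj_smul]
      refine le_part c.nilA (X := MulAut.conj y⁻¹ • W) ?_ (hW.of_equiv (equivSMul _ W)) ?_
      · rw [pointwise_smul_subset_iff, map_inv, inv_inv]; exact le_sup_right.trans hy
      · rw [mem_conj_smul]; convert hw using 1; group
    obtain ⟨z, hzp, hz1, hz⟩ := exists_central c.nilA (part_le A p) (le_normalizer_part A p)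
      (c.part_ne_bot hpA)
    set z' := y * z * y⁻¹ with hz'
    have hzy : z' ∈ MulAut.conj y • part A p := by
      rw [mem_conj_smul, hz']; convert hzp using 1; group
    have hzC : z' ∈ C := ⟨mem_centralizer_singleton_iff.2 (by
        have h1 := hz.2 _ (mem_conj_smul.1 (hy (mem_sup_left hxS0)))
        calc z' * x = y * (z * (y⁻¹ * x * y)) * y⁻¹ := by rw [hz']; group
          _ = y * ((y⁻¹ * x * y) * z) * y⁻¹ := by rw [h1]
          _ = x * z' := by rw [hz']; group),
      mem_centralizer_iff.2 fun w hw => (c.conj_part_commute hrp hzy (hWy hw)).eq⟩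
    have hzS0 : z' ∈ S0 := by
      have hle : S0 ≤ MulAut.conj y • part A p := fun w hw => by
        rw [mem_conj_smul]
        refine le_part c.nilA (X := MulAut.conj y⁻¹ • S0) ?_ (hS0p.of_equiv (equivSMul _ S0)) ?_
        · rw [pointwise_smul_subset_iff, map_inv, inv_inv]; exact le_sup_left.trans hy
        · rw [mem_conj_smul]; convert hw using 1; group
      have h1 := card_eq_pow_le ((isPGroup_part (A := A) (p := p)).of_equiv
          (equivSMul (MulAut.conj y) (part A p)) |>.to_le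
            (inf_le_left : (MulAut.conj y • part A p) ⊓ C ≤ _))
        (inf_le_right : (MulAut.conj y • part A p) ⊓ C ≤ C) le_rfl
      rw [← hS0c] at h1
      exact (eq_of_le_of_card_le (le_inf hle hS0C) h1).ge ⟨hzy, hzC⟩
    refine ⟨p, hp.out, S0, hS0C, hS0c, fun q hq v hv hvo => ?_⟩
    by_contra hqA
    haveI := Fact.mk hq
    have hqp : q ≠ p := fun e => hqA (e ▸ hpA)
    have h1 := CfsgLib.Fusion.localCondition_of_hasNormalPComplement hpN (S0.subgroupOf K)
      hS0p.comap_subtype ⟨v, hv.1.1⟩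
      (mem_normalizer_iff.2 fun w => by
        simp only [mem_subgroupOf, Subgroup.coe_mul, Subgroup.coe_inv]
        exact mem_normalizer_iff.1 hv.2 w)
      (by rw [Subgroup.orderOf_mk, hvo]; exact (Nat.coprime_primes hq hp.out).2 hqp)
    have h2 : z' * v = v * z' :=
      congrArg Subtype.val (mem_centralizer_iff.1 h1 ⟨z', hzC.1⟩ hzS0)
    have h3 : y⁻¹ * v * y ∈ A := by
      rw [← c.centralizer_central hz hz1]
      refine mem_centralizer_singleton_iff.2 ?_
      calc y⁻¹ * v * y * z = y⁻¹ * (v * z') * y := by rw [hz']; group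
        _ = y⁻¹ * (z' * v) * y := by rw [h2]
        _ = z * (y⁻¹ * v * y) := by rw [hz']; group
    refine hqA ?_
    rw [← hvo, ← MulEquiv.orderOf_eq (MulAut.conj y⁻¹) v,
      show MulAut.conj y⁻¹ v = y⁻¹ * v * y by simp]
    exact orderOf_dvd_natCard A h3
  intro q hq hqd
  by_contra hqA
  haveI := Fact.mk hq
  set R := (Nat.card A).primeFactors.inf fun r => Cfsg.pResidual r K with hR
  haveI hRn : R.Normal := by
    refine Finset.inf_induction (p := Subgroup.Normal) inferInstance (fun A hA B hB => ?_)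
      fun r _ => inferInstance
    haveI := hA; haveI := hB; infer_instance
  obtain ⟨v, hv⟩ := exists_prime_orderOf_dvd_card' q hqd
  have hvR : v ∈ R := Finset.le_inf (a := zpowers v) (fun r hr => zpowers_le.2
    (CfsgLib.PResidual.mem_pResidual r (by
      rw [hv]
      exact (Nat.coprime_primes hq (Nat.prime_of_mem_primeFactors hr)).2
        fun e => hqA (e ▸ Nat.dvd_of_mem_primeFactors hr)))) (mem_zpowers v)
  have hRc : (Nat.card R).Coprime (Nat.card A) := Nat.coprime_of_dvd fun r hr hrR hrA => by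
    haveI := Fact.mk hr
    have hm : r ∈ (Nat.card A).primeFactors := hr.mem_primeFactors hrA Nat.card_pos.ne'
    exact hr.ne_one (Nat.eq_one_of_dvd_coprimes (CfsgLib.PResidual.hasNormalPComplement_iff.1 (hloc r hm))
      (hrR.trans (card_dvd_of_le (Finset.inf_le hm))) dvd_rfl)
  obtain ⟨s, hs, hsp, hsA⟩ := c.exists_other_prime hp.out
  haveI := Fact.mk hs
  have hSK : part A s ≤ K := fun a ha => mem_centralizer_singleton_iff.2 (by
    obtain ⟨i, hi⟩ := IsPGroup.iff_orderOf.1 (isPGroup_part (A := A) (p := s)) ⟨a, ha⟩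
    rw [← orderOf_coe] at hi
    exact (commute_part c.nilA (part_le A s ha)
      (le_part c.nilA (zpowers_le.2 hx) hxp (mem_zpowers x)) (by
      rw [hi]; exact ((Nat.coprime_primes hs hp.out).2 hsp).pow_left i)).eq)
  set R' := R.map K.subtype with hR'
  have hRK : K ≤ normalizer (R' : Set G) := by
    have h := R.le_normalizer_map K.subtype
    rwa [normalizer_eq_top, ← MonoidHom.range_eq_map, range_subtype] at h
  have hsol : Group.IsSolvable (part A s) := by
    haveI := (isPGroup_part (A := A) (p := s)).isNilpotent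
    infer_instance
  obtain ⟨Q, hQ⟩ := CfsgLib.CoprimeAct.exists_invariant_sylow (A := part A s) (K := R')
    (hSK.trans hRK) (by
      rw [card_map_of_injective K.subtype_injective]
      exact (hRc.coprime_dvd_right (card_dvd_of_le (part_le A s))).symm) (Or.inl hsol) q
  set V := (Q : Subgroup R').map R'.subtype with hV
  have hqG : q ∣ Nat.card B := by
    have h1 := hqd.trans (card_subgroup_dvd_card K)
    rw [c.card_eq] at h1
    exact ((hq.dvd_mul).1 h1).resolve_left hqA
  obtain ⟨z, -, hz1, hz, hzV⟩ := c.symm.key hqG hsA (Q.2.map R'.subtype) hQ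
  have hVA : V ≤ A := fun w hw => (c.centralizer_central hz hz1).le
    (mem_centralizer_singleton_iff.2 (mem_centralizer_iff.1 hzV w hw))
  have hVc : q ∣ Nat.card V := by
    rw [hV, card_map_of_injective R'.subtype_injective, Q.card_eq_multiplicity]
    refine dvd_pow_self q (hq.factorization_pos_of_dvd Nat.card_pos.ne' ?_).ne'
    rw [card_map_of_injective K.subtype_injective, ← hv]
    exact orderOf_dvd_natCard R hvR
  exact hqA (hVc.trans (card_dvd_of_le hVA))

/-- Every nontrivial element of `A` lies in a single conjugate of `A`. -/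
theorem unique {x g : G} (hx : x ∈ A) (hx1 : x ≠ 1) (hg : x ∈ MulAut.conj g • A) :
    g ∈ normalizer (A : Set G) := by
  rw [← conj_smul_eq_iff_mem_normalizer]
  obtain ⟨p, hp, hpd⟩ := Nat.exists_prime_and_dvd (n := orderOf x)
    (fun e => hx1 (orderOf_eq_one_iff.1 e))
  haveI := Fact.mk hp
  set w := x ^ (orderOf x / p) with hw
  have hwo : orderOf w = p := by
    rw [hw, orderOf_pow_of_dvd (Nat.div_pos (Nat.le_of_dvd (orderOf_pos x) hpd) hp.pos).ne'
      (Nat.div_dvd_of_dvd hpd), Nat.div_div_self hpd (orderOf_pos x).ne']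
  have hwA : w ∈ A := pow_mem hx _
  have hwg : w ∈ MulAut.conj g • A := pow_mem hg _
  have hw1 : w ≠ 1 := fun e => by rw [e, orderOf_one] at hwo; exact hp.one_lt.ne hwo
  by_cases hno : ∀ h : G, h * w * h⁻¹ ∈ A → h * w * h⁻¹ ∈ normalizer (B : Set G) → False
  · have hpi := c.centralizer_pi hwo hwA hno
    obtain ⟨y, hy⟩ := c.exists_le_conj (W := centralizer {w}) hpi
    obtain ⟨s, hs, hsp, hsA⟩ := c.exists_other_prime hp
    haveI := Fact.mk hs
    have hwp : IsPGroup p (zpowers w) :=
      IsPGroup.of_card (n := 1) (by rw [Nat.card_zpowers, hwo, pow_one])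
    have hconj : ∀ k : G, w ∈ MulAut.conj k • A →
        MulAut.conj k • part A s = MulAut.conj y • part A s := fun k hk => by
      refine eq_of_le_of_card_le ?_ (by rw [card_conj_smul, card_conj_smul])
      have hwk : w ∈ MulAut.conj k • part A p := by
        have : zpowers (k⁻¹ * w * k) ≤ part A p := le_part c.nilA
          (zpowers_le.2 (mem_conj_smul.1 hk)) (IsPGroup.of_card (n := 1) (by
            rw [Nat.card_zpowers, show k⁻¹ * w * k = MulAut.conj k⁻¹ w by simp,
              MulEquiv.orderOf_eq, hwo, pow_one]))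
        exact mem_conj_smul.2 (this (mem_zpowers _))
      have hle : MulAut.conj k • part A s ≤ MulAut.conj y • A := fun a ha =>
        hy (mem_centralizer_singleton_iff.2 (c.conj_part_commute hsp hwk ha).eq)
      intro a ha
      rw [mem_conj_smul]
      refine le_part c.nilA (X := MulAut.conj y⁻¹ • MulAut.conj k • part A s) ?_
        (((isPGroup_part (A := A) (p := s)).of_equiv (equivSMul _ _)).of_equiv (equivSMul _ _)) ?_
      · rw [pointwise_smul_subset_iff, map_inv, inv_inv]; exact hle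
      · rw [mem_conj_smul]; convert ha using 1; group
    have h1 := hconj 1 (by simpa using hwA)
    have h2 := hconj g hwg
    rw [map_one, one_smul] at h1
    rw [← h1] at h2
    exact conj_smul_eq_iff_mem_normalizer.2
      (c.normalizer_part_le hsA (conj_smul_eq_iff_mem_normalizer.1 h2))
  · push Not at hno
    obtain ⟨h, h1, h2, -⟩ := hno
    have hne : h * w * h⁻¹ ≠ 1 := fun e => hw1 (conj_eq_one_iff.1 e)
    have e1 : MulAut.conj h • A = A := c.conj_fixed h1 h2 hne (by
      rw [mem_conj_smul]; convert hwA using 1; group)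
    have e2 : MulAut.conj (h * g) • A = A := c.conj_fixed h1 h2 hne (by
      rw [mem_conj_smul]; convert mem_conj_smul.1 hwg using 1; group)
    rw [conj_smul_mul] at e2
    have := e2.trans e1.symm
    exact smul_left_cancel _ this

theorem contradiction : False := by
  classical
  set M := normalizer (A : Set G) with hM
  set L := normalizer (B : Set G) with hL
  set D := M ⊓ L with hD
  have hAM : A ≤ M := le_normalizer
  have hBL : B ≤ L := le_normalizer
  set w1 := Nat.card (A ⊓ D : Subgroup G) with hw1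
  set w2 := Nat.card (B ⊓ D : Subgroup G) with hw2
  have hDfac : ∀ k ∈ D, ∃ a ∈ A ⊓ D, ∃ b ∈ B ⊓ D, k = a * b := fun k hk => by
    obtain ⟨a, ha, b, hb, rfl⟩ := c.fac k
    have hbD : b ∈ D := ⟨(M.mul_mem_cancel_left (hAM ha)).1 hk.1, hBL hb⟩
    exact ⟨a, ⟨ha, (D.mul_mem_cancel_right hbD).1 hk⟩, b, ⟨hb, hbD⟩, rfl⟩
  have hDcard : Nat.card D = w1 * w2 := c.card_sub hDfac
  have hMcard : Nat.card M = Nat.card A * w2 := by
    rw [c.card_ge hAM, hw2, show B ⊓ D = B ⊓ M by
      rw [hD, ← inf_assoc, inf_right_comm, inf_eq_left.2 hBL]]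
  have hLcard : Nat.card L = Nat.card B * w1 := by
    rw [c.symm.card_ge hBL, hw1, show A ⊓ D = A ⊓ L by
      rw [hD, ← inf_assoc, inf_eq_left.2 hAM]]
  have hcomm : ∀ a ∈ A ⊓ D, ∀ u ∈ B ⊓ D, Commute a u := fun a ha u hu => by
    have h1 : a * u * a⁻¹ * u⁻¹ = 1 := c.eq_one_of_mem (by
      have := mul_mem ha.1 ((mem_normalizer_iff.1 hu.2.1 a⁻¹).1 (inv_mem ha.1))
      simpa [mul_assoc] using this)
      (mul_mem ((mem_normalizer_iff.1 ha.2.2 u).1 hu.1) (inv_mem hu.1))
    rw [mul_inv_eq_one, mul_inv_eq_iff_eq_mul] at h1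
    exact h1
  have hpowA : ∀ a ∈ A, a ^ Nat.card A = 1 := fun a ha =>
    orderOf_dvd_iff_pow_eq_one.1 (orderOf_dvd_natCard A ha)
  have hpowB : ∀ b ∈ B, b ^ Nat.card B = 1 := fun b hb =>
    orderOf_dvd_iff_pow_eq_one.1 (orderOf_dvd_natCard B hb)
  have hcopA : ∀ a ∈ A, a ^ Nat.card B = 1 → a = 1 := fun a ha h =>
    orderOf_eq_one_iff.1 (Nat.eq_one_of_dvd_coprimes c.cop (orderOf_dvd_natCard A ha)
      (orderOf_dvd_of_pow_eq_one h))
  have hcopB : ∀ b ∈ B, b ^ Nat.card A = 1 → b = 1 := fun b hb h =>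
    orderOf_eq_one_iff.1 (Nat.eq_one_of_dvd_coprimes c.cop (orderOf_dvd_of_pow_eq_one h)
      (orderOf_dvd_natCard B hb))
  let fA : (G ⧸ M) × {a : A // a ≠ 1} → G := fun x => x.1.out * (x.2.1 : G) * x.1.out⁻¹
  let fB : (G ⧸ L) × {b : B // b ≠ 1} → G := fun x => x.1.out * (x.2.1 : G) * x.1.out⁻¹
  let fV : (G ⧸ D) × ({a : (A ⊓ D : Subgroup G) // a ≠ 1} × {b : (B ⊓ D : Subgroup G) // b ≠ 1}) → G :=
    fun x => x.1.out * ((x.2.1.1 : G) * (x.2.2.1 : G)) * x.1.out⁻¹
  have hinj : ∀ {M' : Subgroup G} {u v : G ⧸ M'}, v.out⁻¹ * u.out ∈ M' → v = u := fun {M' u v} h => by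
    rw [← QuotientGroup.out_eq' v, ← QuotientGroup.out_eq' u]
    exact QuotientGroup.eq.2 h
  have key : ∀ (h k a b : G), h * a * h⁻¹ = k * b * k⁻¹ → a ∈ A → b ∈ A → a ≠ 1 → k⁻¹ * h ∈ M := by
    intro h k a b e ha hb ha1
    refine c.unique (x := b) hb (fun e' => ha1 (conj_eq_one_iff.1 (e.trans (by rw [e']; group)))) ?_
    rw [mem_conj_smul]
    convert ha using 1
    calc (k⁻¹ * h)⁻¹ * b * (k⁻¹ * h) = h⁻¹ * (k * b * k⁻¹) * h := by group
      _ = h⁻¹ * (h * a * h⁻¹) * h := by rw [e]
      _ = a := by group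
  have key' : ∀ (h k a b : G), h * a * h⁻¹ = k * b * k⁻¹ → a ∈ B → b ∈ B → a ≠ 1 → k⁻¹ * h ∈ L := by
    intro h k a b e ha hb ha1
    refine c.symm.unique (x := b) hb (fun e' => ha1 (conj_eq_one_iff.1 (e.trans (by rw [e']; group)))) ?_
    rw [mem_conj_smul]
    convert ha using 1
    calc (k⁻¹ * h)⁻¹ * b * (k⁻¹ * h) = h⁻¹ * (k * b * k⁻¹) * h := by group
      _ = h⁻¹ * (h * a * h⁻¹) * h := by rw [e]
      _ = a := by group
  have hfA : Function.Injective fA := fun u v e => by
    have h1 := hinj (key _ _ _ _ e u.2.1.2 v.2.1.2 (fun h => u.2.2 (Subtype.ext h)))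
    refine Prod.ext h1.symm (Subtype.ext (Subtype.ext ?_))
    simp only [fA, h1] at e
    exact mul_left_cancel (mul_right_cancel e)
  have hfB : Function.Injective fB := fun u v e => by
    have h1 := hinj (key' _ _ _ _ e u.2.1.2 v.2.1.2 (fun h => u.2.2 (Subtype.ext h)))
    refine Prod.ext h1.symm (Subtype.ext (Subtype.ext ?_))
    simp only [fB, h1] at e
    exact mul_left_cancel (mul_right_cancel e)
  have hpV : ∀ (a b : G), a ∈ A ⊓ D → b ∈ B ⊓ D →
      (a * b) ^ Nat.card B = a ^ Nat.card B ∧ (a * b) ^ Nat.card A = b ^ Nat.card A := fun a b ha hb => by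
    rw [(hcomm a ha b hb).mul_pow, (hcomm a ha b hb).mul_pow, hpowB b hb.1, hpowA a ha.1, mul_one,
      one_mul]
    exact ⟨rfl, rfl⟩
  have hfV : Function.Injective fV := fun u v e => by
    obtain ⟨hu1, hu2⟩ := hpV _ _ u.2.1.1.2 u.2.2.1.2
    obtain ⟨hv1, hv2⟩ := hpV _ _ v.2.1.1.2 v.2.2.1.2
    have eB := congrArg (fun g => g ^ Nat.card B) e
    have eA := congrArg (fun g => g ^ Nat.card A) e
    simp only [fV, conj_pow, hu1, hu2, hv1, hv2] at eA eB
    have hm := key _ _ _ _ eB (pow_mem u.2.1.1.2.1 _) (pow_mem v.2.1.1.2.1 _)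
      (fun h => u.2.1.2 (Subtype.ext (hcopA _ u.2.1.1.2.1 h)))
    have hl := key' _ _ _ _ eA (pow_mem u.2.2.1.2.1 _) (pow_mem v.2.2.1.2.1 _)
      (fun h => u.2.2.2 (Subtype.ext (hcopB _ u.2.2.1.2.1 h)))
    have h1 := hinj (M' := D) ⟨hm, hl⟩
    simp only [fV, h1] at e
    have h2 : (u.2.1.1 : G) * u.2.2.1 = v.2.1.1 * v.2.2.1 := mul_left_cancel (mul_right_cancel e)
    have h3 : ((v.2.1.1 : G))⁻¹ * u.2.1.1 = 1 := c.eq_one_of_mem
      (mul_mem (inv_mem v.2.1.1.2.1) u.2.1.1.2.1) (by
        rw [show ((v.2.1.1 : G))⁻¹ * u.2.1.1 = v.2.2.1 * (u.2.2.1 : G)⁻¹ by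
          rw [eq_mul_inv_iff_mul_eq, mul_assoc, h2, inv_mul_cancel_left]]
        exact mul_mem v.2.2.1.2.1 (inv_mem u.2.2.1.2.1))
    have h4 : (u.2.1.1 : G) = v.2.1.1 := (inv_mul_eq_one.1 h3).symm
    rw [h4] at h2
    exact Prod.ext h1.symm (Prod.ext (Subtype.ext (Subtype.ext h4))
      (Subtype.ext (Subtype.ext (mul_left_cancel h2))))
  let F := Sum.elim (fun _ : PUnit.{1} => (1 : G)) (Sum.elim fA (Sum.elim fB fV))
  have hA1 : ∀ x, fA x ^ Nat.card A = 1 ∧ fA x ≠ 1 := fun x => by
    refine ⟨?_, fun e => x.2.2 (Subtype.ext (conj_eq_one_iff.1 e))⟩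
    simp only [fA, conj_pow, hpowA _ x.2.1.2]; group
  have hB1 : ∀ x, fB x ^ Nat.card B = 1 ∧ fB x ^ Nat.card A ≠ 1 := fun x => by
    refine ⟨?_, fun e => x.2.2 (Subtype.ext (hcopB _ x.2.1.2 ?_))⟩
    · simp only [fB, conj_pow, hpowB _ x.2.1.2]; group
    · simp only [fB, conj_pow] at e
      exact conj_eq_one_iff.1 e
  have hV1 : ∀ x, fV x ^ Nat.card B ≠ 1 ∧ fV x ^ Nat.card A ≠ 1 := fun x => by
    obtain ⟨h1, h2⟩ := hpV _ _ x.2.1.1.2 x.2.2.1.2
    constructor
    · intro e
      simp only [fV, conj_pow, h1] at e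
      exact x.2.1.2 (Subtype.ext (hcopA _ x.2.1.1.2.1 (conj_eq_one_iff.1 e)))
    · intro e
      simp only [fV, conj_pow, h2] at e
      exact x.2.2.2 (Subtype.ext (hcopB _ x.2.2.1.2.1 (conj_eq_one_iff.1 e)))
  have hF : Function.Injective F := by
    refine Function.Injective.sumElim (fun _ _ _ => rfl)
      (hfA.sumElim (hfB.sumElim hfV fun b v e => (hV1 v).1 (e ▸ (hB1 b).1)) fun a r e => ?_)
      fun _ r e => ?_
    · rcases r with b | v
      · exact (hB1 b).2 ((show fA a = fB b from e) ▸ (hA1 a).1)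
      · exact (hV1 v).2 ((show fA a = fV v from e) ▸ (hA1 a).1)
    · rcases r with a | b | v
      · exact (hA1 a).2 (show (1 : G) = fA a from e).symm
      · exact (hB1 b).2 (by rw [← show (1 : G) = fB b from e, one_pow])
      · exact (hV1 v).1 (by rw [← show (1 : G) = fV v from e, one_pow])
  have hne : ∀ X : Subgroup G, Nat.card {a : X // a ≠ 1} + 1 = Nat.card X := fun X => by
    rw [← Finite.card_option]
    exact Nat.card_congr (Equiv.optionSubtypeNe (1 : X))
  have hle := Nat.card_le_card_of_injective F hF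
  simp only [Nat.card_sum, Nat.card_prod, Nat.card_unique] at hle
  have hA' := hne A
  have hB' := hne B
  have hA0 := hne (A ⊓ D)
  have hB0 := hne (B ⊓ D)
  rw [← hw1] at hA0
  rw [← hw2] at hB0
  have i1 : Nat.card (G ⧸ M) * Nat.card M = Nat.card G := M.index_mul_card
  have i2 : Nat.card (G ⧸ L) * Nat.card L = Nat.card G := L.index_mul_card
  have i3 : Nat.card (G ⧸ D) * Nat.card D = Nat.card G := D.index_mul_card
  rw [hMcard] at i1
  rw [hLcard] at i2
  rw [hDcard] at i3
  have half : ∀ {P Q : Subgroup G}, Ctx P Q → ∀ R : Subgroup G, Q ≤ R → R ≤ normalizer (Q : Set G) →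
      2 * Nat.card (P ⊓ R : Subgroup G) ≤ Nat.card P := by
    intro P Q d R hQR hR
    have hlt : P ⊓ R < P := lt_of_le_of_ne inf_le_left fun e => d.A_ne_bot (by
      obtain hQ := d.symm.simple _ (normalizer_eq_top_iff.1 (eq_top_iff.2 fun g _ => by
        obtain ⟨a, ha, b, hb, rfl⟩ := d.fac g
        exact mul_mem (hR (inf_eq_left.1 e ha)) (le_normalizer hb)))
      rcases hQ with h | h
      · exact absurd h d.symm.A_ne_bot
      · exact absurd h d.symm.A_ne_top)
    obtain ⟨k, hk⟩ := card_dvd_of_le hlt.le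
    have hlt' := card_lt_of_lt hlt
    rcases k with - | - | k
    · rw [mul_zero] at hk; omega
    · rw [zero_add, mul_one] at hk; omega
    · rw [hk, mul_comm 2]; exact Nat.mul_le_mul_left _ (by omega)
  have h1 : 2 * w1 ≤ Nat.card A := by
    rw [hw1, show A ⊓ D = A ⊓ L by rw [hD, ← inf_assoc, inf_eq_left.2 hAM]]
    exact half c L hBL le_rfl
  have h2 : 2 * w2 ≤ Nat.card B := by
    rw [hw2, show B ⊓ D = B ⊓ M by
      rw [hD, ← inf_assoc, inf_right_comm, inf_eq_left.2 hBL]]
    exact half c.symm M hAM le_rfl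
  set nM := Nat.card (G ⧸ M)
  set nL := Nat.card (G ⧸ L)
  set nD := Nat.card (G ⧸ D)
  set N := Nat.card G with hN
  set α := Nat.card {a : A // a ≠ 1}
  set β := Nat.card {b : B // b ≠ 1}
  set α0 := Nat.card {a : (A ⊓ D : Subgroup G) // a ≠ 1}
  set β0 := Nat.card {b : (B ⊓ D : Subgroup G) // b ≠ 1}
  have hnM : 0 < nM := Nat.card_pos
  have e1 : 2 * (nM * (w1 * w2)) ≤ N := by
    rw [← i1]; nlinarith
  have e2 : 2 * (nL * (w1 * w2)) ≤ N := by
    rw [← i2]; nlinarith
  have hw12 : 0 < w1 * w2 := Nat.mul_pos (by omega) (by omega)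
  have f1 : nM * α * (w1 * w2) + nM * (w1 * w2) = N * w1 := by rw [← i1, ← hA']; ring
  have f2 : nL * β * (w1 * w2) + nL * (w1 * w2) = N * w2 := by rw [← i2, ← hB']; ring
  have f3 : nD * (α0 * β0) * (w1 * w2) = N * (α0 * β0) := by rw [← i3]; ring
  have f4 := Nat.mul_le_mul_left (w1 * w2) hle
  have f5 : N * (α0 * β0) + N * w1 + N * w2 = N * (w1 * w2) + N := by
    rw [← hA0, ← hB0]; ring
  nlinarith [f1, f2, f3, f4, f5, e1, e2, hw12]

end Ctx

/-- **Wielandt's theorem**: a product of nilpotent subgroups of coprime orders is solvable. -/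
theorem solvable_of_coprime : ∀ (n : ℕ) (G : Type u) [Group G] [Finite G], Nat.card G ≤ n →
    ∀ A B : Subgroup G, Group.IsNilpotent A → Group.IsNilpotent B →
      (Nat.card A).Coprime (Nat.card B) → (∀ g : G, ∃ a ∈ A, ∃ b ∈ B, g = a * b) →
      Group.IsSolvable G := by
  intro n
  induction n with
  | zero => intro G _ _ h; exact absurd h (Nat.not_le.2 Nat.card_pos)
  | succ n ih =>
    intro G _ _ hn A B hA hB hcop hfac
    by_contra hns
    have hsub : ∀ K : Subgroup G, K ≠ ⊤ → (∀ k ∈ K, ∃ a ∈ A ⊓ K, ∃ b ∈ B ⊓ K, k = a * b) →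
        Group.IsSolvable K := fun K hK hf => by
      haveI := CfsgLib.Schmidt.isNilpotent_of_le (inf_le_left : A ⊓ K ≤ A) hA
      haveI := CfsgLib.Schmidt.isNilpotent_of_le (inf_le_left : B ⊓ K ≤ B) hB
      refine ih K (by have := card_lt_of_ne_top hK; omega) ((A ⊓ K).subgroupOf K)
        ((B ⊓ K).subgroupOf K)
        (Group.nilpotent_of_mulEquiv (subgroupOfEquivOfLe inf_le_right).symm)
        (Group.nilpotent_of_mulEquiv (subgroupOfEquivOfLe inf_le_right).symm) ?_ ?_
      · rw [Nat.card_congr (subgroupOfEquivOfLe (inf_le_right : A ⊓ K ≤ K)).toEquiv,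
          Nat.card_congr (subgroupOfEquivOfLe (inf_le_right : B ⊓ K ≤ K)).toEquiv]
        exact (hcop.coprime_dvd_left (card_dvd_of_le inf_le_left)).coprime_dvd_right
          (card_dvd_of_le inf_le_left)
      · intro k
        obtain ⟨a, ha, b, hb, e⟩ := hf k k.2
        exact ⟨⟨a, ha.2⟩, ha, ⟨b, hb.2⟩, hb, Subtype.ext e⟩
    have hsimple : ∀ N : Subgroup G, N.Normal → N = ⊥ ∨ N = ⊤ := by
      intro N hN
      by_contra hc
      push Not at hc
      haveI := hN
      have hAB : A ⊓ B = ⊥ := eq_bot_of_card_eq _ (Nat.eq_one_of_dvd_coprimes hcop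
        (card_dvd_of_le inf_le_left) (card_dvd_of_le inf_le_right))
      have hG : Nat.card G = Nat.card A * Nat.card B := by
        have h := CfsgLib.Factor.card_factor hfac
        rwa [hAB, card_bot, mul_one] at h
      have hquot : ∀ {P Q : Subgroup G}, Nat.card G = Nat.card P * Nat.card Q →
          ∃ d, d ∣ Nat.card Q ∧ d * Nat.card (P ⊓ N : Subgroup G) = Nat.card N := by
        intro P Q hPQ
        have h1 := card_sup_mul_card_inf (A := P) (K := N) (le_top.trans (normalizer_eq_top N).ge)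
        obtain ⟨e, he⟩ := card_dvd_of_le (inf_le_right : P ⊓ N ≤ N)
        refine ⟨e, ?_, by rw [he, mul_comm]⟩
        have h2 : Nat.card (P ⊔ N : Subgroup G) ∣ Nat.card P * Nat.card Q :=
          hPQ ▸ card_subgroup_dvd_card _
        have h3 : Nat.card (P ⊔ N : Subgroup G) = Nat.card P * e := by
          rw [he, mul_comm (Nat.card (P ⊓ N : Subgroup G)), ← mul_assoc] at h1
          exact Nat.eq_of_mul_eq_mul_right Nat.card_pos h1
        rw [h3] at h2
        exact (Nat.mul_dvd_mul_iff_left Nat.card_pos).1 h2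
      obtain ⟨d1, hd1, e1⟩ := hquot hG
      obtain ⟨d2, hd2, e2⟩ := hquot (hG.trans (mul_comm _ _))
      have hcardN : Nat.card N ∣ Nat.card (A ⊓ N : Subgroup G) * Nat.card (B ⊓ N : Subgroup G) := by
        have hc : d1.Coprime d2 := (hcop.symm.coprime_dvd_left hd1).coprime_dvd_right hd2
        rw [← e2]
        refine mul_dvd_mul_right ?_ _
        refine Nat.Coprime.dvd_of_dvd_mul_left hc.symm ?_
        exact e1 ▸ Dvd.intro (Nat.card (B ⊓ N : Subgroup G)) e2
      have hset := CfsgLib.Factor.coe_eq_mul (P := A ⊓ N) (Q := B ⊓ N) (R := N) inf_le_right inf_le_right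
        (by
          rw [show (A ⊓ N) ⊓ (B ⊓ N) = ⊥ from le_bot_iff.1 (le_trans
            (inf_le_inf inf_le_left inf_le_left) hAB.le), card_bot, mul_one]
          exact Nat.le_of_dvd (Nat.mul_pos Nat.card_pos Nat.card_pos) hcardN)
      have hs1 : Group.IsSolvable N := hsub N hc.2 fun k hk => by
        rw [← SetLike.mem_coe, hset] at hk
        obtain ⟨a, ha, b, hb, e⟩ := Set.mem_mul.1 hk
        exact ⟨a, ha, b, hb, e.symm⟩
      set f := QuotientGroup.mk' N
      haveI := hA
      haveI := hB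
      haveI : Group.IsNilpotent (A.map f) :=
        Group.nilpotent_of_surjective (f.subgroupMap A) (f.subgroupMap_surjective A)
      haveI : Group.IsNilpotent (B.map f) :=
        Group.nilpotent_of_surjective (f.subgroupMap B) (f.subgroupMap_surjective B)
      have hs2 : Group.IsSolvable (G ⧸ N) := by
        refine ih (G ⧸ N) (by have := card_quotient_lt hc.1; omega) (A.map f) (B.map f) inferInstance
          inferInstance ((hcop.coprime_dvd_left (card_dvd_of_surjective _
            (f.subgroupMap_surjective A))).coprime_dvd_right (card_dvd_of_surjective _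
            (f.subgroupMap_surjective B))) fun g => ?_
        obtain ⟨g, rfl⟩ := QuotientGroup.mk'_surjective N g
        obtain ⟨a, ha, b, hb, rfl⟩ := hfac g
        exact ⟨f a, mem_map_of_mem f ha, f b, mem_map_of_mem f hb, map_mul f a b⟩
      haveI := hs1
      haveI := hs2
      exact hns (Group.isSolvable_of_ker_le_range N.subtype f (by
        rw [QuotientGroup.ker_mk', range_subtype]))
    exact Ctx.contradiction ⟨hA, hB, hcop, hfac, hns, hsimple, hsub⟩

end CfsgLib.ProductNilpotent
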