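import Cfsg.Agent.Solvable.Kegel
import Cfsg.Agent.Solvable.ProductNilpotent
import Cfsg.Agent.Solvable.PGroupBasic

/-!
The Kegel–Wielandt theorem: a finite product of two nilpotent subgroups is solvable, and if the
factors are not both the whole group then one of them lies in a proper normal subgroup.
-/

set_option autoImplicit false
set_option linter.style.haveILetI false
set_option linter.deprecated false
set_option linter.unusedSectionVars false

namespace CfsgLib.KegelWielandt

open Subgroup CfsgLib.Solvable CfsgLib.SZ CfsgLib.Hall CfsgLib.NilpotentPart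
open scoped Pointwise commutatorElement

universe u

variable {G : Type u} [Group G] [Finite G]

theorem sylow_map_eq_part {A : Subgroup G} (hA : Group.IsNilpotent A) {p : ℕ} [Fact p.Prime]
    (P : Sylow p A) : (P : Subgroup A).map A.subtype = part A p :=
  eq_of_le_of_card_le (le_part hA (map_subtype_le _) (P.2.map _)) (by
    rw [card_part hA, card_map_of_injective A.subtype_injective, P.card_eq_multiplicity])

theorem conj_part {A : Subgroup G} {p : ℕ} {a : G} (ha : a ∈ A) :
    MulAut.conj a • part A p = part A p :=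
  conj_smul_eq_iff_mem_normalizer.2 (le_normalizer_part A p ha)

theorem sylow_product {A B : Subgroup G} (hA : Group.IsNilpotent A) (hB : Group.IsNilpotent B)
    (hfac : ∀ g : G, ∃ a ∈ A, ∃ b ∈ B, g = a * b) (hcop : (Nat.card A).Coprime (Nat.card B))
    [Group.IsSolvable G] (p q : ℕ) [hp : Fact p.Prime] [hq : Fact q.Prime] :
    ∃ S : Subgroup G, (S : Set G) = (part A p : Set G) * (part B q : Set G) := by
  by_cases hpA : p ∣ Nat.card A
  swap
  · have h : part A p = ⊥ := eq_bot_of_card_eq _ (by
      rw [card_part hA, Nat.factorization_eq_zero_of_not_dvd hpA, pow_zero])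
    exact ⟨part B q, by rw [h]; simp⟩
  by_cases hqB : q ∣ Nat.card B
  swap
  · have h : part B q = ⊥ := eq_bot_of_card_eq _ (by
      rw [card_part hB, Nat.factorization_eq_zero_of_not_dvd hqB, pow_zero])
    exact ⟨part A p, by rw [h]; simp⟩
  have hdis : A ⊓ B = ⊥ := eq_bot_of_card_eq _ (Nat.eq_one_of_dvd_coprimes hcop
    (card_dvd_of_le inf_le_left) (card_dvd_of_le inf_le_right))
  have hG : Nat.card G = Nat.card A * Nat.card B := by
    have h := CfsgLib.Factor.card_factor hfac
    rwa [hdis, card_bot, mul_one] at h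
  have hfG : ∀ r : ℕ, (Nat.card G).factorization r =
      (Nat.card A).factorization r + (Nat.card B).factorization r := fun r => by
    rw [hG, Nat.factorization_mul Nat.card_pos.ne' Nat.card_pos.ne', Finsupp.add_apply]
  obtain ⟨a, b, hab, hcop', ha, hb⟩ := exists_pi_split G fun r => r = p ∨ r = q
  have hfa : ∀ r : ℕ, r.Prime → (r = p ∨ r = q) → a.factorization r = (Nat.card G).factorization r := by
    intro r hr hrs
    have ha0 : a ≠ 0 := fun e => Nat.card_pos.ne' (show Nat.card G = 0 by rw [hab, e, zero_mul])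
    have hb0 : b ≠ 0 := fun e => Nat.card_pos.ne' (show Nat.card G = 0 by rw [hab, e, mul_zero])
    rw [hab, Nat.factorization_mul ha0 hb0, Finsupp.add_apply,
      Nat.factorization_eq_zero_of_not_dvd (fun h => hb r hr h hrs), add_zero]
  obtain ⟨H, hH, hPH⟩ := hall_dominance hab hcop' (K := part A p) (by
    rw [card_part hA]
    exact (Nat.Coprime.pow_left _ ((Nat.Prime.coprime_iff_not_dvd hp.out).2
      fun h => hb p hp.out h (Or.inl rfl))))
  obtain ⟨Y⟩ : Nonempty (Sylow q H) := inferInstance
  have hqA : (Nat.card A).factorization q = 0 := Nat.factorization_eq_zero_of_not_dvd fun h =>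
    hq.out.ne_one (Nat.eq_one_of_dvd_coprimes hcop h hqB)
  have hpB : (Nat.card B).factorization p = 0 := Nat.factorization_eq_zero_of_not_dvd fun h =>
    hp.out.ne_one (Nat.eq_one_of_dvd_coprimes hcop hpA h)
  have hYc : Nat.card ((Y : Subgroup H).map H.subtype) = q ^ (Nat.card G).factorization q := by
    rw [card_map_of_injective H.subtype_injective, Y.card_eq_multiplicity, hH,
      hfa q hq.out (Or.inr rfl)]
  have hQc : Nat.card (part B q) = q ^ (Nat.card G).factorization q := by
    rw [card_part hB, hfG, hqA, zero_add]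
  obtain ⟨g, hg⟩ := MulAction.exists_smul_eq G (Sylow.ofCard _ hQc) (Sylow.ofCard _ hYc)
  have hgQ : MulAut.conj g • part B q ≤ H := by
    have h := congrArg (fun S : Sylow q G => (S : Subgroup G)) hg
    simp only [Sylow.coe_subgroup_smul, Sylow.coe_ofCard] at h
    exact h.le.trans (map_subtype_le _)
  obtain ⟨a', ha', b', hb', rfl⟩ := hfac g
  rw [conj_smul_mul, conj_part hb'] at hgQ
  refine ⟨MulAut.conj a'⁻¹ • H, CfsgLib.Factor.coe_eq_mul ?_ ?_ ?_⟩
  · rw [← conj_part (p := p) (inv_mem ha')]
    exact pointwise_smul_le_pointwise_smul_iff.2 hPH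
  · rw [← conj_smul_inv_smul a' (part B q)]
    exact pointwise_smul_le_pointwise_smul_iff.2 hgQ
  · rw [show part A p ⊓ part B q = ⊥ from le_bot_iff.1 ((inf_le_inf (part_le A p)
      (part_le B q)).trans hdis.le), card_bot, mul_one, card_conj_smul, hH, card_part hA, card_part hB]
    refine Nat.le_of_dvd (Nat.mul_pos (pow_pos hp.out.pos _) (pow_pos hq.out.pos _))
      ((Nat.dvd_iff_prime_pow_dvd_dvd _ _).2 fun r k hr hk => ?_)
    rcases Nat.eq_zero_or_pos k with rfl | hk0
    · simp
    have ha0 : a ≠ 0 := fun e => Nat.card_pos.ne' (show Nat.card G = 0 by rw [hab, e, zero_mul])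
    have hkle := (hr.pow_dvd_iff_le_factorization ha0).1 hk
    rcases ha r hr ((dvd_pow_self r hk0.ne').trans hk) with rfl | rfl
    · rw [hfa r hr (Or.inl rfl), hfG, hpB, add_zero] at hkle
      exact Dvd.dvd.mul_right (Nat.pow_dvd_pow r hkle) _
    · rw [hfa r hr (Or.inr rfl), hfG, hqA, zero_add] at hkle
      exact Dvd.dvd.mul_left (Nat.pow_dvd_pow r hkle) _

/-- If the `p`-groups `A` and `B` permute with all conjugates, then the commutators of `A` with
the normal closure of `B` lie in the `p`-core. -/
theorem kegel_pcore {p : ℕ} [hp : Fact p.Prime] : ∀ (n : ℕ) (A B : Subgroup G),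
    Nat.card G - Nat.card A ≤ n → IsPGroup p A → IsPGroup p B →
    (∀ x : G, ∃ S : Subgroup G,
      (S : Set G) = (A : Set G) * ((MulAut.conj x • B : Subgroup G) : Set G)) →
    ∀ a ∈ A, ∀ b ∈ normalClosure (B : Set G), ⁅a, b⁆ ∈ Cfsg.pCore p G := by
  intro n
  induction n using Nat.strong_induction_on with
  | _ n ih =>
    intro A B hn hA hB h a ha b hb
    by_cases hall : ∀ x : G, MulAut.conj x • B ≤ normalizer (A : Set G)
    · have hN : normalClosure (B : Set G) ≤ normalizer (A : Set G) := by
        rw [normalClosure, closure_le]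
        intro g hg
        obtain ⟨b, hb, hc⟩ := Group.mem_conjugatesOfSet_iff.1 hg
        obtain ⟨x, hx⟩ := isConj_iff.1 hc
        refine hall x ((CfsgLib.Kegel.mem_smul_iff B x g).2 ?_)
        rw [← hx]
        simpa [mul_assoc] using hb
      set Bc : Subgroup G := normalClosure (B : Set G)
      have h1 : ⁅a, b⁆ ∈ A ⊓ Bc := by
        rw [commutatorElement_def]
        refine ⟨?_, Bc.mul_mem ((normalClosure_normal (s := (B : Set G))).conj_mem b hb a) (Bc.inv_mem hb)⟩
        have := mul_mem ha ((mem_normalizer_iff.1 (hN hb) a⁻¹).1 (inv_mem ha))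
        simpa [mul_assoc] using this
      haveI : ((A ⊓ Bc).subgroupOf Bc).Normal := by
        rw [normal_subgroupOf_iff_le_normalizer inf_le_right]
        exact le_trans (le_inf hN le_normalizer) inf_normalizer_le_normalizer_inf
      haveI : (Cfsg.pCore p Bc).Characteristic := characteristic_iff_map_le.mpr fun φ => by
        haveI := pCore_normal p (G := Bc)
        exact le_pCore p (Normal.map inferInstance _ φ.surjective) ((isPGroup_pCore p).map _)
      have h2 : ((A ⊓ Bc).subgroupOf Bc).map Bc.subtype ≤ (Cfsg.pCore p Bc).map Bc.subtype :=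
        map_mono (le_pCore p inferInstance ((hA.to_le inf_le_left).comap_subtype))
      rw [map_subgroupOf_eq_of_le inf_le_right] at h2
      exact le_pCore p ConjAct.normal_of_characteristic_of_normal ((isPGroup_pCore p).map _) (h2 h1)
    push Not at hall
    obtain ⟨x, hx⟩ := hall
    obtain ⟨S, hS⟩ := h x
    set Bx : Subgroup G := MulAut.conj x • B with hBx
    set A1 : Subgroup G := closure {g : G | ∃ a ∈ A, ∃ b ∈ Bx, g = b * a * b⁻¹}
    have hAA1 : A ≤ A1 := fun a ha => subset_closure ⟨a, ha, 1, one_mem _, by group⟩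
    have hAS : A ≤ S := fun a ha => by
      rw [← SetLike.mem_coe, hS]; exact ⟨a, ha, 1, one_mem _, mul_one a⟩
    have hBS : Bx ≤ S := fun a ha => by
      rw [← SetLike.mem_coe, hS]; exact ⟨1, one_mem _, a, ha, one_mul a⟩
    have hSp : IsPGroup p S := by
      obtain ⟨i, hi⟩ := IsPGroup.iff_card.1 hA
      obtain ⟨j, hj⟩ := IsPGroup.iff_card.1 hB
      have hc := CfsgLib.Factor.card_mul_set A Bx
      rw [← hS, hi, hBx, card_conj_smul, hj, ← pow_add] at hc
      obtain ⟨m, -, hm⟩ := (Nat.dvd_prime_pow hp.out).1 (Dvd.intro _ hc)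
      exact IsPGroup.of_card hm
    have hA1S : A1 ≤ S := (closure_le _).2 fun g ⟨a, ha, b, hb, hg⟩ =>
      hg ▸ mul_mem (mul_mem (hBS hb) (hAS ha)) (inv_mem (hBS hb))
    have hlt : A < A1 := by
      refine lt_of_le_of_ne hAA1 fun e => hx fun b hb => ?_
      refine mem_normalizer_iff.2 fun g => ⟨fun hg => ?_, fun hg => ?_⟩
      · exact e.ge (subset_closure ⟨g, hg, b, hb, rfl⟩)
      · exact e.ge (subset_closure ⟨b * g * b⁻¹, hg, b⁻¹, inv_mem hb, by group⟩)
    have hc1 : Nat.card A < Nat.card A1 := card_lt_of_lt hlt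
    have hc2 : Nat.card A1 ≤ Nat.card G := card_le_card_group A1
    exact ih _ (by omega) A1 B le_rfl (hSp.to_le hA1S) hB
      (fun y => ⟨_, CfsgLib.Kegel.coe_sup_of_permute _ _ (CfsgLib.Kegel.permute_step h Bx y)⟩)
      a (hAA1 ha) b hb

theorem map_factor {A B : Subgroup G} (N : Subgroup G) [N.Normal]
    (hfac : ∀ g : G, ∃ a ∈ A, ∃ b ∈ B, g = a * b) (g : G ⧸ N) :
    ∃ a ∈ A.map (QuotientGroup.mk' N), ∃ b ∈ B.map (QuotientGroup.mk' N), g = a * b := by
  obtain ⟨g, rfl⟩ := QuotientGroup.mk'_surjective N g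
  obtain ⟨a, ha, b, hb, rfl⟩ := hfac g
  exact ⟨_, mem_map_of_mem _ ha, _, mem_map_of_mem _ hb, map_mul _ a b⟩

theorem isNilpotent_map {A : Subgroup G} (hA : Group.IsNilpotent A) {H : Type*} [Group H]
    (f : G →* H) : Group.IsNilpotent (A.map f) := by
  haveI := hA
  exact Group.nilpotent_of_surjective (f.subgroupMap A) (f.subgroupMap_surjective A)

/-- **The Kegel–Wielandt theorem.** -/
theorem solvable_of_factor : ∀ (n : ℕ) (G : Type u) [Group G] [Finite G], Nat.card G ≤ n →
    ∀ A B : Subgroup G, Group.IsNilpotent A → Group.IsNilpotent B →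
      (∀ g : G, ∃ a ∈ A, ∃ b ∈ B, g = a * b) → Group.IsSolvable G := by
  intro n
  induction n with
  | zero => intro G _ _ h; exact absurd h (Nat.not_le.2 Nat.card_pos)
  | succ n ih =>
    intro G _ _ hn A B hA hB hfac
    by_cases hcop : (Nat.card A).Coprime (Nat.card B)
    · exact CfsgLib.ProductNilpotent.solvable_of_coprime _ G hn A B hA hB hcop hfac
    obtain ⟨p, hp, hpA, hpB⟩ := Nat.Prime.not_coprime_iff_dvd.1 hcop
    haveI := Fact.mk hp
    have hquot : ∀ (N : Subgroup G) [N.Normal], N ≠ ⊥ → Group.IsSolvable (G ⧸ N) := fun N _ hN =>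
      ih (G ⧸ N) (by have := card_quotient_lt hN; omega) _ _ (isNilpotent_map hA _)
        (isNilpotent_map hB _) (map_factor N hfac)
    have hext : ∀ (N : Subgroup G) [N.Normal], N ≠ ⊥ → Group.IsSolvable N → Group.IsSolvable G :=
      fun N _ hN hs => by
        haveI := hs
        haveI := hquot N hN
        exact Group.isSolvable_of_ker_le_range N.subtype (QuotientGroup.mk' N)
          (by rw [QuotientGroup.ker_mk', range_subtype])
    by_cases hcore : Cfsg.pCore p G = ⊥
    swap
    · haveI := pCore_normal p (G := G)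
      exact hext _ hcore (IsNilpotent.to_isSolvable (h := (isPGroup_pCore p (G := G)).isNilpotent))
    set P := part A p with hP
    set Q := part B p with hQ
    have hperm : ∀ x : G, ∃ S : Subgroup G,
        (S : Set G) = (P : Set G) * ((MulAut.conj x • Q : Subgroup G) : Set G) := by
      intro x
      obtain ⟨a, ha, b, hb, rfl⟩ := hfac x
      obtain ⟨P0, Q0, R, hR⟩ := CfsgLib.Factor.exists_sylow_product hfac p
      rw [sylow_map_eq_part hA P0, sylow_map_eq_part hB Q0] at hR
      have hPR : P ≤ R := fun g hg => by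
        rw [← SetLike.mem_coe, hR]; exact ⟨g, hg, 1, one_mem _, mul_one g⟩
      have hQR : Q ≤ R := fun g hg => by
        rw [← SetLike.mem_coe, hR]; exact ⟨1, one_mem _, g, hg, one_mul g⟩
      refine ⟨MulAut.conj a • (R : Subgroup G), ?_⟩
      rw [conj_smul_mul, conj_part hb]
      refine CfsgLib.Factor.coe_eq_mul ?_ (pointwise_smul_le_pointwise_smul_iff.2 hQR) ?_
      · rw [hP, ← conj_part (p := p) ha]; exact pointwise_smul_le_pointwise_smul_iff.2 hPR
      · have e : Nat.card (P ⊓ MulAut.conj a • Q : Subgroup G) = Nat.card (P ⊓ Q : Subgroup G) := by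
          conv_lhs => rw [hP, ← conj_part (p := p) ha, ← hP, ← smul_inf, card_conj_smul]
        rw [e, card_conj_smul, card_conj_smul, ← CfsgLib.Factor.card_mul_set P Q, ← hR]
        rfl
    have hcomm : ∀ a ∈ P, ∀ b ∈ normalClosure (Q : Set G), a * b = b * a := fun a ha b hb =>
      commutatorElement_eq_one_iff_mul_comm.1 (mem_bot.1 (hcore ▸
        kegel_pcore _ P Q le_rfl isPGroup_part isPGroup_part hperm a ha b hb))
    have hle : normalClosure (P : Set G) ≤ centralizer (normalClosure (Q : Set G) : Set G) :=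
      normalClosure_le_normal fun a ha => mem_centralizer_iff.2 fun b hb => (hcomm a ha b hb).symm
    have hne : ∀ (C : Subgroup G), Group.IsNilpotent C → p ∣ Nat.card C →
        normalClosure (part C p : Set G) ≠ ⊥ := fun C hC hd h => by
      have h1 : part C p = ⊥ := le_bot_iff.1 (h ▸ subset_normalClosure)
      have h2 := card_part (p := p) hC
      rw [h1, card_bot] at h2
      have := (Nat.pow_eq_one.1 h2.symm).resolve_left hp.ne_one
      exact absurd this (hp.factorization_pos_of_dvd Nat.card_pos.ne' hd).ne'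
    set U := normalClosure (P : Set G)
    set V := normalClosure (Q : Set G)
    by_cases hUV : U ⊓ V = ⊥
    · haveI := hquot U (hne A hA hpA)
      haveI := hquot V (hne B hB hpB)
      refine Group.isSolvable_of_isSolvable_injective
        (f := (QuotientGroup.mk' U).prod (QuotientGroup.mk' V)) ?_
      rw [← MonoidHom.ker_eq_bot_iff, MonoidHom.ker_prod, QuotientGroup.ker_mk',
        QuotientGroup.ker_mk', hUV]
    · refine hext (U ⊓ V) hUV ?_
      exact Group.isSolvable_of_comm fun a b => Subtype.ext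
        ((mem_centralizer_iff.1 (hle a.2.1)) _ b.2.2).symm

/-- A proper factor lies in a proper normal subgroup. -/
theorem normal_subgroup_factor : ∀ (n : ℕ) (G : Type u) [Group G] [Finite G], Nat.card G ≤ n →
    Group.IsSolvable G → ∀ A B : Subgroup G, Group.IsNilpotent A → Group.IsNilpotent B →
      (∀ g : G, ∃ a ∈ A, ∃ b ∈ B, g = a * b) → (A ≠ ⊤ ∨ B ≠ ⊤) →
      ∃ N : Subgroup G, N.Normal ∧ N ≠ ⊤ ∧ (A ≤ N ∨ B ≤ N) := by
  intro n
  induction n with
  | zero => intro G _ _ h; exact absurd h (Nat.not_le.2 Nat.card_pos)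
  | succ n ih =>
    intro G _ _ hn hsol A B hA hB hfac hproper
    haveI := hsol
    have htop : Group.IsNilpotent G → ∀ C : Subgroup G, C ≠ ⊤ →
        ∃ N : Subgroup G, N.Normal ∧ N ≠ ⊤ ∧ C ≤ N := fun hG C hC => by
      haveI := hG
      obtain ⟨M, hM, hCM⟩ := (eq_top_or_exists_le_coatom C).resolve_left hC
      exact ⟨M, Group.normalizerCondition_of_isNilpotent.normal_of_coatom M hM, hM.1, hCM⟩
    by_cases hAt : A = ⊤
    · haveI := hA
      obtain ⟨N, h1, h2, h3⟩ := htop (Group.nilpotent_of_mulEquiv
        ((MulEquiv.subgroupCongr hAt).trans topEquiv)) B (hproper.resolve_left (not_not.2 hAt))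
      exact ⟨N, h1, h2, Or.inr h3⟩
    by_cases hBt : B = ⊤
    · haveI := hB
      obtain ⟨N, h1, h2, h3⟩ := htop (Group.nilpotent_of_mulEquiv
        ((MulEquiv.subgroupCongr hBt).trans topEquiv)) A hAt
      exact ⟨N, h1, h2, Or.inl h3⟩
    have hquot : ∀ K : Subgroup G, K.Normal → K ≠ ⊥ → (A ⊔ K ≠ ⊤ ∨ B ⊔ K ≠ ⊤) →
        ∃ N : Subgroup G, N.Normal ∧ N ≠ ⊤ ∧ (A ≤ N ∨ B ≤ N) := by
      intro K hKn hK hor
      haveI := hKn
      have hmap : ∀ C : Subgroup G, C ⊔ K ≠ ⊤ → C.map (QuotientGroup.mk' K) ≠ ⊤ := fun C hC h => by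
        apply hC
        have := congrArg (comap (QuotientGroup.mk' K)) h
        rwa [comap_map_eq, QuotientGroup.ker_mk', comap_top] at this
      obtain ⟨N, hN, hNt, hN'⟩ := ih (G ⧸ K) (by have := card_quotient_lt hK; omega) inferInstance
        _ _ (isNilpotent_map hA _) (isNilpotent_map hB _) (map_factor K hfac)
        (hor.imp (hmap A) (hmap B))
      refine ⟨N.comap (QuotientGroup.mk' K), hN.comap _, fun h => hNt ?_,
        hN'.imp map_le_iff_le_comap.1 map_le_iff_le_comap.1⟩
      rw [← map_comap_eq_self_of_surjective (QuotientGroup.mk'_surjective K) N, h,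
        map_top_of_surjective _ (QuotientGroup.mk'_surjective K)]
    haveI : Nontrivial G := by
      by_contra h
      rw [not_nontrivial_iff_subsingleton] at h
      exact hAt (Subsingleton.elim _ _)
    obtain ⟨N, hN, hN1, -, hc, hmin, q, hq, -, hqN⟩ :=
      exists_normal_elementary_le (N := (⊤ : Subgroup G)) top_ne_bot inferInstance
    haveI := hN
    haveI := Fact.mk hq
    by_cases hor : A ⊔ N ≠ ⊤ ∨ B ⊔ N ≠ ⊤
    · exact hquot N hN hN1 hor
    push Not at hor
    obtain ⟨hAN, hBN⟩ := hor
    have hdis : ∀ C : Subgroup G, C ≠ ⊤ → C ⊔ N = ⊤ → C ⊓ N = ⊥ := fun C hC hCN => by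
      have hn' : (C ⊓ N).Normal := normalizer_eq_top_iff.1 (top_unique (hCN.ge.trans (sup_le
        (le_trans (le_inf le_normalizer (le_top.trans (normalizer_eq_top N).ge))
          inf_normalizer_le_normalizer_inf)
        (le_trans (le_centralizer_iff.1 (inf_le_right.trans (le_centralizer_iff_isMulCommutative.2 hc)))
          (centralizer_le_normalizer _)))))
      exact (hmin _ hn' inf_le_right).resolve_right fun e => hC (by
        rw [← hCN, sup_eq_left.2 (inf_eq_right.1 e)])
    have hA0 := hdis A hAt hAN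
    have hB0 := hdis B hBt hBN
    have e1 := card_sup_mul_card_inf (A := A) (K := N) (le_top.trans (normalizer_eq_top N).ge)
    have e2 := card_sup_mul_card_inf (A := B) (K := N) (le_top.trans (normalizer_eq_top N).ge)
    rw [hAN, hA0, card_top, card_bot, mul_one] at e1
    rw [hBN, hB0, card_top, card_bot, mul_one] at e2
    have hAB : Nat.card A = Nat.card B := Nat.eq_of_mul_eq_mul_right Nat.card_pos (e1.symm.trans e2)
    have e3 := CfsgLib.Factor.card_factor hfac
    rw [e1, ← hAB, mul_assoc] at e3
    have hqA : q ∣ Nat.card A := by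
      obtain ⟨i, hi, hc'⟩ := (IsPGroup.nontrivial_iff_card hqN).1 ((nontrivial_iff_ne_bot N).2 hN1)
      rw [← Nat.eq_of_mul_eq_mul_left Nat.card_pos e3, hc']
      exact (dvd_pow_self q hi.ne').mul_right _
    set Aq := part A q
    have hAq1 : Aq ≠ ⊥ := fun h => by
      have h2 := card_part (p := q) hA
      rw [show part A q = ⊥ from h, card_bot] at h2
      have := (Nat.pow_eq_one.1 h2.symm).resolve_left hq.ne_one
      exact absurd this (hq.factorization_pos_of_dvd Nat.card_pos.ne' hqA).ne'
    set C := N ⊓ centralizer (Aq : Set G)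
    have hC1 : C ≠ ⊥ := by
      haveI : Group.IsNilpotent (Aq ⊔ N : Subgroup G) :=
        ((isPGroup_part (A := A) (p := q)).to_sup_of_normal_right hqN).isNilpotent
      haveI : (N.subgroupOf (Aq ⊔ N)).Normal := inferInstance
      have h := CfsgLib.PGroupBasic.inf_center_ne_bot (N.subgroupOf (Aq ⊔ N)) fun h => hN1 (by
        rw [subgroupOf_eq_bot, disjoint_iff] at h
        rwa [inf_eq_left.2 le_sup_right] at h)
      obtain ⟨z, hz, hz1⟩ := (bot_or_exists_ne_one _).resolve_left h
      intro hC
      apply hz1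
      have hzC : (z : G) ∈ C := ⟨hz.1, mem_centralizer_iff.2 fun a ha =>
        congrArg Subtype.val (mem_center_iff.1 hz.2 ⟨a, mem_sup_left ha⟩)⟩
      rw [hC, mem_bot] at hzC
      exact Subtype.ext hzC
    have hCn : C.Normal := normalizer_eq_top_iff.1 (top_unique (hAN.ge.trans (sup_le
      (le_trans (le_inf (le_top.trans (normalizer_eq_top N).ge) ((le_normalizer_part A q).trans
        (CfsgLib.ProductNilpotent.normalizer_le_normalizer_centralizer Aq)))
        inf_normalizer_le_normalizer_inf)
      (le_trans (le_centralizer_iff.1 (inf_le_left.trans (le_centralizer_iff_isMulCommutative.2 hc)))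
        (centralizer_le_normalizer _)))))
    have hCN : C = N := (hmin C hCn inf_le_left).resolve_left hC1
    have hAqn : Aq.Normal := normalizer_eq_top_iff.1 (top_unique (hAN.ge.trans (sup_le
      (le_normalizer_part A q) ((inf_eq_left.1 hCN).trans (centralizer_le_normalizer _)))))
    exact hquot Aq hAqn hAq1 (Or.inl (by rw [sup_eq_left.2 (part_le A q)]; exact hAt))

end CfsgLib.KegelWielandt
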