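import Cfsg.Agent.Solvable.Fitting
import Cfsg.Agent.Solvable.PGroupBasic
import Cfsg.Agent.Solvable.Glauberman
import Cfsg.Prelude.Def_Transfer

/-!
Core-free maximal subgroups, the socle and the Fitting subgroup, maximal subgroups of solvable
groups.
-/

set_option autoImplicit false
set_option linter.style.haveILetI false
set_option linter.deprecated false
set_option linter.unusedSectionVars false

namespace CfsgLib.Socle

open Subgroup CfsgLib.Solvable CfsgLib.SZ
open scoped Pointwise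

universe u

variable {G : Type u} [Group G] [Finite G]

theorem normal_of_sup {X U B : Subgroup G} (hU : U ≤ normalizer (X : Set G))
    (hB : B ≤ normalizer (X : Set G)) (h : B ⊔ U = ⊤) : X.Normal :=
  normalizer_eq_top_iff.1 (top_unique (h.ge.trans (sup_le hB hU)))

theorem le_normalizer_of_le_centralizer {X B : Subgroup G} (h : B ≤ centralizer (X : Set G)) :
    B ≤ normalizer (X : Set G) := by
  intro b hb
  rw [← conj_smul_eq_iff_mem_normalizer]
  refine eq_of_le_of_card_le (fun y hy => ?_) (card_conj_smul b X).ge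
  rw [mem_conj_smul] at hy
  have := mem_centralizer_iff.1 (h hb) _ hy
  have e : y = b⁻¹ * y * b := by
    have e2 : b⁻¹ * y * b * b = y * b := by rw [this]; group
    exact (mul_right_cancel e2).symm
  exact e ▸ hy

theorem le_normalizer_inf {X Y B : Subgroup G} (hX : B ≤ normalizer (X : Set G))
    (hY : B ≤ normalizer (Y : Set G)) : B ≤ normalizer ((X ⊓ Y : Subgroup G) : Set G) := by
  intro b hb
  rw [mem_normalizer_iff]
  intro z
  simp only [Subgroup.mem_inf]
  rw [mem_normalizer_iff.1 (hX hb) z, mem_normalizer_iff.1 (hY hb) z]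

theorem mem_sup_decomp {N U : Subgroup G} [N.Normal] {g : G} (h : g ∈ N ⊔ U) :
    ∃ n ∈ N, ∃ u ∈ U, n * u = g := mem_sup_of_normal_left.1 h

theorem centralizes_of_nilpotent {N L : Subgroup G} [N.Normal] (hL : Group.IsNilpotent L)
    (hN : N ≠ ⊥) (hmin : ∀ K : Subgroup G, K.Normal → K ≤ N → K = ⊥ ∨ K = N) (hNL : N ≤ L)
    [L.Normal] : L ≤ centralizer (N : Set G) := by
  haveI := hL
  have h1 := CfsgLib.PGroupBasic.inf_center_ne_bot (N.subgroupOf L) (fun e => hN (by
    rw [subgroupOf_eq_bot] at e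
    exact disjoint_self.1 (e.mono le_rfl hNL)))
  have h2 : N ⊓ centralizer (L : Set G) = N := by
    refine (hmin _ inferInstance inf_le_left).resolve_left fun e => h1 ?_
    rw [eq_bot_iff]
    rintro x ⟨hx, hxc⟩
    refine mem_bot.2 (Subtype.ext (mem_bot.1 (e ▸ mem_inf.2 ⟨mem_subgroupOf.1 hx,
      mem_centralizer_iff.2 fun y hy => ?_⟩)))
    exact congrArg Subtype.val (mem_center_iff.1 hxc ⟨y, hy⟩)
  exact le_centralizer_iff.1 (inf_eq_left.1 h2)

theorem le_frattini_of_le_frattini {N C : Subgroup G} [N.Normal] (hNC : N ≤ C)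
    (h : ∀ M : Subgroup G, M < C → ¬ (C ≤ N ⊔ M)) : N ≤ frattini G := by
  refine le_iInf fun M => le_iInf fun hM => ?_
  by_contra hNM
  have htop : N ⊔ M = ⊤ := hM.2 _ (lt_of_le_of_ne le_sup_right fun e => hNM (e ▸ le_sup_left))
  have hle : C ≤ N ⊔ (M ⊓ C) := by
    intro c hc
    obtain ⟨n, hn, m, hm, rfl⟩ := mem_sup_decomp (htop.ge (mem_top c))
    refine mul_mem_sup hn ⟨hm, ?_⟩
    have := mul_mem (inv_mem (hNC hn)) hc
    rwa [inv_mul_cancel_left] at this
  refine h _ (lt_of_le_of_ne inf_le_right fun e => hNM ?_) hle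
  exact hNC.trans (e ▸ inf_le_left)

theorem fitting_eq_socle (hΦ : frattini G = ⊥) : Cfsg.fittingSubgroup G =
    sSup {N : Subgroup G | N.Normal ∧ N ≠ ⊥ ∧ IsMulCommutative N ∧
      ∀ K : Subgroup G, K.Normal → K ≤ N → K = ⊥ ∨ K = N} := by
  set T := {N : Subgroup G | N.Normal ∧ N ≠ ⊥ ∧ IsMulCommutative N ∧
      ∀ K : Subgroup G, K.Normal → K ≤ N → K = ⊥ ∨ K = N}
  set S := sSup T
  set F := Cfsg.fittingSubgroup G
  haveI hFn : F.Normal := by
    rw [show F = _ from fittingSubgroup_eq_iSup_pCore]; infer_instance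
  have hF : Group.IsNilpotent F := isNilpotent_fittingSubgroup
  have hSF : S ≤ F := sSup_le fun N hN => le_fittingSubgroup hN.1
    (by
      letI : CommGroup N := { (inferInstance : Group N) with
        mul_comm := hN.2.2.1.is_comm.comm }
      exact CommGroup.isNilpotent)
  have hFS : F ≤ centralizer (S : Set G) := le_centralizer_iff.1 (sSup_le fun N hN => by
    haveI := hN.1
    exact le_centralizer_iff.1 (centralizes_of_nilpotent hF hN.2.1 hN.2.2.2
      ((le_sSup hN).trans hSF)))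
  haveI hSn : S.Normal := by
    refine normalizer_eq_top_iff.1 (top_unique fun g _ => ?_)
    rw [← conj_smul_eq_iff_mem_normalizer]
    refine eq_of_le_of_card_le ?_ (card_conj_smul g S).ge
    rw [Subgroup.pointwise_smul_subset_iff]
    refine sSup_le fun N hN => ?_
    haveI := hN.1
    rw [← Subgroup.pointwise_smul_subset_iff, conj_smul_normal]
    exact le_sSup hN
  obtain ⟨C, -, hC, hCmin⟩ := exists_minimal_le_of_wellFoundedLT
    (fun C : Subgroup G => S ⊔ C = ⊤) ⊤ (sup_top_eq S)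
  have hno : ∀ X : Subgroup G, X.Normal → X ≤ F → X ≤ C → X = ⊥ ∨ ∃ N ∈ T, N ≤ X := by
    intro X hX hXF hXC
    haveI := hX
    refine (eq_or_ne X ⊥).imp_right fun hne => ?_
    have : Group.IsSolvable X := by
      haveI := hF
      exact Group.isSolvable_of_isSolvable_injective (Subgroup.inclusion_injective hXF)
    obtain ⟨N, hN, hN1, hNX, hNc, hmin, -⟩ := exists_normal_elementary_le hne this
    exact ⟨N, ⟨hN, hN1, hNc, hmin⟩, hNX⟩
  have hbot : ∀ N ∈ T, ¬ N ≤ C := by
    intro N hN hNC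
    haveI := hN.1
    refine hN.2.1 (le_bot_iff.1 (hΦ ▸ le_frattini_of_le_frattini hNC fun M hM hle => ?_))
    refine hM.not_ge (hCmin ?_ hM.le)
    exact top_unique (hC.ge.trans (sup_le le_sup_left
      (hle.trans (sup_le ((le_sSup hN).trans le_sup_left) le_sup_right))))
  haveI : (F ⊓ C).Normal := normal_of_sup (B := S) (U := C)
    (le_normalizer_inf (le_top.trans (normalizer_eq_top F).ge) le_normalizer)
    (le_normalizer_of_le_centralizer
      ((le_centralizer_iff.1 hFS).trans (centralizer_le fun x hx => hx.1)))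
    hC
  have hFC : F ⊓ C = ⊥ := (hno _ inferInstance inf_le_left inf_le_right).resolve_right
    fun ⟨N, hN, hle⟩ => hbot N hN (hle.trans inf_le_right)
  refine le_antisymm (fun x hx => ?_) hSF
  obtain ⟨s, hs, c, hc, rfl⟩ := mem_sup_decomp (hC.ge (mem_top x))
  have : c ∈ F ⊓ C := ⟨by simpa using mul_mem (inv_mem (hSF hs)) hx, hc⟩
  rw [hFC, mem_bot] at this
  rwa [this, mul_one]

/-! ### Core-free maximal subgroups -/

variable {U : Subgroup G}

theorem eq_bot_of_le (hcore : U.normalCore = ⊥) {N : Subgroup G} [N.Normal] (h : N ≤ U) : N = ⊥ :=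
  le_bot_iff.1 (hcore ▸ normal_le_normalCore.2 h)

theorem sup_eq_top (hU : IsCoatom U) (hcore : U.normalCore = ⊥) {N : Subgroup G} [N.Normal]
    (hN : N ≠ ⊥) : N ⊔ U = ⊤ :=
  hU.2 _ (lt_of_le_of_ne le_sup_right fun e => hN (eq_bot_of_le hcore (e ▸ le_sup_left)))

theorem inf_centralizer_eq_bot (hU : IsCoatom U) (hcore : U.normalCore = ⊥) {N : Subgroup G}
    [N.Normal] (hN : N ≠ ⊥) : centralizer (N : Set G) ⊓ U = ⊥ := by
  haveI : (centralizer (N : Set G) ⊓ U).Normal := normal_of_sup (B := N) (U := U)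
    (le_normalizer_inf (le_top.trans (normalizer_eq_top _).ge) le_normalizer)
    (le_normalizer_of_le_centralizer
      (le_centralizer_iff.1 inf_le_left)) (sup_eq_top hU hcore hN)
  exact eq_bot_of_le hcore inf_le_right

theorem abelian_structure (hU : IsCoatom U) (hcore : U.normalCore = ⊥) {N : Subgroup G}
    [N.Normal] (hN : N ≠ ⊥) (hc : IsMulCommutative N) :
    IsComplement' N U ∧ centralizer (N : Set G) = N ∧
      ∀ K : Subgroup G, K.Normal → K ≤ N → K = ⊥ ∨ K = N := by
  have hNC : N ≤ centralizer (N : Set G) := le_centralizer_iff_isMulCommutative.2 hc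
  have htop := sup_eq_top hU hcore hN
  have hbot := inf_centralizer_eq_bot hU hcore hN
  have hd : N ⊓ U = ⊥ := le_bot_iff.1 (hbot ▸ inf_le_inf_right U hNC)
  refine ⟨isComplement'_of_disjoint_and_mul_eq_univ (disjoint_iff.2 hd) ?_, ?_, ?_⟩
  · refine Set.eq_univ_of_forall fun g => ?_
    obtain ⟨n, hn, u, hu, e⟩ := mem_sup_decomp (htop.ge (mem_top g))
    exact ⟨n, hn, u, hu, e⟩
  · refine le_antisymm (fun x hx => ?_) hNC
    obtain ⟨n, hn, u, hu, rfl⟩ := mem_sup_decomp (htop.ge (mem_top x))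
    have : u ∈ centralizer (N : Set G) ⊓ U :=
      ⟨by simpa using mul_mem (inv_mem (hNC hn)) hx, hu⟩
    rw [hbot, mem_bot] at this
    rwa [this, mul_one]
  · intro K hK hKN
    haveI := hK
    refine (eq_or_ne K ⊥).imp_right fun hne => le_antisymm hKN fun x hx => ?_
    obtain ⟨k, hk, u, hu, rfl⟩ := mem_sup_decomp ((sup_eq_top hU hcore hne).ge (mem_top x))
    have : u ∈ N ⊓ U := ⟨by simpa using mul_mem (inv_mem (hKN hk)) hx, hu⟩
    rw [hd, mem_bot] at this
    rwa [this, mul_one]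

theorem pcore_structure {p : ℕ} [hp : Fact p.Prime] (hL : Cfsg.pCore p G ≠ ⊥)
    (hU : IsCoatom U) (hcore : U.normalCore = ⊥) :
    Cfsg.IsElementaryAbelian p (Cfsg.pCore p G) ∧ IsComplement' (Cfsg.pCore p G) U ∧
      (∀ K : Subgroup G, K.Normal → K ≤ Cfsg.pCore p G → K = ⊥ ∨ K = Cfsg.pCore p G) ∧
      centralizer ((Cfsg.pCore p G : Subgroup G) : Set G) = Cfsg.pCore p G ∧
      ∀ (q : ℕ) [Fact q.Prime], Cfsg.pCore q ↥U ≠ ⊥ →
        Nat.card (Cfsg.pCore p G) % q = 1 % q ∧ q ≠ p := by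
  set L := Cfsg.pCore p G
  have hLp : IsPGroup p L := isPGroup_pCore p
  haveI : L.Normal := (pCore_spec p).1
  obtain ⟨N, hN, hN1, hNL, hNc, hmin, p', hp', hexp, -⟩ := exists_normal_elementary_le hL
    (haveI := hLp.isNilpotent; inferInstance)
  obtain ⟨hcompl, hcent, -⟩ := abelian_structure hU hcore hN1 hNc
  have hLN : L = N :=
    le_antisymm ((centralizes_of_nilpotent hLp.isNilpotent hN1 hmin hNL).trans hcent.le) hNL
  have hpL : p ∣ Nat.card L :=
    hLp.card_eq_or_dvd.resolve_left fun e => hL (eq_bot_of_card_eq _ e)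
  have hpp : p' = p := by
    obtain ⟨x, hx⟩ := exists_prime_orderOf_dvd_card' p hpL
    have := orderOf_dvd_of_pow_eq_one (x := x) (n := p')
      (Subtype.ext (by simpa using hexp x (hLN.le x.2)))
    rw [hx] at this
    exact ((Nat.prime_dvd_prime_iff_eq hp.out hp').1 this).symm
  subst hpp
  rw [hLN] at hpL ⊢
  refine ⟨⟨hNc, hexp⟩, hcompl, hmin, hcent, ?_⟩
  intro q _ hq
  set Q := (Cfsg.pCore q ↥U).map U.subtype with hQdef
  have hQp : IsPGroup q Q := (isPGroup_pCore q).map _
  have hUQ : U ≤ normalizer (Q : Set G) := by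
    haveI : (Cfsg.pCore q ↥U).Normal := (pCore_spec q).1
    have h := le_normalizer_map U.subtype (H := Cfsg.pCore q ↥U)
    rwa [normalizer_eq_top, ← MonoidHom.range_eq_map, range_subtype] at h
  have hfix : N ⊓ centralizer (Q : Set G) = ⊥ := by
    haveI : (N ⊓ centralizer (Q : Set G)).Normal := normal_of_sup (B := N) (U := U)
      (le_normalizer_inf (le_top.trans (normalizer_eq_top N).ge) fun u hu => by
        rw [mem_normalizer_iff]
        intro z
        simp only [mem_centralizer_iff, SetLike.mem_coe]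
        have hn := mem_normalizer_iff.1 (hUQ hu)
        have hn' := mem_normalizer_iff.1 (hUQ (inv_mem hu))
        constructor
        · intro hz y hy
          have := hz _ ((hn' y).1 hy)
          rw [inv_inv] at this
          calc y * (u * z * u⁻¹) = u * (u⁻¹ * y * u * z) * u⁻¹ := by group
            _ = u * z * u⁻¹ * y := by rw [this]; group
        · intro hz y hy
          have := hz _ ((hn y).1 hy)
          calc y * z = u⁻¹ * (u * y * u⁻¹ * (u * z * u⁻¹)) * u := by group
            _ = z * y := by rw [this]; group)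
      (le_normalizer_of_le_centralizer (le_centralizer_iff.1
        (inf_le_left.trans hcent.ge))) (sup_eq_top hU hcore hN1)
    refine (hmin _ inferInstance inf_le_left).resolve_right fun e => hq ?_
    have h1 : Q ≤ centralizer (N : Set G) ⊓ U :=
      le_inf (le_centralizer_iff.1 (inf_eq_left.1 e)) (map_subtype_le _)
    rw [inf_centralizer_eq_bot hU hcore hN1, le_bot_iff, hQdef] at h1
    exact (map_eq_bot_iff_of_injective _ U.subtype_injective).1 h1
  have hmod : Nat.card N ≡ 1 [MOD q] := by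
    letI : MulAction Q N := MulAction.compHom N
      ((MulAut.conjNormal (H := N)).comp Q.subtype)
    have h := hQp.card_modEq_card_fixedPoints N
    have hone : Nat.card (MulAction.fixedPoints Q N) = 1 := by
      rw [Nat.card_eq_one_iff_unique]
      have hf : ∀ x : N, x ∈ MulAction.fixedPoints Q N → x = 1 := by
        intro x hx
        refine Subtype.ext (mem_bot.1 (hfix ▸ mem_inf.2 ⟨x.2, mem_centralizer_iff.2 fun y hy => ?_⟩))
        have := congrArg Subtype.val (hx ⟨y, hy⟩)
        change ((MulAut.conjNormal y x : N) : G) = x at this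
        rw [MulAut.conjNormal_apply, mul_inv_eq_iff_eq_mul] at this
        exact this
      exact ⟨⟨fun a b => Subtype.ext ((hf a a.2).trans (hf b b.2).symm)⟩,
        ⟨⟨1, fun g => map_one (MulAut.conjNormal (g : G))⟩⟩⟩
    rwa [hone] at h
  refine ⟨hmod, fun e => ?_⟩
  subst e
  have := (Nat.ModEq.of_dvd dvd_rfl hmod).symm.trans (Nat.modEq_zero_iff_dvd.2 hpL)
  exact Fact.out (p := q.Prime) |>.ne_one (Nat.dvd_one.1 (Nat.modEq_zero_iff_dvd.1 this))

theorem conjugate_of_solvable [Group.IsSolvable G] {V : Subgroup G} (hU : IsCoatom U)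
    (hV : IsCoatom V) (hUc : U.normalCore = ⊥) (hVc : V.normalCore = ⊥) :
    ∃ g : G, MulAut.conj g • U = V := by
  haveI : Nontrivial G := by
    by_contra h
    rw [not_nontrivial_iff_subsingleton] at h
    exact hU.1 ((eq_top_iff' U).2 fun x => (Subsingleton.elim x 1).symm ▸ one_mem U)
  obtain ⟨N, hN, hN1, -, hNc, hmin, p, hp, -, hNp⟩ := exists_normal_elementary_le
    (G := G) (N := ⊤) top_ne_bot inferInstance
  obtain ⟨hcU, hcent, -⟩ := abelian_structure hU hUc hN1 hNc
  obtain ⟨hcV, -, -⟩ := abelian_structure hV hVc hN1 hNc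
  have hUV : Nat.card U = Nat.card V :=
    Nat.eq_of_mul_eq_mul_left (Nat.card_pos (α := N)) (hcU.card_mul.trans hcV.card_mul.symm)
  rcases eq_or_ne U ⊥ with rfl | hU1
  · refine ⟨1, ?_⟩
    rw [map_one, one_smul, eq_comm, ← card_eq_one, ← hUV, card_bot]
  obtain ⟨Q₀, hQ₀, hQ₀1, -, -, -, q, hq, -, hQ₀q⟩ := exists_normal_elementary_le
    (G := U) (N := ⊤) (by
      haveI := (nontrivial_iff_ne_bot U).2 hU1
      exact top_ne_bot) inferInstance
  set Q := Q₀.map U.subtype with hQdef
  have hQU : Q ≤ U := map_subtype_le _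
  have hQ1 : Q ≠ ⊥ := fun e => hQ₀1 ((map_eq_bot_iff_of_injective _ U.subtype_injective).1 e)
  have hQq : IsPGroup q Q := hQ₀q.map _
  have hUQ : U ≤ normalizer (Q : Set G) := by
    have h := le_normalizer_map U.subtype (H := Q₀)
    rwa [normalizer_eq_top, ← MonoidHom.range_eq_map, range_subtype] at h
  haveI hK : (Q ⊔ N).Normal := normal_of_sup (B := N) (U := U)
    (fun u hu => by
      rw [← conj_smul_eq_iff_mem_normalizer, smul_sup, conj_smul_normal u N,
        conj_smul_eq_iff_mem_normalizer.2 (hUQ hu)])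
    ((le_sup_right : N ≤ Q ⊔ N).trans le_normalizer) hcU.sup_eq_top
  haveI := Fact.mk hp
  haveI := Fact.mk hq
  have hpq : q ≠ p := by
    rintro rfl
    have hKp : IsPGroup q (Q ⊔ N : Subgroup G) := hQq.to_sup_of_normal_right hNp
    have h1 := centralizes_of_nilpotent hKp.isNilpotent hN1 hmin le_sup_right
    rw [hcent, sup_le_iff] at h1
    exact hQ1 (le_bot_iff.1 (hcU.disjoint.eq_bot ▸ le_inf h1.1 hQU))
  have hcop : (Nat.card Q).Coprime (Nat.card N) := IsPGroup.coprime_card_of_ne q p hpq _ _ hQq hNp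
  set B := V ⊓ (Q ⊔ N) with hBdef
  have hQN : Q ≤ normalizer (N : Set G) := le_top.trans (normalizer_eq_top N).ge
  have hBN : B ≤ normalizer (N : Set G) := le_top.trans (normalizer_eq_top N).ge
  have hBsup : B ⊔ N = Q ⊔ N := by
    refine le_antisymm (sup_le inf_le_right le_sup_right) fun x hx => ?_
    obtain ⟨n, hn, v, hv, rfl⟩ := mem_sup_decomp (hcV.sup_eq_top.ge (mem_top x))
    refine mul_mem (mem_sup_right hn) (mem_sup_left ⟨hv, ?_⟩)
    simpa using mul_mem (inv_mem (mem_sup_right hn : n ∈ Q ⊔ N)) hx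
  have hBd : B ⊓ N = ⊥ := le_bot_iff.1 (hcV.disjoint.eq_bot ▸
    (le_inf inf_le_right (inf_le_left.trans inf_le_left) : B ⊓ N ≤ N ⊓ V))
  have hBc : Nat.card B = Nat.card Q := by
    refine Nat.eq_of_mul_eq_mul_right (Nat.card_pos (α := N)) ?_
    rw [← card_sup_of_disjoint hBN hBd, hBsup, card_sup_of_disjoint hQN]
    exact le_bot_iff.1 (hcU.disjoint.eq_bot ▸
      (le_inf inf_le_right (inf_le_left.trans hQU) : Q ⊓ N ≤ N ⊓ U))
  obtain ⟨n, hn, he⟩ := conj_rel hQN hcop (Or.inr (haveI := hNp.isNilpotent; inferInstance))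
    (inf_le_right : B ≤ Q ⊔ N) hBc
  have hUeq : normalizer (Q : Set G) = U := by
    refine le_antisymm (not_not.1 fun h => ?_) hUQ
    have := hU.2 _ (lt_of_le_of_ne hUQ fun e => h e.ge)
    haveI := normalizer_eq_top_iff.1 this
    exact hQ1 (eq_bot_of_le hUc hQU)
  have hVle : V ≤ MulAut.conj n • U := by
    have hVB : V ≤ normalizer (B : Set G) :=
      le_normalizer_inf le_normalizer (le_top.trans (normalizer_eq_top _).ge)
    intro v hv
    rw [mem_conj_smul, ← hUeq, ← conj_smul_eq_iff_mem_normalizer, mul_assoc, conj_smul_mul,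
      conj_smul_mul, he, conj_smul_eq_iff_mem_normalizer.2 (hVB hv), show B = MulAut.conj n • Q from he.symm,
      conj_smul_inv_smul]
  refine ⟨n, (eq_of_le_of_card_le hVle ?_).symm⟩
  rw [card_conj_smul, hUV]

theorem two_minimal_normal (hU : IsCoatom U) (hcore : U.normalCore = ⊥) (A B : Subgroup G)
    [A.Normal] [B.Normal] (hA : A ≠ ⊥) (hB : B ≠ ⊥)
    (hAmin : ∀ K : Subgroup G, K.Normal → K ≤ A → K = ⊥ ∨ K = A)
    (hBmin : ∀ K : Subgroup G, K.Normal → K ≤ B → K = ⊥ ∨ K = B) (hAB : A ≠ B) :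
    centralizer (B : Set G) = A ∧ centralizer (A : Set G) = B ∧ IsComplement' A U ∧
      IsComplement' B U ∧ ¬ IsMulCommutative A ∧ Nonempty (A ≃* B) ∧
      Nonempty (A ≃* ↥((A ⊔ B) ⊓ U)) := by
  have hd : A ⊓ B = ⊥ := (hAmin _ inferInstance inf_le_left).resolve_right fun e =>
    ((hBmin A inferInstance (inf_eq_left.1 e)).elim hA hAB)
  have hcomm : ∀ a ∈ A, ∀ b ∈ B, Commute a b := fun a ha b hb =>
    commute_of_normal_of_disjoint A B inferInstance inferInstance (disjoint_iff.2 hd) a b ha hb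
  have side : ∀ X Y : Subgroup G, X.Normal → Y.Normal → X ≠ ⊥ → Y ≠ ⊥ →
      (∀ x ∈ X, ∀ y ∈ Y, Commute x y) → centralizer (Y : Set G) = X ∧ IsComplement' X U := by
    intro X Y hX hY hX1 hY1 hXY
    haveI := hX
    haveI := hY
    have hXC : X ≤ centralizer (Y : Set G) := fun x hx =>
      mem_centralizer_iff.2 fun y hy => (hXY x hx y hy).eq.symm
    have hbot := inf_centralizer_eq_bot hU hcore hY1
    have htop := sup_eq_top hU hcore hX1
    refine ⟨le_antisymm (fun x hx => ?_) hXC, isComplement'_of_disjoint_and_mul_eq_univ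
      (disjoint_iff.2 (le_bot_iff.1 (hbot ▸ inf_le_inf_right U hXC))) ?_⟩
    · obtain ⟨n, hn, u, hu, rfl⟩ := mem_sup_decomp (htop.ge (mem_top x))
      have : u ∈ centralizer (Y : Set G) ⊓ U :=
        ⟨by simpa using mul_mem (inv_mem (hXC hn)) hx, hu⟩
      rw [hbot, mem_bot] at this
      rwa [this, mul_one]
    · refine Set.eq_univ_of_forall fun g => ?_
      obtain ⟨n, hn, u, hu, e⟩ := mem_sup_decomp (htop.ge (mem_top g))
      exact ⟨n, hn, u, hu, e⟩
  obtain ⟨hCB, hAc⟩ := side A B inferInstance inferInstance hA hB hcomm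
  obtain ⟨hCA, hBc⟩ := side B A inferInstance inferInstance hB hA fun b hb a ha =>
    (hcomm a ha b hb).symm
  -- projections of `(A ⊔ B) ⊓ U`
  have hproj : ∀ X Y : Subgroup G, X.Normal → Y.Normal → X ⊓ Y = ⊥ →
      (∀ x ∈ X, ∀ y ∈ Y, Commute x y) → Y ⊓ U = ⊥ → Y ⊔ U = ⊤ →
      Nonempty (X ≃* ↥((X ⊔ Y) ⊓ U)) := by
    intro X Y hX hY hXY hc hYU htop
    haveI := hY
    have hex : ∀ x : X, ∃ u : ↥((X ⊔ Y) ⊓ U), (x : G) * (u : G)⁻¹ ∈ Y := by
      intro x
      obtain ⟨y, hy, u, hu, e⟩ := mem_sup_decomp (htop.ge (mem_top (x : G)))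
      refine ⟨⟨u, mem_inf.2 ⟨?_, hu⟩⟩, by rw [← e, mul_inv_cancel_right]; exact hy⟩
      have := mul_mem (mem_sup_right (inv_mem hy) : y⁻¹ ∈ X ⊔ Y) (mem_sup_left x.2 : (x : G) ∈ X ⊔ Y)
      rwa [← e, inv_mul_cancel_left] at this
    choose f hf using hex
    have huniq : ∀ (g : G) (u v : ↥((X ⊔ Y) ⊓ U)), g * (u : G)⁻¹ ∈ Y → g * (v : G)⁻¹ ∈ Y →
        u = v := by
      intro g u v hu hv
      have h : (u : G) * (v : G)⁻¹ ∈ Y ⊓ U := mem_inf.2
        ⟨by simpa [mul_assoc] using mul_mem (inv_mem hu) hv, mul_mem u.2.2 (inv_mem v.2.2)⟩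
      rw [hYU, mem_bot, mul_inv_eq_one] at h
      exact Subtype.ext h
    have hmul : ∀ a b : X, f (a * b) = f a * f b := fun a b => by
      refine huniq _ _ _ (hf _) ?_
      have e : ((a * b : X) : G) * ((f a * f b : ↥((X ⊔ Y) ⊓ U)) : G)⁻¹ =
          (a : G) * ((b : G) * (f b : G)⁻¹) * (a : G)⁻¹ * ((a : G) * (f a : G)⁻¹) := by
        simp only [Subgroup.coe_mul]
        group
      rw [e]
      exact mul_mem (hY.conj_mem _ (hf b) a) (hf a)
    refine ⟨MulEquiv.ofBijective (MonoidHom.mk' f hmul) ⟨?_, ?_⟩⟩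
    · intro a b hab
      have h : (a : G) * (b : G)⁻¹ ∈ X ⊓ Y := mem_inf.2 ⟨mul_mem a.2 (inv_mem b.2), by
        have h1 := hf a
        rw [show f a = f b from hab] at h1
        simpa [mul_assoc] using mul_mem h1 (inv_mem (hf b))⟩
      rw [hXY, mem_bot, mul_inv_eq_one] at h
      exact Subtype.ext h
    · intro u
      obtain ⟨x, hx, y, hy, e⟩ := mem_sup_of_normal_right.1 u.2.1
      refine ⟨⟨x, hx⟩, huniq x _ _ (hf ⟨x, hx⟩) ?_⟩
      rw [← e, mul_inv_rev, ← mul_assoc, (hc x hx y⁻¹ (inv_mem hy)).eq, mul_inv_cancel_right]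
      exact inv_mem hy
  obtain ⟨eA⟩ := hproj A B inferInstance inferInstance hd hcomm hBc.disjoint.eq_bot hBc.sup_eq_top
  obtain ⟨eB⟩ := hproj B A inferInstance inferInstance (inf_comm A B ▸ hd)
    (fun b hb a ha => (hcomm a ha b hb).symm) hAc.disjoint.eq_bot hAc.sup_eq_top
  refine ⟨hCB, hCA, hAc, hBc, fun h => ?_,
    ⟨eA.trans ((MulEquiv.subgroupCongr (by rw [sup_comm])).trans eB.symm)⟩, ⟨eA⟩⟩
  have : A ≤ B := hCA ▸ le_centralizer_iff_isMulCommutative.2 h
  exact hA (le_bot_iff.1 (hd ▸ le_inf le_rfl this))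

theorem normal_sylow_aux (n : ℕ) : ∀ (G : Type u) [Group G] [Finite G], Nat.card G = n →
    Group.IsSolvable G → Nontrivial G →
    (∀ M : Subgroup G, IsCoatom M → (Nat.card M).Coprime M.index) →
      ∃ p : ℕ, p.Prime ∧ p ∣ Nat.card G ∧ ∀ P : Sylow p G, (P : Subgroup G).Normal := by
  induction n using Nat.strongRecOn with | ind n ih => ?_
  rintro G _ _ rfl hs hnt h
  haveI := hs
  haveI := hnt
  obtain ⟨N, hN, hN1, -, hNc, hmin, p, hp, -, hNp⟩ := exists_normal_elementary_le
    (G := G) (N := ⊤) top_ne_bot inferInstance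
  haveI := Fact.mk hp
  have hpN : p ∣ Nat.card N := hNp.card_eq_or_dvd.resolve_left fun e => hN1 (eq_bot_of_card_eq _ e)
  have hpG := hpN.trans (card_subgroup_dvd_card N)
  have hall : ∀ {r : ℕ} [Fact r.Prime] (P : Sylow r G), (P : Subgroup G).Normal →
      ∀ P' : Sylow r G, (P' : Subgroup G).Normal := fun P hP P' => by
    obtain ⟨g, rfl⟩ := MulAction.exists_smul_eq G P P'
    rw [Sylow.coe_subgroup_smul]
    haveI := hP
    rw [conj_smul_normal]; exact hP
  rcases eq_or_ne N ⊤ with rfl | hNT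
  · obtain ⟨P, hP⟩ := hNp.exists_le_sylow
    exact ⟨p, hp, hpG, hall P (by rw [top_le_iff.1 hP]; infer_instance)⟩
  let π := QuotientGroup.mk' N
  have hsurj := QuotientGroup.mk'_surjective N
  have hQnt : Nontrivial (G ⧸ N) := by
    rw [← Finite.one_lt_card_iff_nontrivial, ← index_eq_card]
    exact one_lt_index_of_ne_top hNT
  have hquot : ∀ M : Subgroup (G ⧸ N), IsCoatom M → (Nat.card M).Coprime M.index := by
    intro M hM
    have hco : IsCoatom (M.comap π) := by
      refine ⟨fun e => hM.1 ?_, fun X hX => ?_⟩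
      · rw [← map_comap_eq_self_of_surjective hsurj M, e, map_top_of_surjective _ hsurj]
      · have hker : N ≤ X := (QuotientGroup.ker_mk' N ▸ π.ker_le_comap M).trans hX.le
        have e : (X.map π).comap π = X := by
          rw [comap_map_eq, QuotientGroup.ker_mk', sup_eq_left.2 hker]
        have hlt : M < X.map π := by
          refine lt_of_le_of_ne ?_ fun e2 => hX.ne (e2 ▸ e)
          rw [← map_comap_eq_self_of_surjective hsurj M]
          exact map_mono hX.le
        rw [← e, hM.2 _ hlt, comap_top]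
    have h1 := h _ hco
    rw [index_comap_of_surjective M hsurj] at h1
    refine h1.coprime_dvd_left ?_
    conv_lhs => rw [← map_comap_eq_self_of_surjective hsurj M]
    exact card_map_dvd _ _
  obtain ⟨q, hq, hqd, hqn⟩ := ih _ (card_quotient_lt hN1) (G ⧸ N) rfl inferInstance hQnt hquot
  haveI := Fact.mk hq
  obtain ⟨Q⟩ : Nonempty (Sylow q G) := inferInstance
  haveI hK : ((Q : Subgroup G) ⊔ N).Normal := by
    have h1 : ((Q : Subgroup G).map π).Normal := hqn (Q.mapSurjective hsurj)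
    have := h1.comap π
    rwa [comap_map_eq, QuotientGroup.ker_mk'] at this
  rcases eq_or_ne q p with rfl | hqp
  · refine ⟨q, hq, hpG, hall Q ?_⟩
    have hle : N ≤ (Q : Subgroup G) := by
      obtain ⟨P, hP⟩ := hNp.exists_le_sylow
      obtain ⟨c, hc⟩ := MulAction.exists_smul_eq G P Q
      rw [← hc, Sylow.coe_subgroup_smul, ← conj_smul_normal c N]
      exact pointwise_smul_le_pointwise_smul_iff.2 hP
    rwa [sup_eq_left.2 hle] at hK
  by_cases hQn : (Q : Subgroup G).Normal
  · exact ⟨q, hq, hqd.trans (card_quotient_dvd_card N), hall Q hQn⟩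
  obtain ⟨M, hM, hMQ⟩ := (eq_top_or_exists_le_coatom (normalizer ((Q : Subgroup G) : Set G))).resolve_left
    fun e => hQn (normalizer_eq_top_iff.1 e)
  have htop : N ⊔ M = ⊤ := by
    rw [eq_top_iff, ← Sylow.normalizer_sup_eq_top' Q (le_sup_left : (Q : Subgroup G) ≤ (Q : Subgroup G) ⊔ N)]
    exact sup_le (hMQ.trans le_sup_right)
      (sup_le ((le_normalizer.trans hMQ).trans le_sup_right) le_sup_left)
  haveI : (N ⊓ M).Normal := normal_of_sup (B := N) (U := M)
    (le_normalizer_inf (le_top.trans (normalizer_eq_top N).ge) le_normalizer)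
    (le_normalizer_of_le_centralizer ((le_centralizer_iff_isMulCommutative.2 hNc).trans
      (centralizer_le fun x hx => hx.1))) htop
  have hNM : N ⊓ M = ⊥ := (hmin _ inferInstance inf_le_left).resolve_right fun e => hM.1 <| by
    rw [← htop, sup_eq_right.2 (inf_eq_left.1 e)]
  have hc : IsComplement' N M := by
    refine isComplement'_of_disjoint_and_mul_eq_univ (disjoint_iff.2 hNM)
      (Set.eq_univ_of_forall fun g => ?_)
    obtain ⟨n, hn, u, hu, e⟩ := mem_sup_decomp (htop.ge (mem_top g))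
    exact ⟨n, hn, u, hu, e⟩
  have hidx : M.index = Nat.card N := hc.index_eq_card
  have hcop := h M hM
  rw [hidx] at hcop
  have hNidx : N.index = Nat.card M := hc.symm.index_eq_card
  have hpM : ¬ p ∣ N.index := by
    rw [hNidx]
    exact fun hd => hp.ne_one (Nat.eq_one_of_dvd_coprimes hcop hd hpN)
  obtain ⟨P, hP⟩ := hNp.exists_le_sylow
  have hPN : (P : Subgroup G) = N := by
    obtain ⟨i, hi⟩ := IsPGroup.iff_card.1 P.2
    obtain ⟨j, hj⟩ := IsPGroup.iff_card.1 hNp
    refine (eq_of_le_of_card_le hP (Nat.le_of_dvd Nat.card_pos ?_)).symm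
    have h2 : Nat.card P ∣ Nat.card N * N.index := N.card_mul_index ▸ card_subgroup_dvd_card _
    refine Nat.Coprime.dvd_of_dvd_mul_right ?_ h2
    rw [hi]
    exact (hp.coprime_iff_not_dvd.2 hpM).pow_left i
  exact ⟨p, hp, hpG, hall P (by rw [hPN]; exact hN)⟩

end CfsgLib.Socle
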