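import Cfsg.Agent.Transfer.Tate
import Cfsg.Agent.FGSA.Nilpotent
import Cfsg.Agent.Solvable.CoprimeIndex
import Cfsg.Agent.Solvable.Glauberman
import Mathlib.GroupTheory.Focal

/-!
A nilpotent Hall subgroup containing the normalizers of its Sylow subgroups has a normal
complement.
-/

set_option autoImplicit false
set_option linter.style.haveILetI false
set_option linter.deprecated false

namespace CfsgLib.NormalizerComplement

open Subgroup CfsgLib.PResidual
open scoped commutatorElement Pointwise

variable {G : Type*} [Group G] [Finite G]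

/-- A Sylow intersection with `O^p` lies in the derived group. -/
theorem inf_pResidual_le_commutator {p : ℕ} [hp : Fact p.Prime] (P : Sylow p G) :
    (P : Subgroup G) ⊓ Cfsg.pResidual p G ≤ commutator G := by
  set n := Nat.card (Abelianization G)
  haveI : Finite (Abelianization G) :=
    Finite.of_surjective _ (QuotientGroup.mk'_surjective (commutator G))
  set m := n / p ^ n.factorization p
  have hK : Cfsg.pResidual p G ≤ ((powMonoidHom m).comp Abelianization.of).ker := by
    refine (closure_le _).2 fun g (hg : (orderOf g).Coprime p) => ?_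
    show Abelianization.of g ^ m = 1
    rw [← orderOf_dvd_iff_pow_eq_one]
    refine Nat.Coprime.dvd_of_dvd_mul_left ((hg.coprime_dvd_left (orderOf_map_dvd Abelianization.of g)).pow_right
      (n.factorization p)) ?_
    rw [Nat.ordProj_mul_ordCompl_eq_self]
    exact orderOf_dvd_natCard _
  rintro x ⟨hxP, hxK⟩
  obtain ⟨j, hj⟩ := IsPGroup.iff_orderOf.1 P.2 ⟨x, hxP⟩
  rw [orderOf_mk] at hj
  have h2 : (orderOf (Abelianization.of x)).Coprime m :=
    Nat.Coprime.coprime_dvd_left (hj ▸ orderOf_map_dvd Abelianization.of x)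
      (Nat.Coprime.pow_left _ (Nat.coprime_ordCompl hp.out Nat.card_pos.ne'))
  rw [← Abelianization.ker_of, MonoidHom.mem_ker, ← orderOf_eq_one_iff]
  exact Nat.eq_one_of_dvd_coprimes h2 dvd_rfl (orderOf_dvd_of_pow_eq_one (hK hxK))

/-- Frobenius: a normal complement when conjugate elements of `P` differ by `[P, P]`. -/
theorem hasNormalPComplement_of_focal {p : ℕ} [hp : Fact p.Prime] (P : Sylow p G)
    (h : (P : Subgroup G).focalSubgroup ≤ ⁅(P : Subgroup G), (P : Subgroup G)⁆) :
    Cfsg.HasNormalPComplement p G := by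
  have h1 : (P : Subgroup G) ⊓ Cfsg.pResidual p G ≤ ⁅(P : Subgroup G), (P : Subgroup G)⁆ := by
    refine le_trans ?_ h
    rw [← Subgroup.commutator_inf_eq_focalSubgroup]
    exact le_inf (inf_pResidual_le_commutator P) inf_le_left
  have h2 := CfsgLib.Tate.inf_pResidual_le P (P : Subgroup G) le_rfl h1
  have hbot : Cfsg.pResidual p (P : Subgroup G) = ⊥ := by
    rw [Cfsg.pResidual, closure_eq_bot_iff]
    intro x hx
    obtain ⟨j, hj⟩ := IsPGroup.iff_orderOf.1 P.2 x
    refine orderOf_eq_one_iff.1 (Nat.eq_one_of_dvd_coprimes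
      ((show (orderOf x).Coprime p from hx).pow_right j) dvd_rfl hj.dvd)
  rw [hbot, Subgroup.map_bot] at h2
  refine hasNormalPComplement_iff.2 (coprime_of_not_dvd hp.out fun hd => ?_)
  obtain ⟨x, hx⟩ := exists_prime_orderOf_dvd_card' p hd
  rw [← orderOf_coe] at hx
  obtain ⟨Q, hQ⟩ := (IsPGroup.of_card (n := 1) (G := zpowers (x : G))
    (by rw [Nat.card_zpowers, hx, pow_one])).exists_le_sylow
  obtain ⟨g, hg⟩ := MulAction.exists_smul_eq G Q P
  have hgx : g * (x : G) * g⁻¹ ∈ (P : Subgroup G) ⊓ Cfsg.pResidual p G := by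
    refine mem_inf.2 ⟨?_, Normal.conj_mem inferInstance _ x.2 g⟩
    rw [← hg, Sylow.coe_subgroup_smul, CfsgLib.SZ.mem_conj_smul]
    simpa [mul_assoc] using hQ (mem_zpowers (x : G))
  have h3 := mem_bot.1 (h2 hgx)
  rw [conj_eq_one_iff] at h3
  rw [h3, orderOf_one] at hx
  exact hp.out.ne_one hx.symm

theorem main (H : Subgroup G) (hnot : ∀ p : ℕ, p.Prime → ∀ P : Sylow p G, (P : Subgroup G) ≠ H)
    (hnorm : ∀ p : ℕ, p.Prime → p ∣ Nat.card H → ∀ P : Sylow p H,
      normalizer (((P : Subgroup H).map H.subtype : Subgroup G) : Set G) = H) :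
    ∃ N : Subgroup G, N.Normal ∧ IsComplement' N H := by
  classical
  haveI : Finite H := inferInstance
  -- the Sylow subgroups of `H`
  have hsyl : ∀ p : ℕ, [Fact p.Prime] → p ∣ Nat.card H → ∀ P : Sylow p H,
      (P : Subgroup H).Normal ∧ ∃ R : Sylow p G, (R : Subgroup G) = (P : Subgroup H).map H.subtype := by
    intro p hp hd P
    have hN := hnorm p hp.out hd P
    refine ⟨normalizer_eq_top_iff.1 (top_unique fun h _ => ?_), ?_⟩
    · have hh : (h : G) ∈ normalizer (((P : Subgroup H).map H.subtype : Subgroup G) : Set G) :=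
        hN.ge h.2
      rw [mem_normalizer_iff] at hh ⊢
      intro y
      have := hh (y : G)
      rwa [show (h : G) * (y : G) * (h : G)⁻¹ = H.subtype (h * y * h⁻¹) by simp,
        show (y : G) = H.subtype y from rfl, mem_map_iff_mem H.subtype_injective,
        mem_map_iff_mem H.subtype_injective] at this
    · obtain ⟨R, hR⟩ := (P.2.map H.subtype).exists_le_sylow
      refine ⟨R, le_antisymm ?_ hR⟩
      by_contra hne
      set P' := (P : Subgroup H).map H.subtype
      haveI := R.2.isNilpotent
      have hlt : P'.subgroupOf R < ⊤ := lt_top_iff_ne_top.2 fun e => hne (subgroupOf_eq_top.1 e)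
      obtain ⟨r, hr, hr'⟩ := SetLike.exists_of_lt (Group.normalizerCondition_of_isNilpotent _ hlt)
      have hrG : (r : G) ∈ H := by
        rw [← hN, mem_normalizer_iff]
        intro y
        by_cases hy : y ∈ R
        · exact mem_normalizer_iff.1 hr ⟨y, hy⟩
        · refine ⟨fun h => absurd (hR h) hy, fun h => absurd ?_ hy⟩
          have := mul_mem (mul_mem (inv_mem r.2) (hR h)) r.2
          show y ∈ (R : Subgroup G); simpa [mul_assoc] using this
      set X := (R : Subgroup G).comap H.subtype
      have hX : IsPGroup p X := R.2.comap_of_injective H.subtype H.subtype_injective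
      have hPX : (P : Subgroup H) ≤ X := fun y hy => hR (mem_map_of_mem _ hy)
      have he := P.is_maximal' hX hPX
      exact hr' (mem_subgroupOf.2 ⟨⟨r, hrG⟩, he ▸ (r.2 : (⟨r, hrG⟩ : H) ∈ X), rfl⟩)
  have hnil : Group.IsNilpotent H := by
    refine (Group.isNilpotent_of_finite_tfae (G := H)).out 3 0 |>.1 fun p hp P => ?_
    haveI := hp
    by_cases hd : p ∣ Nat.card H
    · exact (hsyl p hd P).1
    · have : (P : Subgroup H) = ⊥ := eq_bot_of_card_eq _ (by
        rw [P.card_eq_multiplicity, Nat.factorization_eq_zero_of_not_dvd hd, pow_zero])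
      rw [this]; infer_instance
  have hother : ∀ p : ℕ, p.Prime → p ∣ Nat.card H → ∃ q : ℕ, q.Prime ∧ q ∣ Nat.card H ∧ q ≠ p := by
    intro p hp hd
    haveI := Fact.mk hp
    by_contra hno
    push Not at hno
    obtain ⟨P⟩ : Nonempty (Sylow p H) := inferInstance
    obtain ⟨-, R, hR⟩ := hsyl p hd P
    refine hnot p hp R (hR.trans ?_)
    have : (P : Subgroup H) = ⊤ := by
      refine eq_top_of_card_eq _ ?_
      have key := Nat.eq_prime_pow_of_unique_prime_dvd (Nat.card_pos (α := H)).ne'
        (fun {q} hq hqd => hno q hq hqd)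
      rw [P.card_eq_multiplicity]
      conv_rhs => rw [key]
      congr 1
      conv_lhs => rw [key]
      simp [hp.factorization_self]
    rw [this, ← MonoidHom.range_eq_map, range_subtype]
  have hcompl : ∀ p : ℕ, [Fact p.Prime] → p ∣ Nat.card H → Cfsg.HasNormalPComplement p G := by
    intro p hp hd
    obtain ⟨P⟩ : Nonempty (Sylow p H) := inferInstance
    obtain ⟨hPn, R, hR⟩ := hsyl p hd P
    obtain ⟨q, hq, hqd, hqp⟩ := hother p hp.out hd
    haveI := Fact.mk hq
    obtain ⟨Q⟩ : Nonempty (Sylow q H) := inferInstance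
    obtain ⟨hQn, S, hS⟩ := hsyl q hqd Q
    haveI := hnil
    refine hasNormalPComplement_of_focal R ?_
    rw [focalSubgroup_def, closure_le]
    rintro z ⟨hz, x, hx, u, rfl⟩
    -- `u x u⁻¹` lies in `P` and is conjugate to `x` inside `H`
    have hy : u * x⁻¹ * u⁻¹ ∈ (R : Subgroup G) := by
      have := mul_mem (inv_mem hx) hz
      simpa [commutatorElement_def, mul_assoc] using this
    have hPH : (R : Subgroup G) ≤ H := hR ▸ map_subtype_le _
    have hQH : (S : Subgroup G) ≤ H := hS ▸ map_subtype_le _
    have hcQ : ∀ a ∈ (R : Subgroup G), (S : Subgroup G) ≤ centralizer {a} := by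
      intro a ha b hb
      rw [mem_centralizer_singleton_iff]
      rw [hR] at ha
      rw [hS] at hb
      obtain ⟨a, ha', rfl⟩ := ha
      obtain ⟨b, hb', rfl⟩ := hb
      exact congrArg H.subtype (commute_of_normal_of_disjoint _ _ hQn hPn
        (IsPGroup.disjoint_of_ne q p hqp _ _ Q.2 P.2) b a hb' ha').eq
    set y := u * x⁻¹ * u⁻¹ with hydef
    set D := centralizer {y}
    have hS1 : (S : Subgroup G) ≤ D := hcQ y hy
    have hS2 : ((u • S : Sylow q G) : Subgroup G) ≤ D := by
      intro w hw
      rw [Sylow.coe_subgroup_smul, CfsgLib.SZ.mem_conj_smul] at hw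
      have := mem_centralizer_singleton_iff.1 (hcQ x⁻¹ (inv_mem hx) hw)
      refine mem_centralizer_singleton_iff.2 ?_
      calc w * y = u * ((u⁻¹ * w * u) * x⁻¹) * u⁻¹ := by rw [hydef]; group
        _ = y * w := by rw [this, hydef]; group
    obtain ⟨c, hc⟩ := MulAction.exists_smul_eq D (Sylow.subtype (u • S) hS2) (S.subtype hS1)
    have hc' : (c : G) • (u • S) = S := by
      refine Sylow.ext ?_
      have := congrArg (fun T : Sylow q D => (T : Subgroup D).map D.subtype) hc
      simp only [Sylow.coe_subgroup_smul, CfsgLib.SZ.conj_smul_map, Sylow.coe_subtype,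
        map_subgroupOf_eq_of_le hS1] at this
      rw [Sylow.coe_subgroup_smul, Sylow.coe_subgroup_smul]
      rwa [map_subgroupOf_eq_of_le (by rwa [Sylow.coe_subgroup_smul] at hS2)] at this
    have hcu : (c : G) * u ∈ H := by
      rw [← hnorm q hq hqd Q, ← hS]
      exact Sylow.smul_eq_iff_mem_normalizer.1 (by rw [mul_smul, hc'])
    set h : H := ⟨(c : G) * u, hcu⟩
    have e : ⁅x, u⁆ = ⁅x, (h : G)⁆ := by
      have h1 : (c : G) * y * (c : G)⁻¹ = y := by
        rw [mem_centralizer_singleton_iff.1 c.2, mul_inv_cancel_right]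
      rw [commutatorElement_def, commutatorElement_def]
      calc x * u * x⁻¹ * u⁻¹ = x * y := by rw [hydef]; group
        _ = x * ((c : G) * y * (c : G)⁻¹) := by rw [h1]
        _ = _ := by rw [hydef]; simp only [h]; group
    rw [e]
    -- split `h` into a `p`-part and a part centralizing `P`
    set m := orderOf h / p ^ (orderOf h).factorization p with hm
    set k := p ^ (orderOf h).factorization p with hk
    have hkm : k * m = orderOf h := Nat.ordProj_mul_ordCompl_eq_self _ _
    obtain ⟨i, j, hij⟩ : IsCoprime (k : ℤ) (m : ℤ) := Int.isCoprime_iff_nat_coprime.2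
      (by simpa using (Nat.coprime_ordCompl hp.out (orderOf_pos h).ne').pow_left _)
    set a := h ^ (j * (m : ℤ))
    set b := h ^ (i * (k : ℤ))
    have hab : h = a * b := by rw [← zpow_add, add_comm, hij, zpow_one]
    have ha : a ^ k = 1 := by
      rw [← zpow_natCast, ← zpow_mul, mul_assoc, ← Nat.cast_mul, mul_comm m k, hkm, mul_comm,
        zpow_mul, zpow_natCast, pow_orderOf_eq_one, one_zpow]
    have hb : b ^ m = 1 := by
      rw [← zpow_natCast, ← zpow_mul, mul_assoc, ← Nat.cast_mul, hkm, mul_comm,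
        zpow_mul, zpow_natCast, pow_orderOf_eq_one, one_zpow]
    have haP : a ∈ (P : Subgroup H) := by
      obtain ⟨P₁, hP₁⟩ := (IsPGroup.iff_orderOf.2 fun z : zpowers a => by
        obtain ⟨w, -, hw⟩ := (Nat.dvd_prime_pow hp.out).1 (((orderOf_coe z).symm.dvd.trans
          (orderOf_dvd_of_mem_zpowers z.2)).trans (orderOf_dvd_of_pow_eq_one ha))
        exact ⟨w, hw⟩).exists_le_sylow
      haveI := hPn
      obtain ⟨g, rfl⟩ := MulAction.exists_smul_eq H P P₁
      rw [Sylow.coe_subgroup_smul, CfsgLib.SZ.conj_smul_normal] at hP₁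
      exact hP₁ (mem_zpowers a)
    have hbx : (b : G) * x⁻¹ = x⁻¹ * b := by
      have hx' : x ∈ H := hPH hx
      have := CfsgLib.FGSA.commute_of_coprime_orderOf b (⟨x, hx'⟩ : H)⁻¹ (by
        obtain ⟨j', hj'⟩ := IsPGroup.iff_orderOf.1 R.2 ⟨x, hx⟩
        rw [orderOf_mk] at hj'
        rw [orderOf_inv, ← orderOf_coe (⟨x, hx'⟩ : H), hj']
        exact ((Nat.coprime_ordCompl hp.out (orderOf_pos h).ne').symm.coprime_dvd_left
          (orderOf_dvd_of_pow_eq_one hb)).pow_right _)
      simpa using congrArg Subtype.val this.eq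
    have e2 : ⁅x, (h : G)⁆ = ⁅x, (a : G)⁆ := by
      rw [commutatorElement_def, commutatorElement_def, hab, Subgroup.coe_mul, mul_inv_rev]
      calc x * ((a : G) * b) * x⁻¹ * ((b : G)⁻¹ * (a : G)⁻¹)
          = x * a * ((b : G) * x⁻¹) * (b : G)⁻¹ * (a : G)⁻¹ := by group
        _ = _ := by rw [hbx]; group
    rw [SetLike.mem_coe, e2]
    exact commutator_mem_commutator hx (hR.ge (mem_map_of_mem _ haP))
  -- intersect the complements
  have hmem : ∀ p ∈ (Nat.card H).primeFactors, p.Prime ∧ p ∣ Nat.card H := fun p hp =>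
    ⟨Nat.prime_of_mem_primeFactors hp, Nat.dvd_of_mem_primeFactors hp⟩
  set s := (Nat.card H).primeFactors
  have hHG : ∀ p ∈ s, (Nat.card H).factorization p = (Nat.card G).factorization p := by
    intro p hp
    haveI := Fact.mk (hmem p hp).1
    obtain ⟨P⟩ : Nonempty (Sylow p H) := inferInstance
    obtain ⟨-, R, hR⟩ := hsyl p (hmem p hp).2 P
    have h1 : Nat.card R = Nat.card P := by
      rw [show Nat.card R = Nat.card ((P : Subgroup H).map H.subtype) by rw [← hR]]
      exact card_map_of_injective H.subtype_injective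
    rw [R.card_eq_multiplicity, P.card_eq_multiplicity] at h1
    exact (Nat.pow_right_injective (hmem p hp).1.two_le h1).symm
  let N := s.inf fun p => Cfsg.pResidual p G
  have hidx : ∀ p ∈ s, (Cfsg.pResidual p G).index = p ^ (Nat.card H).factorization p := by
    intro p hp
    haveI := Fact.mk (hmem p hp).1
    obtain ⟨R⟩ : Nonempty (Sylow p G) := inferInstance
    rw [(isComplement'_of_coprime_pResidual (hasNormalPComplement_iff.1 (hcompl p (hmem p hp).2))
      R).symm.index_eq_card, R.card_eq_multiplicity, hHG p hp]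
  have hNidx : N.index = Nat.card H := by
    rw [CfsgLib.CoprimeIndex.index_finsetInf, Finset.prod_congr rfl hidx]
    · exact Nat.prod_factorization_pow_eq_self Nat.card_pos.ne'
    · intro p hp q hq hne
      show Nat.Coprime _ _
      rw [hidx p hp, hidx q hq]
      exact Nat.Coprime.pow _ _ ((Nat.coprime_primes (hmem p hp).1 (hmem q hq).1).2 hne)
  haveI hNn : N.Normal := by
    refine Finset.inf_induction (p := Subgroup.Normal) inferInstance (fun A hA B hB => ?_)
      fun p _ => inferInstance
    haveI := hA; haveI := hB; infer_instance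
  refine ⟨N, hNn, isComplement'_of_coprime ?_ ?_⟩
  · rw [← hNidx, card_mul_index]
  · refine Nat.coprime_of_dvd fun p hp hpN hpH => ?_
    haveI := Fact.mk hp
    have hps : p ∈ s := hp.mem_primeFactors hpH Nat.card_pos.ne'
    exact hp.ne_one (Nat.eq_one_of_dvd_coprimes (hasNormalPComplement_iff.1 (hcompl p hpH))
      (hpN.trans (card_dvd_of_le (Finset.inf_le hps))) dvd_rfl)

end CfsgLib.NormalizerComplement
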