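import Cfsg.Agent.PLocal.SubnormalJoin
import Cfsg.Agent.Solvable.Glauberman

/-!
# Wielandt's zipper lemmas
-/

set_option autoImplicit false
set_option linter.style.haveILetI false
set_option linter.deprecated false
set_option linter.unusedSectionVars false

namespace CfsgLib.Zipper

open Subgroup Pointwise CfsgLib.SZ CfsgLib.Solvable

universe u

variable {G : Type u} [Group G] [Finite G]

theorem subnormal_sSup (T : Set (Subgroup G)) (h : ∀ U ∈ T, U.IsSubnormal) :
    (sSup T).IsSubnormal := by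
  have hfin := T.toFinite
  induction T, hfin using Set.Finite.induction_on with
  | empty => rw [sSup_empty]; exact IsSubnormal.bot
  | @insert a s _ _ ih =>
    rw [sSup_insert]
    exact CfsgLib.SubnormalJoin.isSubnormal_sup (h a (Set.mem_insert _ _))
      (ih fun U hU => h U (Set.mem_insert_of_mem _ hU))

theorem conj_smul_sSup (g : G) (T : Set (Subgroup G)) :
    MulAut.conj g • sSup T = sSup ((MulAut.conj g • ·) '' T) := by
  rw [conj_smul_eq_map, sSup_eq_iSup, sSup_image, Subgroup.map_iSup]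
  simp only [Subgroup.map_iSup, ← conj_smul_eq_map]

theorem normalizes_join_aux (n : ℕ) : ∀ H : Subgroup G, Nat.card H = n →
    ∀ S S₀ : Set (Subgroup G), (∀ U ∈ S, U ≤ H ∧ (U.subgroupOf H).IsSubnormal) →
      (∀ U ∈ S, ∀ h ∈ H, MulAut.conj h • U ∈ S) → S₀ ⊂ S →
        ∃ X ∈ S, X ∉ S₀ ∧ X ≤ normalizer ((sSup S₀ : Subgroup G) : Set G) := by
  induction n using Nat.strong_induction_on with
  | _ n ih =>
    intro H hn S S₀ hS hconj h₀
    obtain ⟨Y, hY, hY₀⟩ := Set.exists_of_ssubset h₀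
    set D := sSup S₀ with hD
    by_cases hex : ∃ X ∈ S, X ∉ S₀ ∧ X ≤ D
    · obtain ⟨X, hX, hX₀, hXD⟩ := hex
      exact ⟨X, hX, hX₀, hXD.trans le_normalizer⟩
    have hDH : D ≤ H := sSup_le fun U hU => (hS U (h₀.subset hU)).1
    by_cases hDtop : D = H
    · exact ⟨Y, hY, hY₀, ((hS Y hY).1.trans hDtop.ge).trans le_normalizer⟩
    have hDsn : (D.subgroupOf H).IsSubnormal := by
      have he : D.subgroupOf H = sSup ((fun U : Subgroup G => U.subgroupOf H) '' S₀) := by
        apply map_injective H.subtype_injective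
        rw [map_subgroupOf_eq_of_le hDH, sSup_image, Subgroup.map_iSup, hD, sSup_eq_iSup]
        refine iSup_congr fun U => ?_
        rw [Subgroup.map_iSup]
        exact iSup_congr fun hU => (map_subgroupOf_eq_of_le (hS U (h₀.subset hU)).1).symm
      rw [he]
      refine subnormal_sSup _ ?_
      rintro _ ⟨U, hU, rfl⟩
      exact (hS U (h₀.subset hU)).2
    obtain ⟨N, hNn, hDN, hNlt⟩ := hDsn.exists_normal_and_le_and_lt_top_of_ne
      fun he => hDtop (le_antisymm hDH (subgroupOf_eq_top.1 he))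
    set N' := N.map H.subtype with hN'
    have hN'H : N' ≤ H := map_subtype_le _
    have hDN' : D ≤ N' := by
      rw [hN', ← map_subgroupOf_eq_of_le hDH]; exact map_mono hDN
    have hconjN : ∀ h ∈ H, MulAut.conj h • N' = N' := by
      intro h hh
      have h1 := congrArg (Subgroup.map H.subtype) (conj_smul_normal (⟨h, hh⟩ : H) N)
      rwa [conj_smul_map] at h1
    set T := {U ∈ S | U ≤ N'} with hT
    have hS₀T : S₀ ⊆ T := fun U hU => ⟨h₀.subset hU, (le_sSup hU).trans hDN'⟩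
    by_cases hTS : T = S₀
    · refine ⟨Y, hY, hY₀, fun y hy => conj_smul_eq_iff_mem_normalizer.1
        (eq_of_le_of_card_le ?_ (card_conj_smul _ _).ge)⟩
      rw [hD, conj_smul_sSup]
      refine sSup_le ?_
      rintro _ ⟨U, hU, rfl⟩
      refine le_sSup ?_
      rw [← hTS]
      refine ⟨hconj U (h₀.subset hU) y ((hS Y hY).1 hy), ?_⟩
      rw [← hconjN y ((hS Y hY).1 hy)]
      exact pointwise_smul_le_pointwise_smul_iff.2 (hS₀T hU).2
    · have hlt : Nat.card N' < n := by
        rw [hN', card_map_of_injective H.subtype_injective, ← hn]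
        exact card_lt_of_ne_top hNlt.ne
      obtain ⟨X, hX, hX₀, hXn⟩ := ih _ hlt N' rfl T S₀
        (fun U hU => ⟨hU.2, by
          have h1 := (hS U hU.1).2.comap (inclusion hN'H)
          exact h1⟩)
        (fun U hU h hh => ⟨hconj U hU.1 h (hN'H hh), by
          rw [← conj_smul_self_of_mem hh]
          exact pointwise_smul_le_pointwise_smul_iff.2 hU.2⟩)
        (ssubset_of_subset_of_ne hS₀T (Ne.symm hTS))
      exact ⟨X, hX.1, hX₀, hXn⟩

/-- A member outside a subfamily normalizes its join. -/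
theorem normalizes_join (H : Subgroup G) (S S₀ : Set (Subgroup G))
    (hS : ∀ U ∈ S, U ≤ H ∧ (U.subgroupOf H).IsSubnormal)
    (hconj : ∀ U ∈ S, ∀ h ∈ H, MulAut.conj h • U ∈ S) (h₀ : S₀ ⊂ S) :
    ∃ X ∈ S, X ∉ S₀ ∧ X ≤ normalizer ((sSup S₀ : Subgroup G) : Set G) :=
  normalizes_join_aux _ H rfl S S₀ hS hconj h₀

theorem subgroupOf_conj_subnormal {A V : Subgroup G} (g : G)
    (h : (A.subgroupOf V).IsSubnormal) :
    ((MulAut.conj g • A).subgroupOf (MulAut.conj g • V)).IsSubnormal := by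
  have h1 := h.comap ((Subgroup.equivSMul (MulAut.conj g) V).symm.toMonoidHom)
  convert h1 using 1
  ext ⟨x, hx⟩
  rw [mem_subgroupOf, mem_comap, mem_subgroupOf]
  exact Subgroup.mem_pointwise_smul_iff_inv_smul_mem

/-- Wielandt's zipper lemma. -/
theorem zipper (A : Subgroup G) (h : ∀ V : Subgroup G, A ≤ V → V ≠ ⊤ → (A.subgroupOf V).IsSubnormal)
    (hA : ¬ A.IsSubnormal) :
    ∃ M : Subgroup G, IsCoatom M ∧ A ≤ M ∧ ∀ V : Subgroup G, A ≤ V → V ≠ ⊤ → V ≤ M := by
  obtain ⟨d, hd⟩ : ∃ d, A.index = d := ⟨_, rfl⟩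
  induction d using Nat.strong_induction_on generalizing A with
  | _ d ih =>
    subst hd
    have hN : normalizer (A : Set G) ≠ ⊤ := fun he => hA (normalizer_eq_top_iff.1 he).isSubnormal
    obtain ⟨M, hM, hNM⟩ := (eq_top_or_exists_le_coatom _).resolve_left hN
    refine ⟨M, hM, le_normalizer.trans hNM, fun V hAV hV => ?_⟩
    obtain ⟨K, hK, hVK⟩ := (eq_top_or_exists_le_coatom V).resolve_left hV
    have hAK : A ≤ K := hAV.trans hVK
    by_cases hKN : K ≤ normalizer (A : Set G)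
    · exact hVK.trans (hKN.trans hNM)
    obtain ⟨m, f, hf, hfn, hf0, hfm⟩ := (h K hAK hK.1).exists_chain
    set g : ℕ → Subgroup G := fun i => (f i).map K.subtype with hg
    have hg0 : g 0 = A := by rw [hg]; simp only; rw [hf0, map_subgroupOf_eq_of_le hAK]
    have hgm : g m = K := by
      rw [hg]; simp only; rw [hfm, ← MonoidHom.range_eq_map, range_subtype]
    have hgn : ∀ i, g (i + 1) ≤ normalizer (g i : Set G) := by
      intro i
      have h1 := (normal_subgroupOf_iff_le_normalizer (hf (Nat.le_succ i))).1 (hfn i)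
      exact (map_mono h1).trans (le_normalizer_map _)
    classical
    have hex : ∃ i, ¬ g i ≤ normalizer (A : Set G) := ⟨m, hgm ▸ hKN⟩
    obtain ⟨x, hx, hxA⟩ := SetLike.not_le_iff_exists.1 (Nat.find_spec hex)
    have h0 : Nat.find hex ≠ 0 := fun he => by
      have := Nat.find_spec hex
      rw [he, hg0] at this
      exact this le_normalizer
    obtain ⟨j, hj⟩ := Nat.exists_eq_succ_of_ne_zero h0
    have hjN : g j ≤ normalizer (A : Set G) := not_not.1 (Nat.find_min hex (hj ▸ Nat.lt_succ_self j))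
    have hgA : A ≤ g j := hg0 ▸ map_mono (hf (Nat.zero_le j))
    rw [hj] at hx
    set B := MulAut.conj x • A with hB
    have hBj : B ≤ g j := by
      rw [hB, ← conj_smul_eq_iff_mem_normalizer.2 (hgn j hx)]
      exact pointwise_smul_le_pointwise_smul_iff.2 hgA
    set T := A ⊔ B with hT
    have hTj : T ≤ g j := sup_le hgA hBj
    have hAT : A < T := lt_of_le_of_ne le_sup_left fun he => hxA (conj_smul_eq_iff_mem_normalizer.1
      (eq_of_le_of_card_le ((le_sup_right : B ≤ T).trans he.ge) (card_conj_smul _ _).ge))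
    have hTn : ¬ T.IsSubnormal := fun hT' => hA (IsSubnormal.trans hAT.le
      (normal_subgroupOf_of_le_normalizer (hTj.trans hjN)).isSubnormal hT')
    have hsub : ∀ W : Subgroup G, T ≤ W → W ≠ ⊤ → (T.subgroupOf W).IsSubnormal := by
      intro W hTW hW
      have hAW : A ≤ W := hAT.le.trans hTW
      have hBW : B ≤ W := le_sup_right.trans hTW
      rw [hT, Subgroup.subgroupOf_sup hAW hBW]
      refine CfsgLib.SubnormalJoin.isSubnormal_sup (h W hAW hW) ?_
      have hW' : A ≤ MulAut.conj x⁻¹ • W := by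
        rw [← conj_smul_inv_smul x A]
        exact pointwise_smul_le_pointwise_smul_iff.2 hBW
      have hne : MulAut.conj x⁻¹ • W ≠ ⊤ := fun he => hW (eq_top_of_card_eq _ (by
        rw [← card_conj_smul x⁻¹ W, he, card_top]))
      have h1 := subgroupOf_conj_subnormal x (h _ hW' hne)
      rwa [← conj_smul_mul, mul_inv_cancel, map_one, one_smul] at h1
    obtain ⟨M', hM', -, huniq⟩ := ih _ (index_strictAnti hAT) T hsub hTn rfl
    have hKM' : K ≤ M' := huniq K (hTj.trans (map_subtype_le (f j))) hK.1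
    have hMM' : M ≤ M' := huniq M ((hTj.trans hjN).trans hNM) hM.1
    have e1 : M = M' := ((hM.le_iff.1 hMM').resolve_left hM'.1).symm
    exact hVK.trans (e1 ▸ hKM')

theorem criterion_aux (n : ℕ) : ∀ (G : Type u) [Group G] [Finite G], Nat.card G = n →
    ∀ A : Subgroup G, (∀ g : G, (A.subgroupOf (A ⊔ MulAut.conj g • A)).IsSubnormal) →
      A.IsSubnormal := by
  induction n using Nat.strong_induction_on with
  | _ n ih =>
    intro G _ _ hn A h
    by_contra hA
    have hprop : ∀ V : Subgroup G, A ≤ V → V ≠ ⊤ → (A.subgroupOf V).IsSubnormal := by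
      intro V hAV hV
      refine ih _ (hn ▸ card_lt_of_ne_top hV) V rfl _ fun g => ?_
      set T := A.subgroupOf V ⊔ MulAut.conj g • A.subgroupOf V
      have hTm : T.map V.subtype = A ⊔ MulAut.conj (g : G) • A := by
        rw [Subgroup.map_sup, conj_smul_map, map_subgroupOf_eq_of_le hAV]; rfl
      let φ : T →* ↥(A ⊔ MulAut.conj (g : G) • A) :=
        (V.subtype.comp T.subtype).codRestrict _ fun t => hTm.le (mem_map_of_mem _ t.2)
      exact (h (g : G)).comap φ
    obtain ⟨M, hM, hAM, hmax⟩ := zipper A hprop hA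
    have hall : ∀ g : G, MulAut.conj g • A ≤ M := by
      intro g
      refine le_sup_right.trans (hmax _ le_sup_left fun htop => hA ?_)
      let φ : G →* ↥(A ⊔ MulAut.conj g • A) :=
        (MonoidHom.id G).codRestrict _ fun x => htop.ge (mem_top x)
      exact (h g).comap φ
    set N := normalClosure (A : Set G) with hN
    have hNM : N ≤ M := by
      rw [hN, normalClosure, closure_le]
      intro z hz
      obtain ⟨a, ha, haz⟩ := Group.mem_conjugatesOfSet_iff.1 hz
      obtain ⟨c, rfl⟩ := isConj_iff.1 haz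
      exact hall c (by rw [mem_conj_smul]; simpa [mul_assoc] using ha)
    exact hA (IsSubnormal.trans le_normalClosure
      (hprop N le_normalClosure fun he => hM.1 (top_le_iff.1 (he ▸ hNM)))
      (normalClosure_normal.isSubnormal))

theorem zipper_family (A : Subgroup G) (U : Set (Subgroup G)) (hU : U.Nonempty)
    (S : Subgroup G → Set (Subgroup G))
    (hS : ∀ V B : Subgroup G, B ∈ S V ↔
      (∃ g : G, B = MulAut.conj g • A) ∧ B ≤ V ∧ (B.subgroupOf V).IsSubnormal)
    (h2 : ∀ V ∈ U, ∀ W ∈ U, ∀ B ∈ S W, B ≤ V → B ∈ S V)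
    (h3 : ∀ V ∈ U, ∀ W ∈ U, ∃ X ∈ U,
      normalizer ((sSup (S V ∩ S W) : Subgroup G) : Set G) ≤ X) :
    ∃ M ∈ U, ∀ V ∈ U, V ≤ M := by
  have hmaxi : ∀ X ∈ U, ∃ X', X ≤ X' ∧ Maximal (· ∈ U) X' :=
    fun X hX => Finite.exists_le_maximal hX
  have hconjS : ∀ V : Subgroup G, ∀ B ∈ S V, ∀ v ∈ V, MulAut.conj v • B ∈ S V := by
    intro V B hB v hv
    obtain ⟨⟨g, rfl⟩, hBV, hsn⟩ := (hS V B).1 hB
    refine (hS V _).2 ⟨⟨v * g, (conj_smul_mul v g A).symm⟩, ?_, ?_⟩
    · rw [← conj_smul_self_of_mem hv]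
      exact pointwise_smul_le_pointwise_smul_iff.2 hBV
    · have h1 := subgroupOf_conj_subnormal v hsn
      rwa [conj_smul_self_of_mem hv] at h1
  suffices huniq : ∀ V W, Maximal (· ∈ U) V → Maximal (· ∈ U) W → V = W by
    obtain ⟨V, hV⟩ := hU
    obtain ⟨M, -, hM⟩ := hmaxi V hV
    refine ⟨M, hM.prop, fun W hW => ?_⟩
    obtain ⟨W', hWW', hW'⟩ := hmaxi W hW
    rwa [huniq W' M hW' hM] at hWW'
  by_contra hcon
  push Not at hcon
  obtain ⟨V₀, W₀, hV₀, hW₀, hne₀⟩ := hcon
  obtain ⟨T, hTmax⟩ := (Set.toFinite {T : Set (Subgroup G) | ∃ V W, Maximal (· ∈ U) V ∧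
    Maximal (· ∈ U) W ∧ V ≠ W ∧ T = S V ∩ S W}).exists_maximal ⟨_, V₀, W₀, hV₀, hW₀, hne₀, rfl⟩
  obtain ⟨V, W, hV, hW, hne, rfl⟩ := hTmax.prop
  obtain ⟨X, hX, hNX⟩ := h3 V hV.prop W hW.prop
  obtain ⟨X', hXX', hX'⟩ := hmaxi X hX
  have hNX' := hNX.trans hXX'
  have side : ∀ Y, Maximal (· ∈ U) Y → S V ∩ S W ⊆ S Y → Y = X' := by
    intro Y hY hsub
    by_contra hYX
    by_cases he : S V ∩ S W = S Y
    · refine hYX (le_antisymm ?_ (hY.2 hX'.prop ?_)) <;>
      · refine le_trans ?_ hNX'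
        intro y hy
        rw [← conj_smul_eq_iff_mem_normalizer]
        refine eq_of_le_of_card_le ?_ (card_conj_smul _ _).ge
        rw [conj_smul_sSup, he]
        refine sSup_le ?_
        rintro _ ⟨B, hB, rfl⟩
        exact le_sSup (hconjS Y B hB y hy)
    obtain ⟨B, hB, hB', hBN⟩ := normalizes_join Y (S Y) (S V ∩ S W)
      (fun B hB => ((hS Y B).1 hB).2) (hconjS Y) (ssubset_of_subset_of_ne hsub he)
    have hBX' : B ∈ S X' := h2 X' hX'.prop Y hY.prop B hB (hBN.trans hNX')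
    have hsub' : S V ∩ S W ⊆ S Y ∩ S X' := fun C hC => ⟨hsub hC,
      h2 X' hX'.prop V hV.prop C hC.1 ((le_sSup hC).trans (le_normalizer.trans hNX'))⟩
    exact hB' (hTmax.2 (y := S Y ∩ S X') ⟨Y, X', hY, hX', hYX, rfl⟩ hsub' ⟨hB, hBX'⟩)
  exact hne ((side V hV Set.inter_subset_left).trans (side W hW Set.inter_subset_right).symm)

/-- Matsuyama's lemma. -/
theorem matsuyama {p : ℕ} [Fact p.Prime] (Z Y : Subgroup G)
    (h : ∀ g : G, IsPGroup p ↥(⨆ y ∈ Y, MulAut.conj (y * g) • Z)) :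
    ∃ P : Sylow p G, Y ≤ normalizer ((⨆ g ∈ {g : G | MulAut.conj g • Z ≤ (P : Subgroup G)},
      MulAut.conj g • Z : Subgroup G) : Set G) := by
  let gen : Subgroup G → Subgroup G := fun W =>
    ⨆ g ∈ {g : G | MulAut.conj g • Z ≤ W}, MulAut.conj g • Z
  obtain ⟨W, hWmax⟩ := (Set.toFinite {W : Subgroup G | IsPGroup p W ∧
    Y ≤ normalizer (W : Set G) ∧ gen W = W}).exists_maximal (by
      exact ⟨⊥, IsPGroup.of_bot, fun y _ => by rw [normalizer_eq_top]; trivial,
        le_antisymm (iSup₂_le fun g hg => hg) bot_le⟩)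
  obtain ⟨hWp, hYW, hgen⟩ := hWmax.prop
  obtain ⟨P, hP⟩ := hWp.exists_le_sylow
  refine ⟨P, ?_⟩
  suffices he : gen P = W by
    show Y ≤ normalizer ((gen P : Subgroup G) : Set G)
    rw [he]; exact hYW
  refine le_antisymm ?_ (hgen.ge.trans (iSup₂_le fun g hg => le_iSup₂_of_le g (le_trans hg hP) le_rfl))
  by_contra hle
  set S : Set (Subgroup G) := {B | (∃ g : G, B = MulAut.conj g • Z) ∧ B ≤ P} with hS
  set S₀ : Set (Subgroup G) := {B ∈ S | B ≤ W} with hS₀
  have hsup : sSup S₀ = W := by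
    refine le_antisymm (sSup_le fun B hB => hB.2) (hgen.ge.trans (iSup₂_le fun g hg => ?_))
    exact le_sSup ⟨⟨⟨g, rfl⟩, le_trans hg hP⟩, hg⟩
  have hlt : S₀ ⊂ S := by
    refine ssubset_of_subset_of_ne (fun B hB => hB.1) fun he => hle (iSup₂_le fun g hg => ?_)
    have : MulAut.conj g • Z ∈ S₀ := he ▸ ⟨⟨g, rfl⟩, hg⟩
    exact this.2
  obtain ⟨X, ⟨⟨g, rfl⟩, hXP⟩, hX₀, hXN⟩ := normalizes_join (P : Subgroup G) S S₀
    (fun B hB => ⟨hB.2, by
      have hnil := P.2.isNilpotent
      generalize B.subgroupOf (P : Subgroup G) = H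
      induction hi : H.index using Nat.strong_induction_on generalizing H with
      | _ i ih =>
        subst hi
        by_cases hH : H = ⊤
        · subst hH; exact IsSubnormal.top
        have hlt := Group.normalizerCondition_of_isNilpotent H (lt_top_iff_ne_top.2 hH)
        exact IsSubnormal.step H _ hlt.le (ih _ (index_strictAnti hlt) _ rfl)
          (normal_subgroupOf_of_le_normalizer le_rfl)⟩)
    (fun B ⟨⟨a, ha⟩, hBP⟩ x hx => ⟨⟨x * a, by rw [ha, conj_smul_mul]⟩, by
      rw [← conj_smul_self_of_mem hx]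
      exact pointwise_smul_le_pointwise_smul_iff.2 hBP⟩) hlt
  rw [hsup] at hXN
  set V := ⨆ y ∈ Y, MulAut.conj (y * g) • Z with hV
  have hVN : V ≤ normalizer (W : Set G) := by
    refine iSup₂_le fun y hy => ?_
    rw [conj_smul_mul, ← conj_smul_self_of_mem (hYW hy)]
    exact pointwise_smul_le_pointwise_smul_iff.2 hXN
  have hYV : Y ≤ normalizer (V : Set G) := by
    intro y hy
    rw [← conj_smul_eq_iff_mem_normalizer]
    refine eq_of_le_of_card_le ?_ (card_conj_smul _ _).ge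
    rw [hV, conj_smul_eq_map, Subgroup.map_iSup]
    refine iSup_le fun z => ?_
    rw [Subgroup.map_iSup]
    refine iSup_le fun hz => ?_
    rw [← conj_smul_eq_map, ← conj_smul_mul, ← mul_assoc]
    exact le_iSup₂_of_le (y * z) (mul_mem hy hz) le_rfl
  have hpV : IsPGroup p ↥(V ⊔ W) := (h g).to_sup_of_normal_right' hWp hVN
  have hmem : V ⊔ W ∈ {W : Subgroup G | IsPGroup p W ∧ Y ≤ normalizer (W : Set G) ∧ gen W = W} := by
    refine ⟨hpV, fun y hy => ?_, le_antisymm (iSup₂_le fun a ha => ha) (sup_le ?_ ?_)⟩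
    · rw [← conj_smul_eq_iff_mem_normalizer, Subgroup.smul_sup,
        conj_smul_eq_iff_mem_normalizer.2 (hYV hy), conj_smul_eq_iff_mem_normalizer.2 (hYW hy)]
    · refine iSup₂_le fun y hy => le_iSup₂_of_le (y * g) ?_ le_rfl
      have h2 : MulAut.conj (y * g) • Z ≤ V := le_iSup₂_of_le y hy le_rfl
      exact h2.trans le_sup_left
    · refine hgen.ge.trans (iSup₂_le fun a ha => le_iSup₂_of_le a ?_ le_rfl)
      have h2 : MulAut.conj a • Z ≤ W := ha
      exact h2.trans le_sup_right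
  apply hX₀
  refine ⟨⟨⟨g, rfl⟩, hXP⟩, ?_⟩
  have h1 : MulAut.conj g • Z ≤ V := by
    rw [hV]
    exact le_iSup₂_of_le 1 (one_mem Y) (by rw [one_mul])
  exact (h1.trans le_sup_left).trans (hWmax.2 hmem le_sup_right)

end CfsgLib.Zipper
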