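import Mathlib.GroupTheory.SpecificGroups.Cyclic
import Cfsg.Agent.Solvable.CoprimeAbelian
import Cfsg.Agent.Solvable.CoprimeIndex

/-!
A coprime action whose fixed point subgroup has prime index `p`: then `|[K, A]| = p`.
-/

set_option autoImplicit false
set_option linter.style.haveILetI false
set_option linter.deprecated false
set_option linter.unusedSectionVars false

namespace CfsgLib.CoprimeAct

open Subgroup Pointwise CfsgLib.Solvable CfsgLib.SZ
open scoped commutatorElement

variable {G : Type*} [Group G] [Finite G]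

theorem relIndex_fixed_commutator {A K : Subgroup G} (hAK : A ≤ normalizer (K : Set G))
    (hcop : (Nat.card A).Coprime (Nat.card K)) (hsolv : Group.IsSolvable A ∨ Group.IsSolvable K) :
    (⁅K, A⁆ ⊓ centralizer (A : Set G)).relIndex ⁅K, A⁆ =
      (K ⊓ centralizer (A : Set G)).relIndex K := by
  set D := ⁅K, A⁆
  set C := K ⊓ centralizer (A : Set G)
  have hDK : D ≤ K := le_normalizer_iff_commutator_le_left.1 hAK
  have hCD : C ⊓ D = D ⊓ centralizer (A : Set G) := by
    rw [inf_comm, ← inf_assoc, inf_eq_left.2 hDK]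
  have hsup : C ⊔ D = K := by rw [sup_comm]; exact commutator_sup_centralizer hAK hcop hsolv
  have h := card_sup_mul_card_inf (A := C) (K := D)
    (inf_le_left.trans (normalizer_commutator_ge_left _ _))
  rw [hsup] at h
  have e1 : Nat.card C * C.relIndex K = Nat.card K := by
    rw [← relIndex_bot_left, ← relIndex_bot_left]
    exact relIndex_mul_relIndex ⊥ C K bot_le inf_le_left
  have e2 : Nat.card ↥(C ⊓ D) * (C ⊓ D).relIndex D = Nat.card D := by
    rw [← relIndex_bot_left, ← relIndex_bot_left]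
    exact relIndex_mul_relIndex ⊥ (C ⊓ D) D bot_le inf_le_right
  rw [← hCD]
  apply Nat.eq_of_mul_eq_mul_left (Nat.card_pos (α := ↥(C ⊓ D)))
  apply Nat.eq_of_mul_eq_mul_left (Nat.card_pos (α := C))
  rw [e2, ← h, ← e1]
  ring

theorem commutator_abelian_pgroup_aux {Q A : Subgroup G} {p : ℕ} [Fact p.Prime]
    (hQA : ⁅Q, A⁆ = Q) (hAQ : A ≤ normalizer (Q : Set G))
    (hcop : (Nat.card A).Coprime (Nat.card Q))
    (hQ : IsPGroup p Q) (hidx : (Q ⊓ centralizer (A : Set G)).relIndex Q = p) :
    Nat.card Q = p := by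
  set C := Q ⊓ centralizer (A : Set G)
  have hCQ : C ≤ Q := inf_le_left
  -- `C` is normal in `Q`, being of index `p` in a `p`-group
  have hnorm : Q ≤ normalizer (C : Set G) := by
    rw [← normal_subgroupOf_iff_le_normalizer hCQ]
    haveI : Group.IsNilpotent Q := hQ.isNilpotent
    have hne : C.subgroupOf Q ≠ ⊤ := fun h => by
      rw [subgroupOf_eq_top] at h
      rw [relIndex_eq_one.2 h] at hidx
      exact (Fact.out : p.Prime).one_lt.ne hidx
    rw [← normalizer_eq_top_iff]
    by_contra hN
    have hlt := Group.normalizerCondition_of_isNilpotent (G := Q) (C.subgroupOf Q) hne.lt_top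
    have h1 : (C.subgroupOf Q).relIndex (normalizer (C.subgroupOf Q : Set Q)) *
        (normalizer (C.subgroupOf Q : Set Q)).index = p :=
      (relIndex_mul_index hlt.le).trans hidx
    rcases (Nat.prime_mul_iff.1 (h1 ▸ (Fact.out : p.Prime))) with ⟨-, h⟩ | ⟨-, h⟩
    · exact hN (index_eq_one.1 h)
    · exact hlt.not_ge (relIndex_eq_one.1 h)
  -- `C` centralizes `Q = [Q, A]`
  have hcent : Q ≤ centralizer (C : Set G) := by
    nth_rw 1 [← hQA]
    rw [commutator_le]
    intro x hx a ha
    refine mem_centralizer_iff.2 fun c hc => ?_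
    have hc' : x⁻¹ * c * x ∈ C := (mem_normalizer_iff''.1 (hnorm hx) c).1 hc
    have h1 : a * (x⁻¹ * c * x) = x⁻¹ * c * x * a := mem_centralizer_iff.1 hc'.2 a ha
    have h2 : a * c = c * a := mem_centralizer_iff.1 hc.2 a ha
    show c * ⁅x, a⁆ = ⁅x, a⁆ * c
    calc c * ⁅x, a⁆ = x * (x⁻¹ * c * x * a) * x⁻¹ * a⁻¹ := by
          simp [commutatorElement_def, mul_assoc]
      _ = x * (a * (x⁻¹ * c * x)) * x⁻¹ * a⁻¹ := by rw [h1]
      _ = x * a * x⁻¹ * (c * a⁻¹) := by group
      _ = x * a * x⁻¹ * (a⁻¹ * (a * c) * a⁻¹) := by group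
      _ = x * a * x⁻¹ * (a⁻¹ * (c * a) * a⁻¹) := by rw [h2]
      _ = ⁅x, a⁆ * c := by simp [commutatorElement_def, mul_assoc]
  -- `Q` is abelian
  have hcyc : IsMulCommutative Q := by
    rw [← le_centralizer_iff_isMulCommutative]
    obtain ⟨q, hqQ, hqC⟩ := SetLike.exists_of_lt (lt_of_le_of_ne hCQ fun h => by
      rw [relIndex_eq_one.2 h.ge] at hidx
      exact (Fact.out : p.Prime).one_lt.ne hidx)
    have hdvd : (C ⊔ zpowers q).relIndex Q ∣ p := hidx ▸ relIndex_dvd_of_le_left Q le_sup_left
    have htop : Q ≤ C ⊔ zpowers q := by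
      rcases (Nat.dvd_prime Fact.out).1 hdvd with h | h
      · exact relIndex_eq_one.1 h
      · exfalso
        have h1 := relIndex_mul_relIndex C (C ⊔ zpowers q) Q le_sup_left
          (sup_le hCQ (zpowers_le.2 hqQ))
        rw [h, hidx] at h1
        have h2 : C.relIndex (C ⊔ zpowers q) = 1 :=
          (Nat.mul_eq_right (Fact.out : p.Prime).ne_zero).1 h1
        exact hqC (relIndex_eq_one.1 h2 (mem_sup_right (mem_zpowers q)))
    intro x hx
    refine mem_centralizer_iff.2 fun y hy => ?_
    have hle : C ⊔ zpowers q ≤ centralizer ((C ⊔ zpowers q : Subgroup G) : Set G) := by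
      rw [sup_le_iff]
      refine ⟨?_, ?_⟩
      · exact le_centralizer_iff.1 ((sup_le hCQ (zpowers_le.2 hqQ)).trans hcent)
      · rw [le_centralizer_iff, sup_le_iff]
        refine ⟨le_centralizer_iff.1 ((zpowers_le.2 hqQ).trans hcent), ?_⟩
        exact le_centralizer_iff_isMulCommutative.2 inferInstance
    exact mem_centralizer_iff.1 (hle (htop hx)) y (htop hy)
  have hbot := fixed_inf_commutator_abelian hAQ hcop
  rw [hQA, inf_eq_left.2 inf_le_left] at hbot
  rw [show C = ⊥ from hbot, relIndex_bot_left] at hidx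
  exact hidx

theorem card_commutator_of_index_prime {A K : Subgroup G} (hAK : A ≤ normalizer (K : Set G))
    (hcop : (Nat.card A).Coprime (Nat.card K)) (hsolv : Group.IsSolvable A ∨ Group.IsSolvable K)
    {p : ℕ} (hp : p.Prime) (hidx : (K ⊓ centralizer (A : Set G)).relIndex K = p) :
    Nat.card (⁅K, A⁆ : Subgroup G) = p := by
  haveI := Fact.mk hp
  set D := ⁅K, A⁆
  have hDK : D ≤ K := le_normalizer_iff_commutator_le_left.1 hAK
  have hAD : A ≤ normalizer (D : Set G) := normalizer_commutator_ge_right _ _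
  have hcopD : (Nat.card A).Coprime (Nat.card D) := hcop.coprime_dvd_right (card_dvd_of_le hDK)
  have hsD := solvable_or hDK hsolv
  have hDA : ⁅D, A⁆ = D := commutator_commutator hAK hcop hsolv
  set C := D ⊓ centralizer (A : Set G)
  have hidxD : C.relIndex D = p := (relIndex_fixed_commutator hAK hcop hsolv).trans hidx
  have hCA : A ≤ centralizer (C : Set G) := le_centralizer_iff.1 inf_le_right
  -- all Sylow `p`-subgroups of `D` are `C`-conjugate to an invariant one
  obtain ⟨P, hP⟩ := exists_invariant_sylow hAD hcopD hsD p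
  set P' := (P : Subgroup D).map D.subtype
  have hPD : P' ≤ D := map_subtype_le _
  have hP'C : ¬ P' ≤ C := fun h => by
    have h1 : p ∣ (P : Subgroup D).index := by
      have h2 : C.relIndex D ∣ P'.relIndex D := relIndex_dvd_of_le_left D h
      rw [hidxD] at h2
      rw [show (P : Subgroup D) = P'.subgroupOf D from
        (comap_map_eq_self_of_injective D.subtype_injective _).symm]
      exact h2
    exact P.not_dvd_index h1
  obtain ⟨x, hxP, hxC⟩ := SetLike.not_le_iff_exists.1 hP'C
  -- `D = C P'`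
  have hmul : ∀ d ∈ D, ∃ y ∈ P', ∃ c ∈ C, d = c * y := by
    have hfac : ∀ g : D, ∃ c ∈ (C.subgroupOf D), ∃ y ∈ (P : Subgroup D), g = c * y := by
      intro g
      have hPidx : ¬ p ∣ (P : Subgroup D).index := P.not_dvd_index
      exact CfsgLib.CoprimeIndex.exists_mul_eq
        (by rw [show (C.subgroupOf D).index = p from hidxD]; exact hp.coprime_iff_not_dvd.2 hPidx) g
    intro d hd
    obtain ⟨c, hc, y, hy, he⟩ := hfac ⟨d, hd⟩
    exact ⟨y, mem_map_of_mem _ hy, c, hc, congr_arg Subtype.val he⟩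
  -- every generator of `D` normalizes `P'`
  have hgen : ∀ d ∈ D, MulAut.conj d • P' = MulAut.conj d • P' ∧
      ∀ a ∈ A, MulAut.conj a • MulAut.conj d • P' = MulAut.conj d • P' := by
    intro d hd
    refine ⟨rfl, fun a ha => ?_⟩
    obtain ⟨y, hy, c, hc, rfl⟩ := hmul d hd
    rw [conj_smul_mul, conj_smul_self_of_mem hy, ← conj_smul_mul,
      show a * c = c * a from (mem_centralizer_iff.1 (hCA ha) c hc).symm, conj_smul_mul,
      conj_smul_eq_iff_mem_normalizer.2 (hP ha)]
  have hDn : D ≤ normalizer (P' : Set G) := by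
    conv_lhs => rw [← hDA]
    rw [commutator_le]
    intro d hd a ha
    rw [← conj_smul_eq_iff_mem_normalizer,
      show ⁅d, a⁆ = d * (a * d⁻¹ * a⁻¹) by simp [commutatorElement_def, mul_assoc],
      conj_smul_mul, conj_smul_mul, conj_smul_mul,
      conj_smul_eq_iff_mem_normalizer.2 (inv_mem (hP ha)),
      (hgen d⁻¹ (inv_mem hd)).2 a ha, ← conj_smul_mul, mul_inv_cancel, map_one, one_smul]
  -- `D = [P', A]`
  set Q := ⁅P', A⁆
  have hQP : Q ≤ P' := le_normalizer_iff_commutator_le_left.1 hP
  have hcopP : (Nat.card A).Coprime (Nat.card P') := hcopD.coprime_dvd_right (card_dvd_of_le hPD)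
  have hCQ : C ≤ normalizer (Q : Set G) := by
    intro c hc
    rw [← conj_smul_eq_iff_mem_normalizer, conj_smul_eq_map, map_commutator, ← conj_smul_eq_map,
      ← conj_smul_eq_map, conj_smul_eq_iff_mem_normalizer.2 (hDn hc.1)]
    congr 1
    exact conj_smul_eq_iff_mem_normalizer.2 (centralizer_le_normalizer _ hc.2)
  have hDQ : D = Q := by
    refine le_antisymm ?_ (hQP.trans hPD)
    conv_lhs => rw [← hDA]
    rw [commutator_le]
    intro d hd a ha
    obtain ⟨y, hy, c, hc, rfl⟩ := hmul d hd
    rw [commutatorElement_mul_left_eq_conj_mul,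
      show ⁅c, a⁆ = 1 from commutatorElement_eq_one_iff_mul_comm.2
        ((mem_centralizer_iff.1 (hCA ha) c hc)), mul_one]
    exact (mem_normalizer_iff.1 (hCQ hc) _).1 (commutator_mem_commutator hy ha)
  exact commutator_abelian_pgroup_aux (Q := D) hDA hAD hcopD
    ((P.2.map D.subtype).to_le (hDQ.le.trans hQP)) hidxD

end CfsgLib.CoprimeAct
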