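import Cfsg.Agent.Solvable.Basics
import Cfsg.Prelude.Def_SolvableStructure
import Mathlib.GroupTheory.SpecificGroups.Cyclic
import Mathlib.GroupTheory.SchurZassenhaus
import Mathlib.Logic.Relation

/-!
Supersolvable groups: closure properties, chief factors, subgroups of every order.
-/

set_option autoImplicit false
set_option linter.style.haveILetI false
set_option linter.deprecated false
set_option linter.unusedSectionVars false

namespace CfsgLib.Supersolvable

open Subgroup Relation CfsgLib.Solvable
open scoped commutatorElement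

universe u v

/-- A cyclic normal step. -/
def Step {G : Type u} [Group G] (a b : Subgroup G) : Prop :=
  a.Normal ∧ b.Normal ∧ ∃ g : G, b = a ⊔ zpowers g

section Chains

variable {G : Type u} [Group G]

theorem iff_chain : Cfsg.IsSupersolvable G ↔ ReflTransGen Step (⊥ : Subgroup G) ⊤ := by
  refine ⟨?_, fun h => ?_⟩
  · rintro ⟨n, H, h0, hl, hn, hst⟩
    have : ∀ i : Fin (n + 1), ReflTransGen Step (⊥ : Subgroup G) (H i) := by
      refine Fin.induction ?_ fun i ih => ?_
      · rw [h0]
      · exact ih.tail ⟨hn _, hn _, hst i⟩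
    exact hl ▸ this (Fin.last n)
  · suffices ∀ b : Subgroup G, ReflTransGen Step (⊥ : Subgroup G) b →
        ∃ (n : ℕ) (H : Fin (n + 1) → Subgroup G), H 0 = ⊥ ∧ H (Fin.last n) = b ∧
          (∀ i, (H i).Normal) ∧ ∀ i : Fin n, ∃ g : G, H i.succ = H i.castSucc ⊔ zpowers g from
      this ⊤ h
    intro b h
    induction h with
    | refl => exact ⟨0, fun _ => ⊥, rfl, rfl, fun _ => inferInstance, fun i => i.elim0⟩
    | @tail b c _ hs ih =>
      obtain ⟨n, H, h0, hl, hn, hst⟩ := ih
      refine ⟨n + 1, Fin.snoc H c, ?_, Fin.snoc_last _ _, ?_, ?_⟩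
      · rw [← Fin.castSucc_zero, Fin.snoc_castSucc, h0]
      · refine Fin.lastCases ?_ (fun i => ?_)
        · rw [Fin.snoc_last]; exact hs.2.1
        · rw [Fin.snoc_castSucc]; exact hn i
      · refine Fin.lastCases ?_ (fun i => ?_)
        · rw [Fin.succ_last, Fin.snoc_last, Fin.snoc_castSucc, hl]; exact hs.2.2
        · rw [Fin.succ_castSucc, Fin.snoc_castSucc, Fin.snoc_castSucc]; exact hst i

theorem chain_map {G' : Type v} [Group G'] (f : G →* G') (hf : Function.Surjective f)
    {a b : Subgroup G} (h : ReflTransGen Step a b) : ReflTransGen Step (a.map f) (b.map f) := by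
  induction h with
  | refl => exact ReflTransGen.refl
  | tail _ hs ih =>
    obtain ⟨h1, h2, g, hg⟩ := hs
    exact ih.tail ⟨h1.map f hf, h2.map f hf, f g, by rw [hg, Subgroup.map_sup, MonoidHom.map_zpowers]⟩

theorem chain_comap {G' : Type v} [Group G'] (f : G →* G') (hf : Function.Surjective f)
    {a b : Subgroup G'} (h : ReflTransGen Step a b) : ReflTransGen Step (a.comap f) (b.comap f) := by
  induction h with
  | refl => exact ReflTransGen.refl
  | @tail b c _ hs ih =>
    obtain ⟨h1, h2, g, hg⟩ := hs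
    obtain ⟨g, rfl⟩ := hf g
    refine ih.tail ⟨h1.comap f, h2.comap f, g, ?_⟩
    rw [hg, ← MonoidHom.map_zpowers]
    conv_lhs => rw [← map_comap_eq_self_of_surjective hf b, ← Subgroup.map_sup, comap_map_eq]
    exact sup_eq_left.2 ((MonoidHom.ker_le_comap f b).trans le_sup_left)

theorem of_surjective {G' : Type v} [Group G'] (f : G →* G') (hf : Function.Surjective f)
    (h : Cfsg.IsSupersolvable G) : Cfsg.IsSupersolvable G' := by
  rw [iff_chain] at h ⊢
  have := chain_map f hf h
  rwa [Subgroup.map_bot, map_top_of_surjective f hf] at this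

theorem quotient (h : Cfsg.IsSupersolvable G) (N : Subgroup G) [N.Normal] :
    Cfsg.IsSupersolvable (G ⧸ N) :=
  of_surjective _ (QuotientGroup.mk'_surjective N) h

theorem of_chain_below {N : Subgroup G} [N.Normal] (hN : ReflTransGen Step (⊥ : Subgroup G) N)
    (h : Cfsg.IsSupersolvable (G ⧸ N)) : Cfsg.IsSupersolvable G := by
  rw [iff_chain] at h ⊢
  have := chain_comap (QuotientGroup.mk' N) (QuotientGroup.mk'_surjective N) h
  rw [MonoidHom.comap_bot, QuotientGroup.ker_mk', comap_top] at this
  exact hN.trans this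

theorem of_cyclic_normal {N : Subgroup G} [hN : N.Normal] [IsCyclic N]
    (h : Cfsg.IsSupersolvable (G ⧸ N)) : Cfsg.IsSupersolvable G := by
  refine of_chain_below (ReflTransGen.single ⟨inferInstance, hN, ?_⟩) h
  obtain ⟨g, hg⟩ := IsCyclic.exists_generator (α := N)
  refine ⟨g, le_antisymm (fun x hx => ?_) (sup_le bot_le (zpowers_le.2 g.2))⟩
  obtain ⟨k, hk⟩ := mem_zpowers_iff.1 (hg ⟨x, hx⟩)
  exact mem_sup_right (mem_zpowers_iff.2 ⟨k, by simpa using congrArg Subtype.val hk⟩)

theorem of_subsingleton [Subsingleton G] : Cfsg.IsSupersolvable G := by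
  rw [iff_chain, Subsingleton.elim (⊤ : Subgroup G) ⊥]

theorem subgroup (h : Cfsg.IsSupersolvable G) (H : Subgroup G) : Cfsg.IsSupersolvable H := by
  rw [iff_chain] at h ⊢
  suffices ∀ b : Subgroup G, ReflTransGen Step (⊥ : Subgroup G) b →
      ReflTransGen Step (⊥ : Subgroup H) (b.subgroupOf H) by
    have := this ⊤ h
    rwa [top_subgroupOf] at this
  intro b h
  induction h with
  | refl => rw [bot_subgroupOf]
  | @tail b c _ hs ih =>
    obtain ⟨h1, h2, g, hg⟩ := hs
    haveI := h1
    haveI := h2
    set f := (QuotientGroup.mk' b).comp H.subtype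
    have hle : (c.subgroupOf H).map f ≤ zpowers (QuotientGroup.mk' b g) := by
      rintro _ ⟨x, hx, rfl⟩
      have hx' : (x : G) ∈ b ⊔ zpowers g := hg ▸ hx
      obtain ⟨y, hy, z, hz, e⟩ := mem_sup_of_normal_left.1 hx'
      show QuotientGroup.mk' b (x : G) ∈ _
      rw [← e, map_mul, show QuotientGroup.mk' b y = 1 from (QuotientGroup.eq_one_iff y).2 hy, one_mul,
        ← MonoidHom.map_zpowers]
      exact mem_map_of_mem _ hz
    haveI : IsCyclic ((c.subgroupOf H).map f) :=
      isCyclic_of_injective (Subgroup.inclusion hle) (Subgroup.inclusion_injective hle)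
    obtain ⟨⟨-, y, hy, rfl⟩, hgen⟩ := IsCyclic.exists_generator (α := (c.subgroupOf H).map f)
    refine ih.tail ⟨inferInstance, inferInstance, y, le_antisymm (fun x hx => ?_)
      (sup_le ?_ (zpowers_le.2 hy))⟩
    · obtain ⟨k, hk⟩ := mem_zpowers_iff.1 (hgen ⟨f x, mem_map_of_mem _ hx⟩)
      have hk' : f (y ^ k) = f x := by
        rw [map_zpow]; exact congrArg Subtype.val hk
      have hb : (y ^ k)⁻¹ * x ∈ b.subgroupOf H := by
        rw [mem_subgroupOf, Subgroup.coe_mul, Subgroup.coe_inv, ← QuotientGroup.eq]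
        exact hk'
      have := mul_mem (mem_sup_right (zpow_mem (mem_zpowers y) k) :
        y ^ k ∈ b.subgroupOf H ⊔ zpowers y) (mem_sup_left hb)
      rwa [mul_inv_cancel_left] at this
    · exact fun x hx => mem_subgroupOf.2 (hg.ge (mem_sup_left (mem_subgroupOf.1 hx)))

theorem of_injective {G' : Type v} [Group G'] (f : G' →* G) (hf : Function.Injective f)
    (h : Cfsg.IsSupersolvable G) : Cfsg.IsSupersolvable G' :=
  of_surjective (MonoidHom.ofInjective hf).symm.toMonoidHom (MonoidHom.ofInjective hf).symm.surjective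
    (subgroup h f.range)

theorem prod {H : Type v} [Group H] (hG : Cfsg.IsSupersolvable G) (hH : Cfsg.IsSupersolvable H) :
    Cfsg.IsSupersolvable (G × H) := by
  let i := MonoidHom.inl G H
  haveI : i.range.Normal := by
    rw [show i.range = (MonoidHom.snd G H).ker by
      ext ⟨x, y⟩
      simp [i, Prod.ext_iff, Subgroup.mem_prod, eq_comm]]
    infer_instance
  refine of_chain_below (N := i.range) ?_ (of_surjective
    ((QuotientGroup.mk' i.range).comp (MonoidHom.inr G H)) ?_ hH)
  · rw [iff_chain] at hG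
    suffices ∀ b : Subgroup G, ReflTransGen Step (⊥ : Subgroup G) b →
        ReflTransGen Step (⊥ : Subgroup (G × H)) (b.map i) by
      have := this ⊤ hG
      rwa [← MonoidHom.range_eq_map] at this
    intro b h
    have hn : ∀ c : Subgroup G, c.Normal → (c.map i).Normal := fun c hc => by
      haveI := hc
      rw [show c.map i = c.prod ⊥ by
        ext ⟨x, y⟩
        simp [i, Subgroup.mem_prod, Prod.ext_iff, eq_comm]]
      infer_instance
    induction h with
    | refl => rw [Subgroup.map_bot]
    | @tail b c _ hs ih =>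
      obtain ⟨h1, h2, g, hg⟩ := hs
      exact ih.tail ⟨hn b h1, hn c h2, i g, by rw [hg, Subgroup.map_sup, MonoidHom.map_zpowers]⟩
  · intro z
    obtain ⟨⟨x, y⟩, rfl⟩ := QuotientGroup.mk'_surjective i.range z
    refine ⟨y, QuotientGroup.eq.2 ⟨x, ?_⟩⟩
    simp [i]

end Chains

variable {G : Type u} [Group G]

theorem exists_prime_normal [Finite G] [Nontrivial G] (h : Cfsg.IsSupersolvable G) :
    ∃ N : Subgroup G, N.Normal ∧ (Nat.card N).Prime := by
  obtain ⟨m, H, h0, hl, hnorm, hstep⟩ := h
  obtain ⟨i, hi, g, hg⟩ : ∃ i : Fin m, H i.succ ≠ ⊥ ∧ ∃ g : G, H i.succ = zpowers g := by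
    by_contra! hcon
    have hall : ∀ j : Fin (m + 1), H j = ⊥ := fun j => by
      induction j using Fin.induction with
      | zero => exact h0
      | succ i ihi =>
        by_contra hne
        obtain ⟨g, hg⟩ := hstep i
        exact hcon i hne g (by rw [hg, ihi, bot_sup_eq])
    exact top_ne_bot (hl ▸ hall (Fin.last m))
  have hg1 : g ≠ 1 := fun h => hi (by rw [hg, h, zpowers_one_eq_bot])
  obtain ⟨p, hp, hpd⟩ := Nat.exists_prime_and_dvd (n := orderOf g) (by simpa using hg1)
  set x := g ^ (orderOf g / p)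
  have hx : orderOf x = p := orderOf_pow_orderOf_div (orderOf_pos g).ne' hpd
  refine ⟨zpowers x, ⟨fun y hy c => ?_⟩, by rw [Nat.card_zpowers, hx]; exact hp⟩
  obtain ⟨t, ht⟩ := mem_zpowers_iff.1 (hg ▸ (hnorm i.succ).conj_mem g (hg ▸ mem_zpowers g) c)
  obtain ⟨l, rfl⟩ := mem_zpowers_iff.1 hy
  refine mem_zpowers_iff.2 ⟨t * l, ?_⟩
  rw [← conj_zpow, zpow_mul]
  congr 1
  simp only [x]
  rw [← zpow_natCast g, ← zpow_mul, ← conj_zpow, ← ht, ← zpow_mul]
  congr 1
  ring

theorem card_quotient_eq [Finite G] (N : Subgroup G) [N.Normal] :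
    Nat.card N * Nat.card (G ⧸ N) = Nat.card G := by
  rw [← index_eq_card, card_mul_index]

/-- Induction along a normal subgroup of prime order. -/
theorem induction_prime (P : ∀ (G : Type u) [Group G] [Finite G], Prop)
    (base : ∀ (G : Type u) [Group G] [Finite G], Subsingleton G → P G)
    (step : ∀ (G : Type u) [Group G] [Finite G] (N : Subgroup G) [N.Normal], (Nat.card N).Prime →
      Cfsg.IsSupersolvable G → P (G ⧸ N) → P G)
    (G : Type u) [Group G] [Finite G] (h : Cfsg.IsSupersolvable G) : P G := by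
  suffices ∀ (n : ℕ) (G : Type u) [Group G] [Finite G], Nat.card G = n →
      Cfsg.IsSupersolvable G → P G from this _ G rfl h
  intro n
  induction n using Nat.strongRecOn with | ind n ih => ?_
  rintro G _ _ rfl h
  rcases subsingleton_or_nontrivial G with h1 | h1
  · exact base G h1
  obtain ⟨N, hN, hp⟩ := exists_prime_normal h
  exact step G N hp h (ih _ (card_quotient_lt fun e => by
    rw [e, card_bot] at hp; exact Nat.not_prime_one hp) _ rfl (quotient h N))

theorem of_prime_normal {N : Subgroup G} [N.Normal] (hN : (Nat.card N).Prime)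
    (h : Cfsg.IsSupersolvable (G ⧸ N)) : Cfsg.IsSupersolvable G := by
  haveI := Fact.mk hN
  haveI : IsCyclic N := isCyclic_of_prime_card (p := Nat.card N) rfl
  exact of_cyclic_normal h

theorem isSolvable [Finite G] (h : Cfsg.IsSupersolvable G) : Group.IsSolvable G :=
  induction_prime (fun G _ _ => Group.IsSolvable G) (fun G _ _ _ => inferInstance)
    (fun G _ _ N _ hN _ hq => by
      haveI := Fact.mk hN
      haveI : IsCyclic N := isCyclic_of_prime_card (p := Nat.card N) rfl
      haveI := hq
      haveI : Group.IsSolvable N := Group.isSolvable_of_comm fun a b => by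
        obtain ⟨g, hg⟩ := IsCyclic.exists_generator (α := N)
        obtain ⟨i, rfl⟩ := mem_zpowers_iff.1 (hg a)
        obtain ⟨j, rfl⟩ := mem_zpowers_iff.1 (hg b)
        rw [← zpow_add, ← zpow_add, add_comm]
      exact Group.isSolvable_of_ker_le_range N.subtype (QuotientGroup.mk' N)
        (by rw [QuotientGroup.ker_mk', range_subtype])) G h

/-- A minimal normal subgroup of a supersolvable group has prime order. -/
theorem exists_prime_normal_le [Finite G] (h : Cfsg.IsSupersolvable G) :
    ∀ X : Subgroup G, X.Normal → X ≠ ⊥ → ∃ M : Subgroup G, M.Normal ∧ M ≤ X ∧ (Nat.card M).Prime := by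
  refine induction_prime (fun G _ _ => ∀ X : Subgroup G, X.Normal → X ≠ ⊥ →
    ∃ M : Subgroup G, M.Normal ∧ M ≤ X ∧ (Nat.card M).Prime) ?_ ?_ G h
  · intro G _ _ hs X _ hX
    exact absurd (Subsingleton.elim X ⊥) hX
  · intro G _ _ N hN hp _ ih X hX hX1
    haveI := hX
    by_cases hNX : N ≤ X
    · exact ⟨N, hN, hNX, hp⟩
    have hd : X ⊓ N = ⊥ := by
      refine eq_bot_of_card_eq _ ((hp.eq_one_or_self_of_dvd _ (card_dvd_of_le inf_le_right)).resolve_right
        fun e => hNX ?_)
      have := eq_of_le_of_card_le (inf_le_right : X ⊓ N ≤ N) e.ge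
      exact this ▸ inf_le_left
    set π := QuotientGroup.mk' N
    have hX' : X.map π ≠ ⊥ := fun e => hX1 (le_bot_iff.1 (hd ▸ le_inf le_rfl
      ((QuotientGroup.ker_mk' N) ▸ (Subgroup.map_eq_bot_iff X).1 e)))
    obtain ⟨M, hM, hMX, hMp⟩ := ih (X.map π) (hX.map π (QuotientGroup.mk'_surjective N)) hX'
    refine ⟨X ⊓ M.comap π, inferInstance, inf_le_left, ?_⟩
    rwa [Nat.card_eq_of_bijective (fun x : (X ⊓ M.comap π : Subgroup G) => (⟨π x, x.2.2⟩ : M))
      ⟨fun a b e => ?_, fun y => ?_⟩]
    · have h1 : (a : G)⁻¹ * (b : G) ∈ X ⊓ N := mem_inf.2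
        ⟨mul_mem (inv_mem a.2.1) b.2.1, QuotientGroup.eq.1 (congrArg Subtype.val e)⟩
      rw [hd, mem_bot, inv_mul_eq_one] at h1
      exact Subtype.ext h1
    · obtain ⟨x, hx, e⟩ := hMX y.2
      exact ⟨⟨x, hx, show π x ∈ M from e ▸ y.2⟩, Subtype.ext e⟩

theorem maximal_index_prime [Finite G] (h : Cfsg.IsSupersolvable G) :
    ∀ M : Subgroup G, IsCoatom M → M.index.Prime := by
  refine induction_prime (fun G _ _ => ∀ M : Subgroup G, IsCoatom M → M.index.Prime) ?_ ?_ G h
  · intro G _ _ hs M hM
    exact absurd (Subsingleton.elim M ⊤) hM.1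
  · intro G _ _ N hN hp _ ih M hM
    set π := QuotientGroup.mk' N
    have hsurj := QuotientGroup.mk'_surjective N
    by_cases hNM : N ≤ M
    · have hcm : (M.map π).comap π = M := by
        rw [comap_map_eq, QuotientGroup.ker_mk', sup_eq_left.2 hNM]
      rw [← hcm, index_comap_of_surjective _ hsurj]
      refine ih _ ⟨fun e => hM.1 (by rw [← hcm, e, comap_top]), fun X hX => ?_⟩
      rw [← map_comap_eq_self_of_surjective hsurj X,
        hM.2 _ (hcm.ge.trans_lt (lt_of_le_of_ne (comap_mono hX.le) fun e => hX.ne ?_)),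
        map_top_of_surjective _ hsurj]
      rw [← map_comap_eq_self_of_surjective hsurj X, ← e, map_comap_eq_self_of_surjective hsurj]
    · have htop : M ⊔ N = ⊤ := hM.2 _ (lt_of_le_of_ne le_sup_left fun e => hNM
        (le_of_le_of_eq le_sup_right e.symm))
      have hd : M ⊓ N = ⊥ := eq_bot_of_card_eq _
        ((hp.eq_one_or_self_of_dvd _ (card_dvd_of_le inf_le_right)).resolve_right fun e =>
          hNM (eq_of_le_of_card_le (inf_le_right : M ⊓ N ≤ N) e.ge ▸ inf_le_left))
      have := card_sup_of_disjoint (A := M) (K := N) (le_top.trans (normalizer_eq_top N).ge) hd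
      rw [htop, card_top, ← M.card_mul_index] at this
      rw [Nat.eq_of_mul_eq_mul_left Nat.card_pos this]
      exact hp

theorem subgroup_of_every_order [Finite G] (h : Cfsg.IsSupersolvable G) :
    Cfsg.HasSubgroupOfEveryOrder G := by
  refine induction_prime (fun G _ _ => Cfsg.HasSubgroupOfEveryOrder G) ?_ ?_ G h
  · intro G _ _ hs d hd
    rw [Nat.card_unique, Nat.dvd_one] at hd
    exact ⟨⊥, by rw [card_bot, hd]⟩
  · intro G _ _ N hN hp _ ih d hd
    set π := QuotientGroup.mk' N
    have hsurj := QuotientGroup.mk'_surjective N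
    have hcard : ∀ X : Subgroup (G ⧸ N),
        Nat.card (X.comap π) = Nat.card N * Nat.card X := fun X => by
      conv_rhs => rw [← map_comap_eq_self_of_surjective hsurj X, ← relIndex_ker,
        QuotientGroup.ker_mk']
      rw [← relIndex_bot_left, ← relIndex_bot_left]
      exact (relIndex_mul_relIndex ⊥ N _ bot_le
        ((QuotientGroup.ker_mk' N).ge.trans (π.ker_le_comap X))).symm
    rw [← card_quotient_eq N] at hd
    by_cases hpd : Nat.card N ∣ d
    · obtain ⟨e, rfl⟩ := hpd
      obtain ⟨X, hX⟩ := ih e (Nat.dvd_of_mul_dvd_mul_left hp.pos hd)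
      exact ⟨X.comap π, by rw [hcard, hX]⟩
    · have hco : d.Coprime (Nat.card N) := (hp.coprime_iff_not_dvd.2 hpd).symm
      obtain ⟨X, hX⟩ := ih d (hco.dvd_of_dvd_mul_left hd)
      set L := X.comap π
      have hNL : N ≤ L := (QuotientGroup.ker_mk' N).ge.trans (π.ker_le_comap X)
      have hidx : (N.subgroupOf L).index = d := by
        have h1 := (N.subgroupOf L).card_mul_index
        rw [Nat.card_congr (subgroupOfEquivOfLe hNL).toEquiv, hcard, hX] at h1
        exact Nat.eq_of_mul_eq_mul_left hp.pos h1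
      obtain ⟨B, hB⟩ := exists_right_complement'_of_coprime (N := N.subgroupOf L) (by
        rw [hidx, Nat.card_congr (subgroupOfEquivOfLe hNL).toEquiv]; exact hco.symm)
      exact ⟨B.map L.subtype, by
        rw [card_map_of_injective L.subtype_injective, ← hB.symm.index_eq_card, hidx]⟩

theorem commutator_nilpotent [Finite G] (h : Cfsg.IsSupersolvable G) :
    Group.IsNilpotent (commutator G) := by
  refine induction_prime (fun G _ _ => Group.IsNilpotent (commutator G)) ?_ ?_ G h
  · intro G _ _ hs
    infer_instance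
  · intro G _ _ N hN hp _ ih
    haveI := Fact.mk hp
    haveI : IsCyclic N := isCyclic_of_prime_card (p := Nat.card N) rfl
    set π := QuotientGroup.mk' N
    have hmap : (commutator G).map π ≤ commutator (G ⧸ N) := by
      rw [_root_.commutator_def, map_commutator, map_top_of_surjective _
        (QuotientGroup.mk'_surjective N)]
      rfl
    let f : commutator G →* commutator (G ⧸ N) :=
      (π.comp (commutator G).subtype).codRestrict _ fun x => hmap (mem_map_of_mem π x.2)
    have hcen : commutator G ≤ centralizer (N : Set G) := by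
      have hle : commutator G ≤ (MulAut.conjNormal : G →* MulAut N).ker := by
        rw [_root_.commutator_def, commutator_le]
        intro a _ b _
        rw [MonoidHom.mem_ker, map_commutatorElement]
        apply (IsCyclic.mulAutMulEquiv N).injective
        rw [map_commutatorElement, map_one, commutatorElement_eq_one_iff_mul_comm, mul_comm]
      intro x hx
      refine mem_centralizer_iff.2 fun n hn => ?_
      have h1 := congrArg Subtype.val (MulEquiv.congr_fun (MonoidHom.mem_ker.1 (hle hx)) ⟨n, hn⟩)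
      rw [MulAut.conjNormal_apply] at h1
      exact (mul_inv_eq_iff_eq_mul.1 h1).symm
    haveI := ih
    refine Subgroup.isNilpotent_of_ker_le_center f fun x hx => mem_center_iff.2 fun y => Subtype.ext ?_
    have hxN : (x : G) ∈ N := (QuotientGroup.eq_one_iff (x : G)).1 (congrArg Subtype.val hx)
    exact (mem_centralizer_iff.1 (hcen y.2) _ hxN).symm

end CfsgLib.Supersolvable
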