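import Cfsg.Agent.FGSA.Extraspecial
import Cfsg.Agent.Char.Linear

/-!
A group acting on an extraspecial subgroup trivially modulo its centre induces inner automorphisms.
-/

set_option autoImplicit false

namespace CfsgLib.ExtraspecialSplit

open Subgroup
open scoped commutatorElement

variable {E : Type*} [Group E] [Finite E] {p : ℕ} [hp : Fact p.Prime]

/-- Every homomorphism of an extraspecial group into its centre is `h ↦ ⁅h, x⁆`. -/
theorem exists_commHom_eq (hE : Cfsg.IsExtraspecial p E) (f : E →* center E) :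
    ∃ x : E, ∀ h : E, (f h : E) = ⁅h, x⁆ := by
  classical
  haveI : Fact (Nat.card (center E)).Prime := ⟨hE.2.symm ▸ hp.out⟩
  have hz : ∃ ι : center E →* ℂˣ, Function.Injective ι := by
    obtain ⟨z, hz⟩ : ∃ z : center E, z ≠ 1 := by
      haveI : Nontrivial (center E) := Finite.one_lt_card_iff_nontrivial.1 (hE.2 ▸ hp.out.one_lt)
      exact exists_ne 1
    obtain ⟨ι, hι⟩ := CfsgLib.Char.exists_hom_ne_one (g := z) (fun h => hz (by
      have : commutator (center E) ≤ ⊥ := by
        rw [_root_.commutator_def, commutator_le]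
        exact fun a _ b _ => mem_bot.2 (commutatorElement_eq_one_iff_mul_comm.2
          (Subtype.ext (mem_center_iff.1 b.2 a)))
      exact mem_bot.1 (this h)))
    refine ⟨ι, (injective_iff_map_eq_one ι).2 fun a ha => ?_⟩
    by_contra hne
    obtain ⟨i, hi⟩ := mem_zpowers_iff.1 (mem_zpowers_of_prime_card (g' := z) rfl hne)
    exact hι (by rw [← hi, map_zpow, ha, one_zpow])
  obtain ⟨ι, hι⟩ := hz
  let T : (E →* center E) → (E →* ℂˣ) := fun g => ι.comp g
  have hT : Function.Injective T := fun a b h => MonoidHom.ext fun x => hι (DFunLike.congr_fun h x)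
  haveI : Finite (E →* center E) := Finite.of_injective _ DFunLike.coe_injective
  haveI : Finite (E →* ℂˣ) := Nat.finite_of_card_ne_zero (by
    rw [CfsgLib.Char.card_hom_eq_index_commutator]; exact index_ne_zero_of_finite)
  let Φ : E ⧸ center E → (E →* center E) := Quotient.lift
    (fun x => (CfsgLib.Extraspecial.commHom hE ⊤ x).comp Subgroup.topEquiv.symm.toMonoidHom)
    (fun a b hab => MonoidHom.ext fun h => Subtype.ext (by
      show ⁅h, a⁆ = ⁅h, b⁆
      obtain ⟨c, hc, rfl⟩ : ∃ c ∈ center E, b = a * c :=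
        ⟨_, QuotientGroup.leftRel_apply.1 hab, (mul_inv_cancel_left a b).symm⟩
      simp only [commutatorElement_def, mul_assoc, mul_inv_rev]
      rw [← mul_assoc c h⁻¹, ← mem_center_iff.1 hc h⁻¹, mul_assoc, mul_inv_cancel_left]))
  have hΦ : Function.Injective Φ := by
    intro u v
    induction u using Quotient.inductionOn'
    induction v using Quotient.inductionOn'
    rename_i a b
    intro hab
    refine Quotient.sound' (QuotientGroup.leftRel_apply.2 (mem_center_iff.2 fun h => ?_))
    have h1 : ⁅h, a⁆ = ⁅h, b⁆ := congrArg Subtype.val (DFunLike.congr_fun hab h)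
    simp only [commutatorElement_def, mul_assoc] at h1
    have h2 := mul_left_cancel h1
    calc h * (a⁻¹ * b) = h * a⁻¹ * b := (mul_assoc _ _ _).symm
      _ = a⁻¹ * (a * (h⁻¹ * a⁻¹))⁻¹ * b := by group
      _ = a⁻¹ * (b * (h⁻¹ * b⁻¹))⁻¹ * b := by rw [h2]
      _ = a⁻¹ * b * h := by group
  have hcard : Nat.card (E →* center E) ≤ Nat.card (E ⧸ center E) := by
    refine (Nat.card_le_card_of_injective T hT).trans ?_
    rw [CfsgLib.Char.card_hom_eq_index_commutator, hE.1.2.2]
    rfl
  obtain ⟨u, hu⟩ := ((Nat.bijective_iff_injective_and_card Φ).2 ⟨hΦ,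
    le_antisymm (Nat.card_le_card_of_injective Φ hΦ) hcard⟩).2 f
  induction u using Quotient.inductionOn'
  rename_i x
  exact ⟨x, fun h => by rw [← hu]; rfl⟩

/-- If `⁅⊤, E⁆` is central in the extraspecial subgroup `E` then `G = E C_G(E)`. -/
theorem sup_centralizer_eq_top {G : Type*} [Group G] [Finite G] (E : Subgroup G)
    (hE : Cfsg.IsExtraspecial p E) (h : ⁅(⊤ : Subgroup G), E⁆ ≤ E ⊓ centralizer (E : Set G)) :
    E ⊔ centralizer (E : Set G) = ⊤ := by
  refine eq_top_iff.2 fun g _ => ?_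
  have hm : ∀ e : E, ⁅g, (e : G)⁆ ∈ E ⊓ centralizer (E : Set G) := fun e =>
    h (commutator_mem_commutator (mem_top g) e.2)
  let f : E →* center E := MonoidHom.mk'
    (fun e => ⟨⟨⁅g, (e : G)⁆, (hm e).1⟩, mem_center_iff.2 fun b => Subtype.ext
      (mem_centralizer_iff.1 (hm e).2 b b.2)⟩)
    (fun a b => Subtype.ext (Subtype.ext (by
      show ⁅g, (a : G) * b⁆ = ⁅g, (a : G)⁆ * ⁅g, (b : G)⁆
      have h1 := mem_centralizer_iff.1 (hm b).2 a a.2
      calc ⁅g, (a : G) * b⁆ = ⁅g, (a : G)⁆ * ((a : G) * ⁅g, (b : G)⁆ * (a : G)⁻¹) := by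
            simp only [commutatorElement_def]; group
        _ = _ := by rw [h1, mul_inv_cancel_right])))
  obtain ⟨x, hx⟩ := exists_commHom_eq hE f
  have hgx : (x : G) * g ∈ centralizer (E : Set G) := by
    refine mem_centralizer_iff.2 fun e he => ?_
    have h1 : ⁅g, e⁆ = ⁅e, (x : G)⁆ := congrArg Subtype.val (hx ⟨e, he⟩)
    have h2 : ⁅g, e⁆ * x = x * ⁅g, e⁆ :=
      (mem_centralizer_iff.1 (hm ⟨e, he⟩).2 x x.2).symm
    calc e * (x * g) = ⁅e, (x : G)⁆ * x * e * g := by simp only [commutatorElement_def]; group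
      _ = x * ⁅g, e⁆ * e * g := by rw [← h1, h2]
      _ = x * g * e := by simp only [commutatorElement_def]; group
  have := mul_mem (mem_sup_left (inv_mem x.2) : (x : G)⁻¹ ∈ E ⊔ centralizer (E : Set G))
    (mem_sup_right hgx)
  rwa [inv_mul_cancel_left] at this

end CfsgLib.ExtraspecialSplit
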