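import Cfsg.Agent.FGSA.Extraspecial
import Mathlib.GroupTheory.SpecificGroups.Cyclic

/-!
Isomorphisms of extraspecial groups via splitting off pairs of non-commuting elements.
-/

set_option autoImplicit false
set_option linter.style.haveILetI false
set_option linter.unusedSectionVars false

namespace CfsgLib.ExtraspecialIso

open Subgroup
open scoped commutatorElement

/-- `H` contains the centre and its radical is the centre. -/
def Frame {E : Type*} [Group E] (H : Subgroup E) : Prop :=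
  center E ≤ H ∧ ∀ h ∈ H, (∀ k ∈ H, Commute h k) → h ∈ center E

/-- An isomorphism carrying the marked element to the marked element. -/
def Iso {E1 E2 : Type*} [Group E1] [Group E2] (H1 : Subgroup E1) (H2 : Subgroup E2)
    (z1 : E1) (z2 : E2) : Prop :=
  ∃ f : H1 ≃* H2, ∀ h : H1, (h : E1) = z1 → (f h : E2) = z2

/-- A non-commuting pair with given powers. -/
structure Pair {E : Type*} [Group E] (p : ℕ) (H : Subgroup E) (z x y : E) (a b : ℕ) : Prop where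
  hx : x ∈ H
  hy : y ∈ H
  hc : ⁅x, y⁆ = z
  hxp : x ^ p = z ^ a
  hyp : y ^ p = z ^ b

/-- The centralizer in `H` of a pair. -/
def rest {E : Type*} [Group E] (H : Subgroup E) (x y : E) : Subgroup E :=
  H ⊓ centralizer {x} ⊓ centralizer {y}

section One

variable {E : Type*} [Group E] [Finite E] {p : ℕ} [hp : Fact p.Prime]
  (hE : Cfsg.IsExtraspecial p E)
include hE

theorem orderOf_eq {z : E} (hz : z ∈ center E) (h1 : z ≠ 1) : orderOf z = p := by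
  have h := orderOf_dvd_natCard (⟨z, hz⟩ : center E)
  rw [← orderOf_coe, hE.2] at h
  exact ((Nat.dvd_prime hp.out).1 h).resolve_left (fun e => h1 (orderOf_eq_one_iff.1 e))

theorem comm_zpow (h x : E) (i : ℤ) : ⁅h ^ i, x⁆ = ⁅h, x⁆ ^ i := by
  have := map_zpow (CfsgLib.Extraspecial.commHom hE ⊤ x) (⟨h, mem_top h⟩ : (⊤ : Subgroup E)) i
  exact congrArg Subtype.val this

theorem swap (x y : E) (j k : ℤ) :
    y ^ j * x ^ k = (⁅x, y⁆ ^ (j * k))⁻¹ * (x ^ k * y ^ j) := by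
  have h1 : ⁅y ^ j, x ^ k⁆ = (⁅x, y⁆ ^ (j * k))⁻¹ := by
    rw [comm_zpow hE, ← commutatorElement_inv, comm_zpow hE, inv_zpow, ← zpow_mul, mul_comm]
  rw [← h1]
  simp [commutatorElement_def, mul_assoc]

theorem exists_zpow {z c : E} (hz : z ∈ center E) (h1 : z ≠ 1) (hc : c ∈ center E) :
    ∃ i : ℤ, c = z ^ i := by
  haveI : Fact (Nat.card (center E)).Prime := ⟨hE.2.symm ▸ hp.out⟩
  obtain ⟨i, hi⟩ := mem_zpowers_iff.1 (mem_zpowers_of_prime_card (g := (⟨z, hz⟩ : center E))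
    (g' := ⟨c, hc⟩) rfl (fun e => h1 (congrArg Subtype.val e)))
  exact ⟨i, (congrArg Subtype.val hi).symm⟩

theorem exists_decomp {H : Subgroup E} {x y : E} (hx : x ∈ H) (hy : y ∈ H) (hne : ⁅x, y⁆ ≠ 1)
    {h : E} (hh : h ∈ H) : ∃ c ∈ rest H x y, ∃ i j : ℤ, h = c * x ^ i * y ^ j := by
  have hyx : ¬ Commute y x := fun e => hne (commutatorElement_eq_one_iff_mul_comm.2 e.symm)
  obtain ⟨-, h1⟩ := CfsgLib.Extraspecial.card_commHom_step hE hy hyx
  obtain ⟨-, h2⟩ := CfsgLib.Extraspecial.card_commHom_step hE (H := H ⊓ centralizer {x}) (x := y)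
    (y := x) ⟨hx, mem_centralizer_singleton_iff.2 rfl⟩ (fun e => hyx e.symm)
  obtain ⟨i, hi⟩ := h1 h hh
  obtain ⟨j, hj⟩ := h2 _ hi
  exact ⟨_, hj, -j, -i, by group⟩

theorem card_rest {H : Subgroup E} {x y : E} (hx : x ∈ H) (hy : y ∈ H) (hne : ⁅x, y⁆ ≠ 1) :
    Nat.card H = p * (p * Nat.card (rest H x y)) := by
  have hyx : ¬ Commute y x := fun e => hne (commutatorElement_eq_one_iff_mul_comm.2 e.symm)
  obtain ⟨h1, -⟩ := CfsgLib.Extraspecial.card_commHom_step hE hy hyx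
  obtain ⟨h2, -⟩ := CfsgLib.Extraspecial.card_commHom_step hE (H := H ⊓ centralizer {x}) (x := y)
    (y := x) ⟨hx, mem_centralizer_singleton_iff.2 rfl⟩ (fun e => hyx e.symm)
  rw [h1, h2]
  rfl

theorem frame_rest {H : Subgroup E} (hH : Frame H) {x y : E} (hx : x ∈ H) (hy : y ∈ H)
    (hne : ⁅x, y⁆ ≠ 1) : Frame (rest H x y) := by
  refine ⟨le_inf (le_inf hH.1 (center_le_centralizer _)) (center_le_centralizer _),
    fun c hc hcc => hH.2 c hc.1.1 fun k hk => ?_⟩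
  obtain ⟨d, hd, i, j, rfl⟩ := exists_decomp hE hx hy hne hk
  have hcx : Commute c x := mem_centralizer_singleton_iff.1 hc.1.2
  have hcy : Commute c y := mem_centralizer_singleton_iff.1 hc.2
  exact ((hcc d hd).mul_right (hcx.zpow_right i)).mul_right (hcy.zpow_right j)

theorem exists_pair {H : Subgroup E} (hH : Frame H) {x : E} (hx : x ∈ H) (hxZ : x ∉ center E) :
    ∃ y ∈ H, ⁅x, y⁆ ≠ 1 := by
  by_contra! h
  exact hxZ (hH.2 x hx fun k hk => commutatorElement_eq_one_iff_mul_comm.1 (h k hk))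

/-- The pair can be normalised to any given commutator. -/
theorem exists_normalised {H : Subgroup E} (hH : Frame H) {x z : E} (hx : x ∈ H)
    (hxZ : x ∉ center E) (hz : z ∈ center E) (hz1 : z ≠ 1) : ∃ y ∈ H, ⁅x, y⁆ = z := by
  obtain ⟨y, hy, hne⟩ := exists_pair hE hH hx hxZ
  obtain ⟨i, hi⟩ := exists_zpow hE (CfsgLib.Extraspecial.commutator_mem_center hE x y) hne hz
  refine ⟨y ^ i, zpow_mem hy i, ?_⟩
  rw [← commutatorElement_inv, comm_zpow hE, ← commutatorElement_inv, inv_zpow, inv_inv, ← hi]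

theorem eq_center_of_card {H : Subgroup E} (hH : Frame H) (h : Nat.card H = p) : H = center E :=
  (eq_of_le_of_card_ge hH.1 (h.trans hE.2.symm).le).symm

theorem not_le_center {H : Subgroup E} (hH : Frame H) (h : Nat.card H ≠ p) :
    ∃ x ∈ H, x ∉ center E := by
  by_contra! hc
  exact h (by rw [show H = center E from le_antisymm hc hH.1, hE.2])

end One

section Two

variable {E1 E2 : Type*} [Group E1] [Group E2] [Finite E1] [Finite E2] {p : ℕ} [hp : Fact p.Prime]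
  (hE1 : Cfsg.IsExtraspecial p E1) (hE2 : Cfsg.IsExtraspecial p E2)
include hE1 hE2

theorem Iso.base {H1 : Subgroup E1} {H2 : Subgroup E2} {z1 : E1} {z2 : E2} (hH1 : Frame H1)
    (hH2 : Frame H2) (h1 : Nat.card H1 = p) (h2 : Nat.card H2 = p) (hz1 : z1 ∈ center E1)
    (hz2 : z2 ∈ center E2) (hn1 : z1 ≠ 1) (hn2 : z2 ≠ 1) : Iso H1 H2 z1 z2 := by
  have e1 := eq_center_of_card hE1 hH1 h1
  have e2 := eq_center_of_card hE2 hH2 h2
  haveI : Fact (Nat.card H1).Prime := ⟨h1.symm ▸ hp.out⟩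
  haveI : Fact (Nat.card H2).Prime := ⟨h2.symm ▸ hp.out⟩
  have g1 : ∀ x : H1, x ∈ zpowers (⟨z1, e1 ▸ hz1⟩ : H1) := fun x =>
    mem_zpowers_of_prime_card rfl (fun e => hn1 (congrArg Subtype.val e))
  have g2 : ∀ x : H2, x ∈ zpowers (⟨z2, e2 ▸ hz2⟩ : H2) := fun x =>
    mem_zpowers_of_prime_card rfl (fun e => hn2 (congrArg Subtype.val e))
  refine ⟨mulEquivOfOrderOfEq g1 g2 (by
    rw [← orderOf_coe, ← orderOf_coe]
    exact (orderOf_eq hE1 hz1 hn1).trans (orderOf_eq hE2 hz2 hn2).symm), fun h hh => ?_⟩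
  rw [show h = ⟨z1, e1 ▸ hz1⟩ from Subtype.ext hh, mulEquivOfOrderOfEq_apply_gen]

theorem welldef {H1 : Subgroup E1} {H2 : Subgroup E2} {z1 x1 y1 : E1} {z2 x2 y2 : E2} {a b : ℕ}
    (hn1 : z1 ≠ 1) (P1 : Pair p H1 z1 x1 y1 a b) (P2 : Pair p H2 z2 x2 y2 a b)
    {C1 : Subgroup E1} {C2 : Subgroup E2} (hC1 : C1 = rest H1 x1 y1)
    (f : C1 →* C2) (hf : ∀ h : C1, (h : E1) = z1 → (f h : E2) = z2) (hz : z1 ∈ C1)
    {c : C1} {i j : ℤ} (h : (c : E1) * x1 ^ i * y1 ^ j = 1) :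
    (f c : E2) * x2 ^ i * y2 ^ j = 1 := by
  have hcen : z1 ∈ center E1 := P1.hc ▸ CfsgLib.Extraspecial.commutator_mem_center hE1 _ _
  have hord := orderOf_eq hE1 hcen hn1
  have hcx : Commute (c : E1) x1 := mem_centralizer_singleton_iff.1 (hC1.le c.2).1.2
  have hcy : Commute (c : E1) y1 := mem_centralizer_singleton_iff.1 (hC1.le c.2).2
  have hji : (p : ℤ) ∣ j ∧ (p : ℤ) ∣ i := by
    have hj : (c : E1) * x1 ^ i = (y1 ^ j)⁻¹ := eq_inv_of_mul_eq_one_left h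
    have h1 : Commute ((c : E1) * x1 ^ i) x1 := hcx.mul_left ((Commute.refl x1).zpow_left i)
    rw [hj] at h1
    have h2 : ⁅y1 ^ j, x1⁆ = 1 := commutatorElement_eq_one_iff_mul_comm.2 (by
      have := h1.inv_left
      rwa [inv_inv] at this)
    rw [comm_zpow hE1, ← commutatorElement_inv, P1.hc, inv_zpow, inv_eq_one,
      ← orderOf_dvd_iff_zpow_eq_one, hord] at h2
    refine ⟨h2, ?_⟩
    have hi : x1 ^ i = (c : E1)⁻¹ * (y1 ^ j)⁻¹ := by rw [← hj, inv_mul_cancel_left]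
    have h3 : Commute (x1 ^ i) y1 := by
      rw [hi]; exact hcy.inv_left.mul_left ((Commute.refl y1).zpow_left j).inv_left
    have h4 : ⁅x1 ^ i, y1⁆ = 1 := commutatorElement_eq_one_iff_mul_comm.2 h3
    rwa [comm_zpow hE1, P1.hc, ← orderOf_dvd_iff_zpow_eq_one, hord] at h4
  obtain ⟨⟨s, rfl⟩, ⟨t, rfl⟩⟩ := hji
  have e1 : x1 ^ ((p : ℤ) * t) * y1 ^ ((p : ℤ) * s) = z1 ^ ((a : ℤ) * t + b * s) := by
    rw [zpow_mul, zpow_mul, zpow_natCast, zpow_natCast, P1.hxp, P1.hyp, zpow_add, zpow_mul,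
      zpow_mul, zpow_natCast, zpow_natCast]
  have e2 : x2 ^ ((p : ℤ) * t) * y2 ^ ((p : ℤ) * s) = z2 ^ ((a : ℤ) * t + b * s) := by
    rw [zpow_mul, zpow_mul, zpow_natCast, zpow_natCast, P2.hxp, P2.hyp, zpow_add, zpow_mul,
      zpow_mul, zpow_natCast, zpow_natCast]
  rw [mul_assoc, e1] at h
  have hc : c = (⟨z1, hz⟩ : C1) ^ (-((a : ℤ) * t + b * s)) := Subtype.ext (by
    rw [SubgroupClass.coe_zpow, zpow_neg]
    exact eq_inv_of_mul_eq_one_left h)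
  rw [mul_assoc, e2, hc, map_zpow, SubgroupClass.coe_zpow, hf ⟨z1, hz⟩ rfl, ← zpow_add]
  simp

/-- Extend an isomorphism of the centralizers of two pairs. -/
theorem Iso.extend {H1 : Subgroup E1} {H2 : Subgroup E2} {z1 x1 y1 : E1} {z2 x2 y2 : E2} {a b : ℕ}
    (hn1 : z1 ≠ 1) (hn2 : z2 ≠ 1) (hH1 : Frame H1)
    (P1 : Pair p H1 z1 x1 y1 a b) (P2 : Pair p H2 z2 x2 y2 a b)
    (hI : Iso (rest H1 x1 y1) (rest H2 x2 y2) z1 z2) : Iso H1 H2 z1 z2 := by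
  classical
  set C1 := rest H1 x1 y1 with hC1
  set C2 := rest H2 x2 y2 with hC2
  obtain ⟨f, hf⟩ := hI
  have hne1 : ⁅x1, y1⁆ ≠ 1 := P1.hc ▸ hn1
  have hne2 : ⁅x2, y2⁆ ≠ 1 := P2.hc ▸ hn2
  have hcen1 : z1 ∈ center E1 := P1.hc ▸ CfsgLib.Extraspecial.commutator_mem_center hE1 _ _
  have hz1 : z1 ∈ C1 := (frame_rest hE1 hH1 P1.hx P1.hy hne1).1 hcen1
  have hz2 : z2 ∈ C2 := hf ⟨z1, hz1⟩ rfl ▸ (f ⟨z1, hz1⟩).2
  have hf' : ∀ h : C2, (h : E2) = z2 → (f.symm h : E1) = z1 := fun h hh => by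
    have : h = f ⟨z1, hz1⟩ := Subtype.ext (hh.trans (hf ⟨z1, hz1⟩ rfl).symm)
    rw [this, MulEquiv.symm_apply_apply]
  choose dc hdc di dj hd using fun h : H1 => exists_decomp hE1 P1.hx P1.hy hne1 h.2
  let φ : H1 → E2 := fun h => (f ⟨dc h, hdc h⟩ : E2) * x2 ^ di h * y2 ^ dj h
  -- the product of two normal forms
  have prod1 : ∀ (c d : E1) (i j k l : ℤ), Commute d x1 → Commute d y1 →
      (c * x1 ^ i * y1 ^ j) * (d * x1 ^ k * y1 ^ l) =
        c * d * (z1 ^ (j * k))⁻¹ * x1 ^ (i + k) * y1 ^ (j + l) := by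
    intro c d i j k l h1 h2
    have hzc : Commute (x1 ^ i) (z1 ^ (j * k))⁻¹ :=
      (Commute.zpow_right (show Commute (x1 ^ i) z1 from mem_center_iff.1 hcen1 (x1 ^ i)) _).inv_right
    calc (c * x1 ^ i * y1 ^ j) * (d * x1 ^ k * y1 ^ l)
        = c * ((x1 ^ i * y1 ^ j) * d) * x1 ^ k * y1 ^ l := by group
      _ = c * (d * (x1 ^ i * y1 ^ j)) * x1 ^ k * y1 ^ l := by
          rw [((h1.zpow_right i).mul_right (h2.zpow_right j)).eq]
      _ = c * d * x1 ^ i * (y1 ^ j * x1 ^ k) * y1 ^ l := by group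
      _ = c * d * (x1 ^ i * (z1 ^ (j * k))⁻¹) * x1 ^ k * y1 ^ j * y1 ^ l := by
          rw [swap hE1, P1.hc]; simp only [mul_assoc]
      _ = _ := by rw [hzc.eq, zpow_add, zpow_add]; simp only [mul_assoc]
  have hcen2 : z2 ∈ center E2 := P2.hc ▸ CfsgLib.Extraspecial.commutator_mem_center hE2 _ _
  have prod2 : ∀ (c d : E2) (i j k l : ℤ), Commute d x2 → Commute d y2 →
      (c * x2 ^ i * y2 ^ j) * (d * x2 ^ k * y2 ^ l) =
        c * d * (z2 ^ (j * k))⁻¹ * x2 ^ (i + k) * y2 ^ (j + l) := by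
    intro c d i j k l h1 h2
    have hzc : Commute (x2 ^ i) (z2 ^ (j * k))⁻¹ :=
      (Commute.zpow_right (show Commute (x2 ^ i) z2 from mem_center_iff.1 hcen2 (x2 ^ i)) _).inv_right
    calc (c * x2 ^ i * y2 ^ j) * (d * x2 ^ k * y2 ^ l)
        = c * ((x2 ^ i * y2 ^ j) * d) * x2 ^ k * y2 ^ l := by group
      _ = c * (d * (x2 ^ i * y2 ^ j)) * x2 ^ k * y2 ^ l := by
          rw [((h1.zpow_right i).mul_right (h2.zpow_right j)).eq]
      _ = c * d * x2 ^ i * (y2 ^ j * x2 ^ k) * y2 ^ l := by group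
      _ = c * d * (x2 ^ i * (z2 ^ (j * k))⁻¹) * x2 ^ k * y2 ^ j * y2 ^ l := by
          rw [swap hE2, P2.hc]; simp only [mul_assoc]
      _ = _ := by rw [hzc.eq, zpow_add, zpow_add]; simp only [mul_assoc]
  have hC1x : ∀ c : C1, Commute (c : E1) x1 ∧ Commute (c : E1) y1 := fun c =>
    ⟨mem_centralizer_singleton_iff.1 c.2.1.2, mem_centralizer_singleton_iff.1 c.2.2⟩
  have hC2x : ∀ c : C2, Commute (c : E2) x2 ∧ Commute (c : E2) y2 := fun c =>
    ⟨mem_centralizer_singleton_iff.1 c.2.1.2, mem_centralizer_singleton_iff.1 c.2.2⟩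
  -- comparison of two normal forms
  have cmp : ∀ (c d : C1) (i j k l : ℤ),
      (c : E1) * x1 ^ i * y1 ^ j = (d : E1) * x1 ^ k * y1 ^ l →
      (f c : E2) * x2 ^ i * y2 ^ j = (f d : E2) * x2 ^ k * y2 ^ l := by
    intro c d i j k l h
    -- `(d x^k y^l)⁻¹ (c x^i y^j)` in normal form
    have e1 := prod1 (d : E1) ((d⁻¹ * c * (⟨z1, hz1⟩ : C1) ^ (l * (i - k)) : C1) : E1) k l (i - k)
      (j - l) (hC1x _).1 (hC1x _).2
    have e2 := prod2 (f d : E2) (f (d⁻¹ * c * (⟨z1, hz1⟩ : C1) ^ (l * (i - k))) : E2) k l (i - k)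
      (j - l) (hC2x _).1 (hC2x _).2
    rw [add_sub_cancel, add_sub_cancel] at e1 e2
    have hr1 : (d : E1) * ((d⁻¹ * c * (⟨z1, hz1⟩ : C1) ^ (l * (i - k)) : C1) : E1) *
        (z1 ^ (l * (i - k)))⁻¹ = c := by simp [mul_assoc]
    have hr2 : (f d : E2) * (f (d⁻¹ * c * (⟨z1, hz1⟩ : C1) ^ (l * (i - k))) : E2) *
        (z2 ^ (l * (i - k)))⁻¹ = f c := by
      simp [hf ⟨z1, hz1⟩ rfl, mul_assoc]
    rw [hr1, h] at e1
    rw [hr2] at e2
    have h3 := welldef hE1 hE2 hn1 P1 P2 hC1 f.toMonoidHom hf hz1 (mul_eq_left.1 e1)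
    rw [← e2]
    simp only [MulEquiv.coe_toMonoidHom] at h3
    rw [h3, mul_one]
  have hφ : ∀ (h : H1) (c : C1) (i j : ℤ), (h : E1) = c * x1 ^ i * y1 ^ j →
      φ h = (f c : E2) * x2 ^ i * y2 ^ j := fun h c i j e =>
    cmp ⟨dc h, hdc h⟩ c (di h) (dj h) i j ((hd h).symm.trans e)
  have hmem : ∀ h, φ h ∈ H2 := fun h =>
    mul_mem (mul_mem (f ⟨dc h, hdc h⟩).2.1.1 (zpow_mem P2.hx _)) (zpow_mem P2.hy _)
  let F : H1 →* H2 := MonoidHom.mk' (fun h => ⟨φ h, hmem h⟩) fun g h => Subtype.ext (by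
    set c : C1 := ⟨dc g, hdc g⟩ with hcg
    set d : C1 := ⟨dc h, hdc h⟩ with hcd
    have e := prod1 (c : E1) (d : E1) (di g) (dj g) (di h) (dj h) (hC1x d).1 (hC1x d).2
    show φ (g * h) = φ g * φ h
    rw [hφ (g * h) (c * d * ((⟨z1, hz1⟩ : C1) ^ (dj g * di h))⁻¹) (di g + di h) (dj g + dj h)
      ((congrArg₂ (· * ·) (hd g) (hd h)).trans (e.trans (by simp [hcg, hcd])))]
    show _ = ((f c : E2) * x2 ^ di g * y2 ^ dj g) * ((f d : E2) * x2 ^ di h * y2 ^ dj h)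
    rw [prod2 _ _ _ _ _ _ (hC2x _).1 (hC2x _).2]
    simp [hf ⟨z1, hz1⟩ rfl])
  have hinj : Function.Injective F := (injective_iff_map_eq_one F).2 fun h hh => Subtype.ext (by
    rw [hd h]
    have h1 : (f ⟨dc h, hdc h⟩ : E2) * x2 ^ di h * y2 ^ dj h = 1 := congrArg Subtype.val hh
    have h3 := welldef hE2 hE1 hn2 P2 P1 hC2 f.symm.toMonoidHom hf' hz2 h1
    simpa using h3)
  have hsurj : Function.Surjective F := fun w => by
    obtain ⟨c, hc, i, j, hw⟩ := exists_decomp hE2 P2.hx P2.hy hne2 w.2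
    refine ⟨⟨(f.symm ⟨c, hc⟩ : E1) * x1 ^ i * y1 ^ j,
      mul_mem (mul_mem (f.symm ⟨c, hc⟩).2.1.1 (zpow_mem P1.hx _)) (zpow_mem P1.hy _)⟩, Subtype.ext ?_⟩
    show φ _ = _
    rw [hφ _ (f.symm ⟨c, hc⟩) i j rfl, MulEquiv.apply_symm_apply, hw]
  refine ⟨MulEquiv.ofBijective F ⟨hinj, hsurj⟩, fun h hh => ?_⟩
  show φ h = z2
  rw [hφ h ⟨z1, hz1⟩ 0 0 (by simp [hh]), hf ⟨z1, hz1⟩ rfl]
  simp

theorem iso_of_exponent (hp2 : p ≠ 2) (he1 : ∀ x : E1, x ^ p = 1) (he2 : ∀ x : E2, x ^ p = 1)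
    {z1 : E1} {z2 : E2} (hz1 : z1 ∈ center E1) (hz2 : z2 ∈ center E2) (hn1 : z1 ≠ 1) (hn2 : z2 ≠ 1) :
    ∀ (m : ℕ) (H1 : Subgroup E1) (H2 : Subgroup E2), Nat.card H1 ≤ m → Nat.card H1 = Nat.card H2 →
      Frame H1 → Frame H2 → Iso H1 H2 z1 z2 := by
  intro m
  induction m with
  | zero => intro H1 H2 h; exact absurd h (Nat.not_le.2 Nat.card_pos)
  | succ m ih =>
    intro H1 H2 hm hcard hH1 hH2
    by_cases h1 : Nat.card H1 = p
    · exact Iso.base hE1 hE2 hH1 hH2 h1 (hcard ▸ h1) hz1 hz2 hn1 hn2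
    obtain ⟨x1, hx1, hx1Z⟩ := not_le_center hE1 hH1 h1
    obtain ⟨x2, hx2, hx2Z⟩ := not_le_center hE2 hH2 (hcard ▸ h1)
    obtain ⟨y1, hy1, hc1⟩ := exists_normalised hE1 hH1 hx1 hx1Z hz1 hn1
    obtain ⟨y2, hy2, hc2⟩ := exists_normalised hE2 hH2 hx2 hx2Z hz2 hn2
    have P1 : Pair p H1 z1 x1 y1 0 0 := ⟨hx1, hy1, hc1, by rw [he1, pow_zero], by rw [he1, pow_zero]⟩
    have P2 : Pair p H2 z2 x2 y2 0 0 := ⟨hx2, hy2, hc2, by rw [he2, pow_zero], by rw [he2, pow_zero]⟩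
    have hne1 : ⁅x1, y1⁆ ≠ 1 := hc1 ▸ hn1
    have hne2 : ⁅x2, y2⁆ ≠ 1 := hc2 ▸ hn2
    have e1 := card_rest hE1 hx1 hy1 hne1
    have e2 := card_rest hE2 hx2 hy2 hne2
    refine Iso.extend hE1 hE2 hn1 hn2 hH1 P1 P2 (ih _ _ ?_ ?_ (frame_rest hE1 hH1 hx1 hy1 hne1)
      (frame_rest hE2 hH2 hx2 hy2 hne2))
    · have h2 := hp.out.two_le
      have : 0 < Nat.card (rest H1 x1 y1) := Nat.card_pos
      have := Nat.mul_le_mul h2 (Nat.mul_le_mul_right (Nat.card (rest H1 x1 y1)) h2)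
      rw [e1] at hm
      omega
    · rw [e1, e2] at hcard
      exact Nat.eq_of_mul_eq_mul_left hp.out.pos (Nat.eq_of_mul_eq_mul_left hp.out.pos hcard)

end Two

section Even

variable {E : Type*} [Group E] [Finite E] (hE : Cfsg.IsExtraspecial 2 E)
include hE

theorem sq_cases {z : E} (hz : z ∈ center E) (hn : z ≠ 1) (x : E) :
    x ^ 2 = 1 ∨ x ^ 2 = z := by
  haveI : Fact (Nat.Prime 2) := ⟨Nat.prime_two⟩
  obtain ⟨i, hi⟩ := exists_zpow hE hz hn (CfsgLib.Extraspecial.pow_mem_center hE x)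
  have h2 : z ^ (2 : ℤ) = 1 := by
    rw [show (2 : ℤ) = ((2 : ℕ) : ℤ) from rfl, zpow_natCast, ← orderOf_eq hE hz hn, pow_orderOf_eq_one]
  obtain ⟨t, rfl | rfl⟩ := Int.even_or_odd' i
  · left; rw [hi, zpow_mul, h2, one_zpow]
  · right; rw [hi, zpow_add, zpow_mul, h2, one_zpow, one_mul, zpow_one]

theorem mul_sq {z x y : E} (hc : ⁅x, y⁆ = z) : (x * y) ^ 2 = z * (x ^ 2 * y ^ 2) := by
  haveI : Fact (Nat.Prime 2) := ⟨Nat.prime_two⟩
  have hzc : z ∈ center E := hc ▸ CfsgLib.Extraspecial.commutator_mem_center hE x y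
  have hyx : y * x = z⁻¹ * (x * y) := by rw [← hc]; simp only [commutatorElement_def]; group
  have hzi : z⁻¹ = z := by
    rw [inv_eq_iff_mul_eq_one, ← pow_two]
    by_cases hn : z = 1
    · rw [hn, one_pow]
    · rw [← orderOf_eq hE hzc hn, pow_orderOf_eq_one]
  rw [pow_two, pow_two, pow_two]
  calc x * y * (x * y) = x * (y * x) * y := by group
    _ = x * z * (x * y) * y := by rw [hyx, hzi]; simp only [mul_assoc]
    _ = _ := by rw [mem_center_iff.1 hzc x]; simp only [mul_assoc]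

/-- A dihedral pair, or order eight and a quaternion pair. -/
theorem exists_pair_two {H : Subgroup E} (hH : Frame H) (h : Nat.card H ≠ 2) {z : E}
    (hz : z ∈ center E) (hn : z ≠ 1) :
    ∃ x y a, Pair 2 H z x y a a ∧ (a = 0 ∨ (a = 1 ∧ Nat.card H = 8)) := by
  haveI : Fact (Nat.Prime 2) := ⟨Nat.prime_two⟩
  by_cases hinv : ∃ x ∈ H, x ∉ center E ∧ x ^ 2 = 1
  · obtain ⟨x, hx, hxZ, hx2⟩ := hinv
    obtain ⟨y, hy, hc⟩ := exists_normalised hE hH hx hxZ hz hn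
    rcases sq_cases hE hz hn y with hy2 | hy2
    · exact ⟨x, y, 0, ⟨hx, hy, hc, by rw [hx2, pow_zero], by rw [hy2, pow_zero]⟩, Or.inl rfl⟩
    · refine ⟨x, x * y, 0, ⟨hx, mul_mem hx hy, ?_, by rw [hx2, pow_zero], ?_⟩, Or.inl rfl⟩
      · calc ⁅x, x * y⁆ = x * ⁅x, y⁆ * x⁻¹ := by simp only [commutatorElement_def]; group
          _ = z := by rw [hc, mem_center_iff.1 hz x, mul_inv_cancel_right]
      · rw [mul_sq hE hc, hx2, hy2, one_mul, pow_zero, ← pow_two, ← orderOf_eq hE hz hn,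
          pow_orderOf_eq_one]
  · push Not at hinv
    obtain ⟨x, hx, hxZ⟩ := not_le_center hE hH h
    obtain ⟨y, hy, hc⟩ := exists_normalised hE hH hx hxZ hz hn
    have hne : ⁅x, y⁆ ≠ 1 := hc ▸ hn
    have hyZ : y ∉ center E := fun hyZ => hne (commutatorElement_eq_one_iff_mul_comm.2
      (mem_center_iff.1 hyZ x))
    have hx2 : x ^ 2 = z := (sq_cases hE hz hn x).resolve_left (hinv x hx hxZ)
    have hy2 : y ^ 2 = z := (sq_cases hE hz hn y).resolve_left (hinv y hy hyZ)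
    refine ⟨x, y, 1, ⟨hx, hy, hc, by rw [hx2, pow_one], by rw [hy2, pow_one]⟩, Or.inr ⟨rfl, ?_⟩⟩
    have e := card_rest hE hx hy hne
    suffices Nat.card (rest H x y) = 2 by rw [e, this]
    by_contra hC
    obtain ⟨c, hc', hcZ⟩ := not_le_center hE (frame_rest hE hH hx hy hne) hC
    have hcx : Commute c x := mem_centralizer_singleton_iff.1 hc'.1.2
    have hcy : Commute c y := mem_centralizer_singleton_iff.1 hc'.2
    have hc2 : c ^ 2 = z := (sq_cases hE hz hn c).resolve_left (hinv c hc'.1.1 hcZ)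
    refine hinv (x * c) (mul_mem hx hc'.1.1) (fun hxc => ?_) ?_
    · have h1 : Commute (x * c) y := (mem_center_iff.1 hxc y).symm
      have h2 : Commute x y := by
        have := h1.mul_left hcy.inv_left
        rwa [mul_inv_cancel_right] at this
      exact hne (commutatorElement_eq_one_iff_mul_comm.2 h2)
    · rw [hcx.symm.mul_pow, hx2, hc2, ← pow_two, ← orderOf_eq hE hz hn, pow_orderOf_eq_one]

end Even

theorem iso_two {E1 E2 E3 : Type*} [Group E1] [Group E2] [Group E3] [Finite E1] [Finite E2]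
    [Finite E3] (hE1 : Cfsg.IsExtraspecial 2 E1) (hE2 : Cfsg.IsExtraspecial 2 E2)
    (hE3 : Cfsg.IsExtraspecial 2 E3) {z1 : E1} {z2 : E2} {z3 : E3} (hz1 : z1 ∈ center E1)
    (hz2 : z2 ∈ center E2) (hz3 : z3 ∈ center E3) (hn1 : z1 ≠ 1) (hn2 : z2 ≠ 1) (hn3 : z3 ≠ 1) :
    ∀ (m : ℕ) (H1 : Subgroup E1) (H2 : Subgroup E2) (H3 : Subgroup E3), Nat.card H1 ≤ m →
      Nat.card H1 = Nat.card H2 → Nat.card H2 = Nat.card H3 → Frame H1 → Frame H2 → Frame H3 →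
      Iso H1 H2 z1 z2 ∨ Iso H2 H3 z2 z3 ∨ Iso H1 H3 z1 z3 := by
  haveI : Fact (Nat.Prime 2) := ⟨Nat.prime_two⟩
  intro m
  induction m with
  | zero => intro H1 H2 H3 h; exact absurd h (Nat.not_le.2 Nat.card_pos)
  | succ m ih =>
    intro H1 H2 H3 hm h12 h23 hH1 hH2 hH3
    by_cases h1 : Nat.card H1 = 2
    · exact Or.inl (Iso.base hE1 hE2 hH1 hH2 h1 (h12 ▸ h1) hz1 hz2 hn1 hn2)
    obtain ⟨x1, y1, a1, P1, ha1⟩ := exists_pair_two hE1 hH1 h1 hz1 hn1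
    obtain ⟨x2, y2, a2, P2, ha2⟩ := exists_pair_two hE2 hH2 (h12 ▸ h1) hz2 hn2
    obtain ⟨x3, y3, a3, P3, ha3⟩ := exists_pair_two hE3 hH3 (h23 ▸ h12 ▸ h1) hz3 hn3
    have hne1 : ⁅x1, y1⁆ ≠ 1 := P1.hc ▸ hn1
    have hne2 : ⁅x2, y2⁆ ≠ 1 := P2.hc ▸ hn2
    have hne3 : ⁅x3, y3⁆ ≠ 1 := P3.hc ▸ hn3
    have f1 := frame_rest hE1 hH1 P1.hx P1.hy hne1
    have f2 := frame_rest hE2 hH2 P2.hx P2.hy hne2
    have f3 := frame_rest hE3 hH3 P3.hx P3.hy hne3
    have e1 := card_rest hE1 P1.hx P1.hy hne1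
    have e2 := card_rest hE2 P2.hx P2.hy hne2
    have e3 := card_rest hE3 P3.hx P3.hy hne3
    by_cases h8 : Nat.card H1 = 8
    · have c1 : Nat.card (rest H1 x1 y1) = 2 := by omega
      have c2 : Nat.card (rest H2 x2 y2) = 2 := by omega
      have c3 : Nat.card (rest H3 x3 y3) = 2 := by omega
      rcases (show a1 = a2 ∨ a2 = a3 ∨ a1 = a3 by omega) with h | h | h
      · subst h
        exact Or.inl (Iso.extend hE1 hE2 hn1 hn2 hH1 P1 P2 (Iso.base hE1 hE2 f1 f2 c1 c2 hz1 hz2 hn1 hn2))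
      · subst h
        exact Or.inr (Or.inl (Iso.extend hE2 hE3 hn2 hn3 hH2 P2 P3 (Iso.base hE2 hE3 f2 f3 c2 c3 hz2 hz3 hn2 hn3)))
      · subst h
        exact Or.inr (Or.inr (Iso.extend hE1 hE3 hn1 hn3 hH1 P1 P3 (Iso.base hE1 hE3 f1 f3 c1 c3 hz1 hz3 hn1 hn3)))
    · obtain rfl : a1 = 0 := ha1.resolve_right fun h => h8 h.2
      obtain rfl : a2 = 0 := ha2.resolve_right fun h => h8 (h12.trans h.2)
      obtain rfl : a3 = 0 := ha3.resolve_right fun h => h8 (h12.trans (h23.trans h.2))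
      rcases ih _ _ _ (by
          have : 0 < Nat.card (rest H1 x1 y1) := Nat.card_pos
          omega) (by omega) (by omega) f1 f2 f3 with h | h | h
      · exact Or.inl (Iso.extend hE1 hE2 hn1 hn2 hH1 P1 P2 h)
      · exact Or.inr (Or.inl (Iso.extend hE2 hE3 hn2 hn3 hH2 P2 P3 h))
      · exact Or.inr (Or.inr (Iso.extend hE1 hE3 hn1 hn3 hH1 P1 P3 h))

theorem frame_top {E : Type*} [Group E] : Frame (⊤ : Subgroup E) :=
  ⟨le_top, fun _ _ hh => mem_center_iff.2 fun g => (hh g (mem_top g)).symm⟩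

theorem equiv_of_iso {E1 E2 : Type*} [Group E1] [Group E2] {z1 : E1} {z2 : E2}
    (h : Iso (⊤ : Subgroup E1) (⊤ : Subgroup E2) z1 z2) : Nonempty (E1 ≃* E2) := by
  obtain ⟨f, -⟩ := h
  exact ⟨(Subgroup.topEquiv.symm.trans f).trans Subgroup.topEquiv⟩

theorem exists_gen {E : Type*} [Group E] [Finite E] {p : ℕ} [hp : Fact p.Prime]
    (hE : Cfsg.IsExtraspecial p E) : ∃ z ∈ center E, z ≠ 1 := by
  haveI : Nontrivial (center E) := Finite.one_lt_card_iff_nontrivial.1 (hE.2 ▸ hp.out.one_lt)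
  obtain ⟨z, hz⟩ := exists_ne (1 : center E)
  exact ⟨z, z.2, fun e => hz (Subtype.ext e)⟩

end CfsgLib.ExtraspecialIso
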