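import Cfsg.Agent.Solvable.System
import Cfsg.Agent.Transfer.PResidual
import Cfsg.Agent.Transfer.Frobenius
import Cfsg.Agent.FGSA.Nilpotent

/-!
# Carter subgroups of finite solvable groups
-/

set_option autoImplicit false
set_option linter.style.haveILetI false
set_option linter.deprecated false
set_option linter.unusedSectionVars false

namespace CfsgLib.Carter

open Subgroup Pointwise CfsgLib.SZ CfsgLib.Solvable CfsgLib.PResidual Cfsg

universe u

variable {G : Type u} [Group G] [Finite G]

theorem hasNormalPComplement_of_isNilpotent (p : ℕ) [Fact p.Prime] [Group.IsNilpotent G] :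
    Cfsg.HasNormalPComplement p G := by
  refine CfsgLib.Fusion.hasNormalPComplement_of_localCondition fun Q hQ g _ hg =>
    mem_centralizer_iff.2 fun q hq => (CfsgLib.FGSA.commute_of_coprime_orderOf q g ?_).eq
  obtain ⟨j, hj⟩ := IsPGroup.iff_orderOf.1 hQ ⟨q, hq⟩
  rw [← orderOf_coe] at hj
  rw [show orderOf q = p ^ j from hj]
  exact hg.symm.pow_left j

theorem coprime_card_pResidual (p : ℕ) [Fact p.Prime] [Group.IsNilpotent G] :
    (Nat.card (Cfsg.pResidual p G)).Coprime p :=
  hasNormalPComplement_iff.1 (hasNormalPComplement_of_isNilpotent p)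

/-- The `p'`-part of a subgroup, as a subgroup of the whole group. -/
noncomputable def pp (p : ℕ) (C : Subgroup G) : Subgroup G := (Cfsg.pResidual p C).map C.subtype

theorem pp_le (p : ℕ) (C : Subgroup G) : pp p C ≤ C := map_subtype_le _

theorem pp_coprime (p : ℕ) [Fact p.Prime] {C : Subgroup G} (hC : Group.IsNilpotent C) :
    (Nat.card (pp p C)).Coprime p := by
  rw [pp, card_map_of_injective C.subtype_injective]
  exact coprime_card_pResidual p

theorem le_normalizer_pp (p : ℕ) (C : Subgroup G) :
    normalizer (C : Set G) ≤ normalizer (pp p C : Set G) := by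
  intro g hg
  rw [← conj_smul_eq_iff_mem_normalizer] at hg ⊢
  have key : ∀ a : G, MulAut.conj a • C = C → MulAut.conj a • pp p C ≤ pp p C := by
    intro a ha x hx
    rw [mem_conj_smul] at hx
    obtain ⟨y, hy, hyx⟩ := hx
    have hx' : x = a * (y : G) * a⁻¹ := by
      rw [show (y : G) = a⁻¹ * x * a from hyx]; group
    subst hx'
    let f : C →* C := (((MulAut.conj a).toMonoidHom).comp C.subtype).codRestrict C fun c => by
      have h1 : a * (c : G) * a⁻¹ ∈ MulAut.conj a • C := mem_conj_smul.2 (by simp [mul_assoc])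
      exact ha.le h1
    exact ⟨f y, CfsgLib.PResidual.map_pResidual_le f (mem_map_of_mem f hy), rfl⟩
  exact eq_of_le_of_card_le (key g hg) (card_conj_smul _ _).ge

theorem exists_card_pp (p : ℕ) [Fact p.Prime] (C : Subgroup G) :
    ∃ k, Nat.card C = Nat.card (pp p C) * p ^ k := by
  obtain ⟨k, hk⟩ := exists_index_pResidual (G := C) (p := p)
  exact ⟨k, by rw [pp, card_map_of_injective C.subtype_injective, ← hk, card_mul_index]⟩

theorem pp_map_le (p : ℕ) [Fact p.Prime] {G' : Type u} [Group G'] [Finite G'] (f : G →* G')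
    (C : Subgroup G) : pp p (C.map f) ≤ (pp p C).map f := by
  set f' := f.subgroupMap C
  obtain ⟨k, hk⟩ := exists_index_pResidual (G := C) (p := p)
  have hs := f.subgroupMap_surjective C
  haveI : ((Cfsg.pResidual p C).map f').Normal := Normal.map inferInstance _ hs
  obtain ⟨i, -, hi⟩ := (Nat.dvd_prime_pow Fact.out).1 (hk ▸ index_map_dvd _ hs)
  refine (map_mono (pResidual_le hi)).trans ?_
  rw [pp, map_map, map_map]
  exact le_rfl

theorem eq_top_of_carter [Group.IsNilpotent G] {C : Subgroup G}
    (h : normalizer (C : Set G) = C) : C = ⊤ :=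
  normalizerCondition_iff_only_full_group_self_normalizing.1
    (Group.normalizerCondition_of_isNilpotent) C h

theorem conj_normalizer (g : G) (H : Subgroup G) :
    MulAut.conj g • normalizer (H : Set G) = normalizer ((MulAut.conj g • H : Subgroup G) : Set G) := by
  ext x
  rw [mem_conj_smul, ← conj_smul_eq_iff_mem_normalizer, ← conj_smul_eq_iff_mem_normalizer]
  rw [mul_assoc, conj_smul_mul g⁻¹, conj_smul_mul x]
  nth_rw 2 [← smul_left_cancel_iff (MulAut.conj g⁻¹)]
  rw [conj_smul_inv_smul g H]

theorem carter_conj {C : Subgroup G} (hC : IsCarterSubgroup C) (g : G) :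
    IsCarterSubgroup (MulAut.conj g • C) := by
  refine ⟨?_, ?_⟩
  · haveI := hC.1
    exact Group.nilpotent_of_mulEquiv (Subgroup.equivSMul (MulAut.conj g) C)
  · rw [← conj_normalizer, hC.2]

theorem carter_subgroupOf {C X : Subgroup G} (hC : IsCarterSubgroup C) (h : C ≤ X) :
    IsCarterSubgroup (C.subgroupOf X) := by
  refine ⟨?_, ?_⟩
  · haveI := hC.1
    exact Group.nilpotent_of_mulEquiv (subgroupOfEquivOfLe h).symm
  · rw [← subgroupOf_normalizer_eq h, hC.2]

/-- The image of a Carter subgroup is a Carter subgroup, given conjugacy in the preimage. -/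
theorem carter_map {C : Subgroup G} (hC : IsCarterSubgroup C) (N : Subgroup G) [N.Normal]
    (hconj : C ⊔ N ≠ ⊤ → ∀ A B : Subgroup ↥(C ⊔ N), IsCarterSubgroup A → IsCarterSubgroup B →
      ∃ g : ↥(C ⊔ N), MulAut.conj g • A = B) :
    IsCarterSubgroup (C.map (QuotientGroup.mk' N)) := by
  refine ⟨?_, ?_⟩
  · haveI := hC.1
    exact Group.nilpotent_of_surjective _ ((QuotientGroup.mk' N).subgroupMap_surjective C)
  · refine le_antisymm (fun y hy => ?_) le_normalizer
    obtain ⟨x, rfl⟩ := QuotientGroup.mk'_surjective N y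
    by_cases htop : C ⊔ N = ⊤
    · have : C.map (QuotientGroup.mk' N) = ⊤ := by
        have h0 : N.map (QuotientGroup.mk' N) = ⊥ :=
          (Subgroup.map_eq_bot_iff _).2 (QuotientGroup.ker_mk' N).ge
        rw [← map_top_of_surjective _ (QuotientGroup.mk'_surjective N), ← htop, Subgroup.map_sup,
          h0, sup_bot_eq]
      rw [this]; exact mem_top _
    have h1 := conj_smul_eq_iff_mem_normalizer.2 hy
    rw [← conj_smul_map] at h1
    have h2 := congrArg (Subgroup.comap (QuotientGroup.mk' N)) h1
    rw [comap_map_eq, comap_map_eq, QuotientGroup.ker_mk'] at h2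
    have hD : MulAut.conj x • C ≤ C ⊔ N := le_sup_left.trans h2.le
    obtain ⟨g, hg⟩ := hconj htop _ _ (carter_subgroupOf (carter_conj hC x) hD)
      (carter_subgroupOf hC le_sup_left)
    have hg' := congrArg (Subgroup.map (C ⊔ N).subtype) hg
    rw [conj_smul_map, map_subgroupOf_eq_of_le hD, map_subgroupOf_eq_of_le le_sup_left,
      ← conj_smul_mul, conj_smul_eq_iff_mem_normalizer, hC.2] at hg'
    have hxm : x ∈ C ⊔ N := by
      have : x = ((g : G))⁻¹ * ((g : G) * x) := by group
      rw [this]
      exact mul_mem (inv_mem g.2) (mem_sup_left hg')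
    have h3 := mem_map_of_mem (QuotientGroup.mk' N) hxm
    rwa [Subgroup.map_sup, (Subgroup.map_eq_bot_iff _).2 (QuotientGroup.ker_mk' N).ge, sup_bot_eq]
      at h3

/-- The normalizer of a `p'`-Hall subgroup in a group with nilpotent quotient by a normal
`p`-subgroup. -/
theorem normalizer_carter {p : ℕ} [Fact p.Prime] {N : Subgroup G} [N.Normal] (hN : IsPGroup p N)
    (hq : Group.IsNilpotent (G ⧸ N)) {H : Subgroup G} (hHc : (Nat.card H).Coprime p) {k : ℕ}
    (hk : H.index ∣ p ^ k) : IsCarterSubgroup (normalizer (H : Set G)) := by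
  set M := normalizer (H : Set G) with hM
  haveI : (H.subgroupOf M).Normal := normal_subgroupOf_of_le_normalizer le_rfl
  have hidx : (H.subgroupOf M).index ∣ p ^ k :=
    (relIndex_dvd_index_of_le (le_normalizer : H ≤ M)).trans hk
  refine ⟨?_, le_antisymm (fun g hg => ?_) le_normalizer⟩
  · haveI : Group.IsNilpotent (M ⧸ H.subgroupOf M) := by
      refine (IsPGroup.of_card_dvd_pow (p := p) (n := k) ?_).isNilpotent
      rwa [← index_eq_card]
    let f : M →* (G ⧸ N) × (M ⧸ H.subgroupOf M) :=
      ((QuotientGroup.mk' N).comp M.subtype).prod (QuotientGroup.mk' _)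
    haveI : Group.IsNilpotent f.range := inferInstance
    refine Group.nilpotent_of_mulEquiv (MonoidHom.ofInjective (f := f) ?_).symm
    rw [← MonoidHom.ker_eq_bot_iff, eq_bot_iff]
    intro x hx
    rw [MonoidHom.mem_ker, MonoidHom.prod_apply, Prod.mk_eq_one] at hx
    have h1 : (x : G) ∈ N ⊓ H :=
      ⟨(QuotientGroup.eq_one_iff (x : G)).1 hx.1, (QuotientGroup.eq_one_iff x).1 hx.2⟩
    obtain ⟨j, hj⟩ := IsPGroup.iff_card.1 hN
    rw [inf_eq_bot_of_coprime (hj ▸ hHc.symm.pow_left j), mem_bot] at h1
    exact Subtype.ext h1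
  · have hle : MulAut.conj g • H ≤ M := by
      rw [← conj_smul_eq_iff_mem_normalizer] at hg
      rw [← hg]
      exact pointwise_smul_le_pointwise_smul_iff.2 le_normalizer
    refine conj_smul_eq_iff_mem_normalizer.1 (eq_of_le_of_card_le ?_ (card_conj_smul _ _).ge)
    intro x hx
    have hxM := hle hx
    have h1 : ((⟨x, hxM⟩ : M) : M ⧸ H.subgroupOf M) = 1 := by
      rw [← orderOf_eq_one_iff]
      refine Nat.eq_one_of_dvd_coprimes (hHc.pow_right k) ?_ ?_
      · refine (orderOf_map_dvd (QuotientGroup.mk' _) _).trans ?_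
        rw [← orderOf_coe, ← card_conj_smul g H]
        exact Subgroup.orderOf_dvd_natCard _ hx
      · refine (_root_.orderOf_dvd_natCard _).trans ?_
        rwa [← index_eq_card]
    exact (QuotientGroup.eq_one_iff (N := H.subgroupOf M) ⟨x, hxM⟩).1 h1

/-- `p'`-parts of a nilpotent subgroup and a normal nilpotent subgroup. -/
theorem sup_pp_spec (p : ℕ) [hp : Fact p.Prime] {C F : Subgroup G} [F.Normal]
    (hC : Group.IsNilpotent C) (hF : Group.IsNilpotent F) :
    (Nat.card ↥(pp p C ⊔ pp p F)).Coprime p ∧
      ∃ k, Nat.card ↥(C ⊔ F) ∣ Nat.card ↥(pp p C ⊔ pp p F) * p ^ k := by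
  have hn : pp p C ≤ normalizer (pp p F : Set G) := by
    refine le_trans ?_ (le_normalizer_pp p F)
    rw [normalizer_eq_top]
    exact le_top
  have h1 := card_sup_mul_card_inf hn
  refine ⟨((pp_coprime p hC).mul_left (pp_coprime p hF)).coprime_dvd_left (card_sup_dvd hn), ?_⟩
  obtain ⟨a, ha⟩ := exists_card_pp p C
  obtain ⟨b, hb⟩ := exists_card_pp p F
  have h2 := card_sup_mul_card_inf (A := C) (K := F) le_normalizer_of_normal
  obtain ⟨c, hc⟩ := card_dvd_of_le (inf_le_inf (pp_le p C) (pp_le p F))
  refine ⟨a + b, Dvd.intro c ?_⟩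
  apply Nat.eq_of_mul_eq_mul_right (Nat.card_pos (α := ↥(pp p C ⊓ pp p F)))
  calc Nat.card ↥(C ⊔ F) * c * Nat.card ↥(pp p C ⊓ pp p F)
      = Nat.card C * Nat.card F := by
        rw [← h2, hc]; ring
    _ = Nat.card ↥(pp p C ⊔ pp p F) * p ^ (a + b) * Nat.card ↥(pp p C ⊓ pp p F) := by
        rw [ha, hb, pow_add]
        calc _ = Nat.card (pp p C) * Nat.card (pp p F) * (p ^ a * p ^ b) := by ring
          _ = _ := by rw [← h1]; ring

theorem exists_aux (n : ℕ) : ∀ (G : Type u) [Group G] [Finite G], Nat.card G = n →
    Group.IsSolvable G → (∃ C : Subgroup G, IsCarterSubgroup C) ∧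
      ∀ C D : Subgroup G, IsCarterSubgroup C → IsCarterSubgroup D →
        ∃ g : G, MulAut.conj g • C = D := by
  induction n using Nat.strong_induction_on with
  | _ n ih =>
    intro G _ _ hn hsol
    by_cases hnil : Group.IsNilpotent G
    · refine ⟨⟨⊤, Group.nilpotent_of_mulEquiv Subgroup.topEquiv.symm, eq_top_iff.2 le_normalizer⟩,
        fun C D hC hD => ⟨1, ?_⟩⟩
      rw [eq_top_of_carter hC.2, eq_top_of_carter hD.2, map_one, one_smul]
    have hne : (⊤ : Subgroup G) ≠ ⊥ := fun h => hnil (by
      haveI : Subsingleton G := Subgroup.subsingleton_iff.1 (subsingleton_iff_bot_eq_top.1 h.symm)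
      infer_instance)
    obtain ⟨N, hNn, hN, -, hmin⟩ := exists_minimal_normal_le hne
    haveI := hNn
    obtain ⟨hab, p, hp, -, hpN⟩ := minimal_normal_elementary hN hmin inferInstance
    haveI := Fact.mk hp
    haveI := hab
    obtain ⟨⟨Cb, hCb⟩, hconjq⟩ := ih _ (hn ▸ card_quotient_lt hN) (G ⧸ N) rfl inferInstance
    have hsub : ∀ X : Subgroup G, X ≠ ⊤ → (∃ C : Subgroup X, IsCarterSubgroup C) ∧
        ∀ C D : Subgroup X, IsCarterSubgroup C → IsCarterSubgroup D →
          ∃ g : X, MulAut.conj g • C = D :=
      fun X hX => ih _ (hn ▸ card_lt_of_ne_top hX) X rfl inferInstance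
    set f := QuotientGroup.mk' N
    have hker : N.map f = ⊥ := (Subgroup.map_eq_bot_iff _).2 (QuotientGroup.ker_mk' N).ge
    by_cases hq : Group.IsNilpotent (G ⧸ N)
    · have main : ∀ C : Subgroup G, IsCarterSubgroup C → ∃ H : Subgroup G,
          C = normalizer (H : Set G) ∧ (Nat.card H).Coprime p ∧
            ∃ k, Nat.card G = Nat.card H * p ^ k := by
        intro C hC
        have hm := carter_map hC N fun hne => (hsub _ hne).2
        have htop : C ⊔ N = ⊤ := by
          have := congrArg (Subgroup.comap f) (eq_top_of_carter hm.2)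
          rwa [comap_map_eq, QuotientGroup.ker_mk', comap_top] at this
        have hbot : C ⊓ N = ⊥ := by
          refine (hmin _ ?_ inf_le_right).resolve_right fun h => ?_
          · rw [← normalizer_eq_top_iff, eq_top_iff, ← htop, sup_le_iff]
            refine ⟨fun c hc => conj_smul_eq_iff_mem_normalizer.1 ?_, ?_⟩
            · rw [Subgroup.smul_inf, conj_smul_self_of_mem hc, conj_smul_normal]
            · exact ((le_centralizer N).trans (centralizer_le inf_le_right)).trans
                (centralizer_le_normalizer _)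
          · apply hnil
            have hCtop : C = ⊤ := by rw [← htop]; exact (sup_eq_left.2 (inf_eq_right.1 h)).symm
            haveI := hC.1
            subst hCtop
            exact Group.nilpotent_of_mulEquiv Subgroup.topEquiv
        have hcard := card_sup_of_disjoint (A := C) (K := N) le_normalizer_of_normal hbot
        rw [htop, card_top] at hcard
        obtain ⟨a, ha⟩ := exists_card_pp p C
        obtain ⟨b, hb⟩ := IsPGroup.iff_card.1 hpN
        have hG : Nat.card G = Nat.card (pp p C) * p ^ (a + b) := by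
          rw [hcard, ha, hb, pow_add, mul_assoc]
        have hidx : (pp p C).index ∣ p ^ (a + b) := by
          rw [Nat.eq_of_mul_eq_mul_left Nat.card_pos ((card_mul_index _).trans hG)]
        have hM := normalizer_carter hpN hq (pp_coprime p hC.1) hidx
        refine ⟨pp p C, ?_, pp_coprime p hC.1, a + b, hG⟩
        have hle : C ≤ normalizer (pp p C : Set G) := le_normalizer.trans (le_normalizer_pp p C)
        haveI := hM.1
        exact le_antisymm hle
          (subgroupOf_eq_top.1 (eq_top_of_carter (carter_subgroupOf hC hle).2))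
      obtain ⟨a, b, hab', hcop, ha, hb⟩ := CfsgLib.Hall.exists_pi_split G (fun r => r ≠ p)
      obtain ⟨H, hH, -⟩ := CfsgLib.Hall.hall hab' hcop
      have hb0 : b ≠ 0 := fun h => Nat.card_pos.ne' (hab'.trans (by simp [h]))
      have hbp : ∃ k, b = p ^ k := ⟨_, Nat.eq_prime_pow_of_unique_prime_dvd hb0
        fun {d} hd hdb => not_not.1 (hb d hd hdb)⟩
      obtain ⟨k, rfl⟩ := hbp
      refine ⟨⟨_, normalizer_carter hpN hq (H := H) ?_ (k := k) ?_⟩, fun C D hC hD => ?_⟩
      · rw [hH]; exact coprime_of_not_dvd hp fun h => ha p hp h rfl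
      · rw [Nat.eq_of_mul_eq_mul_left Nat.card_pos ((card_mul_index _).trans (hH ▸ hab'))]
      obtain ⟨H₁, rfl, hc₁, k₁, hk₁⟩ := main C hC
      obtain ⟨H₂, rfl, hc₂, k₂, hk₂⟩ := main D hD
      obtain ⟨g, hg⟩ := CfsgLib.Hall.hall_conj hk₁ (hc₁.pow_right k₁) (H := H₁) (K := H₂) rfl (by
        have h3 := hk₁.symm.trans hk₂
        exact Nat.dvd_antisymm ((hc₂.pow_right k₁).dvd_of_dvd_mul_right (Dvd.intro _ h3.symm))
          ((hc₁.pow_right k₂).dvd_of_dvd_mul_right (Dvd.intro _ h3)))
      exact ⟨g, by rw [conj_normalizer, hg]⟩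
    · set X := Cb.comap f
      have hXtop : X ≠ ⊤ := fun h => hq (by
        have h1 : Cb = ⊤ := by
          rw [← map_comap_eq_self_of_surjective (QuotientGroup.mk'_surjective N) Cb]
          exact (congrArg (Subgroup.map f) h).trans
            (map_top_of_surjective _ (QuotientGroup.mk'_surjective N))
        haveI := hCb.1
        subst h1
        exact Group.nilpotent_of_mulEquiv Subgroup.topEquiv)
      constructor
      · obtain ⟨C₀, hC₀⟩ := (hsub X hXtop).1
        set C := C₀.map X.subtype with hC
        have hCX : C ≤ X := map_subtype_le _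
        have hNX : N ≤ X := fun x hx => by
          show f x ∈ Cb
          rw [show f x = 1 from (QuotientGroup.eq_one_iff x).2 hx]
          exact one_mem _
        have hsup : C ⊔ N = X := by
          refine le_antisymm (sup_le hCX hNX) ?_
          haveI : (N.subgroupOf X).Normal := normal_subgroupOf
          have hm := carter_map hC₀ (N.subgroupOf X) fun hne => by
            have hlt : Nat.card ↥(C₀ ⊔ N.subgroupOf X) < n :=
              (card_lt_of_ne_top hne).trans (hn ▸ card_lt_of_ne_top hXtop)
            exact (ih _ hlt _ rfl inferInstance).2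
          have hXn : Group.IsNilpotent (X ⧸ N.subgroupOf X) := by
            haveI := hCb.1
            let φ : X →* Cb := (f.comp X.subtype).codRestrict Cb fun x => x.2
            have hk : φ.ker = N.subgroupOf X := by
              ext x; rw [MonoidHom.mem_ker, mem_subgroupOf, ← QuotientGroup.eq_one_iff]
              exact Subtype.ext_iff
            exact Group.nilpotent_of_mulEquiv
              ((MonoidHom.ofInjective (QuotientGroup.kerLift_injective φ)).trans
                (MulEquiv.refl _)).symm |> fun h => by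
              haveI : Group.IsNilpotent (X ⧸ φ.ker) := h
              exact Group.nilpotent_of_mulEquiv (QuotientGroup.quotientMulEquivOfEq hk)
          have h1 := congrArg (Subgroup.comap (QuotientGroup.mk' (N.subgroupOf X)))
            (eq_top_of_carter hm.2)
          rw [comap_map_eq, QuotientGroup.ker_mk', comap_top] at h1
          intro x hx
          have h2 : (⟨x, hx⟩ : X) ∈ C₀ ⊔ N.subgroupOf X := h1.symm ▸ mem_top _
          have h3 := mem_map_of_mem X.subtype h2
          rwa [Subgroup.map_sup, map_subgroupOf_eq_of_le hNX] at h3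
        refine ⟨C, ?_, le_antisymm (fun g hg => ?_) le_normalizer⟩
        · haveI := hC₀.1
          exact Group.nilpotent_of_mulEquiv (C₀.equivMapOfInjective X.subtype X.subtype_injective)
        · have hgX : g ∈ X := by
            have h1 := conj_smul_eq_iff_mem_normalizer.2 hg
            have h2 := congrArg (Subgroup.map f) h1
            rw [conj_smul_map] at h2
            have h3 : C.map f = Cb := by
              have := congrArg (Subgroup.map f) hsup
              rw [Subgroup.map_sup, hker, sup_bot_eq,
                map_comap_eq_self_of_surjective (QuotientGroup.mk'_surjective N)] at this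
              exact this
            rw [h3, conj_smul_eq_iff_mem_normalizer, hCb.2] at h2
            exact h2
          have h4 : (⟨g, hgX⟩ : X) ∈ normalizer (C₀ : Set X) := by
            rw [← conj_smul_eq_iff_mem_normalizer]
            refine Subgroup.map_injective X.subtype_injective ?_
            rw [conj_smul_map]; exact conj_smul_eq_iff_mem_normalizer.2 hg
          rw [hC₀.2] at h4
          exact ⟨_, h4, rfl⟩
      · intro C D hC hD
        obtain ⟨g, hg⟩ := hconjq _ _ (carter_map hC N fun hne => (hsub _ hne).2)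
          (carter_map hD N fun hne => (hsub _ hne).2)
        obtain ⟨x, rfl⟩ := QuotientGroup.mk'_surjective N g
        rw [← conj_smul_map] at hg
        have hg' := congrArg (Subgroup.comap f) hg
        rw [comap_map_eq, comap_map_eq, QuotientGroup.ker_mk'] at hg'
        have hC' := carter_conj hC x
        by_cases htop : D ⊔ N = ⊤
        · exfalso
          apply hq
          have h1 : D.map f = ⊤ := by
            rw [← map_top_of_surjective _ (QuotientGroup.mk'_surjective N), ← htop,
              Subgroup.map_sup, hker, sup_bot_eq]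
          haveI := hD.1
          exact Group.nilpotent_of_surjective (f.comp D.subtype) (by
            rw [← MonoidHom.range_eq_top, MonoidHom.range_comp, range_subtype, h1])
        obtain ⟨y, hy⟩ := (hsub _ htop).2 _ _
          (carter_subgroupOf hC' (le_sup_left.trans hg'.le))
          (carter_subgroupOf hD le_sup_left)
        have hy' := congrArg (Subgroup.map (D ⊔ N).subtype) hy
        rw [conj_smul_map, map_subgroupOf_eq_of_le (le_sup_left.trans hg'.le),
          map_subgroupOf_eq_of_le le_sup_left] at hy'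
        exact ⟨_, (conj_smul_mul _ _ _).trans hy'⟩

theorem exists_carter [h : Group.IsSolvable G] : ∃ C : Subgroup G, IsCarterSubgroup C :=
  (exists_aux _ G rfl h).1

theorem conjugate [h : Group.IsSolvable G] {C D : Subgroup G} (hC : IsCarterSubgroup C)
    (hD : IsCarterSubgroup D) : ∃ g : G, MulAut.conj g • C = D :=
  (exists_aux _ G rfl h).2 C D hC hD

theorem carter_map' [Group.IsSolvable G] {C : Subgroup G} (hC : IsCarterSubgroup C)
    (N : Subgroup G) [N.Normal] : IsCarterSubgroup (C.map (QuotientGroup.mk' N)) :=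
  carter_map hC N fun _ _ _ hA hB => conjugate hA hB

/-- A system reducing into a Carter subgroup has its normalizer inside it. -/
theorem reduced_le_aux (n : ℕ) : ∀ (G : Type u) [Group G] [Finite G], Nat.card G = n →
    Group.IsSolvable G → ∀ C : Subgroup G, IsCarterSubgroup C →
      ∀ K : Nat.Primes → Subgroup G, Cfsg.IsComplementSystem K →
        (∀ p : Nat.Primes, pp (p : ℕ) C ≤ K p) → Cfsg.systemNormalizer K ≤ C := by
  induction n using Nat.strong_induction_on with
  | _ n ih =>
    intro G _ _ hn hsol C hC K hK hred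
    by_cases hnil : Group.IsNilpotent G
    · rw [eq_top_of_carter hC.2]; exact le_top
    have hne : (⊤ : Subgroup G) ≠ ⊥ := fun h => hnil (by
      haveI : Subsingleton G := Subgroup.subsingleton_iff.1 (subsingleton_iff_bot_eq_top.1 h.symm)
      infer_instance)
    obtain ⟨N, hNn, hN, -, hmin⟩ := exists_minimal_normal_le hne
    haveI := hNn
    obtain ⟨hab, r, hr, -, hrN⟩ := minimal_normal_elementary hN hmin inferInstance
    haveI := Fact.mk hr
    have hNnil : Group.IsNilpotent N := hrN.isNilpotent
    have hq := QuotientGroup.mk'_surjective N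
    have h1 := ih _ (hn ▸ card_quotient_lt hN) (G ⧸ N) rfl inferInstance _ (carter_map' hC N) _
      (CfsgLib.System.map_system hK hq) fun p => by
        haveI := Fact.mk p.2
        exact (pp_map_le (p : ℕ) _ C).trans (map_mono (hred p))
    rw [CfsgLib.System.map_systemNormalizer hK N] at h1
    have hDX : Cfsg.systemNormalizer K ≤ C ⊔ N := by
      have h2 := map_le_iff_le_comap.1 h1
      rwa [comap_map_eq, QuotientGroup.ker_mk'] at h2
    have hle : ∀ p : Nat.Primes, pp (p : ℕ) C ⊔ pp (p : ℕ) N ≤ K p := by
      intro p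
      haveI := Fact.mk p.2
      refine sup_le (hred p) (CfsgLib.System.le_of_coprime hK p (pp_coprime _ hNnil) (Or.inr ?_))
      refine le_trans ?_ (le_normalizer_pp _ N)
      rw [normalizer_eq_top]
      exact le_top
    by_cases htop : C ⊔ N = ⊤
    · have hCD : C ≤ Cfsg.systemNormalizer K := by
        intro c hc
        rw [CfsgLib.System.mem_systemNormalizer]
        intro p
        haveI := Fact.mk p.2
        obtain ⟨hcop, k, hk⟩ := sup_pp_spec (p : ℕ) hC.1 hNnil (F := N)
        have heq : pp (p : ℕ) C ⊔ pp (p : ℕ) N = K p := by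
          refine eq_of_le_of_card_le (hle p) (Nat.le_of_dvd Nat.card_pos ?_)
          rw [htop, card_top, ← card_mul_index (K p)] at hk
          exact ((CfsgLib.System.card_coprime hK p).pow_right k).dvd_of_dvd_mul_right
            ((Dvd.intro _ rfl).trans hk)
        rw [← heq, ← conj_smul_eq_iff_mem_normalizer, Subgroup.smul_sup,
          conj_smul_eq_iff_mem_normalizer.2 (le_normalizer_pp _ C (le_normalizer hc)),
          conj_smul_eq_iff_mem_normalizer.2 (le_normalizer_pp _ N
            ((normalizer_eq_top (H := N)).symm ▸ mem_top c))]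
      haveI := CfsgLib.System.systemNormalizer_isNilpotent hK
      exact subgroupOf_eq_top.1 (eq_top_of_carter (carter_subgroupOf hC hCD).2)
    · set X := C ⊔ N with hX
      have hK' : Cfsg.IsComplementSystem fun p => (K p).subgroupOf X := by
        intro p
        haveI := Fact.mk p.2
        obtain ⟨hcop, k, hk⟩ := sup_pp_spec (p : ℕ) hC.1 hNnil (F := N)
        refine CfsgLib.System.index_eq_of_coprime p.2 (j := k) ?_ ?_
        · have hsub : pp (p : ℕ) C ⊔ pp (p : ℕ) N ≤ X :=
            sup_le_sup (pp_le _ _) (pp_le _ _)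
          refine (relIndex_dvd_of_le_left X (hle p)).trans ?_
          rw [← card_mul_index ((pp (p : ℕ) C ⊔ pp (p : ℕ) N).subgroupOf X),
            Nat.card_congr (subgroupOfEquivOfLe hsub).toEquiv] at hk
          exact Nat.dvd_of_mul_dvd_mul_left Nat.card_pos hk
        · refine (CfsgLib.System.card_coprime hK p).coprime_dvd_left ?_
          exact card_comap_dvd_of_injective _ _ X.subtype_injective
      have h2 := ih _ (hn ▸ card_lt_of_ne_top htop) X rfl inferInstance (C.subgroupOf X)
        (carter_subgroupOf hC le_sup_left) _ hK' fun p => by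
          haveI := Fact.mk p.2
          refine map_subtype_le_map_subtype.1 ?_
          have h3 : pp (p : ℕ) (C.subgroupOf X) ≤ C.subgroupOf X := pp_le _ _
          refine le_trans ?_ (map_mono (f := X.subtype) (comap_mono (f := X.subtype) (hred p)))
          rintro x ⟨y, hy, rfl⟩
          refine ⟨y, ?_, rfl⟩
          rw [SetLike.mem_coe, mem_comap]
          obtain ⟨z, hz, rfl⟩ := hy
          exact ⟨⟨_, z.2⟩, CfsgLib.PResidual.map_pResidual_le (subgroupOfEquivOfLe le_sup_left :
            C.subgroupOf X ≃* C).toMonoidHom (mem_map_of_mem _ hz), rfl⟩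
      intro d hd
      have hdX := hDX hd
      refine h2 (x := (⟨d, hdX⟩ : X)) (CfsgLib.System.mem_systemNormalizer.2 fun p => ?_)
      rw [mem_normalizer_iff]
      exact fun x => mem_normalizer_iff.1 (CfsgLib.System.mem_systemNormalizer.1 hd p) (x : G)

theorem exists_reduced [Group.IsSolvable G] {C : Subgroup G} (hC : IsCarterSubgroup C) :
    ∃ K : Nat.Primes → Subgroup G, Cfsg.IsComplementSystem K ∧ ∀ p : Nat.Primes, pp (p : ℕ) C ≤ K p := by
  have : ∀ p : Nat.Primes, ∃ H : Subgroup G,
      H.index = (p : ℕ) ^ (Nat.card G).factorization p ∧ pp (p : ℕ) C ≤ H := by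
    intro p
    haveI := Fact.mk p.2
    obtain ⟨H, hH, hle⟩ := CfsgLib.Hall.hall_dominance (G := G)
      (a := Nat.card G / (p : ℕ) ^ (Nat.card G).factorization p)
      (b := (p : ℕ) ^ (Nat.card G).factorization p)
      (Nat.div_mul_cancel (Nat.ordProj_dvd _ _)).symm
      ((Nat.coprime_ordCompl p.2 Nat.card_pos.ne').symm.pow_right _)
      ((pp_coprime _ hC.1).pow_right _)
    refine ⟨H, Nat.eq_of_mul_eq_mul_left (Nat.card_pos (α := H)) ?_, hle⟩
    rw [card_mul_index, hH, Nat.div_mul_cancel (Nat.ordProj_dvd _ _)]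
  choose K hK hle using this
  exact ⟨K, hK, hle⟩

theorem systemNormalizer_le_carter [h : Group.IsSolvable G] :
    (∀ C : Subgroup G, IsCarterSubgroup C → ∃ K : Nat.Primes → Subgroup G,
      Cfsg.IsComplementSystem K ∧ Cfsg.systemNormalizer K ≤ C) ∧
    ∀ K : Nat.Primes → Subgroup G, Cfsg.IsComplementSystem K →
      ∃ C : Subgroup G, IsCarterSubgroup C ∧ Cfsg.systemNormalizer K ≤ C := by
  refine ⟨fun C hC => ?_, fun K hK => ?_⟩
  · obtain ⟨K, hK, hle⟩ := exists_reduced hC
    exact ⟨K, hK, reduced_le_aux _ G rfl h C hC K hK hle⟩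
  · obtain ⟨C, hC⟩ := exists_carter (G := G)
    obtain ⟨K₀, hK₀, hle⟩ := exists_reduced hC
    obtain ⟨g, hg⟩ := CfsgLib.System.conjugate hK₀ hK
    refine ⟨_, carter_conj hC g, ?_⟩
    rw [← funext hg, CfsgLib.System.systemNormalizer_conj]
    exact pointwise_smul_le_pointwise_smul_iff.2 (reduced_le_aux _ G rfl h C hC K₀ hK₀ hle)

/-- In groups of nilpotent length at most two Carter subgroups are system normalizers. -/
theorem carter_iff_systemNormalizer (F : Subgroup G) [F.Normal] (hF : Group.IsNilpotent F)
    (hGF : Group.IsNilpotent (G ⧸ F)) (C : Subgroup G) :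
    IsCarterSubgroup C ↔ ∃ K : Nat.Primes → Subgroup G,
      Cfsg.IsComplementSystem K ∧ C = Cfsg.systemNormalizer K := by
  haveI hsol : Group.IsSolvable G :=
    (Group.isSolvable_iff_subgroup_quotient F).2 ⟨inferInstance, inferInstance⟩
  have key : ∀ C : Subgroup G, IsCarterSubgroup C → ∀ K : Nat.Primes → Subgroup G,
      Cfsg.IsComplementSystem K → (∀ p : Nat.Primes, pp (p : ℕ) C ≤ K p) →
        Cfsg.systemNormalizer K = C := by
    intro C hC K hK hred
    refine le_antisymm (reduced_le_aux _ G rfl hsol C hC K hK hred) fun c hc => ?_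
    have htop : C ⊔ F = ⊤ := by
      have := congrArg (Subgroup.comap (QuotientGroup.mk' F))
        (eq_top_of_carter (carter_map' hC F).2)
      rwa [comap_map_eq, QuotientGroup.ker_mk', comap_top] at this
    rw [CfsgLib.System.mem_systemNormalizer]
    intro p
    haveI := Fact.mk p.2
    obtain ⟨hcop, k, hk⟩ := sup_pp_spec (p : ℕ) hC.1 hF (F := F)
    have hpF : pp (p : ℕ) F ≤ K p := by
      refine CfsgLib.System.le_of_coprime hK p (pp_coprime _ hF) (Or.inr ?_)
      refine le_trans ?_ (le_normalizer_pp _ F)
      rw [normalizer_eq_top]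
      exact le_top
    have heq : pp (p : ℕ) C ⊔ pp (p : ℕ) F = K p := by
      refine eq_of_le_of_card_le (sup_le (hred p) hpF) (Nat.le_of_dvd Nat.card_pos ?_)
      rw [htop, card_top, ← card_mul_index (K p)] at hk
      exact ((CfsgLib.System.card_coprime hK p).pow_right k).dvd_of_dvd_mul_right
        ((Dvd.intro _ rfl).trans hk)
    rw [← heq, ← conj_smul_eq_iff_mem_normalizer, Subgroup.smul_sup,
      conj_smul_eq_iff_mem_normalizer.2 (le_normalizer_pp _ C (le_normalizer hc)),
      conj_smul_eq_iff_mem_normalizer.2 (le_normalizer_pp _ F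
        ((normalizer_eq_top (H := F)).symm ▸ mem_top c))]
  constructor
  · intro hC
    obtain ⟨K, hK, hle⟩ := exists_reduced hC
    exact ⟨K, hK, (key C hC K hK hle).symm⟩
  · rintro ⟨K, hK, rfl⟩
    obtain ⟨C, hC⟩ := exists_carter (G := G)
    obtain ⟨K₀, hK₀, hle⟩ := exists_reduced hC
    obtain ⟨g, hg⟩ := CfsgLib.System.conjugate hK₀ hK
    rw [← funext hg, CfsgLib.System.systemNormalizer_conj, key C hC K₀ hK₀ hle]
    exact carter_conj hC g

end CfsgLib.Carter
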