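import Cfsg.Agent.Solvable.Basics
import Cfsg.Agent.InvChar.UniqueInvolution
import Mathlib.GroupTheory.Solvable

/-!
Products of two abelian groups: Itô's theorem and the normal subgroup in a factor.
-/

set_option autoImplicit false
set_option linter.style.haveILetI false

namespace CfsgLib.Ito

open Subgroup CfsgLib.Solvable
open scoped commutatorElement

variable {G : Type*} [Group G] {A B : Subgroup G}

theorem swap (hAB : ∀ g : G, ∃ a ∈ A, ∃ b ∈ B, g = a * b) :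
    ∀ g : G, ∃ b ∈ B, ∃ a ∈ A, g = b * a := by
  intro g
  obtain ⟨a, ha, b, hb, h⟩ := hAB g⁻¹
  exact ⟨b⁻¹, inv_mem hb, a⁻¹, inv_mem ha, by rw [← inv_inv g, h, mul_inv_rev]⟩

theorem derivedSeries_two [IsMulCommutative A] [IsMulCommutative B]
    (hAB : ∀ g : G, ∃ a ∈ A, ∃ b ∈ B, g = a * b) : derivedSeries G 2 = ⊥ := by
  have hA : ∀ x ∈ A, ∀ y ∈ A, x * y = y * x := fun x hx y hy => setLike_mul_comm hx hy
  have hB : ∀ x ∈ B, ∀ y ∈ B, x * y = y * x := fun x hx y hy => setLike_mul_comm hx hy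
  set S : Set G := {g | ∃ a ∈ A, ∃ b ∈ B, ⁅a, b⁆ = g}
  set D := closure S
  have hconj : ∀ g x y : G, g * ⁅x, y⁆ * g⁻¹ = ⁅g * x * g⁻¹, g * y * g⁻¹⁆ := fun g x y => by
    simp only [commutatorElement_def]; group
  have actA : ∀ a₁ ∈ A, ∀ a ∈ A, ∀ b ∈ B, ∃ b₂ ∈ B, (∀ a' ∈ A, a₁ * ⁅a', b⁆ * a₁⁻¹ = ⁅a', b₂⁆) ∧
      a₁ * ⁅a, b⁆ * a₁⁻¹ = ⁅a, b₂⁆ := by
    intro a₁ ha₁ a ha b hb
    obtain ⟨b₂, hb₂, a₂, ha₂, h2⟩ := swap hAB (a₁ * b * a₁⁻¹)
    have key : ∀ a' ∈ A, a₁ * ⁅a', b⁆ * a₁⁻¹ = ⁅a', b₂⁆ := fun a' ha' => by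
      rw [hconj, h2, hA a₁ ha₁ a' ha', mul_inv_cancel_right, commutatorElement_def,
        commutatorElement_def]
      have : a₂ * a'⁻¹ = a'⁻¹ * a₂ := hA a₂ ha₂ a'⁻¹ (inv_mem ha')
      rw [mul_inv_rev, ← mul_assoc a' b₂ a₂, mul_assoc (a' * b₂) a₂ a'⁻¹, this]
      group
    exact ⟨b₂, hb₂, key, key a ha⟩
  have actB : ∀ b₁ ∈ B, ∀ a ∈ A, ∀ b ∈ B, ∃ a₃ ∈ A, (∀ b' ∈ B, b₁ * ⁅a, b'⁆ * b₁⁻¹ = ⁅a₃, b'⁆) ∧
      b₁ * ⁅a, b⁆ * b₁⁻¹ = ⁅a₃, b⁆ := by
    intro b₁ hb₁ a ha b hb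
    obtain ⟨a₃, ha₃, b₃, hb₃, h3⟩ := hAB (b₁ * a * b₁⁻¹)
    have key : ∀ b' ∈ B, b₁ * ⁅a, b'⁆ * b₁⁻¹ = ⁅a₃, b'⁆ := fun b' hb' => by
      rw [hconj, h3, hB b₁ hb₁ b' hb', mul_inv_cancel_right, commutatorElement_def,
        commutatorElement_def]
      have : b₃ * b' = b' * b₃ := hB b₃ hb₃ b' hb'
      rw [mul_assoc a₃ b₃ b', this]
      group
    exact ⟨a₃, ha₃, key, key b hb⟩
  haveI : D.Normal := by
    refine ⟨fun n hn g => ?_⟩
    induction hn using closure_induction with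
    | mem x hx =>
      obtain ⟨a, ha, b, hb, rfl⟩ := hx
      obtain ⟨a₁, ha₁, b₁, hb₁, rfl⟩ := hAB g
      obtain ⟨a₃, ha₃, -, h3⟩ := actB b₁ hb₁ a ha b hb
      obtain ⟨b₂, hb₂, -, h2⟩ := actA a₁ ha₁ a₃ ha₃ b hb
      refine subset_closure ⟨a₃, ha₃, b₂, hb₂, ?_⟩
      rw [← h2, ← h3]
      group
    | one => simp
    | mul x y _ _ hx hy =>
      have := mul_mem hx hy
      rwa [conj_mul] at this
    | inv x _ hx =>
      rw [← conj_inv]
      exact inv_mem hx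
  have hcomm : ∀ a₁ ∈ A, ∀ b₁ ∈ B, ∀ y ∈ D, ⁅a₁, b₁⁆ * y = y * ⁅a₁, b₁⁆ := by
    intro a₁ ha₁ b₁ hb₁ y hy
    have hle : D ≤ MonoidHom.eqLocus (MulAut.conj (a₁ * b₁)).toMonoidHom
        (MulAut.conj (b₁ * a₁)).toMonoidHom := by
      refine (closure_le _).2 ?_
      rintro _ ⟨a, ha, b, hb, rfl⟩
      obtain ⟨a₃, ha₃, h3', h3⟩ := actB b₁ hb₁ a ha b hb
      obtain ⟨b₂, hb₂, h2', h2⟩ := actA a₁ ha₁ a ha b hb
      show a₁ * b₁ * ⁅a, b⁆ * (a₁ * b₁)⁻¹ = b₁ * a₁ * ⁅a, b⁆ * (b₁ * a₁)⁻¹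
      calc a₁ * b₁ * ⁅a, b⁆ * (a₁ * b₁)⁻¹ = a₁ * (b₁ * ⁅a, b⁆ * b₁⁻¹) * a₁⁻¹ := by group
        _ = ⁅a₃, b₂⁆ := by rw [h3, h2' a₃ ha₃]
        _ = b₁ * (a₁ * ⁅a, b⁆ * a₁⁻¹) * b₁⁻¹ := by rw [h2, h3' b₂ hb₂]
        _ = _ := by group
    have h1 : a₁ * b₁ * ((b₁ * a₁)⁻¹ * y * (b₁ * a₁)) * (a₁ * b₁)⁻¹ =
        b₁ * a₁ * ((b₁ * a₁)⁻¹ * y * (b₁ * a₁)) * (b₁ * a₁)⁻¹ :=
      hle (Normal.conj_mem' inferInstance y hy (b₁ * a₁))
    rw [commutatorElement_def]
    calc a₁ * b₁ * a₁⁻¹ * b₁⁻¹ * y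
        = a₁ * b₁ * ((b₁ * a₁)⁻¹ * y * (b₁ * a₁)) * (a₁ * b₁)⁻¹ * (a₁ * b₁ * a₁⁻¹ * b₁⁻¹) := by
          group
      _ = y * (a₁ * b₁ * a₁⁻¹ * b₁⁻¹) := by rw [h1]; group
  have hDc : D ≤ centralizer (D : Set G) := by
    refine (closure_le _).2 ?_
    rintro _ ⟨a, ha, b, hb, rfl⟩
    exact mem_centralizer_iff.2 fun y hy => (hcomm a ha b hb y hy).symm
  have hG' : commutator G ≤ D := by
    have hsub : ∀ a ∈ A, ∀ b ∈ B, (QuotientGroup.mk' D a) * QuotientGroup.mk' D b =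
        QuotientGroup.mk' D b * QuotientGroup.mk' D a := fun a ha b hb => by
      rw [← commutatorElement_eq_one_iff_mul_comm, ← map_commutatorElement]
      exact (QuotientGroup.eq_one_iff _).2 (subset_closure ⟨a, ha, b, hb, rfl⟩)
    rw [_root_.commutator_def, commutator_le]
    intro g _ h _
    rw [← QuotientGroup.eq_one_iff, ← QuotientGroup.mk'_apply, map_commutatorElement,
      commutatorElement_eq_one_iff_mul_comm]
    obtain ⟨a, ha, b, hb, rfl⟩ := hAB g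
    obtain ⟨c, hc, d, hd, rfl⟩ := hAB h
    have hca : ∀ z ∈ A, Commute (QuotientGroup.mk' D z) (QuotientGroup.mk' D (c * d)) := fun z hz => by
      rw [map_mul]
      exact Commute.mul_right (show Commute _ _ from by
        rw [Commute, SemiconjBy, ← map_mul, hA z hz c hc, map_mul]) (hsub z hz d hd)
    have hcb : ∀ z ∈ B, Commute (QuotientGroup.mk' D z) (QuotientGroup.mk' D (c * d)) := fun z hz => by
      rw [map_mul]
      exact Commute.mul_right (hsub c hc z hz).symm (show Commute _ _ from by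
        rw [Commute, SemiconjBy, ← map_mul, hB z hz d hd, map_mul])
    rw [map_mul]
    exact (hca a ha).mul_left (hcb b hb)
  rw [derivedSeries_succ, derivedSeries_one, eq_bot_iff]
  exact (commutator_mono hG' hG').trans (commutator_eq_bot_iff_le_centralizer.2 hDc).le

theorem mem_sup_normal {A N : Subgroup G} [N.Normal] {x : G} :
    x ∈ A ⊔ N ↔ ∃ a ∈ A, ∃ n ∈ N, a * n = x := mem_sup_of_normal_right

theorem exists_normal_in_factor [Finite G] [Nontrivial G] [IsMulCommutative A] [IsMulCommutative B]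
    (hAB : ∀ g : G, ∃ a ∈ A, ∃ b ∈ B, g = a * b) :
    ∃ N : Subgroup G, N.Normal ∧ N ≠ ⊥ ∧ (N ≤ A ∨ N ≤ B) := by
  classical
  by_contra hno
  push Not at hno
  have hno' : ∀ N : Subgroup G, N.Normal → (N ≤ A ∨ N ≤ B) → N = ⊥ := fun N hN hle => by
    by_contra hne
    exact hle.elim (hno N hN hne).1 (hno N hN hne).2
  have hA : ∀ x ∈ A, ∀ y ∈ A, x * y = y * x := fun x hx y hy => setLike_mul_comm hx hy
  have hB : ∀ x ∈ B, ∀ y ∈ B, x * y = y * x := fun x hx y hy => setLike_mul_comm hx hy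
  have hcen : ∀ x : G, (x ∈ A ∨ x ∈ B) → (∀ a ∈ A, a * x = x * a) → (∀ b ∈ B, b * x = x * b) →
      x = 1 := by
    intro x hx h1 h2
    have hc : zpowers x ≤ center G := zpowers_le.2 (mem_center_iff.2 fun g => by
      obtain ⟨a, ha, b, hb, rfl⟩ := hAB g
      exact (Commute.mul_left (h1 a ha) (h2 b hb)).eq)
    have := hno' (zpowers x) ⟨fun n hn g => by
      rwa [mem_center_iff.1 (hc hn) g, mul_inv_cancel_right]⟩ (hx.imp zpowers_le.2 zpowers_le.2)
    exact zpowers_eq_bot.1 this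
  have hinf : ∀ x, x ∈ A → x ∈ B → x = 1 := fun x ha hb =>
    hcen x (Or.inl ha) (fun a h => hA a h x ha) (fun b h => hB b h x hb)
  have hCA : ∀ y : G, (∀ a ∈ A, a * y = y * a) → y ∈ A := by
    intro y hy
    obtain ⟨a, ha, b, hb, rfl⟩ := hAB y
    have hb1 : b = 1 := by
      refine hcen b (Or.inr hb) (fun a' ha' => ?_) fun b' hb' => hB b' hb' b hb
      have h := hy a' ha'
      rw [← mul_assoc, hA a' ha' a ha, mul_assoc, mul_assoc] at h
      exact mul_left_cancel h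
    rw [hb1, mul_one]; exact ha
  have hG2 := derivedSeries_two hAB
  rw [derivedSeries_succ, derivedSeries_one, commutator_eq_bot_iff_le_centralizer] at hG2
  have hGc : ∀ x ∈ commutator G, ∀ y ∈ commutator G, x * y = y * x := fun x hx y hy =>
    (mem_centralizer_iff.1 (hG2 hx) y hy).symm
  have hCG : A ⊓ centralizer (commutator G : Set G) = ⊥ := by
    refine hno' _ ⟨fun a ha g => ?_⟩ (Or.inl inf_le_left)
    have hy : g * a * g⁻¹ ∈ centralizer (commutator G : Set G) :=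
      Normal.conj_mem inferInstance a ha.2 g
    refine ⟨hCA _ fun a' ha' => ?_, hy⟩
    have hd : a'⁻¹ * (g⁻¹ * a' * g) ∈ commutator G := by
      rw [_root_.commutator_def]
      have : a'⁻¹ * (g⁻¹ * a' * g) = ⁅a'⁻¹, g⁻¹⁆ := by rw [commutatorElement_def]; group
      rw [this]
      exact commutator_mem_commutator (mem_top _) (mem_top _)
    have h1 : Commute a (g⁻¹ * a' * g) := by
      have := Commute.mul_right (show Commute a a' from hA a ha.1 a' ha')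
        (show Commute a (a'⁻¹ * (g⁻¹ * a' * g)) from (mem_centralizer_iff.1 ha.2 _ hd).symm)
      rwa [mul_inv_cancel_left] at this
    calc a' * (g * a * g⁻¹) = g * ((g⁻¹ * a' * g) * a) * g⁻¹ := by group
      _ = g * (a * (g⁻¹ * a' * g)) * g⁻¹ := by rw [h1.eq]
      _ = g * a * g⁻¹ * a' := by group
  have hG1 : commutator G ≠ ⊥ := fun h => by
    have hall : ∀ x y : G, x * y = y * x := fun x y => by
      have : ⁅x, y⁆ ∈ commutator G := commutator_mem_commutator (mem_top x) (mem_top y)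
      rwa [h, mem_bot, commutatorElement_eq_one_iff_mul_comm] at this
    obtain ⟨g, hg⟩ := exists_ne (1 : G)
    obtain ⟨a, ha, b, hb, rfl⟩ := hAB g
    rw [hcen a (Or.inl ha) (fun _ _ => hall _ _) (fun _ _ => hall _ _),
      hcen b (Or.inr hb) (fun _ _ => hall _ _) (fun _ _ => hall _ _), one_mul] at hg
    exact hg rfl
  obtain ⟨M, hM, hM1, hMG, hmin⟩ := exists_minimal_normal_le hG1
  -- `Y N = (A ∩ BN) N` is normal, equal to `(B ∩ AN) N`
  let Y : Subgroup G → Subgroup G := fun N => (A ⊓ (B ⊔ N)) ⊔ N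
  have hYn : ∀ N : Subgroup G, N.Normal → (Y N).Normal := by
    intro N hN
    refine ⟨fun y hy g => ?_⟩
    obtain ⟨a₀, ha₀, n, hn, rfl⟩ := mem_sup_normal.1 hy
    obtain ⟨a, ha, b, hb, rfl⟩ := hAB g
    obtain ⟨b₀, hb₀, n₀, hn₀, he⟩ := mem_sup_normal.1 ha₀.2
    have e : a * b * (a₀ * n) * (a * b)⁻¹ =
        a * (a₀ * n₀⁻¹ * (b * n₀ * b⁻¹) * (b * n * b⁻¹)) * a⁻¹ := by
      have hbb : b * b₀ = b₀ * b := hB b hb b₀ hb₀
      calc a * b * (a₀ * n) * (a * b)⁻¹ = a * ((b * b₀) * n₀ * n * b⁻¹) * a⁻¹ := by rw [← he]; group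
        _ = _ := by rw [hbb, ← he]; group
    rw [e]
    have hA0 : a * a₀ * a⁻¹ = a₀ := by rw [hA a ha a₀ ha₀.1, mul_inv_cancel_right]
    have e2 : a * (a₀ * n₀⁻¹ * (b * n₀ * b⁻¹) * (b * n * b⁻¹)) * a⁻¹ = (a * a₀ * a⁻¹) *
        (a * (n₀⁻¹ * (b * n₀ * b⁻¹) * (b * n * b⁻¹)) * a⁻¹) := by group
    rw [e2, hA0]
    exact mul_mem_sup ha₀ (hN.conj_mem _ (mul_mem (mul_mem (inv_mem hn₀) (hN.conj_mem _ hn₀ b))
      (hN.conj_mem _ hn b)) a)
  have hYp : ∀ (N : Subgroup G) (q : ℕ) [Fact q.Prime], N.Normal → N ≤ commutator G →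
      IsPGroup q N → IsPGroup q (Y N) := by
    intro N q _ hN hNG hNq
    haveI := hN
    have hNA : ∀ x, x ∈ N → x ∈ A → x = 1 := fun x hm ha => mem_bot.1 (hCG ▸
      (⟨ha, mem_centralizer_iff.2 fun y hy => (hGc x (hNG hm) y hy).symm⟩ :
        x ∈ A ⊓ centralizer (commutator G : Set G)))
    set A₀ := A ⊓ (B ⊔ N)
    have hA₀n : ∀ a : A₀, ∃ b ∈ B, ∃ n ∈ N, b * n = a := fun a => mem_sup_normal.1 a.2.2
    have hcard : Nat.card A₀ * Nat.card B = Nat.card (B ⊔ N : Subgroup G) := by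
      rw [← Nat.card_prod]
      refine Nat.card_eq_of_bijective (fun x : A₀ × B => (⟨(x.1 : G) * x.2,
        mul_mem x.1.2.2 (mem_sup_left x.2.2)⟩ : (B ⊔ N : Subgroup G))) ⟨?_, ?_⟩
      · rintro ⟨a, b⟩ ⟨a', b'⟩ h
        have h' : (a : G) * b = a' * b' := congrArg Subtype.val h
        have h2 : (a' : G)⁻¹ * a = b' * (b : G)⁻¹ := by
          rw [eq_mul_inv_iff_mul_eq, mul_assoc, h', inv_mul_cancel_left]
        have h3 := hinf _ (mul_mem (inv_mem a'.2.1) a.2.1)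
          (h2 ▸ mul_mem b'.2 (inv_mem b.2) : (a' : G)⁻¹ * a ∈ B)
        have h4 : (a' : G) = a := inv_mul_eq_one.1 h3
        rw [h4] at h'
        exact Prod.ext (Subtype.ext h4.symm) (Subtype.ext (mul_left_cancel h'))
      · rintro ⟨g, hg⟩
        obtain ⟨a, ha, b, hb, rfl⟩ := hAB g
        have ha' : a ∈ B ⊔ N := by
          have := mul_mem hg (inv_mem (mem_sup_left hb : b ∈ B ⊔ N))
          rwa [mul_inv_cancel_right] at this
        exact ⟨(⟨a, ha, ha'⟩, ⟨b, hb⟩), rfl⟩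
    obtain ⟨k, hk⟩ := IsPGroup.iff_card.1 hNq
    have hdvd : Nat.card A₀ ∣ q ^ k := by
      have h1 := card_sup_dvd (A := B) (K := N) (le_of_le_of_eq le_top (normalizer_eq_top N).symm)
      rw [← hcard, hk, mul_comm] at h1
      exact Nat.dvd_of_mul_dvd_mul_left Nat.card_pos h1
    obtain ⟨j, -, hj⟩ := (Nat.dvd_prime_pow (Fact.out : q.Prime)).1 hdvd
    exact (IsPGroup.of_card hj).to_sup_of_normal_right hNq
  -- every normal part of the commutator subgroup centralises `A ∩ BM`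
  obtain ⟨-, p, hp, -, hMp⟩ := minimal_normal_elementary hM1 hmin (by
    haveI : IsMulCommutative M := ⟨⟨fun x y => Subtype.ext (hGc _ (hMG x.2) _ (hMG y.2))⟩⟩
    exact Group.isSolvable_of_comm fun x y => Std.Commutative.comm x y)
  haveI := Fact.mk hp
  have hY : IsPGroup p (Y M) := hYp M p hM hMG hMp
  have hpart : ∀ (N : Subgroup G) (q : ℕ) [Fact q.Prime], N.Normal → N ≤ commutator G →
      IsPGroup q N → N ≤ centralizer (A ⊓ (B ⊔ M) : Subgroup G) := by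
    intro N q _ hN hNG hNq x hx
    haveI := hN
    refine mem_centralizer_iff.2 fun a₀ ha₀ => ?_
    by_cases hqp : q = p
    · subst hqp
      have hQ : (Y (N ⊔ M)).Normal := hYn _ inferInstance
      have hNM : IsPGroup q (Y (N ⊔ M)) := hYp _ q inferInstance (sup_le hNG hMG)
        (hNq.to_sup_of_normal_right hMp)
      have hMY : M ≤ Y (N ⊔ M) := le_sup_of_le_right le_sup_right
      obtain ⟨c, hc, hc1, hcc⟩ := CfsgLib.UniqueInvol.exists_central hNM (M.subgroupOf (Y (N ⊔ M)))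
        (fun e => hM1 (by
          rw [subgroupOf_eq_bot] at e
          exact disjoint_self.1 (e.mono le_rfl hMY)))
      have hMc : M ⊓ centralizer (Y (N ⊔ M) : Set G) = M := by
        refine (hmin _ inferInstance inf_le_left).resolve_left fun e => hc1 (Subtype.ext ?_)
        exact mem_bot.1 (e ▸ (⟨mem_subgroupOf.1 hc, mem_centralizer_iff.2 fun y hy =>
          congrArg Subtype.val (mem_center_iff.1 hcc ⟨y, hy⟩)⟩ :
            (c : G) ∈ M ⊓ centralizer (Y (N ⊔ M) : Set G)))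
      have hMcom : ∀ m ∈ M, ∀ y ∈ Y (N ⊔ M), y * m = m * y := fun m hm y hy =>
        mem_centralizer_iff.1 (hMc.ge hm).2 y hy
      obtain ⟨a, ha, b, hb, rfl⟩ := hAB x
      have ha' : a ∈ Y (N ⊔ M) := by
        refine mem_sup_left ⟨ha, ?_⟩
        have := mul_mem (mem_sup_right (mem_sup_left hx : a * b ∈ N ⊔ M) : a * b ∈ B ⊔ (N ⊔ M))
          (inv_mem (mem_sup_left hb : b ∈ B ⊔ (N ⊔ M)))
        rwa [mul_inv_cancel_right] at this
      have hb' : b ∈ Y (N ⊔ M) := by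
        have := mul_mem (inv_mem ha') (mem_sup_right (mem_sup_left hx) : a * b ∈ Y (N ⊔ M))
        rwa [inv_mul_cancel_left] at this
      obtain ⟨b₀, hb₀, m, hm, he⟩ := mem_sup_normal.1 ha₀.2
      have h1 : Commute a₀ a := hA a₀ ha₀.1 a ha
      have h2 : Commute a₀ b := by
        rw [← he]
        exact Commute.mul_left (hB b₀ hb₀ b hb) (show Commute m b from (hMcom m hm b hb').symm)
      exact (h1.mul_right h2).eq
    · exact commute_of_normal_of_disjoint (Y M) N (hYn M hM) hN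
        (IsPGroup.disjoint_of_ne p q (Ne.symm hqp) _ _ hY hNq) a₀ x (mem_sup_left ha₀) hx
  have hall : commutator G ≤ centralizer (A ⊓ (B ⊔ M) : Subgroup G) := by
    haveI : ∀ q : Nat.Primes, Fact (q : ℕ).Prime := fun q => ⟨q.2⟩
    haveI : IsMulCommutative (commutator G) :=
      ⟨⟨fun x y => Subtype.ext (hGc _ x.2 _ y.2)⟩⟩
    have ht := iSup_sylow_eq_top (G := commutator G) fun q => (default : Sylow (q : ℕ) _)
    rw [← range_subtype (commutator G), MonoidHom.range_eq_map, ← ht, Subgroup.map_iSup]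
    refine iSup_le fun q => hpart _ q ?_ (map_subtype_le _)
      ((default : Sylow (q : ℕ) (commutator G)).2.map _)
    haveI : ((default : Sylow (q : ℕ) (commutator G)) : Subgroup (commutator G)).Normal :=
      ⟨fun n hn g => by
        rwa [show g * n = n * g from Subtype.ext (hGc _ g.2 _ n.2), mul_inv_cancel_right]⟩
    haveI := Sylow.characteristic_of_normal (default : Sylow (q : ℕ) (commutator G)) inferInstance
    infer_instance
  have hA0 : A ⊓ (B ⊔ M) = ⊥ := eq_bot_iff.2 fun x hx => hCG ▸ (⟨hx.1,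
    mem_centralizer_iff.2 fun y hy => (mem_centralizer_iff.1 (hall hy) x hx).symm⟩ :
      x ∈ A ⊓ centralizer (commutator G : Set G))
  have hMB : M ≤ B := fun m hm => by
    obtain ⟨a, ha, b, hb, e⟩ := hAB m
    have ha1 : a ∈ A ⊓ (B ⊔ M) := ⟨ha, by
      have := mul_mem (mem_sup_right hm : m ∈ B ⊔ M) (inv_mem (mem_sup_left hb : b ∈ B ⊔ M))
      rwa [e, mul_inv_cancel_right] at this⟩
    rw [hA0, mem_bot] at ha1
    rw [e, ha1, one_mul]
    exact hb
  exact hM1 (hno' M hM (Or.inr hMB))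

end CfsgLib.Ito
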