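import Cfsg.Agent.Solvable.Supersolvable
import Cfsg.Agent.Solvable.Socle
import Cfsg.Agent.Solvable.Hall
import Cfsg.Agent.Solvable.Ito
import Cfsg.Agent.LocalB.HSupersolvable

/-!
Criteria for supersolvability: prime index maximal subgroups, hereditary converse of Lagrange,
products of cyclic groups, small orders.
-/

set_option autoImplicit false
set_option linter.style.haveILetI false
set_option linter.deprecated false
set_option linter.unusedSectionVars false

namespace CfsgLib.Huppert

open Subgroup CfsgLib.Solvable CfsgLib.Socle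
open scoped Pointwise commutatorElement

universe u

theorem coatom_comap {G : Type u} [Group G] {N : Subgroup G} [N.Normal] {M : Subgroup (G ⧸ N)}
    (hM : IsCoatom M) : IsCoatom (M.comap (QuotientGroup.mk' N)) := by
  have hsurj := QuotientGroup.mk'_surjective N
  refine ⟨fun e => hM.1 ?_, fun X hX => ?_⟩
  · rw [← map_comap_eq_self_of_surjective hsurj M, e, map_top_of_surjective _ hsurj]
  · have hker : N ≤ X := ((QuotientGroup.ker_mk' N).ge.trans (ker_le_comap _ M)).trans hX.le
    have e : (X.map (QuotientGroup.mk' N)).comap (QuotientGroup.mk' N) = X := by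
      rw [comap_map_eq, QuotientGroup.ker_mk', sup_eq_left.2 hker]
    have hlt : M < X.map (QuotientGroup.mk' N) := by
      refine lt_of_le_of_ne ?_ fun e2 => hX.ne (e2 ▸ e)
      rw [← map_comap_eq_self_of_surjective hsurj M]
      exact map_mono hX.le
    rw [← e, hM.2 _ hlt, comap_top]

theorem quotient_hyp {G : Type u} [Group G] [Finite G]
    (h : ∀ M : Subgroup G, IsCoatom M → M.index.Prime) (N : Subgroup G) [N.Normal] :
    ∀ M : Subgroup (G ⧸ N), IsCoatom M → M.index.Prime := fun M hM => by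
  have := h _ (coatom_comap hM)
  rwa [index_comap_of_surjective M (QuotientGroup.mk'_surjective N)] at this

theorem normal_sylow_max {G : Type u} [Group G] [Finite G]
    (h : ∀ M : Subgroup G, IsCoatom M → M.index.Prime) (p : ℕ) [hp : Fact p.Prime]
    (hmax : ∀ q : ℕ, q.Prime → q ∣ Nat.card G → q ≤ p) (P : Sylow p G) :
    (P : Subgroup G).Normal := by
  by_contra hn
  obtain ⟨M, hM, hMP⟩ :=
    (eq_top_or_exists_le_coatom (normalizer ((P : Subgroup G) : Set G))).resolve_left
      fun e => hn (normalizer_eq_top_iff.1 e)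
  have hPM : (P : Subgroup G) ≤ M := le_normalizer.trans hMP
  have h1 := card_sylow_modEq_one (G := G) (p := p)
  rw [P.card_eq_index_normalizer] at h1
  change (normalizer ((P : Subgroup G) : Set G)).index ≡ 1 [MOD p] at h1
  rw [← relIndex_mul_index hMP] at h1
  have h2 := card_sylow_modEq_one (G := M) (p := p)
  rw [(P.subtype hPM).card_eq_index_normalizer] at h2
  have e : normalizer (((P.subtype hPM : Sylow p M) : Subgroup M) : Set M) =
      (normalizer ((P : Subgroup G) : Set G)).subgroupOf M := by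
    rw [Sylow.coe_subtype, subgroupOf_normalizer_eq hPM]
  change (normalizer (((P.subtype hPM : Sylow p M) : Subgroup M) : Set M)).index ≡ 1 [MOD p] at h2
  rw [e] at h2
  have h3 : M.index ≡ 1 [MOD p] := by
    have := (Nat.ModEq.mul_right M.index h2).symm.trans h1
    rwa [one_mul] at this
  have hq := h M hM
  have hle := hmax _ hq (index_dvd_card M)
  rcases lt_or_eq_of_le hle with hlt | heq
  · rw [Nat.ModEq, Nat.mod_eq_of_lt hlt, Nat.mod_eq_of_lt hp.out.one_lt] at h3
    exact hq.ne_one h3
  · rw [heq, Nat.ModEq, Nat.mod_self, Nat.mod_eq_of_lt hp.out.one_lt] at h3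
    exact zero_ne_one h3

theorem exists_max_prime (G : Type u) [Group G] [Finite G] [Nontrivial G] :
    ∃ p : ℕ, p.Prime ∧ p ∣ Nat.card G ∧ ∀ q : ℕ, q.Prime → q ∣ Nat.card G → q ≤ p := by
  have hne : (Nat.card G).primeFactors.Nonempty :=
    Nat.nonempty_primeFactors.2 Finite.one_lt_card
  refine ⟨_, Nat.prime_of_mem_primeFactors (Finset.max'_mem _ hne),
    Nat.dvd_of_mem_primeFactors (Finset.max'_mem _ hne), fun q hq hd => ?_⟩
  exact Finset.le_max' _ _ (hq.mem_primeFactors hd Nat.card_pos.ne')

theorem solvable_aux (n : ℕ) : ∀ (G : Type u) [Group G] [Finite G], Nat.card G = n →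
    (∀ M : Subgroup G, IsCoatom M → M.index.Prime) → Group.IsSolvable G := by
  induction n using Nat.strongRecOn with | ind n ih => ?_
  rintro G _ _ rfl h
  rcases subsingleton_or_nontrivial G with h1 | h1
  · infer_instance
  obtain ⟨p, hp, hpd, hmax⟩ := exists_max_prime G
  haveI := Fact.mk hp
  obtain ⟨P⟩ : Nonempty (Sylow p G) := inferInstance
  haveI := normal_sylow_max h p hmax P
  haveI : Group.IsSolvable (G ⧸ (P : Subgroup G)) :=
    ih _ (card_quotient_lt (P.ne_bot_of_dvd_card hpd)) _ rfl (quotient_hyp h _)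
  haveI : Group.IsSolvable (P : Subgroup G) := by
    haveI := P.2.isNilpotent
    infer_instance
  exact Group.isSolvable_of_ker_le_range (P : Subgroup G).subtype
    (QuotientGroup.mk' (P : Subgroup G)) (by rw [QuotientGroup.ker_mk', range_subtype])

/-- An element of a product of commuting subgroups, of order prime to the first. -/
theorem mem_of_coprime {G : Type u} [Group G] [Finite G] {N Q : Subgroup G} [N.Normal]
    (hc : N ≤ centralizer (Q : Set G)) (hd : N ⊓ Q = ⊥) {a : G} (ha : a ∈ N ⊔ Q)
    (hco : (orderOf a).Coprime (Nat.card N)) : a ∈ Q := by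
  obtain ⟨n, hn, q, hq, rfl⟩ := mem_sup_of_normal_left.1 ha
  have hcomm : Commute n q := (mem_centralizer_iff.1 (hc hn) q hq).symm
  have h1 : n ^ orderOf (n * q) ∈ N ⊓ Q := by
    refine mem_inf.2 ⟨pow_mem hn _, ?_⟩
    have := pow_orderOf_eq_one (n * q)
    rw [hcomm.mul_pow, mul_eq_one_iff_eq_inv] at this
    rw [this]
    exact inv_mem (pow_mem hq _)
  rw [hd, mem_bot] at h1
  have : n = 1 := orderOf_eq_one_iff.1 (Nat.eq_one_of_dvd_coprimes hco
    (orderOf_dvd_of_pow_eq_one h1) (Subgroup.orderOf_dvd_natCard _ hn))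
  rwa [this, one_mul]

theorem map_A_le {G : Type u} [Group G] {p : ℕ} (N : Subgroup G) [N.Normal] :
    CfsgLib.LocalB.HSS.A p G ≤
      (CfsgLib.LocalB.HSS.A p (G ⧸ N)).comap (QuotientGroup.mk' N) := by
  haveI : ((CfsgLib.LocalB.HSS.A p (G ⧸ N)).comap (QuotientGroup.mk' N)).Normal :=
    normalClosure_normal.comap _
  refine normalClosure_le_normal ?_
  rintro x (⟨g, h, rfl⟩ | ⟨g, rfl⟩)
  · rw [SetLike.mem_coe, mem_comap, map_commutatorElement]
    exact subset_normalClosure (Or.inl ⟨_, _, rfl⟩)
  · rw [SetLike.mem_coe, mem_comap, map_pow]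
    exact subset_normalClosure (Or.inr ⟨_, rfl⟩)

theorem card_comap {G : Type u} [Group G] [Finite G] (N : Subgroup G) [N.Normal]
    (X : Subgroup (G ⧸ N)) :
    Nat.card (X.comap (QuotientGroup.mk' N)) = Nat.card N * Nat.card X := by
  conv_rhs => rw [← map_comap_eq_self_of_surjective (QuotientGroup.mk'_surjective N) X, ← relIndex_ker,
    QuotientGroup.ker_mk']
  rw [← relIndex_bot_left, ← relIndex_bot_left]
  exact (relIndex_mul_relIndex ⊥ N _ bot_le
    ((QuotientGroup.ker_mk' N).ge.trans (ker_le_comap _ X))).symm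

/-- The `p'`-elements of `A p` of a supersolvable group lie in the `p'`-core. -/
theorem A_coprime_mem {p : ℕ} [hp : Fact p.Prime] {X : Type u} [Group X] [Finite X]
    (h : Cfsg.IsSupersolvable X) :
    ∀ a ∈ CfsgLib.LocalB.HSS.A p X, (orderOf a).Coprime p → a ∈ Cfsg.pPrimeCore p X := by
  refine CfsgLib.Supersolvable.induction_prime (fun X _ _ =>
    ∀ a ∈ CfsgLib.LocalB.HSS.A p X, (orderOf a).Coprime p → a ∈ Cfsg.pPrimeCore p X) ?_ ?_ X h
  · intro G _ _ hs a _ _
    exact Subsingleton.elim (1 : G) a ▸ one_mem _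
  · intro G _ _ N hN hr _ ih a ha hco
    set π := QuotientGroup.mk' N
    have hπ : π a ∈ Cfsg.pPrimeCore p (G ⧸ N) :=
      ih (π a) (map_A_le N ha) (hco.coprime_dvd_left (orderOf_map_dvd π a))
    haveI : (Cfsg.pPrimeCore p (G ⧸ N)).Normal := (pPrimeCore_spec p).1
    set K := (Cfsg.pPrimeCore p (G ⧸ N)).comap π
    have hKc : Nat.card K = Nat.card N * Nat.card (Cfsg.pPrimeCore p (G ⧸ N)) := card_comap N _
    by_cases hrp : Nat.card N = p
    · set L := K ⊓ centralizer (N : Set G)
      haveI : L.Normal := inferInstance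
      have hNL : N ≤ L := by
        haveI := Fact.mk hr
        haveI : IsCyclic N := isCyclic_of_prime_card (p := Nat.card N) rfl
        exact le_inf ((QuotientGroup.ker_mk' N).ge.trans (ker_le_comap _ _))
          (le_centralizer_iff_isMulCommutative.2 inferInstance)
      have haL : a ∈ L := by
        refine mem_inf.2 ⟨hπ, mem_centralizer_iff.2 fun u hu => ?_⟩
        have h1 := CfsgLib.LocalB.HSS.A_trivial_factor (p := p) (U := N) (V := ⊥) bot_le
          (by rw [relIndex_bot_left]; exact hrp) ha hu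
        rw [mem_bot, inv_mul_eq_one, eq_mul_inv_iff_mul_eq] at h1
        exact h1
      have hco' : (Nat.card N).Coprime (N.relIndex L) := by
        refine Nat.Coprime.coprime_dvd_right (?_ : _ ∣ Nat.card (Cfsg.pPrimeCore p (G ⧸ N)))
          (by rw [hrp]; exact (coprime_card_pPrimeCore (G := G ⧸ N) p).symm)
        have h1 : N.relIndex L * Nat.card N = Nat.card L := by
          rw [← relIndex_bot_left, ← relIndex_bot_left, mul_comm]
          exact relIndex_mul_relIndex ⊥ N L bot_le hNL
        refine Nat.dvd_of_mul_dvd_mul_right hr.pos ?_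
        rw [h1, mul_comm _ (Nat.card N), ← hKc]
        exact card_dvd_of_le inf_le_left
      haveI : (N.subgroupOf L).Normal := Normal.subgroupOf hN L
      obtain ⟨B₀, hB₀⟩ := exists_right_complement'_of_coprime (N := N.subgroupOf L)
        (by rw [Nat.card_congr (subgroupOfEquivOfLe hNL).toEquiv]; exact hco')
      set B := B₀.map L.subtype
      have hBL : B ≤ L := map_subtype_le _
      have hsup : N ⊔ B = L := by
        have := congrArg (Subgroup.map L.subtype) hB₀.sup_eq_top
        rwa [Subgroup.map_sup, map_subgroupOf_eq_of_le hNL, ← MonoidHom.range_eq_map,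
          range_subtype] at this
      have hBc : Nat.card B = N.relIndex L := by
        rw [card_map_of_injective L.subtype_injective, ← hB₀.symm.index_eq_card]
        rfl
      have hdis : N ⊓ B = ⊥ := inf_eq_bot_of_coprime (by rw [hBc]; exact hco')
      have hcB : N ≤ centralizer (B : Set G) :=
        le_centralizer_iff.1 (hBL.trans inf_le_right)
      have hmem : ∀ x ∈ L, (orderOf x).Coprime (Nat.card N) → x ∈ B := fun x hx hc =>
        mem_of_coprime hcB hdis (hsup.ge hx) hc
      haveI : B.Normal := ⟨fun b hb g => by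
        refine hmem _ (Normal.conj_mem inferInstance b (hBL hb) g) ?_
        rw [show orderOf (g * b * g⁻¹) = orderOf b from (MulAut.conj g).orderOf_eq b]
        exact hco'.symm.coprime_dvd_left (hBc ▸ Subgroup.orderOf_dvd_natCard _ hb)⟩
      refine le_pPrimeCore p (N := B) inferInstance ?_ (hmem a haL (hrp.symm ▸ hco))
      rw [hBc]
      exact hrp ▸ hco'.symm
    · refine le_pPrimeCore p (N := K) inferInstance ?_ hπ
      rw [hKc]
      exact Nat.Coprime.mul_left ((Nat.coprime_primes hr hp.out).2 hrp) (coprime_card_pPrimeCore p)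

theorem supersolvable_aux (n : ℕ) : ∀ (G : Type u) [Group G] [Finite G], Nat.card G = n →
    (∀ M : Subgroup G, IsCoatom M → M.index.Prime) → Cfsg.IsSupersolvable G := by
  induction n using Nat.strongRecOn with | ind n ih => ?_
  rintro G _ _ rfl h
  rcases subsingleton_or_nontrivial G with h1 | h1
  · exact CfsgLib.Supersolvable.of_subsingleton
  haveI hs := solvable_aux (Nat.card G) G rfl h
  obtain ⟨N, hN, hN1, -, hNc, hmin, p, hp, -, hNp⟩ := exists_normal_elementary_le
    (G := G) (N := ⊤) top_ne_bot inferInstance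
  haveI := Fact.mk hp
  have hq : Cfsg.IsSupersolvable (G ⧸ N) := ih _ (card_quotient_lt hN1) _ rfl (quotient_hyp h N)
  suffices hcard : (Nat.card N).Prime from CfsgLib.Supersolvable.of_prime_normal hcard hq
  by_cases hΦ : N ≤ frattini G
  swap
  · obtain ⟨M, hM, hMN⟩ : ∃ M : Subgroup G, IsCoatom M ∧ ¬ N ≤ M := by
      by_contra hno
      push Not at hno
      exact hΦ (le_iInf fun M => le_iInf fun hM => hno M hM)
    have htop : N ⊔ M = ⊤ :=
      hM.2 _ (lt_of_le_of_ne le_sup_right fun e => hMN (le_of_le_of_eq le_sup_left e.symm))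
    haveI : (N ⊓ M).Normal := normal_of_sup (B := N) (U := M)
      (le_normalizer_inf (le_top.trans (normalizer_eq_top N).ge) le_normalizer)
      (le_normalizer_of_le_centralizer ((le_centralizer_iff_isMulCommutative.2 hNc).trans
        (centralizer_le fun x hx => hx.1))) htop
    have hNM : N ⊓ M = ⊥ := (hmin _ inferInstance inf_le_left).resolve_right fun e =>
      hMN (inf_eq_left.1 e)
    have hc : IsComplement' N M := by
      refine isComplement'_of_disjoint_and_mul_eq_univ (disjoint_iff.2 hNM)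
        (Set.eq_univ_of_forall fun g => ?_)
      obtain ⟨n, hn, u, hu, e⟩ := mem_sup_decomp (htop.ge (mem_top g))
      exact ⟨n, hn, u, hu, e⟩
    rw [← hc.index_eq_card]
    exact h M hM
  suffices hemb : CfsgLib.LocalB.HSS.Emb p N by
    rw [CfsgLib.LocalB.HSS.card_minimal N hNp hemb N hN1 le_rfl hmin]
    exact hp
  intro a ha hco
  set π := QuotientGroup.mk' N
  have hπ : π a ∈ Cfsg.pPrimeCore p (G ⧸ N) :=
    A_coprime_mem hq (π a) (map_A_le N ha) (hco.coprime_dvd_left (orderOf_map_dvd π a))
  haveI : (Cfsg.pPrimeCore p (G ⧸ N)).Normal := (pPrimeCore_spec p).1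
  set K := (Cfsg.pPrimeCore p (G ⧸ N)).comap π
  have hKc : Nat.card K = Nat.card N * Nat.card (Cfsg.pPrimeCore p (G ⧸ N)) := card_comap N _
  have hNK : N ≤ K := (QuotientGroup.ker_mk' N).ge.trans (ker_le_comap _ _)
  obtain ⟨i, hi⟩ := IsPGroup.iff_card.1 hNp
  have hrel : N.relIndex K = Nat.card (Cfsg.pPrimeCore p (G ⧸ N)) := by
    refine Nat.eq_of_mul_eq_mul_left (Nat.card_pos (α := N)) ?_
    rw [← hKc, ← relIndex_bot_left, ← relIndex_bot_left]
    exact relIndex_mul_relIndex ⊥ N K bot_le hNK
  have hco' : (Nat.card N).Coprime (N.relIndex K) := by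
    rw [hrel, hi]
    exact ((coprime_card_pPrimeCore p).symm).pow_left i
  obtain ⟨Q₀, hQ₀⟩ := exists_right_complement'_of_coprime (N := N.subgroupOf K)
    (by rw [Nat.card_congr (subgroupOfEquivOfLe hNK).toEquiv]; exact hco')
  set Q := Q₀.map K.subtype
  have hQK : Q ≤ K := map_subtype_le _
  have hsup : N ⊔ Q = K := by
    have := congrArg (Subgroup.map K.subtype) hQ₀.sup_eq_top
    rwa [Subgroup.map_sup, map_subgroupOf_eq_of_le hNK, ← MonoidHom.range_eq_map,
      range_subtype] at this
  have hQc : Nat.card Q = N.relIndex K := by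
    rw [card_map_of_injective K.subtype_injective, ← hQ₀.symm.index_eq_card]
    rfl
  have hQidx : Q.relIndex K = Nat.card N := by
    refine Nat.eq_of_mul_eq_mul_left (Nat.card_pos (α := Q)) ?_
    rw [hQc, hrel, mul_comm _ (Nat.card N), ← hKc, ← hrel, ← hQc, ← relIndex_bot_left,
      ← relIndex_bot_left]
    exact relIndex_mul_relIndex ⊥ Q K bot_le hQK
  have hfr := CfsgLib.Hall.frattini_hall K inferInstance Q hQK
    (by rw [hQidx, hQc]; exact hco'.symm)
  rw [← hsup] at hfr
  have htop : normalizer (Q : Set G) ⊔ frattini G = ⊤ := by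
    rw [eq_top_iff, ← hfr]
    exact sup_le (sup_le (hΦ.trans le_sup_right) (le_normalizer.trans le_sup_left)) le_sup_left
  haveI : Q.Normal := normalizer_eq_top_iff.1 (frattini_nongenerating htop)
  have hd : N ⊓ Q = ⊥ := inf_eq_bot_of_coprime (by rw [hQc]; exact hco')
  have hcN : N ≤ centralizer (Q : Set G) := fun x hx => mem_centralizer_iff.2 fun y hy =>
    (commute_of_normal_of_disjoint N Q inferInstance inferInstance (disjoint_iff.2 hd) x y hx hy).eq.symm
  exact le_centralizer_iff.1 hcN (mem_of_coprime hcN hd (hsup.ge hπ)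
    (hi ▸ hco.pow_right i))

/-! ### Small orders, products of cyclic groups -/

theorem of_pGroup_aux (p : ℕ) [hp : Fact p.Prime] (n : ℕ) : ∀ (G : Type u) [Group G] [Finite G],
    Nat.card G = n → IsPGroup p G → Cfsg.IsSupersolvable G := by
  induction n using Nat.strongRecOn with | ind n ih => ?_
  rintro G _ _ rfl h
  rcases subsingleton_or_nontrivial G with h1 | h1
  · exact CfsgLib.Supersolvable.of_subsingleton
  haveI := h.center_nontrivial
  obtain ⟨z, hz⟩ := exists_prime_orderOf_dvd_card' (G := center G) p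
    (((h.to_subgroup (center G)).card_eq_or_dvd).resolve_left Finite.one_lt_card.ne')
  rw [← orderOf_coe] at hz
  haveI : (zpowers (z : G)).Normal := ⟨fun x hx g => by
    rwa [mem_center_iff.1 (zpowers_le.2 z.2 hx) g, mul_inv_cancel_right]⟩
  refine CfsgLib.Supersolvable.of_prime_normal (N := zpowers (z : G))
    (by rw [Nat.card_zpowers, hz]; exact hp.out) (ih _ (card_quotient_lt fun e => ?_) _ rfl
      (h.to_quotient _))
  rw [zpowers_eq_bot] at e
  rw [e, orderOf_one] at hz
  exact hp.out.ne_one hz.symm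

theorem two_mul_prime_pow_aux {p : ℕ} (hp : p.Prime) (hp2 : p ≠ 2) (n : ℕ) :
    ∀ (G : Type u) [Group G] [Finite G], Nat.card G = 2 * p ^ n → Cfsg.IsSupersolvable G := by
  induction n using Nat.strongRecOn with | ind n ih => ?_
  intro G _ _ hG
  haveI := Fact.mk hp
  rcases Nat.eq_zero_or_pos n with rfl | hn
  · haveI : Fact (Nat.Prime 2) := ⟨Nat.prime_two⟩
    exact of_pGroup_aux 2 _ G rfl (IsPGroup.of_card (n := 1) (by rw [hG]; ring))
  have hf : (Nat.card G).factorization p = n := by
    rw [hG, Nat.factorization_mul two_ne_zero (pow_ne_zero _ hp.ne_zero), Finsupp.add_apply,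
      Nat.prime_two.factorization, Finsupp.single_eq_of_ne hp2, hp.factorization_pow,
      Finsupp.single_eq_same, zero_add]
  obtain ⟨P⟩ : Nonempty (Sylow p G) := inferInstance
  have hPi : (P : Subgroup G).index = 2 := by
    refine Nat.eq_of_mul_eq_mul_left (Nat.card_pos (α := P)) ?_
    rw [card_mul_index, hG, P.card_eq_multiplicity, hf, mul_comm]
  haveI hPn : (P : Subgroup G).Normal := normal_of_index_eq_two hPi
  have hP1 : (P : Subgroup G) ≠ ⊥ := P.ne_bot_of_dvd_card (hG ▸ dvd_mul_of_dvd_right (dvd_pow_self p hn.ne') 2)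
  obtain ⟨M, hM, hM1, hMP, hmin⟩ := exists_minimal_normal_le hP1
  have hMp : IsPGroup p M := P.2.to_le hMP
  have hPC := centralizes_of_nilpotent P.2.isNilpotent hM1 hmin hMP
  obtain ⟨x, hx⟩ := exists_prime_orderOf_dvd_card' p
    (hMp.card_eq_or_dvd.resolve_left fun e => hM1 (eq_bot_of_card_eq _ e))
  rw [← orderOf_coe] at hx
  obtain ⟨t, ht⟩ : ∃ t : G, t ∉ (P : Subgroup G) := by
    by_contra hall
    push Not at hall
    rw [(eq_top_iff' _).2 hall, index_top] at hPi
    omega
  have ht2 : t * t ∈ (P : Subgroup G) := (mul_mem_iff_of_index_two hPi).2 Iff.rfl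
  set y := t * (x : G) * t⁻¹ with hy
  have hyM : y ∈ M := hM.conj_mem _ x.2 t
  have hty : t * y * t⁻¹ = x := by
    have := mem_centralizer_iff.1 (hPC ht2) _ x.2
    calc t * y * t⁻¹ = (t * t) * x * (t * t)⁻¹ := by rw [hy]; group
      _ = x := by rw [← this, mul_inv_cancel_right]
  have hMM : ∀ a ∈ M, ∀ b ∈ M, a * b = b * a := fun a ha b hb =>
    (mem_centralizer_iff.1 (hPC (hMP ha)) b hb).symm
  obtain ⟨z, hzM, hz, htz⟩ : ∃ z ∈ M, orderOf z = p ∧ t * z * t⁻¹ ∈ zpowers z := by
    by_cases hz : (x : G) * y = 1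
    · refine ⟨x, x.2, hx, ?_⟩
      rw [← hy, eq_inv_of_mul_eq_one_right hz]
      exact inv_mem (mem_zpowers _)
    · refine ⟨(x : G) * y, mul_mem x.2 hyM, orderOf_eq_prime ?_ hz, ?_⟩
      · have hx1 : (x : G) ^ p = 1 := hx ▸ pow_orderOf_eq_one (x : G)
        rw [(show Commute (x : G) y from hMM _ x.2 _ hyM).mul_pow, hy, conj_pow, hx1, mul_one,
          mul_inv_cancel, one_mul]
      · have : t * ((x : G) * y) * t⁻¹ = (x : G) * y := by
          rw [← conj_mul, ← hy, hty, hMM _ x.2 _ hyM]
        rw [this]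
        exact mem_zpowers _
  haveI : (zpowers z).Normal := by
    refine ⟨fun w hw g => ?_⟩
    obtain ⟨k, rfl⟩ := mem_zpowers_iff.1 hw
    rw [← conj_zpow]
    refine zpow_mem ?_ k
    by_cases hg : g ∈ (P : Subgroup G)
    · rw [← mem_centralizer_iff.1 (hPC hg) z hzM, mul_inv_cancel_right]
      exact mem_zpowers z
    · have hgt : g * t ∈ (P : Subgroup G) := (mul_mem_iff_of_index_two hPi).2 (iff_of_false hg ht)
      obtain ⟨l, hl⟩ := mem_zpowers_iff.1 htz
      have e : g * z * g⁻¹ = (g * t) * (t * z * t⁻¹) * (g * t)⁻¹ := by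
        have h2 : (t * t) * z * (t * t)⁻¹ = z := by
          rw [← mem_centralizer_iff.1 (hPC ht2) z hzM, mul_inv_cancel_right]
        calc g * z * g⁻¹ = g * ((t * t) * z * (t * t)⁻¹) * g⁻¹ := by rw [h2]
          _ = _ := by group
      rw [e, ← hl, ← mem_centralizer_iff.1 (hPC hgt) _ (zpow_mem hzM l), mul_inv_cancel_right]
      exact zpow_mem (mem_zpowers z) l
  have hzc : Nat.card (zpowers z) = p := by rw [Nat.card_zpowers, hz]
  refine CfsgLib.Supersolvable.of_prime_normal (N := zpowers z) (hzc ▸ hp)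
    (ih (n - 1) (by omega) _ ?_)
  refine Nat.eq_of_mul_eq_mul_left hp.pos ?_
  conv_lhs => rw [← hzc]
  rw [CfsgLib.Supersolvable.card_quotient_eq, hG, mul_comm p, mul_assoc, ← pow_succ,
    Nat.sub_add_cancel hn]

theorem product_cyclic_aux (n : ℕ) : ∀ (G : Type u) [Group G] [Finite G], Nat.card G = n →
    ∀ A B : Subgroup G, IsCyclic A → IsCyclic B → (∀ g : G, ∃ a ∈ A, ∃ b ∈ B, g = a * b) →
      Cfsg.IsSupersolvable G := by
  induction n using Nat.strongRecOn with | ind n ih => ?_
  rintro G _ _ rfl A B hA hB hAB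
  rcases subsingleton_or_nontrivial G with h1 | h1
  · exact CfsgLib.Supersolvable.of_subsingleton
  obtain ⟨N, hN, hN1, hle⟩ := CfsgLib.Ito.exists_normal_in_factor hAB
  haveI : IsCyclic N := hle.elim
    (fun h => isCyclic_of_injective (Subgroup.inclusion h) (Subgroup.inclusion_injective h))
    fun h => isCyclic_of_injective (Subgroup.inclusion h) (Subgroup.inclusion_injective h)
  set π := QuotientGroup.mk' N
  refine CfsgLib.Supersolvable.of_cyclic_normal (ih _ (card_quotient_lt hN1) _ rfl (A.map π) (B.map π)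
    (isCyclic_of_surjective _ (π.subgroupMap_surjective A))
    (isCyclic_of_surjective _ (π.subgroupMap_surjective B)) fun g => ?_)
  obtain ⟨g, rfl⟩ := QuotientGroup.mk'_surjective N g
  obtain ⟨a, ha, b, hb, rfl⟩ := hAB g
  exact ⟨π a, mem_map_of_mem _ ha, π b, mem_map_of_mem _ hb, map_mul π a b⟩

/-! ### Hereditary converse of Lagrange -/

theorem hereditary_subgroup {G : Type u} [Group G]
    (h : ∀ H : Subgroup G, Cfsg.HasSubgroupOfEveryOrder H) (H : Subgroup G) :
    ∀ K : Subgroup H, Cfsg.HasSubgroupOfEveryOrder K := by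
  intro K d hd
  have e := (K.equivMapOfInjective H.subtype H.subtype_injective)
  obtain ⟨L, hL⟩ := h (K.map H.subtype) d (Nat.card_congr e.toEquiv ▸ hd)
  exact ⟨L.map e.symm.toMonoidHom, by rw [card_map_of_injective e.symm.injective, hL]⟩

theorem exists_index_eq {G : Type u} [Group G] [Finite G]
    (h : ∀ H : Subgroup G, Cfsg.HasSubgroupOfEveryOrder H) {q : ℕ} (hq : q.Prime)
    (hqd : q ∣ Nat.card G) : ∃ H : Subgroup G, H.index = q := by
  obtain ⟨H, hH⟩ := h ⊤ (Nat.card G / q) (by rw [card_top]; exact Nat.div_dvd_of_dvd hqd)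
  refine ⟨H.map (⊤ : Subgroup G).subtype, ?_⟩
  refine Nat.eq_of_mul_eq_mul_left (Nat.div_pos (Nat.le_of_dvd Nat.card_pos hqd) hq.pos) ?_
  conv_lhs => rw [← hH, ← card_map_of_injective (f := (⊤ : Subgroup G).subtype) (subtype_injective _)]
  rw [card_mul_index, Nat.div_mul_cancel hqd]

theorem clt_normal_sylow_aux (n : ℕ) : ∀ (G : Type u) [Group G] [Finite G], Nat.card G = n →
    (∀ H : Subgroup G, Cfsg.HasSubgroupOfEveryOrder H) → ∀ (p : ℕ) [Fact p.Prime], p ∣ Nat.card G →
      (∀ q : ℕ, q.Prime → q ∣ Nat.card G → q ≤ p) → ∀ P : Sylow p G, (P : Subgroup G).Normal := by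
  induction n using Nat.strongRecOn with | ind n ih => ?_
  rintro G _ _ rfl h p hp hpd hmax P
  have h1 : 1 < Nat.card G := lt_of_lt_of_le hp.out.one_lt (Nat.le_of_dvd Nat.card_pos hpd)
  set q := (Nat.card G).minFac with hqdef
  have hq : q.Prime := Nat.minFac_prime h1.ne'
  have hqd : q ∣ Nat.card G := Nat.minFac_dvd _
  by_cases hqp : q = p
  · have hall : ∀ {r : ℕ}, r.Prime → r ∣ Nat.card G → r = p := fun {r} hr hd =>
      le_antisymm (hmax r hr hd) (hqp ▸ Nat.minFac_le_of_dvd hr.two_le hd)
    have : (P : Subgroup G) = ⊤ := by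
      refine eq_top_of_card_eq _ ?_
      have key := Nat.eq_prime_pow_of_unique_prime_dvd (Nat.card_pos (α := G)).ne' hall
      rw [P.card_eq_multiplicity]
      conv_rhs => rw [key]
      congr 1
      conv_lhs => rw [key]
      simp [hp.out.factorization_self]
    rw [this]; infer_instance
  obtain ⟨H, hH⟩ := exists_index_eq h hq hqd
  haveI : H.Normal := normal_of_index_eq_minFac_card (hH.trans hqdef)
  have hPH : (P : Subgroup G) ≤ H := fun x hx => by
    rw [← QuotientGroup.eq_one_iff, ← orderOf_eq_one_iff]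
    obtain ⟨j, hj⟩ := IsPGroup.iff_orderOf.1 P.2 ⟨x, hx⟩
    rw [orderOf_mk] at hj
    refine Nat.eq_one_of_dvd_coprimes ((Nat.coprime_primes hp.out hq).2 (Ne.symm hqp) |>.pow_left j)
      (hj ▸ orderOf_map_dvd (QuotientGroup.mk' H) x) ?_
    rw [← hH, index_eq_card]
    exact orderOf_dvd_natCard _
  have hlt : Nat.card H < Nat.card G := card_lt_of_ne_top fun e => by
    rw [e, index_top] at hH; exact hq.ne_one hH.symm
  have hpH : p ∣ Nat.card H := by
    have h2 : p ∣ Nat.card P := by
      rw [P.card_eq_multiplicity]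
      exact dvd_pow_self p (hp.out.factorization_pos_of_dvd Nat.card_pos.ne' hpd).ne'
    exact h2.trans (card_dvd_of_le hPH)
  have hn := ih _ hlt H rfl (hereditary_subgroup h H) p hpH
    (fun r hr hd => hmax r hr (hd.trans (card_subgroup_dvd_card H))) (P.subtype hPH)
  haveI := Sylow.characteristic_of_normal (P.subtype hPH) hn
  have : ((P.subtype hPH : Sylow p H) : Subgroup H).map H.subtype = (P : Subgroup G) := by
    rw [Sylow.coe_subtype, map_subgroupOf_eq_of_le hPH]
  rw [← this]
  infer_instance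

theorem of_sylow_factor (n : ℕ) : ∀ (G : Type u) [Group G] [Finite G], Nat.card G = n →
    ∀ (p : ℕ) [Fact p.Prime] (P L : Subgroup G), P.Normal → IsPGroup p P → Cfsg.IsSupersolvable L →
      L ⊔ P = ⊤ → (P ⊓ L).relIndex P ∣ p → Cfsg.IsSupersolvable G := by
  induction n using Nat.strongRecOn with | ind n ih => ?_
  rintro G _ _ rfl p hp P L hPn hP hL htop hidx
  haveI := hPn
  by_cases hR : P ⊓ L = ⊥
  · rcases eq_or_ne P ⊥ with rfl | hP1
    · rw [sup_bot_eq] at htop
      subst htop
      exact CfsgLib.Supersolvable.of_surjective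
        (Subgroup.topEquiv (G := G)).toMonoidHom (Subgroup.topEquiv (G := G)).surjective hL
    have hPc : Nat.card P = p := by
      rw [hR, relIndex_bot_left] at hidx
      exact ((Nat.dvd_prime hp.out).1 hidx).resolve_left fun e => hP1 (eq_bot_of_card_eq _ e)
    refine CfsgLib.Supersolvable.of_prime_normal (N := P) (hPc ▸ hp.out)
      (CfsgLib.Supersolvable.of_surjective ((QuotientGroup.mk' P).comp L.subtype) ?_ hL)
    intro z
    obtain ⟨g, rfl⟩ := QuotientGroup.mk'_surjective P z
    obtain ⟨l, hl, y, hy, rfl⟩ := mem_sup_of_normal_right.1 (htop.ge (mem_top g))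
    refine ⟨⟨l, hl⟩, ?_⟩
    rw [map_mul, show QuotientGroup.mk' P y = 1 from (QuotientGroup.eq_one_iff y).2 hy, mul_one]
    rfl
  set R := P ⊓ L
  have hRP : P ≤ normalizer (R : Set G) := by
    haveI : (R.subgroupOf P).Normal := by
      rcases (Nat.dvd_prime hp.out).1 hidx with e | e
      · rw [index_eq_one.1 e]; infer_instance
      · refine normal_of_index_eq_minFac_card (e.trans ?_)
        obtain ⟨k, hk⟩ := IsPGroup.iff_card.1 hP
        rcases Nat.eq_zero_or_pos k with rfl | hk0
        · exact absurd (eq_bot_of_card_eq P (by simpa using hk))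
            fun e => hR (le_bot_iff.1 (e ▸ (inf_le_left : R ≤ P)))
        · rw [hk, Nat.pow_minFac hk0.ne', hp.out.minFac_eq]
    exact (normal_subgroupOf_iff_le_normalizer inf_le_left).1 inferInstance
  haveI hRn : R.Normal := normal_of_sup (B := P) (U := L)
    (le_normalizer_inf (le_top.trans (normalizer_eq_top P).ge) le_normalizer) hRP
    (by rw [sup_comm]; exact htop)
  obtain ⟨N, hN, hN1, hNR, hmin⟩ := exists_minimal_normal_le hR
  have hNP : N ≤ P := hNR.trans inf_le_left
  have hNL : N ≤ L := hNR.trans inf_le_right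
  have hPC := centralizes_of_nilpotent hP.isNilpotent hN1 hmin hNP
  haveI : (N.subgroupOf L).Normal := Normal.subgroupOf hN L
  obtain ⟨W₀, hW₀, hW₀N, hW₀p⟩ := CfsgLib.Supersolvable.exists_prime_normal_le hL (N.subgroupOf L)
    inferInstance fun e => hN1 (by
      rw [subgroupOf_eq_bot] at e
      exact disjoint_self.1 (e.mono le_rfl hNL))
  set W := W₀.map L.subtype
  have hWN : W ≤ N := (map_mono hW₀N).trans (map_subgroupOf_eq_of_le hNL).le
  haveI : W.Normal := normal_of_sup (B := P) (U := L) (by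
      have h := le_normalizer_map L.subtype (H := W₀)
      rwa [normalizer_eq_top, ← MonoidHom.range_eq_map, range_subtype] at h)
    (le_normalizer_of_le_centralizer (hPC.trans (centralizer_le hWN))) (by rw [sup_comm]; exact htop)
  have hWc : (Nat.card W).Prime := by rwa [card_map_of_injective L.subtype_injective]
  have hWN' : W = N := (hmin W inferInstance hWN).resolve_left fun e => by
    rw [e, card_bot] at hWc; exact Nat.not_prime_one hWc
  rw [hWN'] at hWc
  set π := QuotientGroup.mk' N
  refine CfsgLib.Supersolvable.of_prime_normal hWc (ih _ (card_quotient_lt hN1) _ rfl p (P.map π)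
    (L.map π) (hPn.map π (QuotientGroup.mk'_surjective N)) (hP.map π)
    (CfsgLib.Supersolvable.of_surjective _ (π.subgroupMap_surjective L) hL) ?_ ?_)
  · rw [← Subgroup.map_sup, htop, map_top_of_surjective _ (QuotientGroup.mk'_surjective N)]
  · refine dvd_trans (relIndex_dvd_of_le_left (P.map π) (map_inf_le P L π)) ?_
    rw [relIndex_map_map, QuotientGroup.ker_mk', sup_eq_left.2 hNR, sup_eq_left.2 hNP]
    exact hidx

theorem clt_supersolvable_aux (n : ℕ) : ∀ (G : Type u) [Group G] [Finite G], Nat.card G = n →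
    (∀ H : Subgroup G, Cfsg.HasSubgroupOfEveryOrder H) → Cfsg.IsSupersolvable G := by
  induction n using Nat.strongRecOn with | ind n ih => ?_
  rintro G _ _ rfl h
  rcases subsingleton_or_nontrivial G with h1 | h1
  · exact CfsgLib.Supersolvable.of_subsingleton
  obtain ⟨p, hp, hpd, hmax⟩ := exists_max_prime G
  haveI := Fact.mk hp
  obtain ⟨P⟩ : Nonempty (Sylow p G) := inferInstance
  haveI hPn := clt_normal_sylow_aux (Nat.card G) G rfl h p hpd hmax P
  obtain ⟨L, hL⟩ := exists_index_eq h hp hpd
  have hLs := ih _ (card_lt_of_ne_top fun e => by rw [e, index_top] at hL; exact hp.ne_one hL.symm)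
    L rfl (hereditary_subgroup h L)
  have htop : L ⊔ (P : Subgroup G) = ⊤ := index_eq_one.1 (Nat.eq_one_of_dvd_coprimes
    ((hp.coprime_iff_not_dvd.2 P.not_dvd_index)) ((index_dvd_of_le le_sup_left).trans hL.dvd)
    (index_dvd_of_le le_sup_right))
  refine of_sylow_factor (Nat.card G) G rfl p P L hPn P.2 hLs htop (dvd_of_eq ?_)
  have h2 := card_sup_mul_card_inf (A := L) (K := (P : Subgroup G))
    (le_top.trans (normalizer_eq_top _).ge)
  rw [htop, card_top, ← L.card_mul_index, hL, inf_comm] at h2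
  have h3 : Nat.card ↥((P : Subgroup G) ⊓ L) * ((P : Subgroup G) ⊓ L).relIndex P = Nat.card P := by
    rw [← relIndex_bot_left, ← relIndex_bot_left]
    exact relIndex_mul_relIndex ⊥ _ _ bot_le inf_le_left
  rw [← h3] at h2
  have h4 : Nat.card L * Nat.card ↥((P : Subgroup G) ⊓ L) * p =
      Nat.card L * Nat.card ↥((P : Subgroup G) ⊓ L) * ((P : Subgroup G) ⊓ L).relIndex P := by
    rw [mul_assoc, mul_assoc, ← h2]; ring
  exact (Nat.eq_of_mul_eq_mul_left (mul_pos Nat.card_pos Nat.card_pos) h4).symm

/-! ### Chief series with decreasing primes; subgroups of every order in `G × A` -/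

theorem exists_max_prime_normal {G : Type u} [Group G] [Finite G] (h : Cfsg.IsSupersolvable G) :
    Nontrivial G → ∃ p : ℕ, p.Prime ∧ (∀ q : ℕ, q.Prime → q ∣ Nat.card G → q ≤ p) ∧
      ∃ N : Subgroup G, N.Normal ∧ Nat.card N = p := by
  refine CfsgLib.Supersolvable.induction_prime (fun G _ _ => Nontrivial G →
    ∃ p : ℕ, p.Prime ∧ (∀ q : ℕ, q.Prime → q ∣ Nat.card G → q ≤ p) ∧
      ∃ N : Subgroup G, N.Normal ∧ Nat.card N = p) ?_ ?_ G h
  · intro G _ _ hs hn
    exact absurd hs (not_subsingleton G)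
  · intro G _ _ N hN hr _ ih _
    have hG := CfsgLib.Supersolvable.card_quotient_eq N
    rcases subsingleton_or_nontrivial (G ⧸ N) with h1 | h1
    · refine ⟨_, hr, fun q hq hd => ?_, N, hN, rfl⟩
      rw [← hG, Nat.card_of_subsingleton (1 : G ⧸ N), mul_one] at hd
      exact le_of_eq ((Nat.prime_dvd_prime_iff_eq hq hr).1 hd)
    obtain ⟨p, hp, hmax, X, hX, hXc⟩ := ih h1
    by_cases hpr : p ≤ Nat.card N
    · refine ⟨_, hr, fun q hq hd => ?_, N, hN, rfl⟩
      rw [← hG] at hd
      rcases hq.dvd_mul.1 hd with h2 | h2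
      · exact le_of_eq ((Nat.prime_dvd_prime_iff_eq hq hr).1 h2)
      · exact (hmax q hq h2).trans hpr
    push Not at hpr
    refine ⟨p, hp, fun q hq hd => ?_, ?_⟩
    · rw [← hG] at hd
      rcases hq.dvd_mul.1 hd with h2 | h2
      · exact ((Nat.prime_dvd_prime_iff_eq hq hr).1 h2).le.trans hpr.le
      · exact hmax q hq h2
    haveI := Fact.mk hp
    haveI := hX
    set Y := X.comap (QuotientGroup.mk' N)
    have hYc : Nat.card Y = Nat.card N * p := by rw [card_comap, hXc]
    obtain ⟨P⟩ : Nonempty (Sylow p Y) := inferInstance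
    have hPc : Nat.card P = p := by
      rw [P.card_eq_multiplicity, hYc, Nat.factorization_mul hr.ne_zero hp.ne_zero, Finsupp.add_apply,
        hp.factorization_self, hr.factorization, Finsupp.single_eq_of_ne hpr.ne', zero_add, pow_one]
    have hidx : (P : Subgroup Y).index = Nat.card N := by
      have h5 := (P : Subgroup Y).card_mul_index
      rw [hPc, hYc, mul_comm (Nat.card N)] at h5
      exact Nat.eq_of_mul_eq_mul_left hp.pos h5
    have hone : Nat.card (Sylow p Y) = 1 := by
      rcases hr.eq_one_or_self_of_dvd _ (hidx ▸ P.card_dvd_index) with h2 | h2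
      · exact h2
      · have h3 := card_sylow_modEq_one (G := Y) (p := p)
        rw [h2, Nat.ModEq, Nat.mod_eq_of_lt hpr, Nat.mod_eq_of_lt hp.one_lt] at h3
        exact absurd h3 hr.ne_one
    haveI : Subsingleton (Sylow p Y) := (Nat.card_eq_one_iff_unique.1 hone).1
    haveI := P.normal_of_subsingleton
    haveI := Sylow.characteristic_of_normal P inferInstance
    exact ⟨(P : Subgroup Y).map Y.subtype, inferInstance,
      by rw [card_map_of_injective Y.subtype_injective]; exact hPc⟩

theorem decreasing_series_aux (n : ℕ) : ∀ (G : Type u) [Group G] [Finite G], Nat.card G = n →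
    Cfsg.IsSupersolvable G → ∃ (m : ℕ) (H : Fin (m + 1) → Subgroup G), H 0 = ⊥ ∧ H (Fin.last m) = ⊤ ∧
      (∀ i, (H i).Normal) ∧
      (∀ i : Fin m, H i.castSucc ≤ H i.succ ∧ ((H i.castSucc).relIndex (H i.succ)).Prime) ∧
      ∀ i j : Fin m, i ≤ j → (H j.castSucc).relIndex (H j.succ) ≤ (H i.castSucc).relIndex (H i.succ) := by
  induction n using Nat.strongRecOn with | ind n ih => ?_
  rintro G _ _ rfl h
  rcases subsingleton_or_nontrivial G with h1 | h1
  · exact ⟨0, fun _ => ⊥, rfl, Subsingleton.elim _ _, fun _ => inferInstance, fun i => i.elim0,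
      fun i => i.elim0⟩
  obtain ⟨p, hp, hmax, N, hN, hNc⟩ := exists_max_prime_normal h h1
  have hN1 : N ≠ ⊥ := fun e => by rw [e, card_bot] at hNc; exact hp.ne_one hNc.symm
  obtain ⟨m, H, h0, hl, hn, hst, hdec⟩ :=
    ih _ (card_quotient_lt hN1) (G ⧸ N) rfl (CfsgLib.Supersolvable.quotient h N)
  set π := QuotientGroup.mk' N
  have hsurj := QuotientGroup.mk'_surjective N
  have hrel : ∀ i : Fin m, ((H i.castSucc).comap π).relIndex ((H i.succ).comap π) =
      (H i.castSucc).relIndex (H i.succ) := fun i => by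
    rw [relIndex_comap, map_comap_eq_self_of_surjective hsurj]
  have hdvd : ∀ i : Fin m, (H i.castSucc).relIndex (H i.succ) ∣ Nat.card G := fun i => by
    rw [← hrel i]
    exact (relIndex_dvd_card _ _).trans (card_subgroup_dvd_card _)
  have hz : ((⊥ : Subgroup G)).relIndex ((H 0).comap π) = p := by
    rw [h0, MonoidHom.comap_bot, QuotientGroup.ker_mk', relIndex_bot_left, hNc]
  refine ⟨m + 1, Fin.cons ⊥ fun i => (H i).comap π, rfl, ?_, ?_, ?_, ?_⟩
  · rw [← Fin.succ_last, Fin.cons_succ, hl, comap_top]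
  · refine Fin.cases ?_ fun i => ?_
    · rw [Fin.cons_zero]; infer_instance
    · rw [Fin.cons_succ]; exact (hn i).comap π
  · refine Fin.cases ?_ fun i => ?_
    · rw [Fin.castSucc_zero, Fin.cons_zero, Fin.cons_succ, hz]
      exact ⟨bot_le, hp⟩
    · rw [← Fin.succ_castSucc, Fin.cons_succ, Fin.cons_succ, hrel]
      exact ⟨comap_mono (hst i).1, (hst i).2⟩
  · refine Fin.cases ?_ fun i => ?_
    · refine Fin.cases (fun _ => le_rfl) fun j _ => ?_
      simp only [Fin.castSucc_zero, Fin.cons_zero, ← Fin.succ_castSucc, Fin.cons_succ, hz, hrel]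
      exact hmax _ (hst j).2 (hdvd j)
    · refine Fin.cases (fun hle => absurd hle (by simp)) fun j hle => ?_
      simp only [← Fin.succ_castSucc, Fin.cons_succ, hrel]
      exact hdec i j (Fin.succ_le_succ_iff.1 hle)

theorem supersolvable_of_comm_aux (n : ℕ) : ∀ (A : Type u) [CommGroup A] [Finite A], Nat.card A = n →
    Cfsg.IsSupersolvable A := by
  induction n using Nat.strongRecOn with | ind n ih => ?_
  rintro A _ _ rfl
  rcases subsingleton_or_nontrivial A with h1 | h1
  · exact CfsgLib.Supersolvable.of_subsingleton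
  obtain ⟨q, hq, hqd⟩ := Nat.exists_prime_and_dvd (Finite.one_lt_card (α := A)).ne'
  haveI := Fact.mk hq
  obtain ⟨x, hx⟩ := exists_prime_orderOf_dvd_card' q hqd
  refine CfsgLib.Supersolvable.of_prime_normal (N := zpowers x) (by rw [Nat.card_zpowers, hx]; exact hq)
    (ih _ (card_quotient_lt fun e => ?_) _ rfl)
  rw [zpowers_eq_bot] at e
  rw [e, orderOf_one] at hx
  exact hq.ne_one hx.symm

theorem prod_abelian {G : Type u} {A : Type*} [Group G] [CommGroup A] [Finite G] [Finite A]
    [Group.IsSolvable G] (hA : ∀ p : ℕ, p.Prime → p ∣ Nat.card A → p ∣ Nat.card G)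
    (hexp : ∀ p : ℕ, p.Prime → p ∣ Nat.card G →
      (Nat.card A).factorization p + 1 = (Nat.card G).factorization p) :
    Cfsg.HasSubgroupOfEveryOrder (G × A) := by
  intro d hd
  rw [Nat.card_prod] at hd
  have hd0 : d ≠ 0 := ne_zero_of_dvd_ne_zero (mul_ne_zero Nat.card_pos.ne' Nat.card_pos.ne') hd
  obtain ⟨a, b, hab, hco, ha, hb⟩ := CfsgLib.Hall.exists_pi_split G
    fun p => (Nat.card G).factorization p ≤ d.factorization p
  obtain ⟨H, hH, -⟩ := CfsgLib.Hall.hall hab hco
  have ha0 : a ≠ 0 := by rw [← hH]; exact Nat.card_pos.ne'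
  have hb0 : b ≠ 0 := fun e => by rw [e, mul_zero] at hab; exact Nat.card_pos.ne' hab
  have hfac : ∀ q, (Nat.card G).factorization q = a.factorization q + b.factorization q := fun q => by
    rw [hab, Nat.factorization_mul ha0 hb0, Finsupp.add_apply]
  have had : a ∣ d := by
    rw [← Nat.factorization_le_iff_dvd ha0 hd0]
    intro q
    by_cases hq : q.Prime ∧ q ∣ a
    · have := ha q hq.1 hq.2
      have := hfac q
      omega
    · rw [(Nat.factorization_eq_zero_iff _ _).2 (by tauto)]
      exact Nat.zero_le _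
  obtain ⟨e, rfl⟩ := had
  have he0 : e ≠ 0 := fun e' => hd0 (by rw [e', mul_zero])
  have heA : e ∣ Nat.card A := by
    rw [← Nat.factorization_le_iff_dvd he0 Nat.card_pos.ne']
    intro q
    have h1 := (Nat.factorization_le_iff_dvd hd0 (mul_ne_zero Nat.card_pos.ne' Nat.card_pos.ne')).2 hd q
    rw [Nat.factorization_mul ha0 he0, Nat.factorization_mul Nat.card_pos.ne' Nat.card_pos.ne',
      Finsupp.add_apply, Finsupp.add_apply] at h1
    have h2 := hfac q
    by_cases hq : q.Prime ∧ q ∣ Nat.card G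
    · by_cases hqb : q ∣ b
      · have h3 : a.factorization q = 0 := Nat.factorization_eq_zero_of_not_dvd fun hqa =>
          hq.1.ne_one (Nat.eq_one_of_dvd_coprimes hco hqa hqb)
        have h4 := hb q hq.1 hqb
        rw [Nat.factorization_mul ha0 he0, Finsupp.add_apply] at h4
        have h5 := hexp q hq.1 hq.2
        omega
      · have h3 : b.factorization q = 0 := Nat.factorization_eq_zero_of_not_dvd hqb
        omega
    · have h4 : (Nat.card A).factorization q = 0 :=
        (Nat.factorization_eq_zero_iff _ _).2 (by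
          by_contra hne
          push Not at hne
          exact hq ⟨hne.1, hA q hne.1 hne.2.1⟩)
      have h5 : (Nat.card G).factorization q = 0 := (Nat.factorization_eq_zero_iff _ _).2 (by tauto)
      omega
  obtain ⟨B, hB⟩ := CfsgLib.Supersolvable.subgroup_of_every_order
    (supersolvable_of_comm_aux _ A rfl) e heA
  exact ⟨H.prod B, by rw [Nat.card_congr (H.prodEquiv B).toEquiv, Nat.card_prod, hH, hB]⟩

end CfsgLib.Huppert
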