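import Cfsg.Agent.Solvable.Schmidt
import Cfsg.Agent.Solvable.Carter
import Cfsg.Agent.Solvable.NormalizerComplement
import Cfsg.Agent.Solvable.Huppert

/-!
Wielandt's theorem on nilpotent Hall subgroups and its consequences.
-/

set_option autoImplicit false
set_option linter.style.haveILetI false
set_option linter.deprecated false
set_option linter.unusedSectionVars false

namespace CfsgLib.NilpotentHall

open Subgroup CfsgLib.Solvable CfsgLib.SZ CfsgLib.PResidual
open scoped Pointwise commutatorElement

universe u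

variable {G : Type u} [Group G] [Finite G]

theorem factorization_hall {H : Subgroup G} (hHall : (Nat.card H).Coprime H.index) {p : ℕ}
    (hp : p.Prime) (hd : p ∣ Nat.card H) :
    (Nat.card H).factorization p = (Nat.card G).factorization p := by
  rw [← H.card_mul_index, Nat.factorization_mul Nat.card_pos.ne' index_ne_zero_of_finite,
    Finsupp.add_apply, left_eq_add]
  exact Nat.factorization_eq_zero_of_not_dvd fun h =>
    hp.ne_one (Nat.eq_one_of_dvd_coprimes hHall hd h)

/-- A Sylow subgroup of a Hall subgroup is a Sylow subgroup of the group. -/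
theorem sylow_card {H : Subgroup G} (hHall : (Nat.card H).Coprime H.index) {p : ℕ} [hp : Fact p.Prime]
    (hd : p ∣ Nat.card H) (P : Sylow p H) :
    Nat.card ((P : Subgroup H).map H.subtype) = p ^ (Nat.card G).factorization p := by
  rw [card_map_of_injective H.subtype_injective, P.card_eq_multiplicity,
    factorization_hall hHall hp.out hd]

theorem contains_conj_aux (H : Subgroup G) (hH : Group.IsNilpotent H)
    (hHall : (Nat.card H).Coprime H.index) (n : ℕ) : ∀ K : Subgroup G, Nat.card K = n →
      (∀ p : ℕ, p.Prime → p ∣ Nat.card K → p ∣ Nat.card H) → ∃ x : G, K ≤ MulAut.conj x • H := by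
  induction n using Nat.strongRecOn with | ind n ih => ?_
  rintro K rfl hK
  rcases eq_or_ne K ⊥ with rfl | hK1
  · exact ⟨1, bot_le⟩
  haveI := (nontrivial_iff_ne_bot K).2 hK1
  have hsub : ∀ X : Subgroup K, X ≠ ⊤ → ∃ x : G, X.map K.subtype ≤ MulAut.conj x • H := by
    intro X hX
    refine ih _ ?_ _ rfl fun p hp hd => hK p hp (hd.trans (card_dvd_of_le (map_subtype_le X)))
    rw [card_map_of_injective K.subtype_injective]
    exact card_lt_of_ne_top hX
  haveI : Group.IsSolvable K := CfsgLib.Schmidt.schmidt fun X hX => by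
    obtain ⟨x, hx⟩ := hsub X hX.1
    haveI : Group.IsNilpotent (MulAut.conj x • H : Subgroup G) := by
      haveI := hH
      exact Group.nilpotent_of_mulEquiv (Subgroup.equivSMul (MulAut.conj x) H)
    haveI := CfsgLib.Schmidt.isNilpotent_of_le hx inferInstance
    exact Group.nilpotent_of_mulEquiv (X.equivMapOfInjective K.subtype K.subtype_injective).symm
  obtain ⟨p, M, hp, hM, hMi⟩ := CfsgLib.Schmidt.exists_normal_prime_index (G := K)
  haveI := Fact.mk hp
  haveI := hM
  obtain ⟨x, hx⟩ := hsub M fun e => by rw [e, index_top] at hMi; exact hp.ne_one hMi.symm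
  -- conjugate so that `M` lies in `H`
  set K' := MulAut.conj x⁻¹ • K with hK'
  suffices h : ∃ y : G, K' ≤ MulAut.conj y • H by
    obtain ⟨y, hy⟩ := h
    refine ⟨x * y, ?_⟩
    rw [conj_smul_mul]
    have := (pointwise_smul_le_pointwise_smul_iff (a := MulAut.conj x)).2 hy
    rwa [hK', ← conj_smul_mul, mul_inv_cancel, map_one, one_smul] at this
  let e : K ≃* K' := Subgroup.equivSMul (MulAut.conj x⁻¹) K
  set M' := M.map e.toMonoidHom with hM'
  haveI : M'.Normal := hM.map _ e.surjective
  have hM'i : M'.index = p := by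
    rw [hM', Subgroup.index_map_eq M (f := e.toMonoidHom) e.surjective
      (((MonoidHom.ker_eq_bot_iff _).2 e.injective).le.trans bot_le), hMi]
  have hM'H : M'.map K'.subtype ≤ H := by
    rintro _ ⟨_, ⟨m, hm, rfl⟩, rfl⟩
    have h1 := mem_conj_smul.1 (hx (mem_map_of_mem _ hm))
    show MulAut.conj x⁻¹ (m : G) ∈ H
    simpa [MulAut.conj_apply] using h1
  haveI hMnil : Group.IsNilpotent M' := by
    haveI := CfsgLib.Schmidt.isNilpotent_of_le hM'H hH
    exact Group.nilpotent_of_mulEquiv (M'.equivMapOfInjective K'.subtype K'.subtype_injective).symm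
  -- the `p'`-part of `M'`
  set X₀ := (Cfsg.pResidual p M').map M'.subtype
  haveI : (Cfsg.pResidual p M').Characteristic := by
    rw [characteristic_iff_map_le]
    intro φ
    refine (map_le_iff_le_comap).2 ((closure_le _).2 fun g (hg : (orderOf g).Coprime p) => ?_)
    exact mem_pResidual p (by
      show (orderOf (φ g)).Coprime p
      rwa [φ.orderOf_eq])
  haveI : X₀.Normal := inferInstance
  have hres := hasNormalPComplement_iff.1 (CfsgLib.Carter.hasNormalPComplement_of_isNilpotent
    (G := M') p)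
  obtain ⟨k, hk⟩ := exists_index_pResidual (G := M') (p := p)
  have hX₀c : (Nat.card X₀).Coprime p := by
    rwa [card_map_of_injective M'.subtype_injective]
  have hX₀i : X₀.index = p ^ (k + 1) := by
    rw [index_map_subtype, hk, hM'i, pow_succ]
  obtain ⟨P₀⟩ : Nonempty (Sylow p K') := inferInstance
  have hsupK : X₀ ⊔ (P₀ : Subgroup K') = ⊤ :=
    index_eq_one.1 (Nat.eq_one_of_dvd_coprimes ((hp.coprime_iff_not_dvd.2 P₀.not_dvd_index).pow_left (k+1))
      ((index_dvd_of_le le_sup_left).trans hX₀i.dvd) (index_dvd_of_le le_sup_right))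
  set X := X₀.map K'.subtype
  set P := (P₀ : Subgroup K').map K'.subtype
  have hXH : X ≤ H := (map_mono (map_subtype_le _)).trans hM'H
  -- `p ∣ |H|` and a Sylow subgroup centralising `X`
  have hpH : p ∣ Nat.card H := hK p hp (hMi ▸ index_dvd_card M)
  obtain ⟨Q₀⟩ : Nonempty (Sylow p H) := inferInstance
  obtain ⟨R, hR⟩ := (Q₀.2.map H.subtype).exists_le_sylow
  have hRQ : (R : Subgroup G) = (Q₀ : Subgroup H).map H.subtype :=
    (eq_of_le_of_card_le hR (by rw [sylow_card hHall hpH, R.card_eq_multiplicity])).symm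
  set N := normalizer (X : Set G)
  have hRN : (R : Subgroup G) ≤ N := by
    refine CfsgLib.Socle.le_normalizer_of_le_centralizer fun r hr => mem_centralizer_iff.2 fun y hy => ?_
    rw [hRQ] at hr
    obtain ⟨r', hr', rfl⟩ := hr
    obtain ⟨y', hy', e'⟩ := hy
    have hyH : y ∈ H := hXH ⟨y', hy', e'⟩
    obtain ⟨j, hj⟩ := IsPGroup.iff_orderOf.1 Q₀.2 ⟨r', hr'⟩
    rw [orderOf_mk] at hj
    have := CfsgLib.FGSA.commute_of_coprime_orderOf (G := H) ⟨y, hyH⟩ r' (by
      rw [← orderOf_coe, hj]
      show (orderOf y).Coprime (p ^ j)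
      rw [← e']
      refine ((hX₀c.coprime_dvd_left ?_)).pow_right j
      show orderOf (K'.subtype y') ∣ _
      rw [orderOf_injective K'.subtype K'.subtype_injective]
      exact Subgroup.orderOf_dvd_natCard _ hy')
    exact congrArg Subtype.val this.eq
  have hKN : K' ≤ N := by
    have h := le_normalizer_map K'.subtype (H := X₀)
    rwa [normalizer_eq_top, ← MonoidHom.range_eq_map, range_subtype] at h
  have hPN : P ≤ N := (map_subtype_le _).trans hKN
  obtain ⟨S, hS⟩ := ((P₀.2.map K'.subtype).comap_of_injective N.subtype N.subtype_injective).exists_le_sylow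
  obtain ⟨n, hn⟩ := MulAction.exists_smul_eq N S (R.subtype hRN)
  refine ⟨(n : G)⁻¹, ?_⟩
  have hK'eq : K' = X ⊔ P := by
    rw [← Subgroup.map_sup, hsupK, ← MonoidHom.range_eq_map, range_subtype]
  rw [hK'eq, sup_le_iff]
  refine ⟨fun y hy => mem_conj_smul.2 (hXH ?_), fun y hy => mem_conj_smul.2 ?_⟩
  · rw [inv_inv]
    exact (mem_normalizer_iff.1 n.2 y).1 hy
  · rw [inv_inv]
    have h1 : (⟨y, hPN hy⟩ : N) ∈ (S : Subgroup N) := hS hy
    have h2 : n * ⟨y, hPN hy⟩ * n⁻¹ ∈ ((R.subtype hRN : Sylow p N) : Subgroup N) := by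
      rw [← hn, Sylow.coe_subgroup_smul, mem_conj_smul]
      simpa [mul_assoc] using h1
    rw [Sylow.coe_subtype, mem_subgroupOf] at h2
    rw [hRQ] at h2
    exact map_subtype_le _ h2

theorem contains_conj (H K : Subgroup G) (hH : Group.IsNilpotent H)
    (hHall : (Nat.card H).Coprime H.index)
    (hK : ∀ p : ℕ, p.Prime → p ∣ Nat.card K → p ∣ Nat.card H) : ∃ x : G, K ≤ MulAut.conj x • H :=
  contains_conj_aux H hH hHall _ K rfl hK

theorem hall_complement_of_all (H : Subgroup G) (hHall : (Nat.card H).Coprime H.index)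
    (hall : ∀ p : ℕ, p.Prime → p ∣ Nat.card H → Cfsg.HasNormalPComplement p G) :
    ∃ N : Subgroup G, N.Normal ∧ IsComplement' N H := by
  classical
  set s := (Nat.card H).primeFactors
  have hmem : ∀ p ∈ s, p.Prime ∧ p ∣ Nat.card H := fun p hp =>
    ⟨Nat.prime_of_mem_primeFactors hp, Nat.dvd_of_mem_primeFactors hp⟩
  let N := s.inf fun p => Cfsg.pResidual p G
  have hidx : ∀ p ∈ s, (Cfsg.pResidual p G).index = p ^ (Nat.card H).factorization p := by
    intro p hp
    haveI := Fact.mk (hmem p hp).1
    obtain ⟨R⟩ : Nonempty (Sylow p G) := inferInstance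
    rw [(isComplement'_of_coprime_pResidual (hasNormalPComplement_iff.1
      (hall p (hmem p hp).1 (hmem p hp).2)) R).symm.index_eq_card, R.card_eq_multiplicity,
      factorization_hall hHall (hmem p hp).1 (hmem p hp).2]
  have hNidx : N.index = Nat.card H := by
    rw [CfsgLib.CoprimeIndex.index_finsetInf, Finset.prod_congr rfl hidx]
    · exact Nat.prod_factorization_pow_eq_self Nat.card_pos.ne'
    · intro p hp q hq hne
      show Nat.Coprime _ _
      rw [hidx p hp, hidx q hq]
      exact Nat.Coprime.pow _ _ ((Nat.coprime_primes (hmem p hp).1 (hmem q hq).1).2 hne)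
  haveI hNn : N.Normal := by
    refine Finset.inf_induction (p := Subgroup.Normal) inferInstance (fun A hA B hB => ?_)
      fun p _ => inferInstance
    haveI := hA; haveI := hB; infer_instance
  refine ⟨N, hNn, isComplement'_of_coprime ?_ ?_⟩
  · rw [← hNidx, card_mul_index]
  · refine Nat.coprime_of_dvd fun p hp hpN hpH => ?_
    haveI := Fact.mk hp
    have hps : p ∈ s := hp.mem_primeFactors hpH Nat.card_pos.ne'
    exact hp.ne_one (Nat.eq_one_of_dvd_coprimes (hasNormalPComplement_iff.1 (hall p hp hpH))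
      (hpN.trans (card_dvd_of_le (Finset.inf_le hps))) dvd_rfl)

theorem central_complement (H : Subgroup G) (hHall : (Nat.card H).Coprime H.index)
    (h : normalizer (H : Set G) ≤ centralizer (H : Set G)) :
    ∃ N : Subgroup G, N.Normal ∧ IsComplement' N H := by
  have hHc : IsMulCommutative H := le_centralizer_iff_isMulCommutative.1 (le_normalizer.trans h)
  have hnil : Group.IsNilpotent H := CfsgLib.Schmidt.isNilpotent_of_comm hHc
  -- conjugate elements of `H` are equal
  have hfus : ∀ x ∈ H, ∀ u : G, u * x * u⁻¹ ∈ H → u * x * u⁻¹ = x := by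
    intro x hx u hu
    set C := centralizer {x}
    have hHC : H ≤ C := fun a ha => mem_centralizer_singleton_iff.2 (setLike_mul_comm ha hx)
    have hK : MulAut.conj u⁻¹ • H ≤ C := by
      intro a ha
      rw [mem_conj_smul, inv_inv] at ha
      refine mem_centralizer_singleton_iff.2 ?_
      have e := setLike_mul_comm ha hu
      calc a * x = u⁻¹ * ((u * a * u⁻¹) * (u * x * u⁻¹)) * u := by group
        _ = x * a := by rw [e]; group
    haveI : Group.IsNilpotent (H.subgroupOf C) :=
      Group.nilpotent_of_mulEquiv (subgroupOfEquivOfLe hHC).symm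
    obtain ⟨c, hc⟩ := contains_conj (H.subgroupOf C) ((MulAut.conj u⁻¹ • H).subgroupOf C) inferInstance
      (by
        rw [Nat.card_congr (subgroupOfEquivOfLe hHC).toEquiv]
        exact hHall.coprime_dvd_right (relIndex_dvd_index_of_le hHC))
      fun p _ hd => by
        rwa [Nat.card_congr (subgroupOfEquivOfLe hK).toEquiv, card_conj_smul,
          ← Nat.card_congr (subgroupOfEquivOfLe hHC).toEquiv] at hd
    have hle := map_mono (f := C.subtype) hc
    rw [conj_smul_map, map_subgroupOf_eq_of_le hK, map_subgroupOf_eq_of_le hHC] at hle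
    have heq := eq_of_le_of_card_le hle (by rw [card_conj_smul, card_conj_smul])
    have hn : u * (c : G) ∈ normalizer (H : Set G) := by
      rw [← conj_smul_eq_iff_mem_normalizer, conj_smul_mul, ← Subgroup.coe_subtype, ← heq,
        ← conj_smul_mul, mul_inv_cancel, map_one, one_smul]
    have h1 := mem_centralizer_iff.1 (h hn) x hx
    have h2 := mem_centralizer_singleton_iff.1 c.2
    calc u * x * u⁻¹ = u * ((c : G) * x * (c : G)⁻¹) * u⁻¹ := by rw [h2, mul_inv_cancel_right]
      _ = (u * c) * x * (u * c)⁻¹ := by group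
      _ = x := by rw [← h1, mul_inv_cancel_right]
  refine hall_complement_of_all H hHall fun p hp hd => ?_
  haveI := Fact.mk hp
  obtain ⟨P₀⟩ : Nonempty (Sylow p H) := inferInstance
  obtain ⟨R, hR⟩ := (P₀.2.map H.subtype).exists_le_sylow
  have hRH : (R : Subgroup G) ≤ H := by
    rw [← eq_of_le_of_card_le hR (by rw [sylow_card hHall hd, R.card_eq_multiplicity])]
    exact map_subtype_le _
  refine CfsgLib.NormalizerComplement.hasNormalPComplement_of_focal R ?_
  rw [focalSubgroup_def, closure_le]
  rintro z ⟨hz, x, hx, u, rfl⟩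
  have hy : u * x⁻¹ * u⁻¹ ∈ H := by
    have := mul_mem (inv_mem (hRH hx)) (hRH hz)
    simpa [commutatorElement_def, mul_assoc] using this
  have : ⁅x, u⁆ = 1 := by
    rw [commutatorElement_def]
    calc x * u * x⁻¹ * u⁻¹ = x * (u * x⁻¹ * u⁻¹) := by group
      _ = 1 := by rw [hfus _ (inv_mem (hRH hx)) u hy, mul_inv_cancel]
  rw [this]
  exact one_mem _

theorem supersolvable_normal_sylow {H : Type u} [Group H] [Finite H] (hH : Cfsg.IsSupersolvable H)
    (p : ℕ) [Fact p.Prime] (hmax : ∀ q : ℕ, q.Prime → q ∣ Nat.card H → q ≤ p) (P : Sylow p H) :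
    (P : Subgroup H).Normal :=
  CfsgLib.Huppert.normal_sylow_max (CfsgLib.Supersolvable.maximal_index_prime hH) p hmax P

theorem supersolvable_conj_aux (n : ℕ) : ∀ (G : Type u) [Group G] [Finite G], Nat.card G = n →
    ∀ H K : Subgroup G, Cfsg.IsSupersolvable H → Cfsg.IsSupersolvable K → Nat.card H = Nat.card K →
      (Nat.card H).Coprime H.index → ∃ x : G, MulAut.conj x • H = K := by
  induction n using Nat.strongRecOn with | ind n ih => ?_
  rintro G _ _ rfl H K hH hK hcard hHall
  rcases eq_or_ne H ⊥ with rfl | hH1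
  · refine ⟨1, ?_⟩
    rw [map_one, one_smul, eq_comm, ← card_eq_one, ← hcard, card_bot]
  haveI := (nontrivial_iff_ne_bot H).2 hH1
  obtain ⟨p, hp, hpd, hmax⟩ := CfsgLib.Huppert.exists_max_prime H
  haveI := Fact.mk hp
  have hKHall : (Nat.card K).Coprime K.index := by
    have h1 : H.index = K.index := Nat.eq_of_mul_eq_mul_left (Nat.card_pos (α := H))
      (by rw [card_mul_index]; rw [hcard, card_mul_index])
    rw [← hcard, ← h1]; exact hHall
  have hloc : ∀ X : Subgroup G, Cfsg.IsSupersolvable X → Nat.card X = Nat.card H →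
      (Nat.card X).Coprime X.index →
      ∃ R : Sylow p G, (R : Subgroup G) ≤ X ∧ X ≤ normalizer ((R : Subgroup G) : Set G) := by
    intro X hX hXc hXh
    obtain ⟨P⟩ : Nonempty (Sylow p X) := inferInstance
    haveI := supersolvable_normal_sylow hX p (fun q hq hd => hmax q hq (hXc ▸ hd)) P
    obtain ⟨R, hR⟩ := (P.2.map X.subtype).exists_le_sylow
    have e := eq_of_le_of_card_le hR
      (by rw [sylow_card hXh (hXc.symm ▸ hpd), R.card_eq_multiplicity])
    refine ⟨R, e ▸ map_subtype_le _, ?_⟩
    have h := le_normalizer_map X.subtype (H := (P : Subgroup X))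
    rwa [normalizer_eq_top, ← MonoidHom.range_eq_map, range_subtype, e] at h
  obtain ⟨R, hRH, hHN⟩ := hloc H hH rfl hHall
  obtain ⟨R', hR'K, hKN⟩ := hloc K hK hcard.symm hKHall
  obtain ⟨g, hg⟩ := MulAction.exists_smul_eq G R' R
  set K' := MulAut.conj g • K with hK'
  set N := normalizer ((R : Subgroup G) : Set G)
  have hK'N : K' ≤ N := by
    intro y hy
    rw [hK', mem_conj_smul] at hy
    rw [show N = normalizer (((g • R' : Sylow p G) : Subgroup G) : Set G) by rw [hg]]
    rw [← conj_smul_eq_iff_mem_normalizer, Sylow.coe_subgroup_smul, ← conj_smul_mul,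
      show y * g = g * (g⁻¹ * y * g) by group, conj_smul_mul g,
      conj_smul_eq_iff_mem_normalizer.2 (hKN hy)]
  have hRK' : (R : Subgroup G) ≤ K' := by
    rw [← hg, Sylow.coe_subgroup_smul, hK']
    exact pointwise_smul_le_pointwise_smul_iff.2 hR'K
  haveI : ((R : Subgroup G).subgroupOf N).Normal :=
    (normal_subgroupOf_iff_le_normalizer le_normalizer).2 le_rfl
  set R₀ := (R : Subgroup G).subgroupOf N
  set π := QuotientGroup.mk' R₀
  have hsurj := QuotientGroup.mk'_surjective R₀
  have hlt : Nat.card (N ⧸ R₀) < Nat.card G := by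
    have hR₀ : R₀ ≠ ⊥ := by
      rw [Ne, subgroupOf_eq_bot]
      intro h
      exact R.ne_bot_of_dvd_card (hpd.trans (card_subgroup_dvd_card H))
        (disjoint_self.1 (h.mono le_rfl le_normalizer))
    exact (card_quotient_lt hR₀).trans_le (Nat.le_of_dvd Nat.card_pos (card_subgroup_dvd_card N))
  have hq : ∀ X : Subgroup G, (R : Subgroup G) ≤ X → X ≤ N →
      ((X.subgroupOf N).map π).comap π = X.subgroupOf N ∧
      Nat.card R * Nat.card ((X.subgroupOf N).map π) = Nat.card X := by
    intro X hRX hXN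
    have e : ((X.subgroupOf N).map π).comap π = X.subgroupOf N := by
      rw [comap_map_eq, QuotientGroup.ker_mk', sup_eq_left.2 (show R₀ ≤ X.subgroupOf N from comap_mono hRX)]
    refine ⟨e, ?_⟩
    have h2 := CfsgLib.Huppert.card_comap R₀ ((X.subgroupOf N).map π)
    rw [e, Nat.card_congr (subgroupOfEquivOfLe hXN).toEquiv,
      Nat.card_congr (subgroupOfEquivOfLe le_normalizer).toEquiv] at h2
    exact h2.symm
  have hHi : ((H.subgroupOf N).map π).index = (H.subgroupOf N).index := by
    rw [← index_comap_of_surjective _ hsurj, (hq H hRH hHN).1]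
  have hsup : ∀ X : Subgroup G, X ≤ N → Cfsg.IsSupersolvable X →
      Cfsg.IsSupersolvable ((X.subgroupOf N).map π) := fun X hXN hX =>
    CfsgLib.Supersolvable.of_surjective _ (π.subgroupMap_surjective _)
      (CfsgLib.Supersolvable.of_surjective (subgroupOfEquivOfLe hXN).symm.toMonoidHom
        (subgroupOfEquivOfLe hXN).symm.surjective hX)
  have hK's : Cfsg.IsSupersolvable K' :=
    CfsgLib.Supersolvable.of_surjective (Subgroup.equivSMul (MulAut.conj g) K).toMonoidHom
      (Subgroup.equivSMul (MulAut.conj g) K).surjective hK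
  have hK'c : Nat.card K' = Nat.card H := by rw [hK', card_conj_smul, hcard]
  obtain ⟨y, hy⟩ := ih _ hlt _ rfl ((H.subgroupOf N).map π) ((K'.subgroupOf N).map π)
    (hsup H hHN hH) (hsup K' hK'N hK's)
    (Nat.eq_of_mul_eq_mul_left (Nat.card_pos (α := R))
      (by rw [(hq H hRH hHN).2, (hq K' hRK' hK'N).2, hK'c]))
    (by
      rw [hHi]
      refine (hHall.coprime_dvd_left (Dvd.intro_left _ (hq H hRH hHN).2)).coprime_dvd_right ?_
      exact relIndex_dvd_index_of_le hHN)
  obtain ⟨y, rfl⟩ := hsurj y
  refine ⟨g⁻¹ * (y : G), ?_⟩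
  have h1 : (MulAut.conj y • H.subgroupOf N).map π = (K'.subgroupOf N).map π := by
    rw [conj_smul_map]; exact hy
  have h2 := congrArg (Subgroup.comap π) h1
  rw [(hq K' hRK' hK'N).1, comap_map_eq, QuotientGroup.ker_mk', sup_eq_left.2 ?_] at h2
  · have h3 := congrArg (Subgroup.map N.subtype) h2
    rw [conj_smul_map, map_subgroupOf_eq_of_le hHN, map_subgroupOf_eq_of_le hK'N] at h3
    rw [conj_smul_mul, show MulAut.conj (y : G) • H = K' from h3, hK', conj_smul_inv_smul]
  · rw [← conj_smul_normal y R₀]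
    exact pointwise_smul_le_pointwise_smul_iff.2 (comap_mono hRH)

end CfsgLib.NilpotentHall
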