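import Cfsg.Agent.Solvable.PGroupBasic
import Cfsg.Agent.InvChar.UniqueInvolution
import Cfsg.Prelude.Def_Transfer
import Mathlib.Data.Nat.Choose.Dvd

/-!
Power formulas in groups of class at most three, the exponent of `Ω₁`, Alperin's lemma on maximal
normal abelian subgroups of bounded exponent.
-/

set_option autoImplicit false
set_option linter.style.haveILetI false
set_option linter.unusedSectionVars false

namespace CfsgLib.PGroupPower

open Subgroup
open scoped commutatorElement

variable {G : Type*} [Group G]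

/-- Sum of the squares below `n`. -/
def sumSq : ℕ → ℕ
  | 0 => 0
  | n + 1 => sumSq n + n * n

theorem six_mul_sumSq (n : ℕ) : 6 * sumSq (n + 1) = n * (n + 1) * (2 * n + 1) := by
  induction n with
  | zero => rfl
  | succ n ih => rw [sumSq, mul_add, ih]; ring

theorem dvd_sumSq {p : ℕ} (hp : p.Prime) (h3 : 3 < p) : p ∣ sumSq p := by
  obtain ⟨m, rfl⟩ : ∃ m, p = m + 1 := ⟨p - 1, by omega⟩
  have h := six_mul_sumSq m
  have h6 : (m + 1).Coprime 6 := by
    refine (hp.coprime_iff_not_dvd).2 fun hd => ?_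
    have h7 : (m + 1) ∣ 2 * 3 := hd
    rcases hp.dvd_mul.1 h7 with h8 | h8 <;> have := Nat.le_of_dvd (by norm_num) h8 <;> omega
  exact h6.dvd_of_dvd_mul_left (h.symm ▸ dvd_mul_of_dvd_left (dvd_mul_left _ m) _)

section Formula

variable {x y c d e : G} (hc : y * x = c * x * y) (hd : x * c = d * c * x) (he : y * c = e * c * y)
  (hdc : ∀ g : G, g ∈ ({x, y, c, d, e} : Set G) → Commute d g)
  (hec : ∀ g : G, g ∈ ({x, y, c, d, e} : Set G) → Commute e g)

include hc he hec in
theorem pow_mul_eq (n : ℕ) : y ^ n * x = e ^ n.choose 2 * c ^ n * x * y ^ n := by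
  induction n with
  | zero => simp
  | succ n ih =>
    have hyc : y * c ^ n = e ^ n * c ^ n * y := by
      have h1 : y * c * y⁻¹ = e * c := by rw [he, mul_inv_cancel_right]
      have h2 := congrArg (· ^ n) h1
      simp only [conj_pow] at h2
      rw [(hec c (by simp)).mul_pow] at h2
      rw [← h2]; group
    have hye : Commute y (e ^ n.choose 2) := ((hec y (by simp)).symm).pow_right _
    have hce : Commute (c ^ n) e := ((hec c (by simp)).symm).pow_left n
    calc y ^ (n + 1) * x = y * (y ^ n * x) := by rw [pow_succ', mul_assoc]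
      _ = (y * e ^ n.choose 2) * (c ^ n * x * y ^ n) := by rw [ih]; simp only [mul_assoc]
      _ = e ^ n.choose 2 * (y * c ^ n) * (x * y ^ n) := by rw [hye.eq]; simp only [mul_assoc]
      _ = e ^ n.choose 2 * e ^ n * c ^ n * ((y * x) * y ^ n) := by rw [hyc]; simp only [mul_assoc]
      _ = e ^ n.choose 2 * e ^ n * (c ^ n * c) * x * (y * y ^ n) := by
          rw [hc]; simp only [mul_assoc]
      _ = _ := by
          rw [← pow_add, ← pow_succ, ← pow_succ',
            show (n + 1).choose 2 = n.choose 2 + n by rw [Nat.choose_succ_succ', Nat.choose_one_right, add_comm]]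

include hd hdc in
theorem conj_pow_eq (n m : ℕ) : x ^ n * c ^ m = d ^ (n * m) * c ^ m * x ^ n := by
  induction n with
  | zero => simp
  | succ n ih =>
    have hxc : x * c ^ m = d ^ m * c ^ m * x := by
      have h1 : x * c * x⁻¹ = d * c := by rw [hd, mul_inv_cancel_right]
      have h2 := congrArg (· ^ m) h1
      simp only [conj_pow] at h2
      rw [(hdc c (by simp)).mul_pow] at h2
      rw [← h2]; group
    have hxd : Commute x (d ^ (n * m)) := ((hdc x (by simp)).symm).pow_right _
    calc x ^ (n + 1) * c ^ m = x * (x ^ n * c ^ m) := by rw [pow_succ', mul_assoc]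
      _ = (x * d ^ (n * m)) * (c ^ m * x ^ n) := by rw [ih]; simp only [mul_assoc]
      _ = d ^ (n * m) * (x * c ^ m) * x ^ n := by rw [hxd.eq]; simp only [mul_assoc]
      _ = d ^ (n * m) * d ^ m * c ^ m * (x * x ^ n) := by rw [hxc]; simp only [mul_assoc]
      _ = _ := by rw [← pow_add, ← pow_succ', Nat.succ_mul]

include hc hd he hdc hec in
/-- The power formula. -/
theorem mul_pow_eq (n : ℕ) : (x * y) ^ n =
    c ^ n.choose 2 * e ^ n.choose 3 * d ^ sumSq n * x ^ n * y ^ n := by
  induction n with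
  | zero => simp [sumSq]
  | succ n ih =>
    set W := c ^ n.choose 2 * e ^ n.choose 3 * d ^ sumSq n
    have hxe : Commute (x ^ n) (e ^ n.choose 2) :=
      (((hec x (by simp)).symm).pow_left n).pow_right _
    have hcd : Commute (d ^ (n * n)) (c ^ n.choose 2) := ((hdc c (by simp)).pow_left _).pow_right _
    have hde : Commute d e := hdc e (by simp)
    have hce : Commute c e := (hec c (by simp)).symm
    have hcd' : Commute c d := (hdc c (by simp)).symm
    calc (x * y) ^ (n + 1) = W * x ^ n * (y ^ n * x) * y := by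
          rw [pow_succ, ih]; simp only [mul_assoc]
      _ = W * (x ^ n * e ^ n.choose 2) * c ^ n * x * (y ^ n * y) := by
          rw [pow_mul_eq hc he hec]; simp only [mul_assoc]
      _ = W * e ^ n.choose 2 * (x ^ n * c ^ n) * x * (y ^ n * y) := by
          rw [hxe.eq]; simp only [mul_assoc]
      _ = W * e ^ n.choose 2 * d ^ (n * n) * c ^ n * (x ^ n * x) * (y ^ n * y) := by
          rw [conj_pow_eq hd hdc]; simp only [mul_assoc]
      _ = _ := by
          rw [← pow_succ, ← pow_succ]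
          congr 2
          simp only [W]
          have e1 : ((n + 1).choose 2) = n.choose 2 + n := by
            rw [Nat.choose_succ_succ', Nat.choose_one_right, add_comm]
          have e2 : ((n + 1).choose 3) = n.choose 3 + n.choose 2 := by
            rw [Nat.choose_succ_succ', add_comm]
          have e3 : sumSq (n + 1) = sumSq n + n * n := rfl
          rw [e1, e2, e3, pow_add, pow_add, pow_add]
          have k1 : Commute (c ^ n) (e ^ n.choose 3 * d ^ sumSq n * e ^ n.choose 2 * d ^ (n * n)) :=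
            (((hce.pow_pow _ _).mul_right (hcd'.pow_pow _ _)).mul_right (hce.pow_pow _ _)).mul_right
              (hcd'.pow_pow _ _)
          calc c ^ n.choose 2 * e ^ n.choose 3 * d ^ sumSq n * e ^ n.choose 2 * d ^ (n * n) * c ^ n
              = c ^ n.choose 2 * ((e ^ n.choose 3 * d ^ sumSq n * e ^ n.choose 2 * d ^ (n * n)) * c ^ n) := by
                simp only [mul_assoc]
            _ = c ^ n.choose 2 * c ^ n * e ^ n.choose 3 * (d ^ sumSq n * e ^ n.choose 2) * d ^ (n * n) := by
                rw [← k1.eq]; simp only [mul_assoc]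
            _ = _ := by rw [(hde.pow_pow _ _).eq]; simp only [mul_assoc]

end Formula

/-- Class at most three (at most two when `small`). -/
def Hyp (p : ℕ) (G : Type*) [Group G] : Prop :=
  (p ≠ 2 ∧ ⁅commutator G, (⊤ : Subgroup G)⁆ = ⊥) ∨
    (3 < p ∧ ⁅⁅commutator G, (⊤ : Subgroup G)⁆, (⊤ : Subgroup G)⁆ = ⊥)

variable {p : ℕ} [hp : Fact p.Prime]

theorem two_lt {h : Hyp p G} : 2 < p := by
  have := hp.out.two_le
  rcases h with ⟨h, -⟩ | ⟨h, -⟩ <;> omega

theorem central (h : Hyp p G) {c : G} (hc : c ∈ commutator G) (x g : G) : Commute ⁅x, c⁆ g := by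
  rcases h with ⟨-, h⟩ | ⟨-, h⟩
  · have : ⁅x, c⁆ ∈ (⊥ : Subgroup G) := by
      rw [← h, Subgroup.commutator_comm]; exact commutator_mem_commutator (mem_top x) hc
    rw [mem_bot.1 this]; exact Commute.one_left g
  · have : ⁅⁅x, c⁆, g⁆ ∈ (⊥ : Subgroup G) := by
      rw [← h]
      refine commutator_mem_commutator ?_ (mem_top g)
      rw [Subgroup.commutator_comm]; exact commutator_mem_commutator (mem_top x) hc
    exact commutatorElement_eq_one_iff_mul_comm.1 (mem_bot.1 this)

theorem trivial_or_large (h : Hyp p G) :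
    3 < p ∨ ∀ (x c : G), c ∈ commutator G → ⁅x, c⁆ = 1 := by
  rcases h with ⟨-, h⟩ | ⟨h, -⟩
  · refine Or.inr fun x c hc => mem_bot.1 (h ▸ ?_)
    rw [Subgroup.commutator_comm]; exact commutator_mem_commutator (mem_top x) hc
  · exact Or.inl h

theorem mul_pow_eq_of_pow {h : Hyp p G} {x y : G} (hc : ⁅y, x⁆ ^ p = 1)
    (hd : ⁅x, ⁅y, x⁆⁆ ^ p = 1) (he : ⁅y, ⁅y, x⁆⁆ ^ p = 1) : (x * y) ^ p = x ^ p * y ^ p := by
  set c := ⁅y, x⁆
  set d := ⁅x, c⁆
  set e := ⁅y, c⁆
  have hcG : c ∈ commutator G := commutator_mem_commutator (mem_top y) (mem_top x)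
  have e1 : y * x = c * x * y := by simp [c, commutatorElement_def, mul_assoc]
  have e2 : x * c = d * c * x := by simp [d, commutatorElement_def, mul_assoc]
  have e3 : y * c = e * c * y := by simp [e, commutatorElement_def, mul_assoc]
  rw [mul_pow_eq e1 e2 e3 (fun g _ => central h hcG x g) (fun g _ => central h hcG y g)]
  obtain ⟨a, ha⟩ := hp.out.dvd_choose_self (k := 2) (by norm_num) (two_lt (h := h))
  have hc2 : c ^ p.choose 2 = 1 := by rw [ha, pow_mul, hc, one_pow]
  have hd2 : d ^ sumSq p = 1 := by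
    rcases trivial_or_large h with h3 | h3
    · obtain ⟨b, hb⟩ := dvd_sumSq hp.out h3
      rw [hb, pow_mul, hd, one_pow]
    · rw [show d = 1 from h3 x c hcG, one_pow]
  have he2 : e ^ p.choose 3 = 1 := by
    rcases trivial_or_large h with h3 | h3
    · obtain ⟨b, hb⟩ := hp.out.dvd_choose_self (k := 3) (by norm_num) h3
      rw [hb, pow_mul, he, one_pow]
    · rw [show e = 1 from h3 y c hcG, one_pow]
  rw [hc2, hd2, he2, one_mul, one_mul, one_mul]

theorem commutator_pow (h : Hyp p G) {x c : G} (hc : c ∈ commutator G) (hx : Commute (x ^ p) c) :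
    ⁅x, c⁆ ^ p = 1 := by
  have e2 : x * c = ⁅x, c⁆ * c * x := by simp [commutatorElement_def, mul_assoc]
  have h1 := conj_pow_eq (y := (1 : G)) (e := (1 : G)) e2
    (fun g _ => central h hc x g) p 1
  simp only [pow_one, mul_one] at h1
  rw [hx.eq] at h1
  exact mul_eq_right.1 (mul_right_cancel h1.symm)

theorem pow_eq_one_of_closure (h : Hyp p G) {g : G} (hg : g ∈ closure {x : G | x ^ p = 1}) :
    g ^ p = 1 := by
  have hpair : ∀ x y : G, x ^ p = 1 → y ^ p = 1 → (x * y) ^ p = 1 := by
    intro x y hx hy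
    set c := ⁅y, x⁆
    have hcG : c ∈ commutator G := commutator_mem_commutator (mem_top y) (mem_top x)
    have hcx : Commute (x ^ p) c := by rw [hx]; exact Commute.one_left c
    have hcy : Commute (y ^ p) c := by rw [hy]; exact Commute.one_left c
    have hd := commutator_pow h hcG hcx
    have he := commutator_pow h hcG hcy
    have e1 : y * x = c * x * y := by simp [c, commutatorElement_def, mul_assoc]
    have e3 : y * c = ⁅y, c⁆ * c * y := by simp [commutatorElement_def, mul_assoc]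
    have h1 := pow_mul_eq e1 e3 (d := 1) (fun g _ => central h hcG y g) p
    obtain ⟨a, ha⟩ := hp.out.dvd_choose_self (k := 2) (by norm_num) (two_lt (h := h))
    rw [hy, ha, pow_mul, he, one_pow, one_mul, one_mul, mul_one] at h1
    have hc : c ^ p = 1 := mul_eq_right.1 h1.symm
    rw [mul_pow_eq_of_pow (h := h) hc hd he, hx, hy, one_mul]
  induction hg using closure_induction with
  | mem x hx => exact hx
  | one => exact one_pow p
  | mul x y _ _ hx hy => exact hpair x y hx hy
  | inv x _ hx => rw [inv_pow, hx, inv_one]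

/-! ### Alperin's lemma -/

section Alperin

variable [Finite G]

theorem exists_normal_between [Group.IsNilpotent G] {A W : Subgroup G} [A.Normal] [W.Normal]
    (h : A < W) : ∃ W' : Subgroup G, W'.Normal ∧ A ≤ W' ∧ W' < W ∧
      ∀ w ∈ W, ∀ g : G, ⁅w, g⁆ ∈ W' := by
  obtain ⟨W', ⟨hW', hAW', hlt⟩, hmax⟩ := Set.Finite.exists_maximal
    (s := {X : Subgroup G | X.Normal ∧ A ≤ X ∧ X < W}) (Set.toFinite _) ⟨A, inferInstance, le_rfl, h⟩
  haveI := hW'
  obtain ⟨x, hxW, hx, hxc⟩ := CfsgLib.PGroupBasic.exists_central_mod W' W hlt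
  have hn : (zpowers x ⊔ W').Normal := by
    refine ⟨fun y hy g => ?_⟩
    obtain ⟨a, ha, b, hb, rfl⟩ := mem_sup_of_normal_right.1 hy
    obtain ⟨k, rfl⟩ := mem_zpowers_iff.1 ha
    have hcm : QuotientGroup.mk' W' (g * x ^ k * g⁻¹) = QuotientGroup.mk' W' (x ^ k) := by
      rw [map_mul, map_mul, map_inv, mul_inv_eq_iff_eq_mul]
      refine (Commute.zpow_right ?_ k).eq |> fun h => by rw [map_zpow]; exact h
      rw [Commute, SemiconjBy, ← map_mul, ← map_mul]
      refine (QuotientGroup.eq (s := W')).2 ?_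
      have := Normal.conj_mem hW' _ (hxc g) (g⁻¹ * x⁻¹)
      simpa [mul_assoc] using this
    have e : g * (x ^ k * b) * g⁻¹ = x ^ k * ((x ^ k)⁻¹ * (g * x ^ k * g⁻¹) * (g * b * g⁻¹)) := by group
    rw [e]
    exact mul_mem_sup (mem_zpowers_iff.2 ⟨k, rfl⟩)
      (mul_mem (QuotientGroup.eq.1 hcm.symm) (hW'.conj_mem b hb g))
  have heq : zpowers x ⊔ W' = W := by
    refine (eq_or_lt_of_le (sup_le (zpowers_le.2 hxW) hlt.le)).resolve_right fun hlt' => hx ?_
    exact hmax ⟨hn, hAW'.trans le_sup_right, hlt'⟩ le_sup_right (mem_sup_left (mem_zpowers x))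
  refine ⟨W', hW', hAW', hlt, fun w hw g => ?_⟩
  rw [← heq] at hw
  obtain ⟨a, ha, b, hb, rfl⟩ := mem_sup_of_normal_right.1 hw
  obtain ⟨k, rfl⟩ := mem_zpowers_iff.1 ha
  rw [← QuotientGroup.eq_one_iff, ← QuotientGroup.mk'_apply, map_commutatorElement,
    commutatorElement_eq_one_iff_mul_comm, map_mul,
    show QuotientGroup.mk' W' b = 1 from (QuotientGroup.eq_one_iff b).2 hb, mul_one, map_zpow]
  refine (Commute.zpow_left ?_ k).eq
  rw [Commute, SemiconjBy, ← map_mul, ← map_mul]
  refine (QuotientGroup.eq (s := W')).2 ?_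
  have := Normal.conj_mem hW' _ (inv_mem (hxc g)) (g⁻¹ * x⁻¹)
  simpa [mul_assoc] using this

theorem alperin (hG : IsPGroup p G) (n : ℕ) (hn : p ^ n ≠ 2) (A : Subgroup G) [A.Normal]
    (hA : IsMulCommutative A) (hAe : ∀ a ∈ A, a ^ p ^ n = 1)
    (hmax : ∀ B : Subgroup G, B.Normal → IsMulCommutative B → (∀ b ∈ B, b ^ p ^ n = 1) → A ≤ B → B = A)
    (x₀ : G) (hx₀ : x₀ ∈ centralizer (A : Set G)) (hx₀n : x₀ ^ p ^ n = 1) : x₀ ∈ A := by
  classical
  haveI := hG.isNilpotent
  rcases Nat.eq_zero_or_pos n with rfl | hnpos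
  · rw [pow_zero, pow_one] at hx₀n
    rw [hx₀n]; exact one_mem A
  by_contra hx₀A
  set C := centralizer (A : Set G)
  have hAC : A ≤ C := le_centralizer_iff_isMulCommutative.2 hA
  obtain ⟨M, ⟨hM, hAM, hMC, z, hzM, hzA, hzn⟩, hmin⟩ := Set.Finite.exists_minimal
    (s := {X : Subgroup G | X.Normal ∧ A ≤ X ∧ X ≤ C ∧ ∃ z ∈ X, z ∉ A ∧ z ^ p ^ n = 1})
    (Set.toFinite _) ⟨C, inferInstance, hAC, le_rfl, x₀, hx₀, hx₀A, hx₀n⟩
  haveI := hM
  obtain ⟨L, hL, hAL, hLM, hLc⟩ := exists_normal_between (A := A) (W := M)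
    (lt_of_le_of_ne hAM fun e => hzA (e ▸ hzM))
  have hLA : ∀ v ∈ L, v ^ p ^ n = 1 → v ∈ A := fun v hv hvn => by
    by_contra hvA
    exact hLM.not_ge (hmin ⟨hL, hAL, hLM.le.trans hMC, v, hv, hvA, hvn⟩ hLM.le)
  -- an element `x` of order dividing `p ^ n` outside `A`, with `x ^ p ∈ A`
  obtain ⟨x, hxM, hxA, hxn, hxp⟩ : ∃ x ∈ M, x ∉ A ∧ x ^ p ^ n = 1 ∧ x ^ p ∈ A := by
    obtain ⟨k, hk⟩ := IsPGroup.iff_orderOf.1 hG z
    have hex : ∃ j, z ^ p ^ j ∈ A := ⟨k, by rw [← hk, pow_orderOf_eq_one]; exact one_mem A⟩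
    set j := Nat.find hex
    have hj := Nat.find_spec hex
    have hj0 : j ≠ 0 := fun e => hzA (by simpa [j, e] using hj)
    obtain ⟨i, hi⟩ := Nat.exists_eq_succ_of_ne_zero hj0
    refine ⟨z ^ p ^ i, pow_mem hzM _, Nat.find_min hex (show i < j by omega), ?_, ?_⟩
    · rw [← pow_mul, mul_comm, pow_mul, hzn, one_pow]
    · rw [← pow_mul, ← pow_succ]
      simpa [j, hi] using hj
  have hAcomm : ∀ a ∈ A, ∀ m ∈ C, Commute a m := fun a ha m hm => mem_centralizer_iff.1 hm a ha
  have hxC := hMC hxM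
  -- exponents
  have hchoose : ∀ a : G, a ^ p = 1 → (a ^ p.choose 2) ^ p ^ (n - 1) = 1 := by
    intro a ha
    obtain ⟨t, ht⟩ : p ∣ p.choose 2 * p ^ (n - 1) := by
      rcases eq_or_ne p 2 with rfl | hp2
      · refine dvd_mul_of_dvd_right (dvd_pow_self 2 ?_) _
        rintro h0
        exact hn (by rw [show n = 1 by omega, pow_one])
      · exact dvd_mul_of_dvd_left (hp.out.dvd_choose_self (by norm_num)
          (by have := hp.out.two_le; omega)) _
    rw [← pow_mul, ht, pow_mul, ha, one_pow]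
  have hpn : p ^ n = p * p ^ (n - 1) := by rw [← pow_succ', Nat.sub_add_cancel hnpos]
  -- `[x, L] ⊆ A`
  have hstep : ∀ (m : ℕ) (W : Subgroup G), W.Normal → A ≤ W → W ≤ L → Nat.card W ≤ m →
      ∀ w ∈ W, ⁅x, w⁆ ∈ A := by
    intro m
    induction m with
    | zero => intro W _ _ _ h; exact absurd h (Nat.not_le.2 Nat.card_pos)
    | succ m ih =>
      intro W hW hAW hWL hcard w hw
      haveI := hW
      rcases eq_or_lt_of_le hAW with rfl | hlt
      · rw [show ⁅x, w⁆ = 1 from commutatorElement_eq_one_iff_mul_comm.2 (hAcomm w hw x hxC).symm]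
        exact one_mem A
      obtain ⟨W', hW', hAW', hlt', hc⟩ := exists_normal_between hlt
      set v := ⁅x, w⁆
      have hvW : v ∈ W' := by
        rw [show v = ⁅w, x⁆⁻¹ from (commutatorElement_inv w x).symm]
        exact inv_mem (hc w hw x)
      have hvL : v ∈ L := hWL (hlt'.le hvW)
      set a := ⁅x, v⁆
      have haA : a ∈ A := ih W' hW' hAW' (hlt'.le.trans hWL)
        (Nat.le_of_lt_succ ((CfsgLib.Solvable.card_lt_of_lt hlt').trans_le hcard)) v hvW
      have hwC : w ∈ C := hMC (hLM.le (hWL hw))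
      have hvC : v ∈ C := hMC (hLM.le hvL)
      have e1 : x * w = v * w * x := by simp [v, commutatorElement_def, mul_assoc]
      have e2 : x * v = a * v * x := by simp [a, commutatorElement_def, mul_assoc]
      have hag : ∀ g : G, g ∈ ({w, x, v, (1 : G), a} : Set G) → Commute a g := by
        intro g hg
        simp only [Set.mem_insert_iff, Set.mem_singleton_iff] at hg
        rcases hg with rfl | rfl | rfl | rfl | rfl
        exacts [hAcomm a haA _ hwC, hAcomm a haA _ hxC, hAcomm a haA _ hvC, Commute.one_right a,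
          Commute.refl a]
      have h1 := pow_mul_eq (x := w) (y := x) (d := 1) e1 e2 hag p
      rw [(hAcomm _ hxp w hwC).eq] at h1
      have hkey : a ^ p.choose 2 * v ^ p = 1 := by
        have h3 : a ^ p.choose 2 * v ^ p * (w * x ^ p) = 1 * (w * x ^ p) := by
          rw [one_mul, ← mul_assoc]; exact h1.symm
        exact mul_right_cancel h3
      have ha1 : a ^ p = 1 := by
        have h2 := conj_pow_eq (x := x) (c := v) (d := a) (y := w) (e := (1 : G)) e2 (fun g hg => ?_) p 1
        · simp only [pow_one, mul_one] at h2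
          rw [(hAcomm _ hxp v hvC).eq] at h2
          exact mul_eq_right.1 (mul_right_cancel h2.symm)
        · simp only [Set.mem_insert_iff, Set.mem_singleton_iff] at hg
          rcases hg with rfl | rfl | rfl | rfl | rfl
          exacts [hAcomm a haA _ hxC, hAcomm a haA _ hwC, hAcomm a haA _ hvC, Commute.refl a,
            Commute.one_right a]
      refine hLA v hvL ?_
      rw [hpn, pow_mul, eq_inv_of_mul_eq_one_right hkey, inv_pow, hchoose a ha1, inv_one]
  have hcomm : ∀ g : G, g * x * g⁻¹ * x⁻¹ ∈ A := by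
    intro g
    set u := g * x * g⁻¹ * x⁻¹ with hu
    have huL : u ∈ L := by
      have := inv_mem (hLc x hxM g)
      simpa [hu, commutatorElement_def, mul_assoc] using this
    refine hLA u huL ?_
    have huC : u ∈ C := hMC (hLM.le huL)
    set c := ⁅x, u⁆
    have hcA : c ∈ A := hstep _ L hL hAL le_rfl le_rfl u huL
    have e1 : x * u = c * u * x := by simp [c, commutatorElement_def, mul_assoc]
    have e2 : u * c = 1 * c * u := by rw [one_mul, (hAcomm c hcA u huC).eq]
    have e3 : x * c = 1 * c * x := by rw [one_mul, (hAcomm c hcA x hxC).eq]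
    have hone : ∀ g : G, g ∈ ({u, x, c, (1 : G), (1 : G)} : Set G) → Commute (1 : G) g := fun g _ =>
      Commute.one_left g
    have hf := mul_pow_eq (x := u) (y := x) e1 e2 e3 hone hone p
    rw [one_pow, one_pow, mul_one, mul_one] at hf
    have hux : u * x = g * x * g⁻¹ := by rw [hu, inv_mul_cancel_right]
    rw [hux, conj_pow] at hf
    have hc1 : c ^ p = 1 := by
      have h2 := pow_mul_eq (x := u) (y := x) (d := 1) e1 e3 hone p
      rw [(hAcomm _ hxp u huC).eq, one_pow, one_mul] at h2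
      have h3 : c ^ p * (u * x ^ p) = 1 * (u * x ^ p) := by
        rw [one_mul, ← mul_assoc]; exact h2.symm
      exact mul_right_cancel h3
    have hupA : u ^ p = (c ^ p.choose 2)⁻¹ * (g * x ^ p * g⁻¹) * (x ^ p)⁻¹ := by
      rw [hf]; group
    have hA1 : (c ^ p.choose 2)⁻¹ ∈ A := inv_mem (pow_mem hcA _)
    have hA2 : g * x ^ p * g⁻¹ ∈ A := Normal.conj_mem inferInstance _ hxp g
    have hxe : (x ^ p) ^ p ^ (n - 1) = 1 := by rw [← pow_mul, ← hpn, hxn]
    rw [hpn, pow_mul, hupA,
      ((hAcomm _ (mul_mem hA1 hA2) _ (hAC (inv_mem hxp)))).mul_pow,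
      (hAcomm _ hA1 _ (hAC hA2)).mul_pow, inv_pow, hchoose c hc1, conj_pow, inv_pow, hxe,
      inv_one, mul_one, one_mul, mul_one, mul_inv_cancel]
  have hBn : (zpowers x ⊔ A).Normal := by
    refine ⟨fun y hy g => ?_⟩
    obtain ⟨k, hk, b, hb, rfl⟩ := mem_sup_of_normal_right.1 hy
    obtain ⟨k, rfl⟩ := mem_zpowers_iff.1 hk
    have h1 : g * x * g⁻¹ ∈ zpowers x ⊔ A := by
      have := mul_mem (mem_sup_right (hcomm g) : g * x * g⁻¹ * x⁻¹ ∈ zpowers x ⊔ A)
        (mem_sup_left (mem_zpowers x))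
      rwa [inv_mul_cancel_right] at this
    rw [← conj_mul, ← conj_zpow]
    exact mul_mem (zpow_mem h1 k) (mem_sup_right (Normal.conj_mem inferInstance b hb g))
  have hBc : ∀ a ∈ zpowers x ⊔ A, ∀ b ∈ A, Commute b a := by
    intro a ha b hb
    refine hAcomm b hb a ?_
    exact (sup_le (zpowers_le.2 hxC) hAC) ha
  have hBcomm : IsMulCommutative (zpowers x ⊔ A : Subgroup G) := by
    refine le_centralizer_iff_isMulCommutative.1 (sup_le (zpowers_le.2 ?_) fun b hb => ?_)
    · refine mem_centralizer_iff.2 fun a ha => ?_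
      obtain ⟨k, hk, b, hb, rfl⟩ := mem_sup_of_normal_right.1 ha
      obtain ⟨k, rfl⟩ := mem_zpowers_iff.1 hk
      exact (((Commute.refl x).zpow_left k).mul_left (hAcomm b hb x hxC)).eq
    · exact mem_centralizer_iff.2 fun a ha => (hBc a ha b hb).symm.eq
  refine hxA ?_
  rw [← hmax (zpowers x ⊔ A) hBn hBcomm (fun b hb => ?_) le_sup_right]
  · exact mem_sup_left (mem_zpowers x)
  · obtain ⟨k, hk, a, ha, rfl⟩ := mem_sup_of_normal_right.1 hb
    obtain ⟨k, rfl⟩ := mem_zpowers_iff.1 hk
    rw [((hAcomm a ha x hxC).symm.zpow_left k).mul_pow, hAe a ha, mul_one, ← zpow_natCast,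
      ← zpow_mul, mul_comm, zpow_mul, zpow_natCast, hxn, one_zpow]

end Alperin

end CfsgLib.PGroupPower
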