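import Mathlib.GroupTheory.Complement
import Mathlib.GroupTheory.Sylow
import Mathlib.GroupTheory.Archimedean
import Mathlib.RingTheory.Int.Basic
import Mathlib.GroupTheory.QuotientGroup.Finite
import Mathlib.Algebra.BigOperators.Group.Finset.Basic

/-!
Gaschütz: an abelian normal subgroup has a complement iff it has one locally at every prime.
-/

set_option autoImplicit false
set_option linter.style.haveILetI false

namespace CfsgLib.GaschutzLocal

open Subgroup
open scoped IsMulCommutative

variable {G : Type*} [Group G] [Finite G] (A : Subgroup G) [A.Normal] [IsMulCommutative A]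

/-- A derivation to `A` which is the `m`-th power map on `A`. -/
def HasPowerDerivation (m : ℤ) : Prop :=
  ∃ D : G → A, (∀ g h, D (g * h) = MulAut.conjNormal h⁻¹ (D g) * D h) ∧ ∀ a : A, D (a : G) = a ^ m

/-- The exponents of power derivations form a subgroup. -/
def exponents : AddSubgroup ℤ where
  carrier := {m | HasPowerDerivation A m}
  zero_mem' := ⟨fun _ => 1, fun g h => by simp, fun a => by simp⟩
  add_mem' := by
    rintro m n ⟨D, hD, hDa⟩ ⟨E, hE, hEa⟩
    refine ⟨fun g => D g * E g, fun g h => ?_, fun a => by simp only [hDa, hEa, zpow_add]⟩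
    simp only [hD, hE, map_mul]
    rw [mul_mul_mul_comm]
  neg_mem' := by
    rintro m ⟨D, hD, hDa⟩
    refine ⟨fun g => (D g)⁻¹, fun g h => ?_, fun a => by simp only [hDa, zpow_neg]⟩
    simp only [hD, map_inv, mul_inv]

omit [Finite G] [IsMulCommutative A] in
theorem complement_of_hasPowerDerivation (h : HasPowerDerivation A 1) :
    ∃ K : Subgroup G, K.IsComplement' A := by
  obtain ⟨D, hD, hDa⟩ := h
  have h1 : D 1 = 1 := by
    have := hD 1 1
    simpa using this
  let K : Subgroup G :=
    { carrier := {g | D g = 1}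
      one_mem' := h1
      mul_mem' := fun {x y} (hx : D x = 1) (hy : D y = 1) => by
        show D (x * y) = 1
        rw [hD, hx, hy, map_one, one_mul]
      inv_mem' := fun {x} (hx : D x = 1) => by
        show D x⁻¹ = 1
        have h := hD x x⁻¹
        rw [mul_inv_cancel, h1, hx, map_one, one_mul] at h
        exact h.symm }
  refine ⟨K, Subgroup.isComplement'_of_disjoint_and_mul_eq_univ ?_ (Set.eq_univ_of_forall fun g => ?_)⟩
  · refine disjoint_iff_inf_le.2 fun g hg => ?_
    have h := hDa ⟨g, hg.2⟩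
    rw [show D g = 1 from hg.1, zpow_one] at h
    exact congrArg Subtype.val h.symm
  · refine ⟨g * ((D g)⁻¹ : A), ?_, (D g : G), (D g).2, by simp⟩
    show D (g * ((D g)⁻¹ : A)) = 1
    rw [hD, hDa, zpow_one]
    have hfix : MulAut.conjNormal ((((D g)⁻¹ : A) : G))⁻¹ (D g) = D g := by
      ext
      simp
    rw [hfix, mul_inv_cancel]

/-- Averaging a complement in a subgroup containing `A`. -/
theorem hasPowerDerivation_index (U K : Subgroup G) (hAU : A ≤ U) (hdis : K ⊓ A = ⊥)
    (hsup : K ⊔ A = U) : HasPowerDerivation A U.index := by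
  classical
  haveI := Fintype.ofFinite (G ⧸ U)
  have hex : ∀ u : U, ∃ a : A, (u : G) * (a : G)⁻¹ ∈ K := by
    intro u
    have hu := u.2
    rw [← SetLike.mem_coe, ← SetLike.ext'_iff.1 hsup, Subgroup.mul_normal] at hu
    obtain ⟨k, hk, a, ha, he⟩ := hu
    exact ⟨⟨a, ha⟩, by rw [← he]; simpa using hk⟩
  choose d hd using hex
  have huniq : ∀ (u : U) (a : A), (u : G) * (a : G)⁻¹ ∈ K → d u = a := by
    intro u a ha
    have h : (d u : G) * (a : G)⁻¹ ∈ K ⊓ A := by
      refine ⟨?_, A.mul_mem (d u).2 (A.inv_mem a.2)⟩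
      have := K.mul_mem (K.inv_mem (hd u)) ha
      simpa [mul_assoc] using this
    rw [hdis, mem_bot, mul_inv_eq_one] at h
    exact Subtype.ext h
  have hdmul : ∀ u v : U, d (u * v) = MulAut.conjNormal (v : G)⁻¹ (d u) * d v := by
    intro u v
    refine huniq _ _ ?_
    have := K.mul_mem (hd u) (hd v)
    -- the kernel coordinate of a product
    have e : ((u * v : U) : G) *
        ((MulAut.conjNormal (v : G)⁻¹ (d u) * d v : A) : G)⁻¹ =
        ((u : G) * (d u : G)⁻¹) * ((v : G) * (d v : G)⁻¹) := by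
      have hc := congrArg Subtype.val (mul_comm (MulAut.conjNormal (v : G)⁻¹ (d u)) (d v))
      simp only [Subgroup.coe_mul, MulAut.conjNormal_apply, inv_inv] at hc ⊢
      rw [hc]
      group
    rw [e]; exact this
  have hda : ∀ (a : G) (ha : a ∈ A), d ⟨a, hAU ha⟩ = ⟨a, ha⟩ := fun a ha =>
    huniq _ _ (by simp)
  let t : G ⧸ U → G := Quotient.out
  have ht : ∀ q, (t q : G ⧸ U) = q := fun q => Quotient.out_eq' q
  have hmem : ∀ (g : G) (q : G ⧸ U), (t (g • q))⁻¹ * g * t q ∈ U := by
    intro g q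
    rw [mul_assoc, ← QuotientGroup.eq, ht]
    conv_lhs => rw [← ht q]
    rfl
  refine ⟨fun g => ∏ q : G ⧸ U, MulAut.conjNormal (t q) (d ⟨_, hmem g q⟩), fun g h => ?_, fun a => ?_⟩
  · dsimp only
    have hterm : ∀ q, MulAut.conjNormal (t q) (d ⟨_, hmem (g * h) q⟩) =
        MulAut.conjNormal h⁻¹ (MulAut.conjNormal (t (h • q)) (d ⟨_, hmem g (h • q)⟩)) *
          MulAut.conjNormal (t q) (d ⟨_, hmem h q⟩) := by
      intro q
      have e : (⟨_, hmem (g * h) q⟩ : U) = ⟨_, hmem g (h • q)⟩ * ⟨_, hmem h q⟩ := by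
        refine Subtype.ext ?_
        simp only [Subgroup.coe_mul, mul_smul]
        group
      rw [e, hdmul, map_mul, ← MulAut.mul_apply, ← map_mul, ← MulAut.mul_apply, ← map_mul]
      congr 2
      simp [mul_assoc]
    rw [Finset.prod_congr rfl fun q _ => hterm q, Finset.prod_mul_distrib, map_prod]
    congr 1
    exact Fintype.prod_equiv (MulAction.toPerm h) _ _ fun q => rfl
  · dsimp only
    have hfix : ∀ q : G ⧸ U, (a : G) • q = q := by
      intro q
      rw [← ht q]
      refine QuotientGroup.eq.2 ?_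
      have h := hAU ((inferInstance : A.Normal).conj_mem _ (A.inv_mem a.2) (t q)⁻¹)
      simpa [mul_assoc] using h
    rw [zpow_natCast, index_eq_card, Nat.card_eq_fintype_card, ← Finset.card_univ, ← Finset.prod_const]
    refine Finset.prod_congr rfl fun q _ => ?_
    have hmem' : (t q)⁻¹ * (a : G) * t q ∈ A := by
      simpa using (inferInstance : A.Normal).conj_mem _ a.2 (t q)⁻¹
    have e : (⟨_, hmem (a : G) q⟩ : U) = ⟨(t q)⁻¹ * (a : G) * t q, hAU hmem'⟩ :=
      Subtype.ext (by simp [hfix q])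
    rw [e, hda _ hmem']
    refine Subtype.ext ?_
    rw [MulAut.conjNormal_apply]
    group

theorem exists_complement_iff :
    (∃ K : Subgroup G, K.IsComplement' A) ↔ ∀ p : ℕ, p.Prime → p ∣ A.index →
      ∃ (S : Sylow p (G ⧸ A)) (K : Subgroup G),
        K ⊓ A = ⊥ ∧ K ⊔ A = (S : Subgroup (G ⧸ A)).comap (QuotientGroup.mk' A) := by
  constructor
  · rintro ⟨K, hK⟩ p hp -
    haveI : Fact p.Prime := ⟨hp⟩
    obtain ⟨S⟩ : Nonempty (Sylow p (G ⧸ A)) := inferInstance
    set U := (S : Subgroup (G ⧸ A)).comap (QuotientGroup.mk' A) with hU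
    have hAU : A ≤ U := fun a ha => by
      rw [hU, mem_comap, QuotientGroup.mk'_apply, (QuotientGroup.eq_one_iff a).2 ha]
      exact one_mem _
    refine ⟨S, K ⊓ U, le_bot_iff.1 ((inf_le_inf inf_le_left le_rfl).trans hK.disjoint.le_bot), ?_⟩
    refine le_antisymm (sup_le inf_le_right hAU) fun u hu => ?_
    have h : u ∈ K ⊔ A := by rw [hK.sup_eq_top]; exact mem_top u
    rw [← SetLike.mem_coe, Subgroup.mul_normal] at h
    obtain ⟨k, hk, a, ha, rfl⟩ := h
    exact mul_mem (mem_sup_left ⟨hk, (mul_mem_cancel_right (hAU ha)).1 hu⟩) (mem_sup_right ha)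
  · intro h
    apply complement_of_hasPowerDerivation
    have hidx : (A.index : ℤ) ∈ exponents A :=
      hasPowerDerivation_index A A ⊥ le_rfl (by simp) (by simp)
    obtain ⟨j, hj⟩ := Int.subgroup_cyclic (exponents A)
    have hdvd : ∀ m ∈ exponents A, j ∣ m := fun m hm => by
      rwa [hj, ← AddSubgroup.zmultiples_eq_closure, Int.mem_zmultiples_iff] at hm
    suffices h1 : IsUnit j by
      show (1 : ℤ) ∈ exponents A
      rw [hj, ← AddSubgroup.zmultiples_eq_closure, Int.mem_zmultiples_iff]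
      exact h1.dvd
    rw [Int.isUnit_iff_natAbs_eq]
    by_contra hne
    obtain ⟨p, hp, hpj⟩ := Nat.exists_prime_and_dvd hne
    haveI : Fact p.Prime := ⟨hp⟩
    have hpA : p ∣ A.index := hpj.trans (Int.natAbs_dvd_natAbs.2 (hdvd _ hidx))
    obtain ⟨S, K, hdis, hsup⟩ := h p hp hpA
    have hm : (((S : Subgroup (G ⧸ A)).comap (QuotientGroup.mk' A)).index : ℤ) ∈ exponents A :=
      hasPowerDerivation_index A _ K (hsup ▸ le_sup_right) hdis hsup
    apply S.not_dvd_index
    rw [← index_comap_of_surjective _ (QuotientGroup.mk'_surjective A)]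
    exact hpj.trans (Int.natAbs_dvd_natAbs.2 (hdvd _ hm))

end CfsgLib.GaschutzLocal
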