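import Cfsg.Agent.Solvable.Glauberman
import Cfsg.Agent.Frobenius.Fpf
import Cfsg.Agent.Frobenius.Semidirect
import Cfsg.Agent.Char.FrobeniusKernel

/-!
Frobenius complements of a finite group are conjugate.
-/

set_option autoImplicit false
set_option linter.style.haveILetI false
set_option linter.deprecated false
set_option linter.unusedSectionVars false

namespace CfsgLib.FrobeniusConj

open Subgroup Pointwise CfsgLib.Solvable CfsgLib.SZ
open scoped IsMulCommutative

universe u

variable {G : Type u} [Group G] [Finite G]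

theorem exists_kernel {H : Subgroup G} (hH : Cfsg.IsFrobeniusComplement H) :
    ∃ N : Subgroup G, N.Normal ∧ N ≠ ⊥ ∧ IsComplement' N H ∧
      ∀ x : G, x ∉ N → ∃ g : G, g⁻¹ * x * g ∈ H := by
  obtain ⟨N, hN, -, -, hc, hmem⟩ := CfsgLib.Char.exists_frobenius_kernel H
    fun g hg h hh hgh => by
      by_contra h1
      have := CfsgLib.Frobenius.mem_of_conj_mem hH (g := g⁻¹) h1 hh (by simpa using hgh)
      exact hg (by simpa using inv_mem this)
  refine ⟨N, hN, ?_, hc, fun x hx => ?_⟩
  · rintro rfl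
    exact hH.2.1 (isComplement'_bot_left.1 hc)
  · by_contra hno
    exact hx ((hmem x).2 (Or.inr fun g hg => hno ⟨g, hg⟩))

/-- A Frobenius complement acts fixed point freely on a nontrivial abelian group. -/
theorem exists_fpf_abelian {H : Subgroup G} (hH : Cfsg.IsFrobeniusComplement H) :
    ∃ (A : Subgroup G) (_ : IsMulCommutative A) (φ : H →* MulAut A),
      A ≠ ⊥ ∧ CfsgLib.Frobenius.IsFpf φ ∧ (Nat.card H).Coprime (Nat.card A) := by
  obtain ⟨N, hN, hN1, hc, hout⟩ := exists_kernel hH
  have hcop : (Nat.card N).Coprime N.index := by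
    rw [← hc.index_eq_card, hc.symm.index_eq_card]
    exact (CfsgLib.Frobenius.coprime_card_index hH).symm
  have hN1' : Nat.card N ≠ 1 := fun h => hN1 (eq_bot_of_card_eq _ h)
  haveI := Fact.mk (Nat.minFac_prime hN1')
  obtain ⟨Q⟩ := (inferInstance : Nonempty (Sylow (Nat.card N).minFac N))
  set Q' := (Q : Subgroup N).map N.subtype
  have hQN : Q' ≤ N := map_subtype_le _
  have hQ1 : Q' ≠ ⊥ := fun h => Q.ne_bot_of_dvd_card (Nat.minFac_dvd _)
    ((map_eq_bot_iff_of_injective _ N.subtype_injective).1 h)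
  set R := normalizer (Q' : Set G)
  have hsup : R ⊔ N = ⊤ := Sylow.normalizer_sup_eq_top Q
  set NR := N.subgroupOf R
  have hidxR : NR.index = Nat.card H := by
    rw [show NR.index = N.relIndex R from rfl, ← relIndex_sup_right R N, hsup, relIndex_top_right,
      hc.symm.index_eq_card]
  have hcopR : (Nat.card NR).Coprime NR.index := by
    rw [hidxR, ← hc.symm.index_eq_card]
    exact hcop.coprime_dvd_left (card_comap_dvd_of_injective N R.subtype R.subtype_injective)
  obtain ⟨B, hB⟩ := exists_right_complement'_of_coprime (N := NR) hcopR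
  set C := B.map R.subtype
  have hCcard : Nat.card C = Nat.card H := by
    rw [card_map_of_injective R.subtype_injective, ← hB.symm.index_eq_card, hidxR]
  have hCN : C ⊓ N = ⊥ := by
    refine inf_eq_bot_of_coprime ?_
    rw [hCcard, ← hc.symm.index_eq_card]
    exact hcop.symm
  -- an isomorphism `H ≃* C`
  have hCc : IsComplement' N C := isComplement'_of_card hcop (hCcard.trans hc.symm.index_eq_card.symm)
  let e : H ≃* C := hc.symm.QuotientMulEquiv.symm.trans hCc.symm.QuotientMulEquiv
  -- the abelian group `Z(Q')`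
  set A := Q' ⊓ centralizer (Q' : Set G)
  have hA : IsMulCommutative A := by
    rw [← le_centralizer_iff_isMulCommutative]
    exact fun x hx => centralizer_le (SetLike.coe_subset_coe.2 inf_le_left) hx.2
  have hA1 : A ≠ ⊥ := by
    haveI : Nontrivial Q' := (nontrivial_iff_ne_bot _).2 hQ1
    haveI := (Q.2.map N.subtype).center_nontrivial
    obtain ⟨z, hz⟩ := exists_ne (1 : center Q')
    intro h
    have hzA : ((z : Q') : G) ∈ A := ⟨(z : Q').2, mem_centralizer_iff.2 fun y hy =>
      congr_arg Subtype.val ((mem_center_iff.1 z.2) ⟨y, hy⟩)⟩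
    rw [h, mem_bot] at hzA
    exact hz (Subtype.ext (Subtype.ext hzA))
  have hAN : A ≤ N := inf_le_left.trans hQN
  have hCA : C ≤ normalizer (A : Set G) := fun c hc' => by
    have hcR : c ∈ R := map_subtype_le _ hc'
    rw [← conj_smul_eq_iff_mem_normalizer, Subgroup.smul_inf,
      conj_smul_eq_iff_mem_normalizer.2 hcR]
    congr 1
    rw [conj_smul_eq_map]
    ext x
    rw [← conj_smul_eq_map, mem_conj_smul, mem_centralizer_iff, mem_centralizer_iff]
    constructor
    · intro h y hy
      have h1 := h (c⁻¹ * y * c) ((mem_normalizer_iff''.1 hcR y).1 hy)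
      calc y * x = c * ((c⁻¹ * y * c) * (c⁻¹ * x * c)) * c⁻¹ := by group
        _ = c * ((c⁻¹ * x * c) * (c⁻¹ * y * c)) * c⁻¹ := by rw [h1]
        _ = x * y := by group
    · intro h y hy
      have h1 := h (c * y * c⁻¹) ((mem_normalizer_iff.1 hcR y).1 hy)
      calc y * (c⁻¹ * x * c) = c⁻¹ * ((c * y * c⁻¹) * x) * c := by group
        _ = c⁻¹ * (x * (c * y * c⁻¹)) * c := by rw [h1]
        _ = c⁻¹ * x * c * y := by group
  let φ : H →* MulAut A :=
    (A.normalizerMonoidHom.comp (inclusion hCA)).comp e.toMonoidHom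
  refine ⟨A, hA, φ, hA1, fun h hh a ha => ?_, ?_⟩
  · set c := e h
    have hc1 : (c : G) ≠ 1 := fun h1 =>
      hh (e.injective ((Subtype.ext h1 : c = 1).trans (map_one e).symm))
    obtain ⟨g, hg⟩ := hout c fun hcN => hc1 (mem_bot.1 (hCN ▸ (⟨c.2, hcN⟩ : (c : G) ∈ C ⊓ N)))
    have h1 : (c : G) * a * (c : G)⁻¹ = a := congr_arg Subtype.val ha
    rw [mul_inv_eq_iff_eq_mul] at h1
    have h2 : g⁻¹ * (a : G) * g ∈ H := by
      refine CfsgLib.Frobenius.centralizer_le hH hg (fun h0 => hc1 (by
        calc (c : G) = g * (g⁻¹ * c * g) * g⁻¹ := by group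
          _ = 1 := by rw [h0]; group)) (mem_centralizer_singleton_iff.2 ?_)
      calc g⁻¹ * a * g * (g⁻¹ * c * g) = g⁻¹ * ((a : G) * c) * g := by group
        _ = g⁻¹ * ((c : G) * a) * g := by rw [← h1]
        _ = g⁻¹ * c * g * (g⁻¹ * a * g) := by group
    have h3 : g⁻¹ * (a : G) * g ∈ N := by
      simpa using hN.conj_mem _ (hAN a.2) g⁻¹
    have h4 := hc.disjoint.le_bot ⟨h3, h2⟩
    rw [mem_bot] at h4
    apply Subtype.ext
    calc (a : G) = g * (g⁻¹ * a * g) * g⁻¹ := by group
      _ = ((1 : A) : G) := by rw [h4]; simp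
  · rw [← hc.symm.index_eq_card]
    exact hcop.symm.coprime_dvd_right (card_dvd_of_le hAN)

/-- A Frobenius complement has no Frobenius complement as a subgroup. -/
theorem not_isFrobeniusComplement_subgroup {H : Subgroup G} (hH : Cfsg.IsFrobeniusComplement H)
    (D : Subgroup H) : ¬ Cfsg.IsFrobeniusComplement D := by
  classical
  intro hD
  obtain ⟨A, hA, φ, hA1, hφ, hcop⟩ := exists_fpf_abelian hH
  haveI : Nontrivial H := (nontrivial_iff_ne_bot _).2 hH.1
  haveI := Fintype.ofFinite H
  obtain ⟨K, hK, hK1, hKc, hKout⟩ := exists_kernel hD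
  haveI := Fintype.ofFinite (H ⧸ D)
  let Cs : Option (H ⧸ D) → Subgroup H := fun o =>
    match o with
    | none => K
    | some q => MulAut.conj q.out • D
  have hpart : ∀ e : H, e ≠ 1 → ∃! i, e ∈ Cs i := by
    intro e he
    by_cases heK : e ∈ K
    · refine ⟨none, heK, ?_⟩
      rintro (_ | q) hq
      · rfl
      · exfalso
        have h1 : q.out⁻¹ * e * q.out ∈ D := mem_conj_smul.1 hq
        have h2 : q.out⁻¹ * e * q.out ∈ K := by simpa using hK.conj_mem _ heK q.out⁻¹
        have h3 : q.out⁻¹ * e * q.out = 1 := mem_bot.1 (hKc.disjoint.le_bot ⟨h2, h1⟩)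
        exact he (by
          calc e = q.out * (q.out⁻¹ * e * q.out) * q.out⁻¹ := by group
            _ = 1 := by rw [h3]; group)
    · obtain ⟨g, hg⟩ := hKout e heK
      refine ⟨some (g : H ⧸ D), ?_, ?_⟩
      · show e ∈ MulAut.conj (g : H ⧸ D).out • D
        obtain ⟨d, hd⟩ := QuotientGroup.mk_out_eq_mul D g
        rw [mem_conj_smul, hd]
        have := mul_mem (mul_mem (inv_mem d.2) hg) d.2
        simpa [mul_assoc] using this
      · rintro (_ | q) hq
        · exact absurd hq heK
        · have := CfsgLib.Frobenius.inv_mul_mem_of_mem_conj hD he hg (mem_conj_smul.1 hq)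
          rw [Option.some.injEq]
          nth_rw 1 [← q.out_eq']
          exact (QuotientGroup.eq.2 this).symm
  have hne : ∀ i, Cs i ≠ ⊥ := by
    rintro (_ | q)
    · exact hK1
    · intro h
      have h' : MulAut.conj q.out⁻¹ • MulAut.conj q.out • D = MulAut.conj q.out⁻¹ • (⊥ : Subgroup H) :=
        congr_arg _ h
      rw [conj_smul_inv_smul, Subgroup.smul_bot] at h'
      exact hD.1 h'
  obtain ⟨v, hv⟩ := Subgroup.ne_bot_iff_exists_ne_one.1 hA1
  letI : CommGroup A := { (inferInstance : Group A) with mul_comm := fun a b => mul_comm' a b }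
  have hpow := hφ.pow_partition Cs hne hpart v
  have hcard : Fintype.card (Option (H ⧸ D)) = Nat.card K + 1 := by
    rw [Fintype.card_option, ← Nat.card_eq_fintype_card, ← index_eq_card, hKc.index_eq_card]
  rw [hcard, pow_succ, mul_eq_right] at hpow
  refine hv (orderOf_eq_one_iff.1 (Nat.eq_one_of_dvd_coprimes ?_ (orderOf_dvd_of_pow_eq_one hpow)
    (orderOf_dvd_natCard v)))
  exact hcop.coprime_dvd_left K.card_subgroup_dvd_card

theorem le_of_common_sylow {H H₀ : Subgroup G} (hH : Cfsg.IsFrobeniusComplement H)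
    (hH₀ : Cfsg.IsFrobeniusComplement H₀) (h : H ⊓ H₀ ≠ ⊥) : H₀ ≤ H := by
  by_contra hle
  exact not_isFrobeniusComplement_subgroup hH₀ _ (CfsgLib.Frobenius.subgroupOf hH h hle)

/-- Frobenius complements of a finite group are conjugate. -/
theorem conjugate {H H₀ : Subgroup G} (hH : Cfsg.IsFrobeniusComplement H)
    (hH₀ : Cfsg.IsFrobeniusComplement H₀) : ∃ g : G, MulAut.conj g • H₀ = H := by
  classical
  by_cases hcom : ∃ p, p.Prime ∧ p ∣ Nat.card H ∧ p ∣ Nat.card H₀
  · obtain ⟨p, hp, hpH, hpH₀⟩ := hcom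
    haveI := Fact.mk hp
    obtain ⟨x, hx⟩ := exists_prime_orderOf_dvd_card' p hpH₀
    have hxo : orderOf (x : G) = p := by rw [orderOf_coe, hx]
    obtain ⟨g, hg⟩ := CfsgLib.Frobenius.exists_conj_mem hH (x := (x : G)) (by
      rw [hxo]
      exact fun h => hp.one_lt.ne' (Nat.eq_one_of_dvd_coprimes h dvd_rfl hpH))
    have hconj := CfsgLib.Frobenius.conj hH₀ g⁻¹
    have hne : H ⊓ MulAut.conj g⁻¹ • H₀ ≠ ⊥ := by
      intro h
      have hmem : g⁻¹ * x * g ∈ H ⊓ MulAut.conj g⁻¹ • H₀ :=
        ⟨hg, mem_conj_smul.2 (by simp [mul_assoc])⟩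
      rw [h, mem_bot] at hmem
      have : (x : G) = 1 := by
        calc (x : G) = g * (g⁻¹ * x * g) * g⁻¹ := by group
          _ = 1 := by rw [hmem]; group
      rw [this, orderOf_one] at hxo
      exact hp.one_lt.ne hxo
    exact ⟨g⁻¹, le_antisymm (le_of_common_sylow hH hconj hne)
      (le_of_common_sylow hconj hH (inf_comm H _ ▸ hne))⟩
  · exfalso
    push_neg at hcom
    haveI := Fintype.ofFinite G
    let U : Subgroup G → Finset G := fun L =>
      Finset.univ.filter fun x => x ≠ 1 ∧ ∃ g : G, g⁻¹ * x * g ∈ L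
    have hU : ∀ L : Subgroup G, Cfsg.IsFrobeniusComplement L →
        (U L).card + L.index = Nat.card G := by
      intro L hL
      have := CfsgLib.Frobenius.card_union_conj hL
      rw [Nat.card_eq_fintype_card, Fintype.card_subtype] at this
      show (Finset.univ.filter _).card + _ = _
      rw [this, ← L.card_mul_index]
      have h1 : 1 ≤ Nat.card L := Nat.card_pos
      obtain ⟨m, hm⟩ : ∃ m, Nat.card L = m + 1 := ⟨_, (Nat.sub_add_cancel h1).symm⟩
      rw [hm, Nat.add_sub_cancel]
      ring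
    have hdisj : Disjoint (U H) (U H₀) := by
      rw [Finset.disjoint_left]
      rintro x h1 h2
      simp only [U, Finset.mem_filter, Finset.mem_univ, true_and] at h1 h2
      obtain ⟨hx1, a, ha⟩ := h1
      obtain ⟨-, b, hb⟩ := h2
      have hxo : orderOf x ≠ 1 := fun h => hx1 (orderOf_eq_one_iff.1 h)
      obtain ⟨p, hp, hpx⟩ := Nat.exists_prime_and_dvd hxo
      have key : ∀ (c : G) (L : Subgroup G), c⁻¹ * x * c ∈ L → p ∣ Nat.card L := by
        intro c L hc
        have := Subgroup.orderOf_dvd_natCard L hc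
        rw [show orderOf (c⁻¹ * x * c) = orderOf x by
          rw [show c⁻¹ * x * c = MulAut.conj c⁻¹ x by simp, ← MulEquiv.coe_toMonoidHom,
            orderOf_injective _ (MulEquiv.injective _)]] at this
        exact hpx.trans this
      exact hcom p hp (key a H ha) (key b H₀ hb)
    have hsub : U H ∪ U H₀ ⊆ Finset.univ.erase 1 := by
      intro x hx
      rcases Finset.mem_union.1 hx with hx | hx <;>
        exact Finset.mem_erase.2 ⟨(Finset.mem_filter.1 hx).2.1, Finset.mem_univ _⟩
    have hle := Finset.card_le_card hsub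
    rw [Finset.card_union_of_disjoint hdisj, Finset.card_erase_of_mem (Finset.mem_univ _),
      Finset.card_univ, ← Nat.card_eq_fintype_card] at hle
    have h1 := hU H hH
    have h2 := hU H₀ hH₀
    have hb : ∀ L : Subgroup G, Cfsg.IsFrobeniusComplement L → 2 * L.index ≤ Nat.card G := by
      intro L hL
      rw [← L.card_mul_index]
      exact Nat.mul_le_mul_right _ ((one_lt_card_iff_ne_bot L).2 hL.1)
    have := hb H hH
    have := hb H₀ hH₀
    have := Nat.card_pos (α := G)
    omega

end CfsgLib.FrobeniusConj
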