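import Cfsg.Agent.Solvable.NilpotentHall
import Cfsg.Agent.Solvable.Fitting

/-!
Primary parts of a nilpotent subgroup.
-/

set_option autoImplicit false
set_option linter.style.haveILetI false
set_option linter.deprecated false
set_option linter.unusedSectionVars false

namespace CfsgLib.NilpotentPart

open Subgroup CfsgLib.Solvable CfsgLib.SZ
open scoped Pointwise

universe u

variable {G : Type u} [Group G]

/-- The `p`-part of a subgroup. -/
noncomputable def part (A : Subgroup G) (p : ℕ) : Subgroup G := (Cfsg.pCore p A).map A.subtype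

theorem part_le (A : Subgroup G) (p : ℕ) : part A p ≤ A := map_subtype_le _

variable [Finite G]

theorem le_normalizer_part (A : Subgroup G) (p : ℕ) : A ≤ normalizer (part A p : Set G) := by
  have h := (Cfsg.pCore p A).le_normalizer_map A.subtype
  rwa [normalizer_eq_top, ← MonoidHom.range_eq_map, range_subtype] at h

variable {A : Subgroup G} {p : ℕ} [hp : Fact p.Prime]

theorem isPGroup_part : IsPGroup p (part A p) := (isPGroup_pCore p).map A.subtype

theorem card_part (hA : Group.IsNilpotent A) :
    Nat.card (part A p) = p ^ (Nat.card A).factorization p := by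
  haveI := hA
  obtain ⟨P⟩ : Nonempty (Sylow p A) := inferInstance
  rw [part, card_map_of_injective A.subtype_injective, ← P.card_eq_multiplicity]
  haveI : (P : Subgroup A).Normal := inferInstance
  rw [le_antisymm (CfsgLib.Fitting.pCore_le_sylow P) (le_pCore p inferInstance P.2)]

theorem le_part (hA : Group.IsNilpotent A) {X : Subgroup G} (hXA : X ≤ A) (hX : IsPGroup p X) :
    X ≤ part A p := by
  haveI := hA
  obtain ⟨P, hP⟩ := (hX.comap_subtype (K := A)).exists_le_sylow
  haveI : (P : Subgroup A).Normal := inferInstance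
  rw [part, ← map_subgroupOf_eq_of_le hXA]
  exact map_mono (hP.trans (le_pCore p inferInstance P.2))

theorem card_eq_pow_le {X : Subgroup G} (hX : IsPGroup p X) {Y : Subgroup G} (hXY : X ≤ Y)
    {k : ℕ} (hY : (Nat.card Y).factorization p ≤ k) : Nat.card X ≤ p ^ k := by
  obtain ⟨i, hi⟩ := IsPGroup.iff_card.1 hX
  have h1 : p ^ i ∣ Nat.card Y := hi ▸ card_dvd_of_le hXY
  rw [hi]
  exact Nat.pow_le_pow_right hp.out.pos
    (le_trans ((hp.out.pow_dvd_iff_le_factorization Nat.card_pos.ne').1 h1) hY)

theorem factorization_le {X Y : Subgroup G} (h : X ≤ Y) (q : ℕ) :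
    (Nat.card X).factorization q ≤ (Nat.card Y).factorization q :=
  (Nat.factorization_le_iff_dvd Nat.card_pos.ne' Nat.card_pos.ne').2 (card_dvd_of_le h) q

omit hp in
/-- A subgroup of a nilpotent group lies in `K` as soon as all its primary parts do. -/
theorem le_of_parts (hA : Group.IsNilpotent A) {H K : Subgroup G} (hHA : H ≤ A)
    (h : ∀ q : ℕ, q.Prime → H ⊓ part A q ≤ K) : H ≤ K := by
  refine inf_eq_left.1 (eq_of_le_of_card_le inf_le_left
    (Nat.le_of_dvd Nat.card_pos ?_))
  rw [Nat.dvd_iff_prime_pow_dvd_dvd]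
  intro q k hq hk
  haveI := Fact.mk hq
  obtain ⟨P⟩ : Nonempty (Sylow q H) := inferInstance
  refine dvd_trans ?_ (card_dvd_of_le (le_inf (map_subtype_le (P : Subgroup H))
    ((le_inf (map_subtype_le (P : Subgroup H)) (le_part hA ((map_subtype_le _).trans hHA)
      (P.2.map H.subtype))).trans (h q hq))))
  rw [card_map_of_injective H.subtype_injective, P.card_eq_multiplicity]
  exact Nat.pow_dvd_pow q (hq.pow_dvd_iff_le_factorization Nat.card_pos.ne' |>.1 hk)

omit hp in
theorem le_of_parts_le (hA : Group.IsNilpotent A) {K : Subgroup G}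
    (h : ∀ q : ℕ, q.Prime → part A q ≤ K) : A ≤ K :=
  le_of_parts hA le_rfl fun q hq => inf_le_right.trans (h q hq)

/-- Elements of coprime order of a nilpotent subgroup commute. -/
theorem commute_part (hA : Group.IsNilpotent A) {a w : G} (ha : a ∈ A) (hw : w ∈ part A p)
    (hcop : (orderOf a).Coprime p) : Commute a w := by
  have h : zpowers a ≤ centralizer {w} := by
    refine le_of_parts hA (zpowers_le.2 ha) fun q hq x hx => ?_
    haveI := Fact.mk hq
    by_cases hqp : q = p
    · subst hqp
      obtain ⟨i, hi⟩ := IsPGroup.iff_orderOf.1 (isPGroup_part (A := A) (p := q)) ⟨x, hx.2⟩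
      have h1 : q ^ i ∣ orderOf a := by
        rw [← hi, ← orderOf_coe]; exact orderOf_dvd_of_mem_zpowers hx.1
      have : q ^ i = 1 := Nat.eq_one_of_dvd_coprimes (hcop.pow_right i) h1 dvd_rfl
      rw [orderOf_eq_one_iff.1 (show orderOf x = 1 by
        rw [← this, ← hi]; exact orderOf_coe (⟨x, hx.2⟩ : part A q))]
      exact one_mem _
    · refine mem_centralizer_singleton_iff.2 ?_
      have hdis : part A q ⊓ part A p = ⊥ := eq_bot_of_card_eq _ (Nat.eq_one_of_dvd_coprimes
        (by rw [card_part hA, card_part hA]; exact ((Nat.coprime_primes hq hp.out).2 hqp).pow _ _)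
        (card_dvd_of_le inf_le_left) (card_dvd_of_le inf_le_right))
      have h1 : x * w * x⁻¹ * w⁻¹ ∈ part A q ⊓ part A p := ⟨by
        have := mul_mem hx.2 ((mem_normalizer_iff.1 (le_normalizer_part A q (part_le A p hw)) _).1
          ((part A q).inv_mem hx.2))
        simpa [mul_assoc] using this, mul_mem
        ((mem_normalizer_iff.1 (le_normalizer_part A p (part_le A q hx.2)) _).1 hw) ((part A p).inv_mem hw)⟩
      rw [hdis, mem_bot, mul_inv_eq_one, mul_inv_eq_iff_eq_mul] at h1
      exact h1
  exact mem_centralizer_singleton_iff.1 (h (mem_zpowers a))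

end CfsgLib.NilpotentPart
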