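import Cfsg.Prelude.Def_SolvableStructure
import Cfsg.Agent.Solvable.Hall
import Cfsg.Agent.Solvable.CoprimeIndex
import Cfsg.Agent.Solvable.Glauberman
import Cfsg.Agent.Solvable.PGroupBasic
import Mathlib.GroupTheory.Nilpotent

/-!
# Hall complement systems, Sylow systems and system normalizers
-/

set_option autoImplicit false
set_option linter.style.haveILetI false
set_option linter.deprecated false
set_option linter.unusedSectionVars false

namespace CfsgLib.System

open Subgroup Pointwise CfsgLib.SZ CfsgLib.Solvable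

universe u

variable {G : Type u} [Group G] [Finite G]

theorem coprime_primes_pow {p q : Nat.Primes} (h : p ≠ q) (a b : ℕ) :
    Nat.Coprime ((p : ℕ) ^ a) ((q : ℕ) ^ b) :=
  Nat.Coprime.pow a b ((Nat.coprime_primes p.2 q.2).2 fun e => h (Subtype.ext e))

/-- A subgroup of `p`-power index and order prime to `p` has the full `p`-part as index. -/
theorem index_eq_of_coprime {H : Subgroup G} {p j : ℕ} (hp : p.Prime) (hj : H.index ∣ p ^ j)
    (hc : (Nat.card H).Coprime p) : H.index = p ^ (Nat.card G).factorization p := by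
  obtain ⟨i, -, hi⟩ := (Nat.dvd_prime_pow hp).1 hj
  rw [← card_mul_index H, Nat.factorization_mul Nat.card_pos.ne' index_ne_zero_of_finite,
    Finsupp.add_apply, Nat.factorization_eq_zero_of_not_dvd (hp.coprime_iff_not_dvd.1 hc.symm),
    hi, hp.factorization_pow, Finsupp.single_eq_same, zero_add]

variable {K L : Nat.Primes → Subgroup G}

theorem card_coprime (hK : Cfsg.IsComplementSystem K) (p : Nat.Primes) :
    (Nat.card (K p)).Coprime p := by
  refine (p.2.coprime_iff_not_dvd.2 fun hd => ?_).symm
  have h := card_mul_index (K p)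
  rw [hK p] at h
  have h2 := congrArg (fun n => n.factorization (p : ℕ)) h
  simp only [Nat.factorization_mul Nat.card_pos.ne' (pow_ne_zero _ p.2.ne_zero), Finsupp.add_apply,
    p.2.factorization_pow, Finsupp.single_eq_same] at h2
  have := p.2.factorization_pos_of_dvd Nat.card_pos.ne' hd
  omega

theorem eq_top_of_not_dvd (hK : Cfsg.IsComplementSystem K) (p : Nat.Primes)
    (h : ¬ (p : ℕ) ∣ Nat.card G) : K p = ⊤ := by
  rw [← index_eq_one, hK p, Nat.factorization_eq_zero_of_not_dvd h, pow_zero]

/-- A member of a system contains every `p'`-subgroup that permutes with it. -/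
theorem le_of_coprime (hK : Cfsg.IsComplementSystem K) (p : Nat.Primes) {A : Subgroup G}
    (hA : (Nat.card A).Coprime p)
    (h : A ≤ normalizer (K p : Set G) ∨ K p ≤ normalizer (A : Set G)) : A ≤ K p := by
  have hd : Nat.card ↥(A ⊔ K p) ∣ Nat.card A * Nat.card (K p) := by
    rcases h with h | h
    · exact card_sup_dvd h
    · rw [sup_comm, mul_comm]; exact card_sup_dvd h
  have hc : (Nat.card ↥(A ⊔ K p)).Coprime p :=
    (hA.mul_left (card_coprime hK p)).coprime_dvd_left hd
  have h2 : Nat.card ↥(A ⊔ K p) ∣ Nat.card (K p) * (p : ℕ) ^ (Nat.card G).factorization p := by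
    rw [← hK p, card_mul_index]; exact card_subgroup_dvd_card _
  have h3 := Nat.le_of_dvd Nat.card_pos ((hc.pow_right _).dvd_of_dvd_mul_right h2)
  exact le_sup_left.trans (eq_of_le_of_card_le le_sup_right h3).ge

theorem mem_of_coprime (hK : Cfsg.IsComplementSystem K) (p : Nat.Primes) {x : G}
    (hx : (orderOf x).Coprime p) (h : x ∈ normalizer (K p : Set G)) : x ∈ K p :=
  le_of_coprime hK p (A := zpowers x) (by rwa [Nat.card_zpowers]) (Or.inl (zpowers_le.2 h))
    (mem_zpowers x)

theorem exists_system [Group.IsSolvable G] :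
    ∃ K : Nat.Primes → Subgroup G, Cfsg.IsComplementSystem K := by
  have : ∀ p : Nat.Primes, ∃ H : Subgroup G, H.index = (p : ℕ) ^ (Nat.card G).factorization p := by
    intro p
    obtain ⟨H, hH, -⟩ := CfsgLib.Hall.hall (G := G)
      (a := Nat.card G / (p : ℕ) ^ (Nat.card G).factorization p)
      (b := (p : ℕ) ^ (Nat.card G).factorization p)
      (Nat.div_mul_cancel (Nat.ordProj_dvd _ _)).symm
      ((Nat.coprime_ordCompl p.2 Nat.card_pos.ne').symm.pow_right _)
    refine ⟨H, ?_⟩
    apply Nat.eq_of_mul_eq_mul_left (Nat.card_pos (α := H))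
    rw [card_mul_index, hH, Nat.div_mul_cancel (Nat.ordProj_dvd _ _)]
  choose K hK using this
  exact ⟨K, hK⟩

theorem conj_system (hK : Cfsg.IsComplementSystem K) (g : G) :
    Cfsg.IsComplementSystem fun p => MulAut.conj g • K p := fun p => by
  apply Nat.eq_of_mul_eq_mul_left (Nat.card_pos (α := ↥(MulAut.conj g • K p)))
  rw [card_mul_index, card_conj_smul, ← hK p, card_mul_index]

theorem map_system {G' : Type u} [Group G'] [Finite G'] (hK : Cfsg.IsComplementSystem K)
    {f : G →* G'} (hf : Function.Surjective f) :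
    Cfsg.IsComplementSystem fun p => (K p).map f := fun p =>
  index_eq_of_coprime p.2 (hK p ▸ index_map_dvd (K p) hf)
    ((card_coprime hK p).coprime_dvd_left (card_map_dvd _ f))

/-- `H.relIndex N` divides the index of `H` for normal `N`. -/
theorem relIndex_dvd_index_right (H N : Subgroup G) [N.Normal] : H.relIndex N ∣ H.index := by
  have h1 := card_sup_mul_card_inf (A := H) (K := N) le_normalizer_of_normal
  have h2 := card_mul_index (H.subgroupOf N)
  rw [← inf_subgroupOf_right, Nat.card_congr (subgroupOfEquivOfLe inf_le_right).toEquiv,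
    inf_subgroupOf_right] at h2
  have h5 : Nat.card ↥(H ⊔ N) = Nat.card H * (H.subgroupOf N).index := by
    apply Nat.eq_of_mul_eq_mul_right (Nat.card_pos (α := ↥(H ⊓ N)))
    rw [h1, ← h2]; ring
  have h4 := card_subgroup_dvd_card (H ⊔ N)
  rw [h5, ← card_mul_index H] at h4
  exact Nat.dvd_of_mul_dvd_mul_left Nat.card_pos h4

/-- The primes dividing the order. -/
noncomputable def primesOf (G : Type u) [Group G] : Finset Nat.Primes :=
  (Nat.card G).primeFactors.subtype Nat.Prime

theorem mem_primesOf {p : Nat.Primes} : p ∈ primesOf G ↔ (p : ℕ) ∣ Nat.card G := by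
  refine Finset.mem_subtype.trans ?_
  rw [Nat.mem_primeFactors]
  exact ⟨fun h => h.2.1, fun h => ⟨p.2, h, Nat.card_pos.ne'⟩⟩

/-- Two systems agreeing modulo a normal subgroup are conjugate by one of its elements. -/
theorem conjugate_of_sup_eq [Group.IsSolvable G] (hK : Cfsg.IsComplementSystem K)
    (hL : Cfsg.IsComplementSystem L) (N : Subgroup G) [N.Normal]
    (h : ∀ p, L p ⊔ N = K p ⊔ N) : ∃ n ∈ N, ∀ p, MulAut.conj n • L p = K p := by
  classical
  suffices key : ∀ T : Finset Nat.Primes, ∃ n ∈ N, ∀ p ∈ T, MulAut.conj n • L p = K p by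
    obtain ⟨n, hn, hT⟩ := key (primesOf G)
    refine ⟨n, hn, fun p => ?_⟩
    by_cases hp : p ∈ primesOf G
    · exact hT p hp
    · rw [mem_primesOf] at hp
      rw [eq_top_of_not_dvd hL p hp, eq_top_of_not_dvd hK p hp]
      exact conj_smul_normal n ⊤
  intro T
  induction T using Finset.induction_on with
  | empty => exact ⟨1, one_mem N, fun p hp => absurd hp (Finset.notMem_empty p)⟩
  | insert q T hqT ih =>
    obtain ⟨n, hn, hT⟩ := ih
    set L' := MulAut.conj n • L q with hL'
    set M := K q ⊔ N with hM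
    have hL'M : L' ≤ M := by
      rw [hL', ← conj_smul_self_of_mem (show n ∈ M from mem_sup_right hn)]
      exact pointwise_smul_le_pointwise_smul_iff.2 (le_sup_left.trans (h q).le)
    have hc : Nat.card L' = Nat.card (K q) := by
      have h1 := card_mul_index L'
      rw [conj_system hL n q] at h1
      have h2 := card_mul_index (K q)
      rw [hK q] at h2
      exact Nat.eq_of_mul_eq_mul_right (pow_pos q.2.pos _) (h1.trans h2.symm)
    have hcM : Nat.card M = Nat.card (K q) * ((K q).subgroupOf M).index := by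
      rw [← card_mul_index ((K q).subgroupOf M),
        Nat.card_congr (subgroupOfEquivOfLe le_sup_left).toEquiv]
    obtain ⟨⟨x, hx⟩, hxe⟩ := CfsgLib.Hall.hall_conj (G := M) hcM
      ((((card_coprime hK q).pow_right ((Nat.card G).factorization q)).coprime_dvd_right
        ((hK q) ▸ relIndex_dvd_index_of_le (le_sup_left : K q ≤ M))))
      (H := L'.subgroupOf M) (K := (K q).subgroupOf M)
      (by rw [Nat.card_congr (subgroupOfEquivOfLe hL'M).toEquiv, hc])
      (Nat.card_congr (subgroupOfEquivOfLe le_sup_left).toEquiv)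
    have hxe' := congrArg (Subgroup.map M.subtype) hxe
    rw [conj_smul_map, map_subgroupOf_eq_of_le hL'M, map_subgroupOf_eq_of_le le_sup_left] at hxe'
    have hx' : x ∈ ((K q ⊔ N : Subgroup G) : Set G) := hx
    rw [mul_normal (K q) N] at hx'
    obtain ⟨k, hk, m, hm, rfl⟩ := hx'
    have hm' : MulAut.conj m • L' = K q := by
      rw [← conj_smul_inv_smul k (MulAut.conj m • L'), ← conj_smul_mul k m]
      have : MulAut.conj (k * m) • L' = K q := hxe'
      rw [this]
      exact conj_smul_self_of_mem (inv_mem hk)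
    set I := T.inf K with hI
    have hidx : (K q).index.Coprime I.index := by
      rw [hI, CfsgLib.CoprimeIndex.index_finsetInf T fun i _ j _ hij => by
        show (K i).index.Coprime (K j).index
        rw [hK i, hK j]; exact coprime_primes_pow hij _ _]
      refine Nat.Coprime.prod_right fun i hi => ?_
      rw [hK q, hK i]
      exact coprime_primes_pow (fun e : q = i => hqT (e ▸ hi)) _ _
    obtain ⟨a, ha, b, hb, hab⟩ := CfsgLib.CoprimeIndex.exists_mul_eq
      (H := (K q).subgroupOf N) (K := I.subgroupOf N)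
      ((hidx.coprime_dvd_left (relIndex_dvd_index_right (K q) N)).coprime_dvd_right
        (relIndex_dvd_index_right I N)) (⟨m, hm⟩ : N)
    refine ⟨(b : G) * n, mul_mem b.2 hn, fun p hp => ?_⟩
    rw [conj_smul_mul]
    rcases Finset.mem_insert.1 hp with hpq | hpT
    · rw [hpq, ← hL']
      have hm2 : m = (a : G) * b := congrArg Subtype.val hab
      rw [hm2, conj_smul_mul] at hm'
      rw [← conj_smul_inv_smul (a : G) (MulAut.conj (b : G) • L'), hm']
      exact conj_smul_self_of_mem (inv_mem ha)
    · rw [hT p hpT]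
      exact conj_smul_self_of_mem ((Finset.inf_le hpT : I ≤ K p) hb)

theorem conjugate [Group.IsSolvable G] (hK : Cfsg.IsComplementSystem K)
    (hL : Cfsg.IsComplementSystem L) : ∃ g : G, ∀ p, MulAut.conj g • K p = L p := by
  obtain ⟨n, -, hn⟩ := conjugate_of_sup_eq hL hK ⊤ fun p => by rw [sup_top_eq, sup_top_eq]
  exact ⟨n, hn⟩

theorem mem_systemNormalizer {x : G} :
    x ∈ Cfsg.systemNormalizer K ↔ ∀ p, x ∈ normalizer (K p : Set G) := by
  simp [Cfsg.systemNormalizer, mem_iInf]

theorem systemNormalizer_conj (g : G) (K : Nat.Primes → Subgroup G) :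
    Cfsg.systemNormalizer (fun p => MulAut.conj g • K p) =
      MulAut.conj g • Cfsg.systemNormalizer K := by
  ext x
  rw [mem_conj_smul, mem_systemNormalizer, mem_systemNormalizer]
  refine forall_congr' fun p => ?_
  rw [← conj_smul_eq_iff_mem_normalizer, ← conj_smul_eq_iff_mem_normalizer]
  rw [mul_assoc, conj_smul_mul g⁻¹, conj_smul_mul x, ← smul_left_cancel_iff (MulAut.conj g⁻¹)]
  rw [conj_smul_inv_smul g (K p)]

theorem map_systemNormalizer [Group.IsSolvable G] (hK : Cfsg.IsComplementSystem K)
    (N : Subgroup G) [N.Normal] :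
    Cfsg.systemNormalizer (fun p => (K p).map (QuotientGroup.mk' N)) =
      (Cfsg.systemNormalizer K).map (QuotientGroup.mk' N) := by
  refine le_antisymm (fun y hy => ?_) (le_iInf fun p => ?_)
  · obtain ⟨x, rfl⟩ := QuotientGroup.mk'_surjective N y
    rw [mem_systemNormalizer] at hy
    obtain ⟨n, hn, hnK⟩ := conjugate_of_sup_eq hK (conj_system hK x) N fun p => by
      have h1 := conj_smul_eq_iff_mem_normalizer.2 (hy p)
      rw [← conj_smul_map] at h1
      have h2 := congrArg (Subgroup.comap (QuotientGroup.mk' N)) h1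
      rwa [comap_map_eq, comap_map_eq, QuotientGroup.ker_mk'] at h2
    refine ⟨n * x, mem_systemNormalizer.2 fun p => conj_smul_eq_iff_mem_normalizer.1 ?_, ?_⟩
    · rw [conj_smul_mul]; exact hnK p
    · rw [map_mul]
      simp [(QuotientGroup.eq_one_iff n).2 hn]
  · exact (map_mono (iInf_le _ p)).trans (le_normalizer_map _)

/-- The Sylow subgroups attached to a system. -/
noncomputable def part (K : Nat.Primes → Subgroup G) (T : Finset Nat.Primes) : Subgroup G :=
  (primesOf G \ T).inf K

theorem card_part (hK : Cfsg.IsComplementSystem K) (T : Finset Nat.Primes) :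
    Nat.card (part K T) = ∏ r ∈ T, (r : ℕ) ^ (Nat.card G).factorization r := by
  classical
  have h1 := card_mul_index (part K T)
  rw [part, CfsgLib.CoprimeIndex.index_finsetInf _ fun i _ j _ hij => by
    show (K i).index.Coprime (K j).index
    rw [hK i, hK j]; exact coprime_primes_pow hij _ _] at h1
  simp only [hK _] at h1
  have hall : ∏ r ∈ primesOf G, (r : ℕ) ^ (Nat.card G).factorization r = Nat.card G := by
    refine (Finset.prod_subtype_of_mem (fun r => r ^ (Nat.card G).factorization r)
      fun r hr => Nat.prime_of_mem_primeFactors hr).trans ?_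
    exact (Nat.prod_factorization_eq_prod_primeFactors _).symm.trans
      (Nat.prod_factorization_pow_eq_self Nat.card_pos.ne')
  have hT : ∏ r ∈ primesOf G ∩ T, (r : ℕ) ^ (Nat.card G).factorization r =
      ∏ r ∈ T, (r : ℕ) ^ (Nat.card G).factorization r := by
    refine Finset.prod_subset Finset.inter_subset_right fun r hr hr' => ?_
    rw [Nat.factorization_eq_zero_of_not_dvd fun h =>
      hr' (Finset.mem_inter.2 ⟨mem_primesOf.2 h, hr⟩), pow_zero]
  refine Nat.eq_of_mul_eq_mul_right (Finset.prod_pos fun r _ => pow_pos r.2.pos _) (h1.trans ?_)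
  conv_lhs => rw [← hall, ← Finset.prod_inter_mul_prod_sdiff (primesOf G) T, hT]

theorem part_mono (K : Nat.Primes → Subgroup G) {S T : Finset Nat.Primes} (h : S ⊆ T) :
    part K S ≤ part K T :=
  Finset.inf_mono (Finset.sdiff_subset_sdiff (Finset.Subset.refl _) h)

/-- The Sylow subgroup attached to a system. -/
noncomputable def sylow (hK : Cfsg.IsComplementSystem K) (p : Nat.Primes) : Sylow (p : ℕ) G :=
  haveI := Fact.mk p.2
  Sylow.ofCard (part K {p}) (by rw [card_part hK, Finset.prod_singleton])

theorem coe_sylow (hK : Cfsg.IsComplementSystem K) (p : Nat.Primes) :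
    (sylow hK p : Subgroup G) = part K {p} := rfl

theorem coe_mul_part (hK : Cfsg.IsComplementSystem K) {p q : Nat.Primes} (hpq : p ≠ q) :
    ((part K {p} : Subgroup G) : Set G) * (part K {q} : Subgroup G) = (part K {p, q} : Subgroup G) := by
  classical
  have hp : part K {p} ≤ part K {p, q} := part_mono K (by simp)
  have hq : part K {q} ≤ part K {p, q} := part_mono K (by simp)
  refine Set.Subset.antisymm (fun x ⟨a, ha, b, hb, hab⟩ => hab ▸ mul_mem (hp ha) (hq hb)) fun x hx => ?_
  let f : part K {p} × part K {q} → part K {p, q} :=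
    fun z => ⟨z.1 * z.2, mul_mem (hp z.1.2) (hq z.2.2)⟩
  have hd : part K {p} ⊓ part K {q} = ⊥ := inf_eq_bot_of_coprime (by
    rw [card_part hK, card_part hK, Finset.prod_singleton, Finset.prod_singleton]
    exact coprime_primes_pow hpq _ _)
  have hinj : Function.Injective f := fun z w h =>
    mul_injective_of_disjoint (disjoint_iff.2 hd) (congrArg Subtype.val h)
  have hc : Nat.card (part K {p, q}) ≤ Nat.card (part K {p} × part K {q}) := by
    rw [Nat.card_prod, card_part hK, card_part hK, card_part hK, Finset.prod_singleton,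
      Finset.prod_singleton, Finset.prod_pair hpq]
  obtain ⟨⟨a, b⟩, hab⟩ := (hinj.bijective_of_nat_card_le hc).2 ⟨x, hx⟩
  exact ⟨a, a.2, b, b.2, congrArg Subtype.val hab⟩

theorem sylow_comm (hK : Cfsg.IsComplementSystem K) (p q : Nat.Primes) :
    (sylow hK p : Set G) * (sylow hK q : Set G) = (sylow hK q : Set G) * (sylow hK p : Set G) := by
  classical
  rcases eq_or_ne p q with rfl | h
  · rfl
  · change ((part K {p} : Subgroup G) : Set G) * (part K {q} : Subgroup G) =
      ((part K {q} : Subgroup G) : Set G) * (part K {p} : Subgroup G)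
    rw [coe_mul_part hK h, coe_mul_part hK h.symm, Finset.pair_comm]

theorem systemNormalizer_isNilpotent (hK : Cfsg.IsComplementSystem K) :
    Group.IsNilpotent (Cfsg.systemNormalizer K) := by
  classical
  set D := Cfsg.systemNormalizer K
  refine ((Group.isNilpotent_of_finite_tfae (G := D)).out 0 3).2 fun s hs R => ?_
  let p : Nat.Primes := ⟨s, hs.out⟩
  have hP : IsPGroup s ((part K {p}).subgroupOf D) := (sylow hK p).2.comap_subtype
  have hle : (R : Subgroup D) ≤ (part K {p}).subgroupOf D := by
    intro x hx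
    rw [mem_subgroupOf, part, Finset.inf_eq_iInf, mem_iInf]
    intro r
    rw [mem_iInf]
    intro hr
    have hrp : r ≠ p := by simpa using (Finset.mem_sdiff.1 hr).2
    haveI := Fact.mk hs.out
    obtain ⟨j, hj⟩ := IsPGroup.iff_orderOf.1 R.2 ⟨x, hx⟩
    refine mem_of_coprime hK r ?_ (mem_systemNormalizer.1 x.2 r)
    have hxo : orderOf (x : G) = s ^ j :=
      ((orderOf_coe x).trans (orderOf_coe (⟨x, hx⟩ : (R : Subgroup D)))).trans hj
    rw [hxo]
    exact ((Nat.coprime_primes hs.out r.2).2 fun e => hrp (Subtype.ext e.symm)).pow_left j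
  rw [← R.3 hP hle]
  constructor
  intro x hx d
  rw [mem_subgroupOf, part, Finset.inf_eq_iInf] at hx ⊢
  simp only [mem_iInf] at hx ⊢
  exact fun r hr => (mem_normalizer_iff.1 (mem_systemNormalizer.1 d.2 r) _).1 (hx r hr)

/-- A system normalizer centralizes central factors. -/
theorem le_systemNormalizer_of_central (B : Subgroup G) (h : B ≤ center G) :
    B ≤ Cfsg.systemNormalizer K :=
  fun _ hb => mem_systemNormalizer.2 fun _ =>
    center_le_normalizer _ (h hb)

/-- A system normalizer avoids noncentral minimal normal subgroups. -/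
theorem inf_eq_bot [Group.IsSolvable G] (hK : Cfsg.IsComplementSystem K) (B : Subgroup G)
    [B.Normal] (hB : B ≠ ⊥) (hmin : ∀ M : Subgroup G, M.Normal → M ≤ B → M = ⊥ ∨ M = B)
    (hc : ¬ B ≤ center G) : B ⊓ Cfsg.systemNormalizer K = ⊥ := by
  obtain ⟨-, p, hp, -, hpB⟩ := minimal_normal_elementary hB hmin inferInstance
  haveI := Fact.mk hp
  set C := centralizer (B : Set G) with hC
  haveI : C.Normal := normal_centralizer
  have hCtop : C ≠ ⊤ := fun h => hc fun b hb => mem_center_iff.2 fun g =>
    (mem_centralizer_iff.1 (h.ge (mem_top g) : g ∈ C) b hb).symm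
  let f := QuotientGroup.mk' C
  have hq : (⊤ : Subgroup (G ⧸ C)) ≠ ⊥ := by
    intro h
    apply hCtop
    have := congrArg (Subgroup.comap f) h
    rw [comap_top, MonoidHom.comap_bot, QuotientGroup.ker_mk'] at this
    exact this.symm
  obtain ⟨M, hMn, hM, -, hMmin⟩ := exists_minimal_normal_le hq
  haveI := hMn
  obtain ⟨-, r, hr, -, hrM⟩ := minimal_normal_elementary hM hMmin inferInstance
  haveI := Fact.mk hr
  set L := M.comap f with hL
  haveI : L.Normal := Normal.comap inferInstance f
  have hCL : C ≤ L := fun x hx => by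
    have h1 : f x = 1 := (QuotientGroup.eq_one_iff x).2 hx
    rw [hL, mem_comap, h1]; exact one_mem M
  have hfix : B ⊓ centralizer (L : Set G) = ⊥ := by
    haveI : (centralizer (L : Set G)).Normal := normal_centralizer
    refine (hmin _ inferInstance inf_le_left).resolve_right fun h => hM ?_
    have h1 : L ≤ C := le_centralizer_iff.1 (inf_eq_left.1 h)
    rw [← map_comap_eq_self_of_surjective (QuotientGroup.mk'_surjective C) M,
      Subgroup.map_eq_bot_iff, QuotientGroup.ker_mk']
    exact h1
  have hrp : r ≠ p := by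
    rintro rfl
    obtain ⟨S⟩ : Nonempty (Sylow r L) := inferInstance
    set S' := (S : Subgroup L).map L.subtype
    have hSL : S' ≤ L := map_subtype_le _
    have hsup : L ≤ C ⊔ S' := by
      intro x hx
      have hS : (S : Subgroup L).map (f.subgroupComap M) = ⊤ := by
        exact ((S.mapSurjective (f.subgroupComap_surjective_of_surjective M
          (QuotientGroup.mk'_surjective C))).3 (hrM.to_subgroup ⊤) le_top).symm
      have hmem : (⟨f x, hx⟩ : M) ∈ (S : Subgroup L).map (f.subgroupComap M) := hS ▸ mem_top _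
      obtain ⟨s, hs, hsx⟩ := hmem
      have : (s : G)⁻¹ * x ∈ C := by
        have h3 : f (s : G) = f x := congrArg Subtype.val hsx
        rw [← QuotientGroup.eq]; exact h3
      have hx2 : x = (s : G) * ((s : G)⁻¹ * x) := by group
      rw [hx2]
      exact mul_mem (mem_sup_right (mem_map_of_mem _ hs)) (mem_sup_left this)
    have hSB : IsPGroup r ↥(S' ⊔ B) := (S.2.map _).to_sup_of_normal_right hpB
    haveI := hSB.isNilpotent
    haveI : (B.subgroupOf (S' ⊔ B)).Normal := normal_subgroupOf
    have hne : B.subgroupOf (S' ⊔ B) ≠ ⊥ := by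
      rw [Ne, subgroupOf_eq_bot, disjoint_iff, inf_eq_left.2 le_sup_right]; exact hB
    obtain ⟨⟨z, hz⟩, ⟨hzB, hzc⟩, hz1⟩ := (bot_or_exists_ne_one _).resolve_left
      (CfsgLib.PGroupBasic.inf_center_ne_bot _ hne)
    have hzmem : z ∈ B ⊓ centralizer (L : Set G) := by
      refine ⟨hzB, ?_⟩
      have hle : C ⊔ S' ≤ centralizer ({z} : Set G) := by
        refine sup_le (fun c hc => mem_centralizer_singleton_iff.2 ?_)
          fun s hs => mem_centralizer_singleton_iff.2 ?_
        · exact (mem_centralizer_iff.1 hc z hzB).symm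
        · exact congrArg Subtype.val (mem_center_iff.1 hzc ⟨s, mem_sup_left hs⟩)
      exact mem_centralizer_iff.2 fun l hl => mem_centralizer_singleton_iff.1 (hle (hsup hl))
    rw [hfix, mem_bot] at hzmem
    exact hz1 (Subtype.ext hzmem)
  rw [eq_bot_iff, ← hfix]
  rintro d ⟨hdB, hdD⟩
  refine ⟨hdB, ?_⟩
  have hLK : L ≤ K ⟨p, hp⟩ ⊔ C := by
    have hmap := map_system hK (f := f) (QuotientGroup.mk'_surjective C)
    have hcop : (Nat.card M).Coprime p := by
      obtain ⟨j, hj⟩ := IsPGroup.iff_card.1 hrM
      rw [hj]; exact ((Nat.coprime_primes hr hp).2 hrp).pow_left j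
    have h1 := le_of_coprime hmap ⟨p, hp⟩ hcop (Or.inr le_normalizer_of_normal)
    have h2 : L ≤ ((K ⟨p, hp⟩).map f).comap f := comap_mono h1
    rwa [comap_map_eq, QuotientGroup.ker_mk'] at h2
  have hle : K ⟨p, hp⟩ ⊔ C ≤ centralizer ({d} : Set G) := by
    refine sup_le (fun k hk => mem_centralizer_singleton_iff.2 ?_)
      fun c hc => mem_centralizer_singleton_iff.2 (mem_centralizer_iff.1 hc d hdB).symm
    have h1 : k * d * k⁻¹ * d⁻¹ ∈ B :=
      mul_mem ((inferInstance : B.Normal).conj_mem d hdB k) (inv_mem hdB)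
    have h2 : k * d * k⁻¹ * d⁻¹ ∈ K ⟨p, hp⟩ := by
      have : k * d * k⁻¹ * d⁻¹ = k * (d * k⁻¹ * d⁻¹) := by group
      rw [this]
      exact mul_mem hk ((mem_normalizer_iff.1 (mem_systemNormalizer.1 hdD _) _).1 (inv_mem hk))
    have h3 : B ⊓ K ⟨p, hp⟩ = ⊥ := by
      obtain ⟨j, hj⟩ := IsPGroup.iff_card.1 hpB
      exact inf_eq_bot_of_coprime (hj ▸ ((card_coprime hK ⟨p, hp⟩).symm.pow_left j))
    have h4 : k * d * k⁻¹ * d⁻¹ = 1 := by
      rw [← mem_bot, ← h3]; exact ⟨h1, h2⟩
    exact mul_inv_eq_iff_eq_mul.1 (mul_inv_eq_one.1 h4)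
  exact mem_centralizer_iff.2 fun l hl => mem_centralizer_singleton_iff.1 (hle (hLK hl))

theorem normalClosure_eq_top [Group.IsSolvable G] (hK : Cfsg.IsComplementSystem K) :
    normalClosure ((Cfsg.systemNormalizer K : Subgroup G) : Set G) = ⊤ := by
  by_contra hne
  set N := normalClosure ((Cfsg.systemNormalizer K : Subgroup G) : Set G) with hN
  haveI : Nontrivial (G ⧸ N) := (QuotientGroup.nontrivial_iff).2 hne
  have hlt := Group.IsSolvable.commutator_lt_top_of_nontrivial (G := G ⧸ N)
  set M := (commutator (G ⧸ N)).comap (QuotientGroup.mk' N) with hM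
  haveI : M.Normal := Normal.comap inferInstance _
  have hcom : commutator G ≤ M := by
    rw [hM, ← map_le_iff_le_comap, _root_.commutator_def, map_commutator,
      map_top_of_surjective _ (QuotientGroup.mk'_surjective N), ← _root_.commutator_def]
  haveI := Normal.quotient_commutative_iff_commutator_le.2 hcom
  have h1 := map_systemNormalizer hK M
  have h2 : (Cfsg.systemNormalizer K).map (QuotientGroup.mk' M) = ⊥ := by
    rw [Subgroup.map_eq_bot_iff, QuotientGroup.ker_mk']
    intro x hx
    have h0 : QuotientGroup.mk' N x = 1 := (QuotientGroup.eq_one_iff x).2 (subset_normalClosure hx)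
    rw [hM, mem_comap, h0]
    exact one_mem _
  have h3 : Cfsg.systemNormalizer (fun p => (K p).map (QuotientGroup.mk' M)) = ⊤ :=
    eq_top_iff.2 ((le_systemNormalizer_of_central ⊤ fun x _ => mem_center_iff.2 fun y =>
      (inferInstance : IsMulCommutative (G ⧸ M)).is_comm.comm y x))
  rw [h1, h2] at h3
  have h4 := congrArg (Subgroup.comap (QuotientGroup.mk' M)) h3
  rw [comap_top, MonoidHom.comap_bot, QuotientGroup.ker_mk'] at h4
  apply hlt.ne
  rw [← map_comap_eq_self_of_surjective (QuotientGroup.mk'_surjective N) (commutator (G ⧸ N)), ← hM,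
    h4, map_top_of_surjective _ (QuotientGroup.mk'_surjective N)]

end CfsgLib.System
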