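import Cfsg.Agent.FGSA.ThompsonNil
import Cfsg.Agent.Solvable.FrobeniusConj
import Cfsg.Agent.Solvable.Socle
import Cfsg.Agent.Frobenius.Semidirect
import Mathlib.GroupTheory.Solvable

/-!
A finite group with an abelian maximal subgroup has trivial third derived subgroup.
-/

set_option autoImplicit false
set_option linter.style.haveILetI false
set_option linter.deprecated false

namespace CfsgLib.AbelianMaximal

open Subgroup
open scoped Pointwise

universe u

variable {G : Type u} [Group G] [Finite G]

theorem derived_two_of_frobenius {A : Subgroup G} (hA : IsCoatom A) [IsMulCommutative A]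
    (hF : Cfsg.IsFrobeniusComplement A) : derivedSeries G 2 = ⊥ := by
  obtain ⟨K, hK, hK1, hc, -⟩ := CfsgLib.FrobeniusConj.exists_kernel hF
  haveI := hK
  obtain ⟨φ, hφ, -⟩ := CfsgLib.Frobenius.exists_fpf_of_normal_complement hF hc.disjoint.eq_bot
  obtain ⟨q, hq, hqd⟩ := Nat.exists_prime_and_dvd (show Nat.card A ≠ 1 from
    fun e => hF.1 (eq_bot_of_card_eq _ e))
  haveI := Fact.mk hq
  obtain ⟨a, ha⟩ := exists_prime_orderOf_dvd_card' q hqd
  have hnil : Group.IsNilpotent K := CfsgLib.ThompsonNil.isNilpotent hq (φ a)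
    (by rw [← map_pow, ← ha, pow_orderOf_eq_one, map_one])
    (hφ a fun e => by rw [e, orderOf_one] at ha; exact hq.ne_one ha.symm)
  have hlt : ⁅K, K⁆ < K := by
    haveI := hnil
    haveI := (nontrivial_iff_ne_bot K).2 hK1
    have h := Group.IsSolvable.commutator_lt_top_of_nontrivial K
    rw [← map_subtype_lt_map_subtype, map_subtype_commutator] at h
    rwa [← MonoidHom.range_eq_map, range_subtype] at h
  have hKK : ⁅K, K⁆ = ⊥ := by
    by_contra hne
    have hnle : ¬ ⁅K, K⁆ ≤ A := fun hle => hne (le_bot_iff.1 (hc.disjoint.eq_bot ▸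
      le_inf hlt.le hle))
    have htop : ⁅K, K⁆ ⊔ A = ⊤ :=
      hA.2 _ (lt_of_le_of_ne le_sup_right fun e => hnle (e ▸ le_sup_left))
    refine hlt.not_ge fun x hx => ?_
    obtain ⟨n, hn, a, ha, rfl⟩ := CfsgLib.Socle.mem_sup_decomp (htop.ge (mem_top x))
    have : a ∈ K ⊓ A := ⟨by simpa using mul_mem (inv_mem (hlt.le hn)) hx, ha⟩
    rw [hc.disjoint.eq_bot, mem_bot] at this
    rwa [this, mul_one]
  have hG' : _root_.commutator G ≤ K := by
    rw [_root_.commutator_def, commutator_le]
    intro g _ h _
    rw [← QuotientGroup.eq_one_iff, ← QuotientGroup.mk'_apply, map_commutatorElement,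
      commutatorElement_eq_one_iff_mul_comm]
    obtain ⟨n, hn, a, ha, rfl⟩ := CfsgLib.Socle.mem_sup_decomp (hc.sup_eq_top.ge (mem_top g))
    obtain ⟨m, hm, b, hb, rfl⟩ := CfsgLib.Socle.mem_sup_decomp (hc.sup_eq_top.ge (mem_top h))
    simp only [map_mul, show QuotientGroup.mk' K n = 1 from (QuotientGroup.eq_one_iff n).2 hn,
      show QuotientGroup.mk' K m = 1 from (QuotientGroup.eq_one_iff m).2 hm, one_mul]
    rw [← map_mul, ← map_mul, setLike_mul_comm ha hb]
  rw [derivedSeries_succ, derivedSeries_one, eq_bot_iff]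
  exact (commutator_mono hG' hG').trans hKK.le

theorem derived_two_of_corefree {A : Subgroup G} (hA : IsCoatom A) [IsMulCommutative A]
    (hnn : ¬ A.Normal) (hcore : A.normalCore = ⊥) : derivedSeries G 2 = ⊥ := by
  have hN : normalizer (A : Set G) = A := by
    refine le_antisymm (not_not.1 fun h => ?_) le_normalizer
    exact hnn (normalizer_eq_top_iff.1 (hA.2 _ (lt_of_le_of_ne le_normalizer fun e => h e.ge)))
  refine derived_two_of_frobenius hA ⟨fun e => hnn (by rw [e]; infer_instance), hA.1, fun g hg => ?_⟩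
  show A ⊓ MulAut.conj g • A = ⊥
  have hle : ¬ MulAut.conj g • A ≤ A := fun h => hg (hN.le
    (CfsgLib.SZ.conj_smul_eq_iff_mem_normalizer.1
      (CfsgLib.Solvable.eq_of_le_of_card_le h (CfsgLib.SZ.card_conj_smul g A).ge)))
  have htop : A ⊔ MulAut.conj g • A = ⊤ :=
    hA.2 _ (lt_of_le_of_ne le_sup_left fun e => hle (le_of_le_of_eq le_sup_right e.symm))
  have hcen : A ⊓ MulAut.conj g • A ≤ center G := by
    intro x hx
    have h1 : A ⊔ MulAut.conj g • A ≤ centralizer {x} := by
      refine sup_le (fun y hy => ?_) (fun y hy => ?_) <;> rw [mem_centralizer_singleton_iff]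
      · exact setLike_mul_comm hy (mem_inf.1 hx).1
      · have hy' := CfsgLib.SZ.mem_conj_smul.1 hy
        have hx' := CfsgLib.SZ.mem_conj_smul.1 (mem_inf.1 hx).2
        have h3 := setLike_mul_comm hy' hx'
        calc y * x = g * ((g⁻¹ * y * g) * (g⁻¹ * x * g)) * g⁻¹ := by group
          _ = x * y := by rw [h3]; group
    rw [mem_center_iff]
    intro k
    exact mem_centralizer_singleton_iff.1 (h1 (htop.ge (mem_top k)))
  haveI hDn : (A ⊓ MulAut.conj g • A).Normal := ⟨fun n hn k => by
    rwa [mem_center_iff.1 (hcen hn) k, mul_inv_cancel_right]⟩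
  exact CfsgLib.Socle.eq_bot_of_le hcore inf_le_left

theorem derived_three {A : Subgroup G} (hA : IsCoatom A) [IsMulCommutative A] :
    derivedSeries G 3 = ⊥ := by
  have hAC : A ≤ centralizer (A : Set G) := le_centralizer_iff_isMulCommutative.2 inferInstance
  suffices h : ∃ C : Subgroup G, C ≤ A ∧ derivedSeries G 2 ≤ C by
    obtain ⟨C, hCA, hC⟩ := h
    rw [derivedSeries_succ, eq_bot_iff]
    exact (commutator_mono (hC.trans hCA) (hC.trans hCA)).trans
      (commutator_eq_bot_iff_le_centralizer.2 hAC).le
  by_cases hn : A.Normal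
  · refine ⟨A, le_rfl, ?_⟩
    have hcyc : ∀ x : G ⧸ A, x ≠ 1 → zpowers x = ⊤ := by
      intro x hx
      obtain ⟨g, rfl⟩ := QuotientGroup.mk'_surjective A x
      have hg : g ∉ A := fun h => hx ((QuotientGroup.eq_one_iff g).2 h)
      have hlt : A < (zpowers (QuotientGroup.mk' A g)).comap (QuotientGroup.mk' A) := by
        refine lt_of_le_of_ne ((QuotientGroup.ker_mk' A).ge.trans (ker_le_comap _ _)) fun e => hg ?_
        exact e.ge (mem_comap.2 (mem_zpowers _))
      rw [← map_comap_eq_self_of_surjective (QuotientGroup.mk'_surjective A)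
        (zpowers (QuotientGroup.mk' A g)), hA.2 _ hlt,
        map_top_of_surjective _ (QuotientGroup.mk'_surjective A)]
    have hcomm : ∀ x y : G ⧸ A, x * y = y * x := by
      intro x y
      rcases eq_or_ne x 1 with rfl | hx
      · simp
      · obtain ⟨k, rfl⟩ := mem_zpowers_iff.1 ((hcyc x hx).ge (mem_top y))
        exact (Commute.zpow_right (Commute.refl x) k).eq
    refine (derivedSeries_antitone G (show 1 ≤ 2 by omega)).trans ?_
    rw [derivedSeries_one, _root_.commutator_def, commutator_le]
    intro g _ h _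
    rw [← QuotientGroup.eq_one_iff, ← QuotientGroup.mk'_apply, map_commutatorElement,
      commutatorElement_eq_one_iff_mul_comm]
    exact hcomm _ _
  · refine ⟨A.normalCore, normalCore_le A, ?_⟩
    set C := A.normalCore
    set π := QuotientGroup.mk' C
    have hsurj := QuotientGroup.mk'_surjective C
    set A' := A.map π
    have hcm : A'.comap π = A := by
      rw [comap_map_eq, QuotientGroup.ker_mk', sup_eq_left.2 (normalCore_le A)]
    have hA' : IsCoatom A' := by
      refine ⟨fun e => hA.1 ?_, fun X hX => ?_⟩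
      · rw [← hcm, e, comap_top]
      · have hlt : A < X.comap π := by
          refine hcm.ge.trans_lt ?_
          refine lt_of_le_of_ne (comap_mono hX.le) fun e => hX.ne ?_
          rw [← map_comap_eq_self_of_surjective hsurj X, ← e,
            map_comap_eq_self_of_surjective hsurj]
        rw [← map_comap_eq_self_of_surjective hsurj X, hA.2 _ hlt, map_top_of_surjective _ hsurj]
    haveI hA'c : IsMulCommutative A' := by
      refine le_centralizer_iff_isMulCommutative.1 ?_
      rintro _ ⟨x, hx, rfl⟩
      refine mem_centralizer_iff.2 ?_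
      rintro _ ⟨y, hy, rfl⟩
      rw [← map_mul, ← map_mul, setLike_mul_comm hy hx]
    have hnn : ¬ A'.Normal := fun h => hn (hcm ▸ h.comap π)
    have hcore : A'.normalCore = ⊥ := by
      have h2 : A'.normalCore.comap π ≤ C := normal_le_normalCore.2
        ((comap_mono (normalCore_le A')).trans hcm.le)
      rw [← map_comap_eq_self_of_surjective hsurj A'.normalCore, eq_bot_iff]
      refine (map_mono h2).trans (le_of_eq ?_)
      exact (Subgroup.map_eq_bot_iff _).2 (QuotientGroup.ker_mk' C).ge
    have h2 := derived_two_of_corefree hA' hnn hcore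
    rw [← map_derivedSeries_eq hsurj, Subgroup.map_eq_bot_iff, QuotientGroup.ker_mk'] at h2
    exact h2

end CfsgLib.AbelianMaximal
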