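import Cfsg.Agent.Solvable.Factor

/-!
Kegel's lemma on permuting subgroups with proper products.
-/

set_option autoImplicit false
set_option linter.style.haveILetI false

namespace CfsgLib.Kegel

open Subgroup
open Pointwise

variable {G : Type*} [Group G]

/-- If `B A ⊆ A B` then `A ⊔ B` is the product set. -/
theorem coe_sup_of_permute (A B : Subgroup G) (h : ∀ a ∈ A, ∀ b ∈ B, b * a ∈ (A : Set G) * (B : Set G)) :
    ((A ⊔ B : Subgroup G) : Set G) = (A : Set G) * (B : Set G) := by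
  let S : Subgroup G :=
    { carrier := (A : Set G) * (B : Set G)
      one_mem' := ⟨1, A.one_mem, 1, B.one_mem, one_mul 1⟩
      mul_mem' := by
        rintro _ _ ⟨a, ha, b, hb, rfl⟩ ⟨c, hc, d, hd, rfl⟩
        obtain ⟨c', hc', b', hb', e⟩ := h c hc b hb
        refine ⟨a * c', A.mul_mem ha hc', b' * d, B.mul_mem hb' hd, ?_⟩
        calc a * c' * (b' * d) = a * (c' * b') * d := by group
          _ = a * (b * c) * d := by rw [show c' * b' = b * c from e]
          _ = a * b * (c * d) := by group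
      inv_mem' := by
        rintro _ ⟨a, ha, b, hb, rfl⟩
        show (a * b)⁻¹ ∈ _
        rw [mul_inv_rev]
        exact h _ (A.inv_mem ha) _ (B.inv_mem hb) }
  refine Set.Subset.antisymm ?_ ?_
  · have hle : A ⊔ B ≤ S := sup_le (fun a ha => ⟨a, ha, 1, B.one_mem, mul_one a⟩)
      (fun b hb => ⟨1, A.one_mem, b, hb, one_mul b⟩)
    exact fun x hx => hle hx
  · rintro _ ⟨a, ha, b, hb, rfl⟩
    exact mul_mem (mem_sup_left ha : a ∈ A ⊔ B) (mem_sup_right hb)

theorem mem_smul_iff (B : Subgroup G) (x g : G) :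
    g ∈ (MulAut.conj x • B : Subgroup G) ↔ x⁻¹ * g * x ∈ B := by
  rw [Subgroup.mem_pointwise_smul_iff_inv_smul_mem, MulAut.smul_def, ← map_inv, MulAut.conj_apply,
    inv_inv]

/-- The closure of the `X`-conjugates of `A` still permutes with the conjugates of `B`. -/
theorem permute_step {A B : Subgroup G}
    (h : ∀ x : G, ∃ S : Subgroup G, (S : Set G) = (A : Set G) * ((MulAut.conj x • B : Subgroup G) : Set G))
    (Bx : Subgroup G) (y : G) :
    ∀ a ∈ closure {g : G | ∃ a ∈ A, ∃ b ∈ Bx, g = b * a * b⁻¹},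
      ∀ c ∈ (MulAut.conj y • B : Subgroup G), c * a ∈
        (closure {g : G | ∃ a ∈ A, ∃ b ∈ Bx, g = b * a * b⁻¹} : Set G) *
          ((MulAut.conj y • B : Subgroup G) : Set G) := by
  set A1 : Subgroup G := closure {g : G | ∃ a ∈ A, ∃ b ∈ Bx, g = b * a * b⁻¹}
  intro a ha
  have hgen : ∀ g ∈ {g : G | ∃ a ∈ A, ∃ b ∈ Bx, g = b * a * b⁻¹},
      ∀ c ∈ (MulAut.conj y • B : Subgroup G),
        c * g ∈ (A1 : Set G) * ((MulAut.conj y • B : Subgroup G) : Set G) := by
    rintro _ ⟨a, ha, b, hb, rfl⟩ c hc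
    obtain ⟨S, hS⟩ := h (b⁻¹ * y)
    have hc' : b⁻¹ * c * b ∈ (MulAut.conj (b⁻¹ * y) • B : Subgroup G) := by
      rw [mem_smul_iff] at hc ⊢
      convert hc using 1
      group
    have h1 : b⁻¹ * c * b * a ∈ S := by
      refine mul_mem ?_ ?_
      · rw [← SetLike.mem_coe, hS]; exact ⟨1, one_mem _, _, hc', one_mul _⟩
      · rw [← SetLike.mem_coe, hS]; exact ⟨a, ha, 1, one_mem _, mul_one a⟩
    rw [← SetLike.mem_coe, hS] at h1
    obtain ⟨a', ha', c', hc'', e⟩ := h1
    refine ⟨b * a' * b⁻¹, subset_closure ⟨a', ha', b, hb, rfl⟩, b * c' * b⁻¹, ?_, ?_⟩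
    · change b * c' * b⁻¹ ∈ (MulAut.conj y • B : Subgroup G)
      change c' ∈ (MulAut.conj (b⁻¹ * y) • B : Subgroup G) at hc''
      rw [mem_smul_iff] at hc'' ⊢
      convert hc'' using 1
      group
    · calc b * a' * b⁻¹ * (b * c' * b⁻¹) = b * (a' * c') * b⁻¹ := by group
        _ = b * (b⁻¹ * c * b * a) * b⁻¹ := by rw [show a' * c' = b⁻¹ * c * b * a from e]
        _ = c * (b * a * b⁻¹) := by group
  induction ha using closure_induction'' with
  | mem g hg => exact hgen g hg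
  | inv_mem g hg =>
    obtain ⟨a, ha, b, hb, rfl⟩ := hg
    exact hgen _ ⟨a⁻¹, inv_mem ha, b, hb, by group⟩
  | one => exact fun c hc => ⟨1, one_mem _, c, hc, by simp⟩
  | mul u v _ _ hu hv =>
    intro c hc
    obtain ⟨u', hu', c1, hc1, e1⟩ := hu c hc
    obtain ⟨v', hv', c2, hc2, e2⟩ := hv c1 hc1
    refine ⟨u' * v', mul_mem hu' hv', c2, hc2, ?_⟩
    calc u' * v' * c2 = u' * (v' * c2) := by group
      _ = u' * c1 * v := by rw [show v' * c2 = c1 * v from e2, mul_assoc]
      _ = c * (u * v) := by rw [show u' * c1 = c * u from e1, mul_assoc]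

/-- Kegel's lemma. -/
theorem normal_subgroup [Finite G] : ∀ (n : ℕ) (A B : Subgroup G), Nat.card G - Nat.card A ≤ n →
    A ≠ ⊥ → B ≠ ⊥ → (∀ x : G, ∃ S : Subgroup G, S ≠ ⊤ ∧
      (S : Set G) = (A : Set G) * ((MulAut.conj x • B : Subgroup G) : Set G)) →
    ∃ N : Subgroup G, N.Normal ∧ N ≠ ⊤ ∧ (A ≤ N ∨ B ≤ N) := by
  intro n
  induction n using Nat.strong_induction_on with
  | _ n ih =>
    intro A B hn hA hB h
    classical
    have hAtop : A ≠ ⊤ := fun e => by
      obtain ⟨S, hS, hSe⟩ := h 1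
      refine hS (eq_top_iff.2 fun g _ => ?_)
      rw [← SetLike.mem_coe, hSe]
      exact ⟨g, by rw [e]; exact mem_top g, 1, one_mem _, mul_one g⟩
    by_cases hall : ∀ x : G, MulAut.conj x • B ≤ normalizer (A : Set G)
    · by_cases hBn : normalClosure (B : Set G) = ⊤
      · refine ⟨A, normalizer_eq_top_iff.1 (top_unique ?_), hAtop, Or.inl le_rfl⟩
        rw [← hBn, normalClosure, closure_le]
        intro g hg
        obtain ⟨b, hb, hc⟩ := Group.mem_conjugatesOfSet_iff.1 hg
        obtain ⟨x, hx⟩ := isConj_iff.1 hc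
        refine hall x ((mem_smul_iff B x g).2 ?_)
        rw [← hx]
        simpa [mul_assoc] using hb
      · exact ⟨_, normalClosure_normal, hBn, Or.inr subset_normalClosure⟩
    push Not at hall
    obtain ⟨x, hx⟩ := hall
    obtain ⟨H, hH, hHe⟩ := h x
    have hAH : A ≤ H := fun a ha => by
      rw [← SetLike.mem_coe, hHe]; exact ⟨a, ha, 1, one_mem _, mul_one a⟩
    have hBH : MulAut.conj x • B ≤ H := fun a ha => by
      rw [← SetLike.mem_coe, hHe]; exact ⟨1, one_mem _, a, ha, one_mul a⟩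
    set Bx : Subgroup G := MulAut.conj x • B
    set A1 : Subgroup G := closure {g : G | ∃ a ∈ A, ∃ b ∈ Bx, g = b * a * b⁻¹} with hA1
    have hAA1 : A ≤ A1 := fun a ha => subset_closure ⟨a, ha, 1, one_mem _, by group⟩
    have hA1H : A1 ≤ H := (closure_le _).2 fun g ⟨a, ha, b, hb, hg⟩ =>
      hg ▸ mul_mem (mul_mem (hBH hb) (hAH ha)) (inv_mem (hBH hb))
    have hlt : A < A1 := by
      refine lt_of_le_of_ne hAA1 fun e => hx fun b hb => ?_
      refine mem_normalizer_iff.2 fun g => ⟨fun hg => ?_, fun hg => ?_⟩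
      · exact e.ge (subset_closure ⟨g, hg, b, hb, rfl⟩)
      · exact e.ge (subset_closure ⟨b * g * b⁻¹, hg, b⁻¹, inv_mem hb, by group⟩)
    have hstep : ∀ y : G, ∀ a ∈ A1, ∀ c ∈ (MulAut.conj y • B : Subgroup G),
        c * a ∈ (A1 : Set G) * ((MulAut.conj y • B : Subgroup G) : Set G) :=
      permute_step (fun x => let ⟨S, _, hS⟩ := h x; ⟨S, hS⟩) Bx
    have hnew : ∀ y : G, ∃ S : Subgroup G, S ≠ ⊤ ∧
        (S : Set G) = (A1 : Set G) * ((MulAut.conj y • B : Subgroup G) : Set G) := fun y => by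
      refine ⟨_, fun htop => ?_, coe_sup_of_permute _ _ (hstep y)⟩
      have hall : ∀ g : G, g ∈ (A1 : Set G) * ((MulAut.conj y • B : Subgroup G) : Set G) := fun g => by
        rw [← coe_sup_of_permute _ _ (hstep y), htop]; exact mem_top g
      have hByH : MulAut.conj y • B ≤ H := fun d hd => by
        obtain ⟨a, ha, c, hc, e⟩ := hall (x * y⁻¹)
        change a ∈ A1 at ha
        change c ∈ (MulAut.conj y • B : Subgroup G) at hc
        have h1 : a * d * a⁻¹ ∈ Bx := by
          rw [mem_smul_iff] at hc hd ⊢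
          have h2 : a⁻¹ * x = c * y := by
            calc a⁻¹ * x = a⁻¹ * (x * y⁻¹) * y := by group
              _ = a⁻¹ * (a * c) * y := by rw [show a * c = x * y⁻¹ from e]
              _ = c * y := by group
          have h3 : x⁻¹ * (a * d * a⁻¹) * x = (y⁻¹ * c * y)⁻¹ * (y⁻¹ * d * y) * (y⁻¹ * c * y) := by
            calc x⁻¹ * (a * d * a⁻¹) * x = (a⁻¹ * x)⁻¹ * d * (a⁻¹ * x) := by group
              _ = (c * y)⁻¹ * d * (c * y) := by rw [h2]
              _ = _ := by group
          rw [h3]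
          exact mul_mem (mul_mem (inv_mem hc) hd) hc
        have := mul_mem (mul_mem (inv_mem (hA1H ha)) (hBH h1)) (hA1H ha)
        simpa [mul_assoc] using this
      exact hH (top_unique (htop.ge.trans (sup_le hA1H hByH)))
    have hc1 : Nat.card A < Nat.card A1 := CfsgLib.Solvable.card_lt_of_lt hlt
    have hc2 : Nat.card A1 ≤ Nat.card G := card_le_card_group A1
    obtain ⟨N, hN, hNt, hor⟩ := ih _ (by omega) A1 B le_rfl
      (fun e => hA (le_bot_iff.1 (e ▸ hAA1))) hB hnew
    exact ⟨N, hN, hNt, hor.imp hAA1.trans id⟩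

end CfsgLib.Kegel
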