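import Cfsg.Agent.Solvable.Ito
import Cfsg.Agent.Solvable.KegelWielandt

/-!
Derived length of a product of an abelian group and a group of class at most two.
-/

set_option autoImplicit false
set_option linter.style.haveILetI false

namespace CfsgLib.AbelianClassTwo

open Subgroup
open scoped commutatorElement

universe u

/-- If the derived subgroup is abelian and the derived subgroup of `B` is central in `B` and
generates the group together with the abelian subgroup `A`, then the group is abelian. -/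
theorem commutator_eq_bot {G : Type*} [Group G] (A B : Subgroup G)
    (hA : ∀ x ∈ A, ∀ y ∈ A, x * y = y * x) (hB : ⁅B, B⁆ ≤ centralizer (B : Set G))
    (hV : ∀ x ∈ commutator G, ∀ y ∈ commutator G, x * y = y * x)
    (hgen : A ⊔ ⁅B, B⁆ = ⊤) : commutator G = ⊥ := by
  set C := commutator G ⊓ centralizer (B : Set G) with hC
  haveI hn : C.Normal := by
    refine ⟨fun c hc g => ⟨(inferInstance : (commutator G).Normal).conj_mem c hc.1 g, ?_⟩⟩
    refine mem_centralizer_iff.2 ?_
    intro b hb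
    have e : g⁻¹ * b * g = b * ⁅b⁻¹, g⁻¹⁆ := by simp only [commutatorElement_def]; group
    have h2 : ⁅b⁻¹, g⁻¹⁆ ∈ commutator G := commutator_mem_commutator (mem_top _) (mem_top _)
    have h3 : (g⁻¹ * b * g) * c = c * (g⁻¹ * b * g) := by
      rw [e, mul_assoc, hV _ h2 _ hc.1, ← mul_assoc, mem_centralizer_iff.1 hc.2 b hb, mul_assoc]
    calc b * (g * c * g⁻¹) = g * ((g⁻¹ * b * g) * c) * g⁻¹ := by group
      _ = g * c * g⁻¹ * b := by rw [h3]; group
  have hBC : ⁅B, B⁆ ≤ C := le_inf (commutator_mono le_top le_top) hB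
  have hAC : A ⊔ C = ⊤ := top_le_iff.1 (hgen ▸ sup_le_sup_left hBC A)
  have hbot : ⁅B, B⁆ = ⊥ := by
    rw [commutator_eq_bot_iff_le_centralizer]
    intro b₁ hb₁
    rw [mem_centralizer_iff]
    intro b₂ hb₂
    obtain ⟨a₁, ha₁, c₁, hc₁, rfl⟩ := mem_sup_of_normal_right.1 (hAC.symm ▸ mem_top b₁ : b₁ ∈ A ⊔ C)
    obtain ⟨a₂, ha₂, c₂, hc₂, rfl⟩ := mem_sup_of_normal_right.1 (hAC.symm ▸ mem_top b₂ : b₂ ∈ A ⊔ C)
    have e1 : a₁ * c₁ * c₂ = c₂ * (a₁ * c₁) := mem_centralizer_iff.1 hc₂.2 _ hb₁
    have e2 : a₂ * c₂ * c₁ = c₁ * (a₂ * c₂) := mem_centralizer_iff.1 hc₁.2 _ hb₂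
    have e3 : c₁ * c₂ = c₂ * c₁ := hV _ hc₁.1 _ hc₂.1
    have f1 : a₁ * c₂ = c₂ * a₁ := by
      apply mul_right_cancel (b := c₁)
      rw [mul_assoc, ← e3, ← mul_assoc, e1, mul_assoc]
    have f2 : a₂ * c₁ = c₁ * a₂ := by
      apply mul_right_cancel (b := c₂)
      rw [mul_assoc, e3, ← mul_assoc, e2, mul_assoc]
    calc a₂ * c₂ * (a₁ * c₁) = a₂ * (c₂ * a₁) * c₁ := by group
      _ = (a₂ * a₁) * (c₂ * c₁) := by rw [← f1]; group
      _ = (a₁ * a₂) * (c₁ * c₂) := by rw [hA _ ha₂ _ ha₁, e3]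
      _ = a₁ * (a₂ * c₁) * c₂ := by group
      _ = a₁ * c₁ * (a₂ * c₂) := by rw [f2]; group
  rw [hbot, sup_bot_eq] at hgen
  subst hgen
  rw [_root_.commutator_def, commutator_eq_bot_iff_le_centralizer]
  intro x _
  rw [mem_centralizer_iff]
  exact fun y _ => hA y (mem_top _) x (mem_top _)

theorem derivedSeries_add_le {G : Type*} [Group G] (H : Subgroup G) (m : ℕ)
    (h : derivedSeries G m ≤ H) (n : ℕ) :
    derivedSeries G (m + n) ≤ (derivedSeries H n).map H.subtype := by
  induction n with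
  | zero => simpa [derivedSeries_zero, ← MonoidHom.range_eq_map] using h
  | succ n ih =>
    rw [← Nat.add_assoc, derivedSeries_succ, derivedSeries_succ, map_commutator]
    exact commutator_mono ih ih

theorem omega_lt {a b : ℕ} (hd : a ∣ b) (hlt : a < b) :
    a.primeFactorsList.length < b.primeFactorsList.length := by
  obtain ⟨c, rfl⟩ := hd
  have ha : a ≠ 0 := by rintro rfl; simp at hlt
  have hc : 1 < c := by nlinarith
  rw [(Nat.perm_primeFactorsList_mul ha (by omega)).length_eq, List.length_append]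
  have : 0 < c.primeFactorsList.length := List.length_pos_iff.2 fun h => by
    rcases (Nat.primeFactorsList_eq_nil c).1 h with h | h <;> omega
  omega

theorem bot_of_generated {G : Type*} [Group G] [Finite G] [Group.IsSolvable G] (A B : Subgroup G)
    (hA : ∀ x ∈ A, ∀ y ∈ A, x * y = y * x) (hB : ⁅B, B⁆ ≤ centralizer (B : Set G))
    (hgen : A ⊔ ⁅B, B⁆ = ⊤) : ⁅B, B⁆ = ⊥ := by
  refine le_bot_iff.1 ((commutator_mono le_top le_top).trans ?_)
  rw [← _root_.commutator_def]
  by_contra hne
  have hne : commutator G ≠ ⊥ := fun h => hne h.le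
  set K := ⁅commutator G, commutator G⁆ with hK
  have hlt := Group.IsSolvable.commutator_lt_of_ne_bot hne
  set q := QuotientGroup.mk' K
  have hq : Function.Surjective q := QuotientGroup.mk'_surjective _
  have hc : (commutator G).map q = commutator (G ⧸ K) := by
    simp only [_root_.commutator_def, map_commutator, map_top_of_surjective _ hq]
  have h := commutator_eq_bot (A.map q) (B.map q) ?_ ?_ ?_ ?_
  · rw [← hc, Subgroup.map_eq_bot_iff, QuotientGroup.ker_mk'] at h
    exact hlt.not_ge h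
  · rintro _ ⟨x, hx, rfl⟩ _ ⟨y, hy, rfl⟩
    rw [← map_mul, ← map_mul, hA x hx y hy]
  · rw [← map_commutator]
    rintro _ ⟨x, hx, rfl⟩
    rw [mem_centralizer_iff]
    rintro _ ⟨y, hy, rfl⟩
    rw [← map_mul, ← map_mul, mem_centralizer_iff.1 (hB hx) y hy]
  · rw [← hc]
    rintro _ ⟨x, hx, rfl⟩ _ ⟨y, hy, rfl⟩
    rw [← map_mul, ← map_mul, QuotientGroup.mk'_apply, QuotientGroup.mk'_apply, QuotientGroup.eq]
    rw [hK]
    convert commutator_mem_commutator (inv_mem hy) (inv_mem hx) using 1
    simp only [commutatorElement_def]; group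
  · rw [← map_commutator, ← Subgroup.map_sup, hgen, map_top_of_surjective _ hq]

theorem derivedSeries_bound : ∀ (n : ℕ) (G : Type u) [Group G] [Finite G] (A B : Subgroup G),
    (∀ x ∈ A, ∀ y ∈ A, x * y = y * x) → ⁅B, B⁆ ≤ centralizer (B : Set G) →
    (∀ g : G, ∃ a ∈ A, ∃ b ∈ B, g = a * b) →
    (Nat.card (⁅B, B⁆ : Subgroup G)).primeFactorsList.length ≤ n →
    derivedSeries G (2 * (1 + n)) = ⊥ := by
  intro n
  induction n using Nat.strong_induction_on with
  | _ n ih =>
  intro G _ _ A B hA hB hAB hn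
  by_cases hz : ⁅B, B⁆ = ⊥
  · haveI : IsMulCommutative A := ⟨⟨fun x y => Subtype.ext (hA _ x.2 _ y.2)⟩⟩
    haveI : IsMulCommutative B := ⟨⟨fun x y => Subtype.ext
      ((mem_centralizer_iff.1 (commutator_eq_bot_iff_le_centralizer.1 hz x.2) _ y.2).symm)⟩⟩
    exact le_bot_iff.1 ((derivedSeries_antitone G (by omega)).trans
      (CfsgLib.Ito.derivedSeries_two hAB).le)
  haveI hnB : Group.IsNilpotent B := by
    haveI : Group.IsNilpotent (B ⧸ center B) := by
      have : commutator B ≤ center B := fun x hx => by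
        rw [mem_center_iff]
        intro y
        have h1 : (x : G) ∈ ⁅B, B⁆ := by rw [← map_subtype_commutator]; exact mem_map_of_mem _ hx
        exact Subtype.ext (mem_centralizer_iff.1 (hB h1) _ y.2)
      have hc : ∀ a b : B ⧸ center B, a * b = b * a := by
        intro a b
        obtain ⟨a, rfl⟩ := QuotientGroup.mk'_surjective _ a
        obtain ⟨b, rfl⟩ := QuotientGroup.mk'_surjective _ b
        rw [← map_mul, ← map_mul, QuotientGroup.mk'_apply, QuotientGroup.mk'_apply,
          QuotientGroup.eq]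
        refine this ?_
        convert commutator_mem_commutator (mem_top b⁻¹) (mem_top a⁻¹) using 1
        · rw [_root_.commutator_def]
        · simp only [commutatorElement_def]; group
      letI : CommGroup (B ⧸ center B) := { (inferInstance : Group (B ⧸ center B)) with mul_comm := hc }
      exact CommGroup.isNilpotent
    exact Group.of_quotient_center_nilpotent inferInstance
  haveI hnA : Group.IsNilpotent A := by
    letI : CommGroup A :=
      { (inferInstance : Group A) with mul_comm := fun x y => Subtype.ext (hA _ x.2 _ y.2) }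
    exact CommGroup.isNilpotent
  haveI hs : Group.IsSolvable G :=
    CfsgLib.KegelWielandt.solvable_of_factor _ G le_rfl A B hnA hnB hAB
  set H := A ⊔ ⁅B, B⁆ with hH
  have hAH : A ≤ H := le_sup_left
  have hCH : ⁅B, B⁆ ≤ H := le_sup_right
  -- factorisation of `H`
  have hfac : ∀ g : H, ∃ a ∈ A.subgroupOf H, ∃ b ∈ B.subgroupOf H, g = a * b := by
    rintro ⟨g, hg⟩
    obtain ⟨a, ha, b, hb, rfl⟩ := hAB g
    have : b ∈ H := by
      have := H.mul_mem (inv_mem (hAH ha)) hg
      rwa [inv_mul_cancel_left] at this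
    exact ⟨⟨a, hAH ha⟩, ha, ⟨b, this⟩, hb, rfl⟩
  have hmapB : (⁅B.subgroupOf H, B.subgroupOf H⁆).map H.subtype = ⁅B ⊓ H, B ⊓ H⁆ := by
    rw [map_commutator, subgroupOf_map_subtype]
  have hB' : ⁅B.subgroupOf H, B.subgroupOf H⁆ ≤ centralizer (B.subgroupOf H : Set H) := by
    intro x hx
    have h1 : (x : G) ∈ ⁅B ⊓ H, B ⊓ H⁆ := hmapB ▸ mem_map_of_mem _ hx
    rw [mem_centralizer_iff]
    exact fun y hy => Subtype.ext
      (mem_centralizer_iff.1 (hB (commutator_mono inf_le_left inf_le_left h1)) _ hy)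
  have hA' : ∀ x ∈ A.subgroupOf H, ∀ y ∈ A.subgroupOf H, x * y = y * x :=
    fun x hx y hy => Subtype.ext (hA _ hx _ hy)
  have hproper : ⁅B ⊓ H, B ⊓ H⁆ ≠ ⁅B, B⁆ := by
    intro he
    have h := bot_of_generated (A.subgroupOf H) (B.subgroupOf H) hA' hB' (by
      refine map_injective H.subtype_injective ?_
      rw [Subgroup.map_sup, hmapB, he, subgroupOf_map_subtype, inf_eq_left.2 hAH,
        ← MonoidHom.range_eq_map, range_subtype])
    rw [h, Subgroup.map_bot] at hmapB
    exact hz (he ▸ hmapB.symm)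
  set m := (Nat.card (⁅B.subgroupOf H, B.subgroupOf H⁆ : Subgroup H)).primeFactorsList.length
  have hm : m < (Nat.card (⁅B, B⁆ : Subgroup G)).primeFactorsList.length := by
    have hle : ⁅B ⊓ H, B ⊓ H⁆ ≤ ⁅B, B⁆ := commutator_mono inf_le_left inf_le_left
    have e : Nat.card (⁅B.subgroupOf H, B.subgroupOf H⁆ : Subgroup H) =
        Nat.card (⁅B ⊓ H, B ⊓ H⁆ : Subgroup G) := by
      rw [← hmapB, Subgroup.card_map_of_injective H.subtype_injective]
    show (Nat.card (⁅B.subgroupOf H, B.subgroupOf H⁆ : Subgroup H)).primeFactorsList.length < _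
    rw [e]
    refine omega_lt (card_dvd_of_le hle) (lt_of_le_of_ne (Nat.le_of_dvd Nat.card_pos
      (card_dvd_of_le hle)) fun hc => hproper (eq_of_le_of_card_ge hle hc.ge))
  have hser := ih m (by omega) H (A.subgroupOf H) (B.subgroupOf H) hA' hB' hfac le_rfl
  -- the second derived term lies in `H`
  have h2 : derivedSeries G 2 ≤ H := by
    set R := normalClosure ((⁅B, B⁆ : Subgroup G) : Set G)
    have hR : R ≤ H := by
      refine (closure_le _).2 ?_
      intro x hx
      obtain ⟨c, hc, hcx⟩ := Group.mem_conjugatesOfSet_iff.1 hx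
      obtain ⟨g, rfl⟩ := isConj_iff.1 hcx
      obtain ⟨a, ha, b, hb, rfl⟩ := hAB g
      have e : a * b * c * (a * b)⁻¹ = a * c * a⁻¹ := by
        rw [mul_inv_rev, mul_assoc a b c, mem_centralizer_iff.1 (hB hc) b hb]; group
      rw [e]
      exact H.mul_mem (H.mul_mem (hAH ha) (hCH hc)) (inv_mem (hAH ha))
    set q := QuotientGroup.mk' R
    have hq : Function.Surjective q := QuotientGroup.mk'_surjective _
    haveI : IsMulCommutative (A.map q) := ⟨⟨by
      rintro ⟨_, x, hx, rfl⟩ ⟨_, y, hy, rfl⟩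
      exact Subtype.ext (by simp only [Subgroup.coe_mul, ← map_mul, hA x hx y hy])⟩⟩
    haveI : IsMulCommutative (B.map q) := ⟨⟨by
      rintro ⟨_, x, hx, rfl⟩ ⟨_, y, hy, rfl⟩
      refine Subtype.ext ?_
      simp only [Subgroup.coe_mul, ← map_mul]
      rw [QuotientGroup.mk'_apply, QuotientGroup.mk'_apply, QuotientGroup.eq]
      refine subset_normalClosure ?_
      rw [SetLike.mem_coe]
      convert commutator_mem_commutator (inv_mem hy) (inv_mem hx) using 1
      simp only [commutatorElement_def]; group⟩⟩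
    have h := CfsgLib.Ito.derivedSeries_two (A := A.map q) (B := B.map q) (fun g => by
      obtain ⟨g, rfl⟩ := hq g
      obtain ⟨a, ha, b, hb, rfl⟩ := hAB g
      exact ⟨q a, mem_map_of_mem _ ha, q b, mem_map_of_mem _ hb, map_mul q a b⟩)
    rw [← map_derivedSeries_eq hq, Subgroup.map_eq_bot_iff, QuotientGroup.ker_mk'] at h
    exact h.trans hR
  have h3 := derivedSeries_add_le H 2 h2 (2 * (1 + m))
  rw [hser, Subgroup.map_bot] at h3
  exact le_bot_iff.1 ((derivedSeries_antitone G (by omega)).trans h3)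

end CfsgLib.AbelianClassTwo
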