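import Cfsg.Agent.PLocal.PConstrained
import Cfsg.Agent.FGSA.AbelianSylowLength
import Cfsg.Agent.FGSA.PLengthSeries
import Cfsg.Agent.FGSB.OrderPFix
import Cfsg.Agent.Solvable.Glauberman

/-!
The theorem of Gaschütz and Yen: a `p`-soluble group (`p` odd) whose automorphisms permute the
subgroups of order `p` transitively has `p`-length at most one.
-/

set_option autoImplicit false
set_option linter.style.haveILetI false
set_option linter.unusedSectionVars false

namespace CfsgLib.GaschutzYen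

open Subgroup
open scoped Pointwise

variable {G : Type*} [Group G] [Finite G] {p : ℕ} [hp : Fact p.Prime]

/-- The automorphisms are transitive on subgroups of order `p`. -/
def Trans (p : ℕ) (G : Type*) [Group G] : Prop :=
  ∀ U V : Subgroup G, Nat.card U = p → Nat.card V = p → ∃ a : MulAut G, U.map a.toMonoidHom = V

theorem mem_of_trans (h : Trans p G) (C : Subgroup G) (hC : ∀ a : MulAut G, C.map a.toMonoidHom ≤ C)
    {x : G} (hx : x ∈ C) (hxp : orderOf x = p) {y : G} (hyp : orderOf y = p) : y ∈ C := by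
  obtain ⟨a, ha⟩ := h (zpowers x) (zpowers y) (by rw [Nat.card_zpowers, hxp])
    (by rw [Nat.card_zpowers, hyp])
  exact hC a ((map_mono (f := a.toMonoidHom) (zpowers_le.2 hx)) (ha.symm ▸ mem_zpowers y))

/-- The core of the theorem. -/
theorem not_dvd_index_pCore (hp2 : p ≠ 2) (hO : Cfsg.pPrimeCore p G = ⊥)
    (hs : Cfsg.IsPSolvable p G) (ht : Trans p G) : ¬ p ∣ (Cfsg.pCore p G).index := by
  classical
  intro hdvd
  set P := Cfsg.pCore p G with hP
  haveI hPn : P.Normal := Solvable.pCore_normal p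
  have hPp : IsPGroup p P := Solvable.isPGroup_pCore p
  have hself : centralizer (P : Set G) ≤ P :=
    PConstrained.selfCent_of_pSolvable hO
      (PConstrained.isPSolvable_comap (Subgroup.subtype _) (Subgroup.subtype_injective _) hs)
  have hPchar : ∀ a : MulAut G, P.map a.toMonoidHom ≤ P := fun a =>
    Solvable.le_pCore p (hPn.map _ a.surjective) (hPp.map _)
  have hPne : P ≠ ⊥ := fun h => by
    have h1 : (⊤ : Subgroup G) ≤ ⊥ := by
      refine le_trans (fun g _ => ?_) (h ▸ hself)
      rw [mem_centralizer_iff]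
      rintro x hx
      rw [mem_bot.1 (show x ∈ (⊥ : Subgroup G) from hx)]; simp
    have hd : p ∣ Nat.card G := hdvd.trans P.index_dvd_card
    rw [← card_top, le_bot_iff.1 h1, card_bot] at hd
    exact hp.out.one_lt.ne' (Nat.dvd_one.1 hd)
  -- every element of order `p` is central in `P`
  haveI : Nontrivial P := (nontrivial_iff_ne_bot _).2 hPne
  haveI : Nontrivial (center P) := hPp.center_nontrivial
  obtain ⟨z, hz⟩ : ∃ z : center P, orderOf z = p := by
    refine exists_prime_orderOf_dvd_card' p ?_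
    obtain ⟨n, hn⟩ := IsPGroup.iff_card.1 (hPp.to_subgroup (center P))
    rcases n with _ | n
    · exact absurd hn (Finite.one_lt_card (α := center P)).ne'
    · exact hn ▸ dvd_pow_self p n.succ_ne_zero
  set ZP := P ⊓ centralizer (P : Set G) with hZP
  have hzZ : ((z : P) : G) ∈ ZP := ⟨(z : P).2, mem_centralizer_iff.2 fun x hx =>
    congrArg Subtype.val (mem_center_iff.1 z.2 ⟨x, hx⟩)⟩
  have hzp : orderOf ((z : P) : G) = p := by rw [orderOf_coe, orderOf_coe, hz]
  have hZchar : ∀ a : MulAut G, ZP.map a.toMonoidHom ≤ ZP := fun a => by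
    rintro _ ⟨x, hx, rfl⟩
    refine ⟨hPchar a ⟨x, hx.1, rfl⟩, mem_centralizer_iff.2 fun y hy => ?_⟩
    have hy' : a.symm y ∈ P := hPchar a.symm ⟨y, hy, rfl⟩
    have e := congrArg a (mem_centralizer_iff.1 hx.2 _ hy')
    simpa using e
  have hcentral : ∀ y : G, orderOf y = p → y ∈ ZP := fun y hy => mem_of_trans ht ZP hZchar hzZ hzp hy
  -- the `p'`-core above `P`
  set π := QuotientGroup.mk' P
  have hπ : Function.Surjective π := QuotientGroup.mk'_surjective P
  have hker : π.ker = P := QuotientGroup.ker_mk' P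
  have hqcore : Cfsg.pCore p (G ⧸ P) = ⊥ := by
    have h1 : (Cfsg.pCore p (G ⧸ P)).comap π ≤ P := by
      refine Solvable.le_pCore p ((Solvable.pCore_normal p).comap π) ?_
      refine (Solvable.isPGroup_pCore p).comap_of_ker_isPGroup π ?_
      rw [hker]; exact hPp
    rw [← map_comap_eq_self_of_surjective hπ (Cfsg.pCore p (G ⧸ P)), Subgroup.map_eq_bot_iff, hker]
    exact h1
  set R := Cfsg.pPrimeCore p (G ⧸ P) with hR
  haveI hRn : R.Normal := Solvable.pPrimeCore_normal p
  have hRne : R ≠ ⊥ := fun h => by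
    have hle := CfsgLib.FGSA.AbelianSylow.centralizer_pPrimeCore_le hqcore
      (PConstrained.isPSolvable_map π hπ hs)
    rw [← hR, h] at hle
    have hall : ∀ q : G ⧸ P, q = 1 := fun q => mem_bot.1 (hle (mem_centralizer_iff.2 fun x hx => by
      rw [mem_bot.1 hx]; simp))
    haveI : Subsingleton (G ⧸ P) := ⟨fun a b => (hall a).trans (hall b).symm⟩
    rw [index_eq_card, Nat.card_of_subsingleton (1 : G ⧸ P)] at hdvd
    exact hp.out.one_lt.ne' (Nat.dvd_one.1 hdvd)
  set K := R.comap π with hK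
  haveI hKn : K.Normal := hRn.comap π
  have hPK : P ≤ K := fun x hx => by
    show π x ∈ R
    rw [show π x = 1 from (QuotientGroup.eq_one_iff x).2 hx]; exact one_mem R
  have hKcop : (P.relIndex K).Coprime p := by
    rw [← hker, relIndex_ker, hK, map_comap_eq_self_of_surjective hπ]
    exact Solvable.coprime_card_pPrimeCore p
  have hKchar : ∀ a : MulAut G, K.map a.toMonoidHom ≤ K := fun a => by
    refine Subgroup.map_le_iff_le_comap.1 (Solvable.le_pPrimeCore p
      ((hKn.map _ a.surjective).map π hπ) (hKcop.coprime_dvd_left ?_))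
    rw [← relIndex_ker, hker]
    have hPa : P.map a.toMonoidHom = P := Solvable.eq_of_le_of_card_le (hPchar a)
      (card_map_of_injective (f := a.toMonoidHom) a.injective).ge
    conv_lhs => rw [← hPa, ← relIndex_comap, comap_map_eq_self_of_injective (f := a.toMonoidHom) a.injective]
  -- a complement `Q` of `P` in `K`
  obtain ⟨m, hm⟩ := IsPGroup.iff_card.1 hPp
  haveI : (P.subgroupOf K).Normal := inferInstance
  have hcPK : (Nat.card (P.subgroupOf K)).Coprime (P.subgroupOf K).index := by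
    rw [Nat.card_congr (subgroupOfEquivOfLe hPK).toEquiv, hm]
    exact (hKcop.symm).pow_left m
  obtain ⟨Q₀, hQ₀⟩ := exists_right_complement'_of_coprime hcPK
  set Q := Q₀.map K.subtype with hQ
  have hQK : Q ≤ K := map_subtype_le _
  have hQc : Nat.card Q = P.relIndex K := by
    rw [hQ, card_map_of_injective K.subtype_injective, relIndex]
    exact hQ₀.symm.index_eq_card.symm
  have hKPQ : ∀ k ∈ K, ∃ u ∈ P, ∃ q ∈ Q, k = u * q := fun k hk => by
    obtain ⟨⟨u, q⟩, huq⟩ := hQ₀.2 ⟨k, hk⟩
    exact ⟨(u : K), u.2, (q : K), ⟨q, q.2, rfl⟩, (congrArg Subtype.val huq).symm⟩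
  have hPQ : ∀ x ∈ P, x ∈ Q → x = 1 := fun x hx hxQ => by
    obtain ⟨q, hq, rfl⟩ := hxQ
    exact congrArg Subtype.val (Subgroup.disjoint_def.1 hQ₀.disjoint hx hq)
  have hQne : Q ≠ ⊥ := fun h => hRne (by
    rw [h, card_bot] at hQc
    rw [← map_comap_eq_self_of_surjective hπ R, ← hK, Subgroup.map_eq_bot_iff, hker]
    exact relIndex_eq_one.1 hQc.symm)
  have hcopQ : ∀ q ∈ Q, (orderOf q).Coprime p := fun q hq => by
    refine hKcop.coprime_dvd_left (hQc ▸ ?_)
    exact (Subgroup.orderOf_coe (⟨q, hq⟩ : Q)) ▸ orderOf_dvd_natCard _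
  -- `Q` fixes nothing in `P`
  have hfix : P ⊓ centralizer (Q : Set G) = ⊥ := by
    by_contra hne
    obtain ⟨m', hm'⟩ := IsPGroup.iff_card.1 (hPp.to_le (inf_le_left : P ⊓ centralizer (Q : Set G) ≤ P))
    have hd : p ∣ Nat.card ↥(P ⊓ centralizer (Q : Set G)) := by
      rcases m' with _ | m'
      · exact absurd (Subgroup.eq_bot_of_card_eq _ (by rw [hm', pow_zero])) hne
      · exact hm' ▸ dvd_pow_self p m'.succ_ne_zero
    obtain ⟨u, hu⟩ := exists_prime_orderOf_dvd_card' p hd
    rw [← orderOf_coe] at hu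
    set ZK := K ⊓ centralizer (K : Set G) with hZK
    have huZK : (u : G) ∈ ZK := ⟨hPK u.2.1, mem_centralizer_iff.2 fun k hk => by
      obtain ⟨x, hx, q, hq, rfl⟩ := hKPQ k hk
      have c1 : Commute x (u : G) := mem_centralizer_iff.1 (hcentral _ hu).2 x hx
      have c2 : Commute q (u : G) := mem_centralizer_iff.1 u.2.2 q hq
      exact (c1.mul_left c2).eq⟩
    have hZKchar : ∀ a : MulAut G, ZK.map a.toMonoidHom ≤ ZK := fun a => by
      rintro _ ⟨x, hx, rfl⟩
      refine ⟨hKchar a ⟨x, hx.1, rfl⟩, mem_centralizer_iff.2 fun y hy => ?_⟩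
      have hy' : a.symm y ∈ K := hKchar a.symm ⟨y, hy, rfl⟩
      have e := congrArg a (mem_centralizer_iff.1 hx.2 _ hy')
      simpa using e
    refine hQne ((Subgroup.eq_bot_iff_forall _).2 fun q hq => hPQ q (hself ?_) hq)
    rw [mem_centralizer_iff]
    intro t htP
    refine (CfsgLib.OrderPFix.commute_of_commute_small hPp (hcopQ q hq)
      ((le_normalizer_of_normal : K ≤ normalizer (P : Set G)) (hQK hq)) (fun s _ hsm => ?_) t htP).eq.symm
    have hs : orderOf s = p := hsm.resolve_right fun h => hp2 h.1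
    exact mem_centralizer_iff.1 (mem_of_trans ht ZK hZKchar huZK hu hs).2 q (hQK hq)
  -- Frattini argument
  have hNP : normalizer (Q : Set G) ⊓ P = ⊥ := by
    refine le_bot_iff.1 (le_trans (le_inf inf_le_right fun n hn => ?_) hfix.le)
    rw [mem_centralizer_iff]
    intro q hq
    have h1 : n * q * n⁻¹ * q⁻¹ = 1 := hPQ _ (by
        rw [show n * q * n⁻¹ * q⁻¹ = n * (q * n⁻¹ * q⁻¹) by group]
        exact mul_mem hn.2 (hPn.conj_mem _ (inv_mem hn.2) q))
      (mul_mem ((mem_normalizer_iff.1 hn.1 q).1 hq) (inv_mem hq))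
    exact (mul_inv_eq_iff_eq_mul.1 (mul_inv_eq_one.1 h1)).symm
  have hcover : ∀ g : G, ∃ n ∈ normalizer (Q : Set G), ∃ u ∈ P, g = u * n := by
    intro g
    have hQP : Q ≤ normalizer (P : Set G) := le_normalizer_of_normal
    obtain ⟨u, hu, e⟩ := CfsgLib.SZ.conj_rel (A := Q) (B := MulAut.conj g • Q) (K := P) hQP
      (by rw [hQc, hm]; exact hKcop.pow_right m)
      (Or.inr (by haveI : Group.IsNilpotent P := hPp.isNilpotent; infer_instance))
      (fun y hy => by
        have hyK : y ∈ K := by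
          rw [Subgroup.mem_smul_pointwise_iff_exists] at hy
          obtain ⟨q, hq, rfl⟩ := hy
          exact hKn.conj_mem q (hQK hq) g
        obtain ⟨x, hx, q, hq, rfl⟩ := hKPQ y hyK
        exact mul_mem (mem_sup_right hx) (mem_sup_left hq))
      (Nat.card_congr (Subgroup.equivSMul (MulAut.conj g) Q).toEquiv).symm
    refine ⟨u⁻¹ * g, ?_, u, hu, by group⟩
    rw [← CfsgLib.SZ.conj_smul_eq_iff_mem_normalizer, map_mul, mul_smul, ← e, ← mul_smul,
      map_inv, inv_mul_cancel, one_smul]
  have hdN : p ∣ Nat.card (normalizer (Q : Set G)) := by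
    have hsup : normalizer (Q : Set G) ⊔ P = ⊤ := eq_top_iff.2 fun g _ => by
      obtain ⟨n, hn, u, hu, rfl⟩ := hcover g
      exact mul_mem (mem_sup_right hu) (mem_sup_left hn)
    have e := CfsgLib.Solvable.card_sup_of_disjoint (A := normalizer (Q : Set G)) (K := P)
      le_normalizer_of_normal hNP
    rw [hsup, card_top, ← P.index_mul_card] at e
    exact Nat.eq_of_mul_eq_mul_right Nat.card_pos e ▸ hdvd
  obtain ⟨y, hy⟩ := exists_prime_orderOf_dvd_card' p hdN
  rw [← orderOf_coe] at hy
  have h1 : (y : G) = 1 := mem_bot.1 (hNP.le ⟨y.2, (hcentral _ hy).1⟩)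
  rw [h1, orderOf_one] at hy
  exact hp.out.one_lt.ne' hy.symm

theorem main (hp2 : p ≠ 2) (hG : Cfsg.IsPSolvable p G) (ht : Trans p G) :
    Cfsg.PLengthLE p 1 G := by
  classical
  set R := Cfsg.pPrimeCore p G with hR
  haveI hRn : R.Normal := Solvable.pPrimeCore_normal p
  set π := QuotientGroup.mk' R
  have hπ : Function.Surjective π := QuotientGroup.mk'_surjective R
  have hker : π.ker = R := QuotientGroup.ker_mk' R
  have hRcop : (Nat.card R).Coprime p := Solvable.coprime_card_pPrimeCore p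
  have hO : Cfsg.pPrimeCore p (G ⧸ R) = ⊥ := Fitting.pPrimeCore_quotient_eq_bot p
  have hRa : ∀ a : MulAut G, R.map a.toMonoidHom = R := fun a =>
    Solvable.eq_of_le_of_card_le (Solvable.le_pPrimeCore p (hRn.map _ a.surjective)
      (by rw [card_map_of_injective (f := a.toMonoidHom) a.injective]; exact hRcop))
      (card_map_of_injective (f := a.toMonoidHom) a.injective).ge
  have hlift : ∀ U : Subgroup (G ⧸ R), Nat.card U = p →
      ∃ U' : Subgroup G, Nat.card U' = p ∧ U'.map π = U := by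
    intro U hU
    have hc : Nat.card ↥(U.comap π) = Nat.card R * p := by
      have h1 := relIndex_comap ⊥ π (U.comap π)
      rw [MonoidHom.comap_bot, hker, map_comap_eq_self_of_surjective hπ, relIndex_bot_left, hU] at h1
      have h2 := relIndex_mul_relIndex ⊥ R (U.comap π) bot_le (hker.symm.le.trans (ker_le_comap π U))
      rw [relIndex_bot_left, relIndex_bot_left, h1] at h2
      exact h2.symm
    obtain ⟨u, hu⟩ := exists_prime_orderOf_dvd_card' (G := ↥(U.comap π)) p (by rw [hc]; exact dvd_mul_left p _)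
    rw [← orderOf_coe] at hu
    refine ⟨zpowers (u : G), by rw [Nat.card_zpowers, hu], ?_⟩
    rw [MonoidHom.map_zpowers]
    refine Solvable.eq_of_le_of_card_le (zpowers_le.2 u.2) ?_
    rw [hU, Nat.card_zpowers]
    have hne : π (u : G) ≠ 1 := fun h => by
      have hm : (u : G) ∈ R := (QuotientGroup.eq_one_iff _).1 h
      have := hRcop.coprime_dvd_left (_root_.orderOf_dvd_natCard (⟨_, hm⟩ : R))
      rw [← Subgroup.orderOf_coe, show orderOf ((⟨_, hm⟩ : R) : G) = p from hu, Nat.coprime_self] at this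
      exact hp.out.one_lt.ne' this
    rw [orderOf_eq_prime (p := p) (by rw [← map_pow, ← hu, pow_orderOf_eq_one, map_one]) hne]
  have htq : Trans p (G ⧸ R) := by
    intro U V hU hV
    obtain ⟨U', hU', rfl⟩ := hlift U hU
    obtain ⟨V', hV', rfl⟩ := hlift V hV
    obtain ⟨a, ha⟩ := ht U' V' hU' hV'
    refine ⟨QuotientGroup.congr R R a (hRa a), ?_⟩
    rw [← ha, Subgroup.map_map, Subgroup.map_map]
    congr 1
  have hmain := not_dvd_index_pCore hp2 hO (PConstrained.isPSolvable_map π hπ hG) htq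
  -- assemble the series
  set W := (Cfsg.pCore p (G ⧸ R)).comap π with hW
  haveI : W.Normal := (Solvable.pCore_normal p).comap π
  haveI : Fact p.Prime := hp
  have hg0 : FGSA.PLen.Good p 0 ((FGSA.PLen.U p G 0).relIndex R) := by
    unfold FGSA.PLen.Good
    rw [if_pos Even.zero, FGSA.PLen.U_zero, relIndex_bot_left]
    exact hRcop
  have hR1 : R ≤ FGSA.PLen.U p G 1 := FGSA.PLen.le_succ hRn hg0
  have hg1 : FGSA.PLen.Good p 1 ((FGSA.PLen.U p G 1).relIndex W) := by
    refine FGSA.PLen.Good.of_dvd ?_ (relIndex_dvd_of_le_left W hR1)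
    unfold FGSA.PLen.Good
    rw [if_neg Nat.not_even_one]
    obtain ⟨k, hk⟩ := IsPGroup.iff_card.1 (Solvable.isPGroup_pCore p (G := G ⧸ R))
    refine ⟨k, ?_⟩
    rw [← hker, relIndex_ker, hW, map_comap_eq_self_of_surjective hπ, hk]
  have hW2 : W ≤ FGSA.PLen.U p G 2 := FGSA.PLen.le_succ inferInstance hg1
  refine top_le_iff.1 (FGSA.PLen.le_succ (j := 2) (inferInstance : (⊤ : Subgroup G).Normal) ?_)
  refine FGSA.PLen.Good.of_dvd ?_ (relIndex_dvd_of_le_left ⊤ hW2)
  unfold FGSA.PLen.Good
  rw [if_pos even_two, relIndex_top_right, hW, index_comap_of_surjective _ hπ]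
  exact ((hp.out.coprime_iff_not_dvd).2 hmain).symm

end CfsgLib.GaschutzYen
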