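import Cfsg.Agent.Solvable.Zipper

/-!
A refinement of Wielandt's subnormality criterion.
-/

set_option autoImplicit false
set_option linter.style.haveILetI false
set_option linter.unusedSectionVars false
set_option linter.deprecated false

namespace CfsgLib.ZipperRefined

open Subgroup Pointwise CfsgLib.Zipper CfsgLib.SZ CfsgLib.Solvable

universe u

theorem criterion_conj_aux (n : ℕ) : ∀ (G : Type u) [Group G] [Finite G], Nat.card G = n →
    ∀ A : Subgroup G,
      (∀ a ∈ A, ∀ g : G, (A.subgroupOf (A ⊔ MulAut.conj (g⁻¹ * a * g) • A)).IsSubnormal) →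
      A.IsSubnormal := by
  induction n using Nat.strong_induction_on with
  | _ n ih =>
    intro G _ _ hn A h
    by_contra hA
    have hprop : ∀ V : Subgroup G, A ≤ V → V ≠ ⊤ → (A.subgroupOf V).IsSubnormal := by
      intro V hAV hV
      refine ih _ (hn ▸ card_lt_of_ne_top hV) V rfl _ fun a ha g => ?_
      set c : V := g⁻¹ * a * g with hc
      set T := A.subgroupOf V ⊔ MulAut.conj c • A.subgroupOf V
      have hTm : T.map V.subtype = A ⊔ MulAut.conj (c : G) • A := by
        rw [Subgroup.map_sup, conj_smul_map, map_subgroupOf_eq_of_le hAV]; rfl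
      let φ : T →* ↥(A ⊔ MulAut.conj (c : G) • A) :=
        (V.subtype.comp T.subtype).codRestrict _ fun t => hTm.le (mem_map_of_mem _ t.2)
      have h' := h (a : G) ha (g : G)
      rw [show (g : G)⁻¹ * a * g = (c : G) by simp [hc]] at h'
      exact h'.comap φ
    obtain ⟨M, hM, hAM, hmax⟩ := zipper A hprop hA
    have hnot : ∀ a ∈ A, ∀ g : G, MulAut.conj (g⁻¹ * a * g) • A ≤ M := by
      intro a ha g
      refine le_sup_right.trans (hmax _ le_sup_left fun htop => hA ?_)
      let φ : G →* ↥(A ⊔ MulAut.conj (g⁻¹ * a * g) • A) :=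
        (MonoidHom.id G).codRestrict _ fun x => htop.ge (mem_top x)
      exact (h a ha g).comap φ
    set N := normalClosure (A : Set G) with hN
    have hNnorm : N ≤ normalizer (M : Set G) := by
      rw [hN, normalClosure, closure_le]
      intro z hz
      obtain ⟨a, ha, haz⟩ := Group.mem_conjugatesOfSet_iff.1 hz
      obtain ⟨c, rfl⟩ := isConj_iff.1 haz
      set b := c * a * c⁻¹ with hb
      have hle : MulAut.conj b • A ≤ M := by
        have h1 := hnot a ha c⁻¹
        rwa [inv_inv] at h1
      have hAle : A ≤ MulAut.conj b⁻¹ • M := fun x hx => by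
        rw [mem_conj_smul, inv_inv]
        exact hle (by rw [mem_conj_smul]; simpa [mul_assoc] using hx)
      have hne : MulAut.conj b⁻¹ • M ≠ ⊤ := fun e => hM.1 (eq_top_iff.2 fun x _ => by
        have hx : b⁻¹ * x * b ∈ MulAut.conj b⁻¹ • M := e ▸ mem_top _
        rw [mem_conj_smul] at hx
        simpa [mul_assoc] using hx)
      have heq : MulAut.conj b⁻¹ • M = M :=
        eq_of_le_of_card_ge (hmax _ hAle hne)
          (le_of_eq (Nat.card_congr (Subgroup.equivSMul (MulAut.conj b⁻¹) M).toEquiv))
      show b ∈ normalizer (M : Set G)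
      rw [mem_normalizer_iff]
      intro m
      conv_lhs => rw [← heq, mem_conj_smul, inv_inv]
    have hNM : N ≤ M := by
      rcases hM.le_iff.1 (le_normalizer : M ≤ normalizer (M : Set G)) with h1 | h1
      · haveI : M.Normal := normalizer_eq_top_iff.1 h1
        exact normalClosure_le_normal hAM
      · exact h1 ▸ hNnorm
    exact hA (IsSubnormal.trans le_normalClosure
      (hprop N le_normalClosure fun he => hM.1 (top_le_iff.1 (he ▸ hNM)))
      (normalClosure_normal.isSubnormal))

theorem criterion_conj {G : Type u} [Group G] [Finite G] (A : Subgroup G)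
    (h : ∀ a ∈ A, ∀ g : G, (A.subgroupOf (A ⊔ MulAut.conj (g⁻¹ * a * g) • A)).IsSubnormal) :
    A.IsSubnormal :=
  criterion_conj_aux _ G rfl A h

end CfsgLib.ZipperRefined
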