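import Cfsg.Agent.Solvable.Schmidt
import Cfsg.Agent.Solvable.CoprimeAct
import Cfsg.Agent.Solvable.CoprimeAbelian
import Cfsg.Agent.Solvable.Glauberman
import Cfsg.Agent.Solvable.PGroupBasic
import Cfsg.Agent.Solvable.Socle
import Cfsg.Agent.FGSA.AbelianSylowLength
import Cfsg.Agent.PLocal.PConstrained
import Cfsg.Prelude.Def_SolvableStructure

/-!
# The Sylow subgroup of a minimal non-nilpotent group as a Sylow subgroup of a p-solvable group

A p-solvable group with such a Sylow subgroup has p-length at most one.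
-/

set_option autoImplicit false
set_option linter.style.haveILetI false
set_option linter.unusedSectionVars false

namespace CfsgLib.SchmidtLength

open Subgroup CfsgLib.Solvable CfsgLib.SZ CfsgLib.Socle
open scoped commutatorElement Pointwise

universe u v

/-- What is used about the nonabelian normal Sylow subgroup of a minimal non-nilpotent group. -/
structure SchmidtType (p : ℕ) (S : Type u) [Group S] : Prop where
  comm_central : ∀ x y : S, ⁅x, y⁆ ∈ center S
  pow_central : ∀ x : S, x ^ p ∈ center S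
  surj : ∀ x : S, x ∉ center S → ∀ u w : S, ∃ y, ⁅x, y⁆ = ⁅u, w⁆
  center_le : ∀ N : Subgroup S, (∀ x y : S, ⁅x, y⁆ ∈ N) → (∀ x : S, x ^ p ∈ N) → center S ≤ N
  small : (center S).index = p ^ 2 → p ≠ 3 ∧ (p = 2 → ∃ σ : S ≃* S,
    (∀ z ∈ center S, σ z = z) ∧ ∀ x, x ∉ center S → σ x * x⁻¹ ∉ center S)

theorem SchmidtType.of_equiv {p : ℕ} {S : Type u} [Group S] {T : Type v} [Group T] (e : S ≃* T)
    (h : SchmidtType p S) : SchmidtType p T := by
  have hc : ∀ x : T, x ∈ center T ↔ e.symm x ∈ center S := fun x => by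
    simp only [mem_center_iff]
    constructor
    · intro hx g; apply e.injective; simpa using hx (e g)
    · intro hx g; apply e.symm.injective; simpa using hx (e.symm g)
  refine ⟨fun x y => ?_, fun x => ?_, fun x hx u w => ?_, fun N h1 h2 => ?_, fun hi => ?_⟩
  · rw [hc, map_commutatorElement]; exact h.comm_central _ _
  · rw [hc, map_pow]; exact h.pow_central _
  · obtain ⟨y, hy⟩ := h.surj (e.symm x) (fun hm => hx ((hc x).2 hm)) (e.symm u) (e.symm w)
    exact ⟨e y, by simpa [map_commutatorElement] using congrArg e hy⟩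
  · intro x hx
    have := h.center_le (N.comap e.toMonoidHom)
      (fun a b => by simpa [mem_comap, map_commutatorElement] using h1 (e a) (e b))
      (fun a => by simpa [mem_comap] using h2 (e a)) ((hc x).1 hx)
    simpa using this
  · have hidx : (center S).index = p ^ 2 := by
      have : (center T).comap e.toMonoidHom = center S := by
        ext x
        simp [hc]
      rw [← this, index_comap_of_surjective _ e.surjective, hi]
    obtain ⟨h3, hσ⟩ := h.small hidx
    refine ⟨h3, fun h2 => ?_⟩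
    obtain ⟨σ, hσ1, hσ2⟩ := hσ h2
    refine ⟨(e.symm.trans σ).trans e, fun z hz => ?_, fun x hx hm => ?_⟩
    · show e (σ (e.symm z)) = z
      rw [hσ1 _ ((hc z).1 hz), e.apply_symm_apply]
    · refine hσ2 (e.symm x) (fun h' => hx ((hc x).2 h')) ?_
      simpa using (hc _).1 hm

/-- Commutation with a fixed element, when commutators are central. -/
def comHom {S : Type u} [Group S] (x : S) (h : ∀ b c : S, ⁅b, c⁆ ∈ center S) : S →* S :=
  MonoidHom.mk' (fun y => ⁅x, y⁆) fun y z => by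
    have e : ⁅x, y * z⁆ = ⁅x, y⁆ * (y * ⁅x, z⁆ * y⁻¹) := by
      simp only [commutatorElement_def]; group
    rw [e, mem_center_iff.1 (h x z) y, mul_inv_cancel_right]

/-! ### The normal Sylow subgroup of a minimal non-nilpotent group -/

theorem schmidtType_of_minimal {X : Type u} [Group X] [Finite X] {p : ℕ} [hp : Fact p.Prime]
    (hX : Cfsg.IsMinimalNonNilpotent X) (P : Sylow p X) (hPn : (P : Subgroup X).Normal)
    (hP1 : (P : Subgroup X) ≠ ⊥) :
    IsMulCommutative (P : Subgroup X) ∨ SchmidtType p (P : Subgroup X) := by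
  classical
  obtain ⟨r, s, hr, hs, hrs, R, Qn, hRc, hQn, htop, hRn⟩ := CfsgLib.Schmidt.structure_thm hX
  haveI := Fact.mk hr
  haveI := Fact.mk hs
  have hsp : s = p := by
    by_contra hne
    have hpr : p ≠ r := by
      rintro rfl
      haveI : Unique (Sylow p X) := Sylow.unique_of_normal P hPn
      exact hRn (by rwa [Subsingleton.elim R P])
    have hdvd : Nat.card X ∣ Nat.card R * Nat.card Qn := by
      haveI := hQn
      refine ⟨1, ?_⟩
      rw [mul_one]
      have hd : (R : Subgroup X) ⊓ Qn = ⊥ := inf_eq_bot_of_coprime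
        (IsPGroup.coprime_card_of_ne r s hrs _ _ R.2 Qn.2)
      have hn : (R : Subgroup X) ≤ normalizer ((Qn : Subgroup X) : Set X) := by
        rw [normalizer_eq_top]; exact le_top
      have := card_sup_of_disjoint hn hd
      rw [htop, card_top] at this
      exact this.symm
    have hpX : p ∣ Nat.card X :=
      ((P.2.card_eq_or_dvd).resolve_left fun e => hP1 (eq_bot_of_card_eq _ e)).trans
        (card_subgroup_dvd_card _)
    obtain ⟨i, hi⟩ := IsPGroup.iff_card.1 R.2
    obtain ⟨j, hj⟩ := IsPGroup.iff_card.1 Qn.2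
    have h2 := hpX.trans hdvd
    rw [hi, hj] at h2
    rcases (Nat.Prime.dvd_mul hp.out).1 h2 with h3 | h3
    · exact hpr ((Nat.prime_dvd_prime_iff_eq hp.out hr).1 (hp.out.dvd_of_dvd_pow h3))
    · exact hne ((Nat.prime_dvd_prime_iff_eq hp.out hs).1 (hp.out.dvd_of_dvd_pow h3)).symm
  subst hsp
  haveI : Unique (Sylow s X) := Sylow.unique_of_normal P hPn
  obtain rfl : Qn = P := Subsingleton.elim _ _
  haveI := hQn
  obtain ⟨⟨a, haR⟩, ha⟩ := hRc.exists_generator
  have hgen : (zpowers a) ⊔ (Qn : Subgroup X) = ⊤ := by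
    refine top_unique (htop.ge.trans (sup_le (le_sup_of_le_left fun x hx => ?_) le_sup_right))
    obtain ⟨n, hn⟩ := mem_zpowers_iff.1 (ha ⟨x, hx⟩)
    exact mem_zpowers_iff.2 ⟨n, by simpa using congrArg Subtype.val hn⟩
  set S := (Qn : Subgroup X)
  have hRS : (R : Subgroup X) ⊓ S = ⊥ := inf_eq_bot_of_coprime
    (IsPGroup.coprime_card_of_ne r s hrs _ _ R.2 Qn.2)
  -- conjugation by the generator of the other Sylow subgroup
  let σ : S ≃* S := MulAut.conjNormal a
  have hσ : ∀ x : S, (σ x : X) = a * x * a⁻¹ := fun x => MulAut.conjNormal_apply _ _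
  -- proper invariant subgroups are centralised
  have hinv : ∀ M : Subgroup S, M ≠ ⊤ → (∀ m ∈ M, σ m ∈ M) → ∀ m ∈ M, σ m = m := by
    intro M hM hMσ m hm
    set M' := M.map S.subtype with hM'
    have hM'S : M' ≤ S := map_subtype_le _
    have haM : a ∈ normalizer (M' : Set X) := by
      rw [← conj_smul_eq_iff_mem_normalizer]
      refine eq_of_le_of_card_le (fun y hy => ?_) (card_conj_smul a M').ge
      obtain ⟨z, ⟨w, hw, rfl⟩, rfl⟩ := hy
      exact ⟨σ w, hMσ w hw, by simp [hσ]⟩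
    set L := zpowers a ⊔ M'
    have hLS : L ⊓ S ≤ M' := by
      rintro x ⟨hxL, hxS⟩
      obtain ⟨y, hy, z, hz, rfl⟩ :=
        (CfsgLib.Solvable.mem_sup_of_le_normalizer (zpowers_le.2 haM)).1 hxL
      have : y ∈ (R : Subgroup X) ⊓ S := mem_inf.2 ⟨zpowers_le.2 haR hy, by
        have hzS : z ∈ S := hM'S hz
        simpa using S.mul_mem hxS (S.inv_mem hzS)⟩
      rw [hRS, mem_bot] at this
      rwa [this, one_mul]
    have hL : L ≠ ⊤ := fun h => hM (top_unique fun x _ => by
      obtain ⟨w, hw, e⟩ := hLS (mem_inf.2 ⟨h ▸ mem_top (x : X), x.2⟩)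
      rwa [← Subtype.ext e])
    have hc := CfsgLib.Schmidt.commute_of_nilpotent hrs (R.2.to_le (zpowers_le.2 haR))
      (Qn.2.to_le hM'S) (H := L) le_sup_left le_sup_right (hX.2 L hL) (mem_zpowers a)
    refine Subtype.ext ?_
    rw [hσ, ← mem_centralizer_iff.1 hc (m : X) ⟨m, hm, rfl⟩, mul_inv_cancel_right]
  have hone : ¬ ∀ x : S, σ x = x := by
    intro h
    refine hX.1 ?_
    have hRS' : (R : Subgroup X).Normal := by
      refine normalizer_eq_top_iff.1 (top_unique (hgen.ge.trans (sup_le ?_ ?_)))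
      · exact (zpowers_le.2 haR).trans le_normalizer
      · refine CfsgLib.Socle.le_normalizer_of_le_centralizer ?_
        intro x hx
        refine mem_centralizer_iff.2 fun y hy => ?_
        obtain ⟨n, hn⟩ := mem_zpowers_iff.1 (ha ⟨y, hy⟩)
        have hcomm : Commute a x := by
          have := congrArg Subtype.val (h ⟨x, hx⟩)
          rw [hσ] at this
          exact mul_inv_eq_iff_eq_mul.1 this
        have e : a ^ n = y := by simpa using congrArg Subtype.val hn
        rw [← e]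
        exact (hcomm.zpow_left n).eq
    exact absurd hRS' hRn
  -- the commutators with the generator generate
  have hfull : ∀ M : Subgroup S, (∀ m ∈ M, σ m ∈ M) → (∀ x, x⁻¹ * σ x ∈ M) → M = ⊤ := by
    intro M hMσ hM
    by_contra hne
    refine hone fun x => ?_
    have hfix := hinv M hne hMσ _ (hM x)
    have hpow : ∀ n : ℕ, a ^ n * (x : X) * (a ^ n)⁻¹ = x * ((x⁻¹ * σ x : S) : X) ^ n := by
      intro n
      induction n with
      | zero => simp
      | succ n ih =>
        have e1 : a ^ (n + 1) * (x : X) * (a ^ (n + 1))⁻¹ =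
            a * (a ^ n * (x : X) * (a ^ n)⁻¹) * a⁻¹ := by rw [pow_succ']; group
        have e2 : a * ((x⁻¹ * σ x : S) : X) ^ n * a⁻¹ = ((x⁻¹ * σ x : S) : X) ^ n := by
          rw [← conj_pow, ← hσ, hfix]
        have e3 : a * (x : X) * a⁻¹ = x * ((x⁻¹ * σ x : S) : X) := by
          rw [Subgroup.coe_mul, hσ, Subgroup.coe_inv, mul_inv_cancel_left]
        rw [e1, ih, pow_succ', ← mul_assoc (x : X), ← e3]
        conv_rhs => rw [← e2]
        group
    have h1 : ((x⁻¹ * σ x : S) : X) ^ orderOf a = 1 := by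
      have := hpow (orderOf a)
      rw [pow_orderOf_eq_one, one_mul, inv_one, mul_one] at this
      exact left_eq_mul.1 this
    obtain ⟨i, hi⟩ := IsPGroup.iff_orderOf.1 Qn.2 (x⁻¹ * σ x)
    obtain ⟨j, hj⟩ := IsPGroup.iff_orderOf.1 R.2 ⟨a, haR⟩
    rw [orderOf_mk] at hj
    rw [← orderOf_coe] at hi
    have hd := orderOf_dvd_of_pow_eq_one h1
    rw [hi, hj] at hd
    have h2 : s ^ i = 1 := Nat.eq_one_of_dvd_coprimes
      (Nat.Coprime.pow i j ((Nat.coprime_primes hs hr).2 hrs.symm)) dvd_rfl hd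
    have h3 : x⁻¹ * σ x = 1 := by
      refine Subtype.ext ?_
      rw [OneMemClass.coe_one, ← orderOf_eq_one_iff]
      exact hi.trans h2
    exact (inv_mul_eq_one.1 h3).symm
  rcases em (IsMulCommutative S) with hab | hab
  · exact Or.inl hab
  right
  -- the Frattini subgroup is central and centralised
  obtain ⟨hcomF, hpowF⟩ := CfsgLib.PGroupBasic.commutator_pow_le_frattini (G := S) Qn.2
  haveI : Nontrivial S := (nontrivial_iff_ne_bot S).2 hP1
  set Φ := frattini S
  have hΦtop : Φ ≠ ⊤ := by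
    intro h
    obtain ⟨M, hM, -⟩ := (eq_top_or_exists_le_coatom (⊥ : Subgroup S)).resolve_left bot_ne_top
    exact hM.1 (top_unique (h.ge.trans (frattini_le_coatom hM)))
  have hΦσ : ∀ m ∈ Φ, σ m ∈ Φ := fun m hm =>
    (characteristic_iff_comap_eq.1 (inferInstance : Φ.Characteristic) σ).ge hm
  have hΦfix := hinv Φ hΦtop hΦσ
  have hΦZ : Φ ≤ center S := by
    intro z hz
    let C : Subgroup S := centralizer ((Φ : Subgroup S) : Set S)
    have hC : C = ⊤ := by
      refine hfull C (fun m hm => mem_centralizer_iff.2 fun y hy => ?_) fun x =>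
        mem_centralizer_iff.2 fun y hy => ?_
      · have h1 := congrArg σ (mem_centralizer_iff.1 hm y hy)
        rwa [map_mul, map_mul, hΦfix y hy] at h1
      · haveI : Φ.Normal := inferInstance
        have h1 := hΦfix _ (‹Φ.Normal›.conj_mem y hy x)
        rw [map_mul, map_mul, hΦfix y hy, map_inv, mul_inv_eq_iff_eq_mul] at h1
        calc y * (x⁻¹ * σ x) = x⁻¹ * (x * y * x⁻¹ * σ x) := by group
          _ = x⁻¹ * σ x * y := by rw [← h1, mul_assoc]
    refine mem_center_iff.2 fun g => ?_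
    exact ((mem_centralizer_iff.1 (hC.ge (mem_top g) : g ∈ C)) z hz).symm
  have hZtop : center S ≠ ⊤ := fun h => hab ⟨⟨fun x y => (mem_center_iff.1 (h.ge (mem_top y)) x)⟩⟩
  have hZσ : ∀ m ∈ center S, σ m ∈ center S := fun m hm =>
    (characteristic_iff_comap_eq.1 (inferInstance : (center S).Characteristic) σ).ge hm
  have hZfix := hinv _ hZtop hZσ
  -- fixed points lie in the Frattini subgroup
  have hfixΦ : ∀ x : S, x⁻¹ * σ x ∈ Φ → x ∈ Φ := by
    let π := QuotientGroup.mk' Φ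
    have hc : ∀ b c : S ⧸ Φ, b * c = c * b := fun b c => by
      obtain ⟨b, rfl⟩ := QuotientGroup.mk'_surjective Φ b
      obtain ⟨c, rfl⟩ := QuotientGroup.mk'_surjective Φ c
      rw [← mul_inv_eq_one, ← map_mul, ← map_mul, ← map_inv, ← map_mul]
      refine (QuotientGroup.eq_one_iff _).2 (hcomF ?_)
      rw [_root_.commutator_def, mul_inv_rev, ← mul_assoc, ← commutatorElement_def]
      exact commutator_mem_commutator (mem_top b) (mem_top c)
    let δ : S →* S ⧸ Φ :=
      { toFun := fun x => π (x⁻¹ * σ x)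
        map_one' := by simp
        map_mul' := fun x y => by
          simp only [map_mul, map_inv, mul_inv_rev]
          rw [hc (π y)⁻¹ (π x)⁻¹, mul_assoc, mul_assoc]
          congr 1
          rw [← mul_assoc, hc (π y)⁻¹ (π (σ x)), mul_assoc] }
    have hδ : Function.Surjective δ := by
      intro b
      have htop' : δ.range.comap π = ⊤ := by
        refine hfull _ (fun m hm => ?_) fun x => ⟨x, rfl⟩
        obtain ⟨y, hy⟩ := hm
        refine ⟨σ y, ?_⟩
        change π ((σ y)⁻¹ * σ (σ y)) = π (σ m)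
        change π (y⁻¹ * σ y) = π m at hy
        rw [← map_inv, ← map_mul]
        have e : m⁻¹ * (y⁻¹ * σ y) ∈ Φ := QuotientGroup.eq.1 hy.symm
        refine (QuotientGroup.eq.2 ?_).symm
        have := hΦσ _ e
        rwa [map_mul, map_inv] at this
      obtain ⟨b, rfl⟩ := QuotientGroup.mk'_surjective Φ b
      exact htop'.ge (mem_top b)
    have hbij : Function.Bijective (QuotientGroup.lift Φ δ fun z hz => by
        show π (z⁻¹ * σ z) = 1
        rw [hΦfix z hz, inv_mul_cancel, map_one]) :=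
      Finite.surjective_iff_bijective.1 fun b => by
        obtain ⟨x, hx⟩ := hδ b
        exact ⟨QuotientGroup.mk' Φ x, hx⟩
    intro x hx
    exact (QuotientGroup.eq_one_iff x).1 (hbij.1 (a₂ := 1)
      (((QuotientGroup.eq_one_iff _).2 hx : δ x = 1).trans (map_one _).symm))
  have hZΦ : center S ≤ Φ := fun z hz => hfixΦ z (by rw [hZfix z hz, inv_mul_cancel]; exact one_mem _)
  refine ⟨fun x y => hΦZ (hcomF ?_), fun x => hΦZ (hpowF x), fun x hx u w => ?_, fun N h1 h2 => ?_,
    fun hi => ?_⟩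
  · rw [_root_.commutator_def]; exact commutator_mem_commutator (mem_top x) (mem_top y)
  · have hcen : ∀ b c : S, ⁅b, c⁆ ∈ center S := fun b c => hΦZ (hcomF (by
      rw [_root_.commutator_def]; exact commutator_mem_commutator (mem_top b) (mem_top c)))
    let K : Subgroup S := (comHom x hcen).range
    let M : Subgroup S :=
      { carrier := {b | ∀ c, ⁅b, c⁆ ∈ K}
        one_mem' := fun c => by rw [commutatorElement_one_left]; exact one_mem K
        mul_mem' := fun {b b'} hb hb' c => by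
          have e : ⁅b * b', c⁆ = b * ⁅b', c⁆ * b⁻¹ * ⁅b, c⁆ := by
            simp only [commutatorElement_def]; group
          rw [e, mem_center_iff.1 (hcen b' c) b, mul_inv_cancel_right]
          exact mul_mem (hb' c) (hb c)
        inv_mem' := fun {b} hb c => by
          have e : ⁅b⁻¹, c⁆ = b⁻¹ * ⁅b, c⁆⁻¹ * b := by
            simp only [commutatorElement_def]; group
          rw [e, mem_center_iff.1 (inv_mem (hcen b c)) b⁻¹, inv_mul_cancel_right]
          exact inv_mem (hb c) }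
    have hKfix : ∀ k ∈ K, σ k = k := by
      rintro _ ⟨c, rfl⟩
      exact hZfix _ (hcen x c)
    have hMtop : M = ⊤ := by
      by_contra hne
      have hfix := hinv M hne (fun m hm c => by
        have := hm (σ.symm c)
        rw [← hKfix _ this, map_commutatorElement, σ.apply_symm_apply] at this
        exact this) x (fun c => ⟨c, rfl⟩)
      exact hx (hΦZ (hfixΦ x (by rw [hfix, inv_mul_cancel]; exact one_mem _)))
    obtain ⟨y, hy⟩ := (hMtop.ge (mem_top u) : u ∈ M) w
    exact ⟨y, hy⟩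
  · refine hZΦ.trans ?_
    have hN : commutator S ≤ N := by
      rw [_root_.commutator_def, commutator_le]; exact fun b _ c _ => h1 b c
    haveI : N.Normal := Subgroup.Normal.of_commutator_le S hN
    exact CfsgLib.PGroupBasic.frattini_le_of_elementary N hN h2
  · have hidx : Nat.card (S ⧸ center S) = s ^ 2 := by rw [← index_eq_card]; exact hi
    have hfree : ∀ x, x ∉ center S → σ x * x⁻¹ ∉ center S := fun x hx hm => hx (hΦZ (hfixΦ x (by
      have h1 := hZΦ hm
      have := (inferInstance : Φ.Normal).conj_mem _ h1 x⁻¹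
      simpa [mul_assoc] using this)))
    refine ⟨?_, fun _ => ⟨σ, hZfix, hfree⟩⟩
    rintro rfl
    -- the generator acts with prime order on the centre quotient
    have hσr : σ ^ r = 1 := by
      have hL : zpowers (a ^ r) ⊔ S ≠ ⊤ := by
        intro h
        obtain ⟨y, hy, z, hz, e⟩ := mem_sup_of_normal_right.1 (h.ge (mem_top a))
        obtain ⟨k, rfl⟩ := mem_zpowers_iff.1 hy
        have hmem : ((a ^ r) ^ k)⁻¹ * a ∈ (R : Subgroup X) ⊓ S := mem_inf.2
          ⟨mul_mem (inv_mem (zpow_mem (pow_mem haR r) k)) haR, by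
            rw [inv_mul_eq_of_eq_mul e.symm]; exact hz⟩
        rw [hRS, mem_bot, inv_mul_eq_one] at hmem
        obtain ⟨j, hj⟩ := IsPGroup.iff_orderOf.1 R.2 ⟨a, haR⟩
        rw [orderOf_mk] at hj
        have h0 : a ^ ((r : ℤ) * k - 1) = 1 := by
          rw [zpow_sub, zpow_mul, zpow_natCast, hmem, zpow_one, mul_inv_cancel]
        have hd := orderOf_dvd_iff_zpow_eq_one.2 h0
        rw [hj] at hd
        rcases j with - | j
        · rw [pow_zero, orderOf_eq_one_iff] at hj
          subst hj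
          exact hone fun x => Subtype.ext (by simp [hσ])
        · have h3 : (r : ℤ) ∣ (r : ℤ) * k - 1 :=
            (Int.natCast_dvd_natCast.2 (dvd_pow_self r j.succ_ne_zero)).trans hd
          have h4 : (r : ℤ) ∣ 1 := by simpa using dvd_sub (dvd_mul_right (r : ℤ) k) h3
          exact hr.ne_one (by exact_mod_cast Int.eq_one_of_dvd_one (by positivity) h4)
      have hc := CfsgLib.Schmidt.commute_of_nilpotent hrs (R.2.to_le (zpowers_le.2 (pow_mem haR r)))
        Qn.2 (H := zpowers (a ^ r) ⊔ S) le_sup_left le_sup_right (hX.2 _ hL) (mem_zpowers _)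
      rw [← map_pow]
      refine MulEquiv.ext fun x => Subtype.ext ?_
      rw [MulAut.conjNormal_apply, ← mem_centralizer_iff.1 hc (x : X) x.2, mul_inv_cancel_right]
      rfl
    have hr2 : r = 2 := by
      let τ : MulAut (S ⧸ center S) := QuotientGroup.congr (center S) (center S) σ
        (le_antisymm (map_le_iff_le_comap.2 hZσ) fun z hz =>
          ⟨z, hz, hZfix z hz⟩)
      have hτ : ∀ (n : ℕ) (x : S), (τ ^ n) (x : S ⧸ center S) = ((σ ^ n) x : S) := by
        intro n x
        induction n with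
        | zero => rfl
        | succ n ih => rw [pow_succ', pow_succ', MulAut.mul_apply, MulAut.mul_apply, ih]; rfl
      have hτr : τ ^ r = 1 := MulEquiv.ext fun q => by
        induction q using QuotientGroup.induction_on with | H x =>
        rw [hτ, hσr]; rfl
      have hpg : IsPGroup r (zpowers τ) := by
        rintro ⟨g, hg⟩
        obtain ⟨k, rfl⟩ := mem_zpowers_iff.1 hg
        refine ⟨1, Subtype.ext ?_⟩
        simp only [pow_one, SubgroupClass.coe_pow, OneMemClass.coe_one]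
        rw [← zpow_natCast, ← zpow_mul, mul_comm, zpow_mul, zpow_natCast, hτr, one_zpow]
      letI : MulAction (zpowers τ) (S ⧸ center S) :=
        MulAction.compHom _ (zpowers τ).subtype
      have hmod := hpg.card_modEq_card_fixedPoints (S ⧸ center S)
      have hfix1 : Nat.card (MulAction.fixedPoints (zpowers τ) (S ⧸ center S)) = 1 := by
        rw [Nat.card_eq_one_iff_unique]
        have key : ∀ q ∈ MulAction.fixedPoints (zpowers τ) (S ⧸ center S), q = 1 := by
          intro q hq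
          induction q using QuotientGroup.induction_on with | H x =>
          have h1 : τ (x : S ⧸ center S) = x := hq ⟨τ, mem_zpowers τ⟩
          refine (QuotientGroup.eq_one_iff x).2 (not_not.1 fun hx => hfree x hx ?_)
          have h2 : ((σ x : S) : S ⧸ center S) = x := h1
          rw [← QuotientGroup.eq_one_iff, QuotientGroup.mk_mul, QuotientGroup.mk_inv, h2,
            mul_inv_cancel]
        exact ⟨⟨fun b c => Subtype.ext ((key b b.2).trans (key c c.2).symm)⟩,
          ⟨⟨1, fun g => map_one (g : MulAut (S ⧸ center S))⟩⟩⟩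
      rw [hfix1, hidx] at hmod
      have h8 : r ∣ 8 := (Nat.modEq_iff_dvd' (by norm_num)).1 hmod.symm
      exact (Nat.prime_dvd_prime_iff_eq hr Nat.prime_two).1
        (hr.dvd_of_dvd_pow (show r ∣ 2 ^ 3 from h8))
    subst hr2
    have hinvol : ∀ x : S, σ (σ x) = x := fun x => by
      have := DFunLike.congr_fun hσr x
      rwa [pow_two] at this
    obtain ⟨x, -, hx⟩ := SetLike.exists_of_lt (lt_top_iff_ne_top.2 hZtop)
    have h1 : σ (x * σ x) * (x * σ x)⁻¹ ∈ center S := by
      rw [map_mul, hinvol]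
      have : σ x * x * (x * σ x)⁻¹ = ⁅σ x, x⁆ := by simp only [commutatorElement_def]; group
      rw [this]
      exact hΦZ (hcomF (by
        rw [_root_.commutator_def]; exact commutator_mem_commutator (mem_top _) (mem_top _)))
    have h2 : x * σ x ∈ center S := by
      by_contra h
      exact hfree _ h h1
    let M : Subgroup S := zpowers x ⊔ center S
    have hMne : M ≠ ⊤ := fun h => hab ⟨⟨fun b c => by
      obtain ⟨b1, hb1, b2, hb2, rfl⟩ := mem_sup_of_normal_right.1 (h.ge (mem_top b))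
      obtain ⟨c1, hc1, c2, hc2, rfl⟩ := mem_sup_of_normal_right.1 (h.ge (mem_top c))
      obtain ⟨i, rfl⟩ := mem_zpowers_iff.1 hb1
      obtain ⟨j, rfl⟩ := mem_zpowers_iff.1 hc1
      have z1 := mem_center_iff.1 hb2
      have z2 := mem_center_iff.1 hc2
      calc x ^ i * b2 * (x ^ j * c2) = x ^ i * (b2 * x ^ j) * c2 := by group
        _ = x ^ i * x ^ j * (b2 * c2) := by rw [← z1 (x ^ j)]; group
        _ = x ^ j * x ^ i * (c2 * b2) := by rw [zpow_mul_comm, z2 b2]
        _ = x ^ j * (x ^ i * c2) * b2 := by group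
        _ = x ^ j * c2 * (x ^ i * b2) := by rw [z2 (x ^ i)]; group⟩⟩
    have hMσ : ∀ m ∈ M, σ m ∈ M := by
      show M ≤ M.comap σ.toMonoidHom
      refine sup_le (zpowers_le.2 ?_) fun z hz => mem_sup_right (hZσ z hz)
      show σ x ∈ M
      have := mul_mem (mem_sup_left (inv_mem (mem_zpowers x)) : x⁻¹ ∈ M) (mem_sup_right h2)
      rwa [inv_mul_cancel_left] at this
    have h4 := hinv M hMne hMσ x (mem_sup_left (mem_zpowers x))
    exact hx (hΦZ (hfixΦ x (by rw [h4, inv_mul_cancel]; exact one_mem _)))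

/-! ### Two transvections -/

/-- An element of a finite group of exponent `p` in a group generated by opposite transvections
conjugates the first one to its fourth power. -/
theorem exists_conj_eq_pow_four {W : Type u} [CommGroup W] {e1 e2 : W}
    (hgen : Subgroup.closure ({e1, e2} : Set W) = ⊤) {p : ℕ} (hp : Odd p)
    (hexp : ∀ w : W, w ^ p = 1) (U L : MulAut W) (hu1 : U e1 = e1) (hu2 : U e2 = e2 * e1)
    (hl1 : L e1 = e1 * e2) (hl2 : L e2 = e2) :
    ∃ d ∈ Subgroup.closure ({U, L} : Set (MulAut W)), d * U * d⁻¹ = U ^ 4 := by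
  obtain ⟨k, hk⟩ := hp
  set i := k + 1
  have h2i : ∀ w : W, w ^ (2 * i) = w := fun w => by
    rw [show 2 * i = p + 1 by omega, pow_succ, hexp, one_mul]
  have hU : ∀ n : ℕ, (U ^ n) e1 = e1 ∧ (U ^ n) e2 = e2 * e1 ^ n := by
    intro n
    induction n with
    | zero => exact ⟨rfl, by simp⟩
    | succ n ih =>
      refine ⟨?_, ?_⟩
      · rw [pow_succ', MulAut.mul_apply, ih.1, hu1]
      · rw [pow_succ', MulAut.mul_apply, ih.2, map_mul, map_pow, hu1, hu2, mul_assoc, ← pow_succ']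
  have hU' : U⁻¹ e1 = e1 ∧ U⁻¹ e2 = e2 * e1⁻¹ := by
    refine ⟨U.injective ?_, U.injective ?_⟩
    · show (U * U⁻¹) e1 = U e1
      rw [mul_inv_cancel, hu1]; rfl
    · show (U * U⁻¹) e2 = U (e2 * e1⁻¹)
      rw [mul_inv_cancel, map_mul, map_inv, hu1, hu2, mul_inv_cancel_right]; rfl
  have hL' : L⁻¹ e1 = e1 * e2⁻¹ ∧ L⁻¹ e2 = e2 := by
    refine ⟨L.injective ?_, L.injective ?_⟩
    · show (L * L⁻¹) e1 = L (e1 * e2⁻¹)
      rw [mul_inv_cancel, map_mul, map_inv, hl1, hl2, mul_inv_cancel_right]; rfl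
    · show (L * L⁻¹) e2 = L e2
      rw [mul_inv_cancel, hl2]; rfl
  have hLi : ∀ n : ℕ, (L⁻¹ ^ n) e1 = e1 * (e2 ^ n)⁻¹ ∧ (L⁻¹ ^ n) e2 = e2 := by
    intro n
    induction n with
    | zero => exact ⟨by simp, rfl⟩
    | succ n ih =>
      refine ⟨?_, ?_⟩
      · rw [pow_succ', MulAut.mul_apply, ih.1, map_mul, map_inv, map_pow, hL'.1, hL'.2,
          pow_succ', mul_inv_rev, mul_comm (e2 ^ n)⁻¹, mul_assoc]
      · rw [pow_succ', MulAut.mul_apply, ih.2, hL'.2]
  set w2 := U ^ 2 * L⁻¹ ^ i * U ^ 2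
  set w1 := U⁻¹ * L * U⁻¹
  have hU2 := hU 2
  have a1 : w2 e1 = (e2 ^ i)⁻¹ := by
    simp only [w2, MulAut.mul_apply]
    rw [hU2.1, (hLi i).1, map_mul, map_inv, map_pow, hU2.1, hU2.2, mul_pow, ← pow_mul, h2i,
      mul_inv, mul_left_comm, mul_inv_cancel, mul_one]
  have a2 : w2 e2 = e1 ^ 2 := by
    simp only [w2, MulAut.mul_apply]
    rw [hU2.2, map_mul, map_pow, (hLi i).1, (hLi i).2, mul_pow, inv_pow, ← pow_mul, mul_comm i 2,
      h2i, mul_left_comm, mul_inv_cancel, mul_one, map_pow, hU2.1]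
  have b1 : w1 e1 = e2 := by
    simp only [w1, MulAut.mul_apply]
    rw [hU'.1, hl1, map_mul, hU'.1, hU'.2, mul_left_comm, mul_inv_cancel, mul_one]
  have b2 : w1 e2 = e1⁻¹ := by
    simp only [w1, MulAut.mul_apply]
    rw [hU'.2, map_mul, map_inv, hl1, hl2, mul_inv, mul_left_comm, mul_inv_cancel, mul_one,
      map_inv, hU'.1]
  have d1 : (w2 * w1) e1 = e1 ^ 2 := by rw [MulAut.mul_apply, b1, a2]
  have d2 : (w2 * w1) e2 = e2 ^ i := by rw [MulAut.mul_apply, b2, map_inv, a1, inv_inv]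
  refine ⟨w2 * w1, ?_, ?_⟩
  · have mU : U ∈ Subgroup.closure ({U, L} : Set (MulAut W)) := subset_closure (Or.inl rfl)
    have mL : L ∈ Subgroup.closure ({U, L} : Set (MulAut W)) := subset_closure (Or.inr rfl)
    exact mul_mem (mul_mem (mul_mem (pow_mem mU 2) (pow_mem (inv_mem mL) i)) (pow_mem mU 2))
      (mul_mem (mul_mem (inv_mem mU) mL) (inv_mem mU))
  · rw [mul_inv_eq_iff_eq_mul]
    set d := w2 * w1
    refine MulEquiv.toMonoidHom_injective (MonoidHom.eq_of_eqOn_dense hgen ?_)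
    rintro x (h | h)
    · show d (U x) = (U ^ 4) (d x)
      rw [h, hu1, d1, map_pow, (hU 4).1]
    · show d (U x) = (U ^ 4) (d x)
      rw [h, hu2, map_mul, d1, d2, map_pow, (hU 4).2, mul_pow,
        ← pow_mul]
      congr 1
      rw [show 4 * i = 2 * i + 2 * i by ring, pow_add, h2i, pow_two]

/-! ### The main argument -/

/-- The stabiliser of a series: a coprime element centralising a factor. -/
theorem comm_mem_of_stable {Y : Type u} [Group Y] {p : ℕ} [Fact p.Prime] {V M : Subgroup Y}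
    [M.Normal] (hV : IsPGroup p V) {k : Y} (hk : (orderOf k).Coprime p) {v : Y}
    (hv : ⁅k, v⁆ ∈ V) (h2 : ⁅k, ⁅k, v⁆⁆ ∈ M) : ⁅k, v⁆ ∈ M := by
  set t := ⁅k, v⁆ with ht
  let π := QuotientGroup.mk' M
  have hc : Commute (π k) (π t) := by
    rw [← commutatorElement_eq_one_iff_commute, ← map_commutatorElement]
    exact (QuotientGroup.eq_one_iff _).2 h2
  have hstep : π k * π v = π t * π v * π k := by
    rw [ht, map_commutatorElement, commutatorElement_def]; group
  have hn : ∀ n : ℕ, π k ^ n * π v = π t ^ n * π v * π k ^ n := by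
    intro n
    induction n with
    | zero => simp
    | succ n ih =>
      rw [pow_succ' (π k), mul_assoc, ih, ← mul_assoc, ← mul_assoc, (hc.pow_right n).eq,
        mul_assoc (π t ^ n), hstep, pow_succ (π t)]
      simp only [mul_assoc, ← pow_succ']
  have h1 := hn (orderOf k)
  rw [← map_pow, pow_orderOf_eq_one, map_one, one_mul, mul_one] at h1
  have h3 : π t ^ orderOf k = 1 := right_eq_mul.1 h1
  obtain ⟨j, hj⟩ := hV ⟨t, hv⟩
  have h4 : π t ^ p ^ j = 1 := by
    rw [← map_pow, show t ^ p ^ j = 1 by simpa using congrArg Subtype.val hj, map_one]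
  have h5 : π t ^ Nat.gcd (orderOf k) (p ^ j) = 1 := pow_gcd_eq_one.2 ⟨h3, h4⟩
  rw [(hk.pow_right j), pow_one] at h5
  exact (QuotientGroup.eq_one_iff _).1 h5

/-- Commutators with an element stabilising a factor stabilise it. -/
theorem stab_comm {Y : Type u} [Group Y] {V M : Subgroup Y} {g h : Y}
    (hg : ∀ v ∈ V, ⁅g, v⁆ ∈ M) (hgM : g ∈ normalizer (M : Set Y))
    (hhM : h ∈ normalizer (M : Set Y)) (hhV : ∀ v ∈ V, h⁻¹ * v * h ∈ V) {v : Y} (hv : v ∈ V) :
    ⁅⁅h, g⁆, v⁆ ∈ M := by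
  have h1 : g⁻¹ * ⁅g, v⁆⁻¹ * g ∈ M := by
    have := (mem_normalizer_iff.1 (inv_mem hgM) _).1 (inv_mem (hg v hv))
    rwa [inv_inv] at this
  have h2 : (h * g * h⁻¹) * (g⁻¹ * ⁅g, v⁆⁻¹ * g) * (h * g * h⁻¹)⁻¹ ∈ M :=
    (mem_normalizer_iff.1 (mul_mem (mul_mem hhM hgM) (inv_mem hhM)) _).1 h1
  have h3 : h * ⁅g, h⁻¹ * v * h⁆ * h⁻¹ ∈ M := (mem_normalizer_iff.1 hhM _).1 (hg _ (hhV v hv))
  have e : ⁅⁅h, g⁆, v⁆ =
      (h * g * h⁻¹) * (g⁻¹ * ⁅g, v⁆⁻¹ * g) * (h * g * h⁻¹)⁻¹ * (h * ⁅g, h⁻¹ * v * h⁆ * h⁻¹) := by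
    simp only [commutatorElement_def]; group
  rw [e]
  exact mul_mem h2 h3

/-- In a p-solvable group without normal p'-subgroups, a Sylow subgroup of this type is normal. -/
theorem sylow_le_pCore {Y : Type u} [Group Y] [Finite Y] {p : ℕ} [hp : Fact p.Prime]
    (h0 : Cfsg.pPrimeCore p Y = ⊥) (hs : Cfsg.IsPSolvable p Y) (P : Sylow p Y)
    (hP : SchmidtType p (P : Subgroup Y)) : (P : Subgroup Y) ≤ Cfsg.pCore p Y := by
  classical
  by_contra hSV
  set V := Cfsg.pCore p Y with hVdef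
  set S := (P : Subgroup Y)
  haveI hVn : V.Normal := CfsgLib.Solvable.pCore_normal p
  have hVp : IsPGroup p V := CfsgLib.Solvable.isPGroup_pCore p
  have hVS : V ≤ S := CfsgLib.Fitting.pCore_le_sylow P
  have hCV : centralizer (V : Set Y) ≤ V := CfsgLib.PConstrained.selfCent_of_pSolvable h0
    (CfsgLib.PConstrained.isPSolvable_comap (Subgroup.subtype _) (Subgroup.subtype_injective _) hs)
  -- the centre of `S`
  set Z := S ⊓ centralizer (S : Set Y) with hZdef
  have hZ : ∀ x : S, x ∈ center S ↔ (x : Y) ∈ Z := fun x => by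
    rw [mem_center_iff, hZdef, mem_inf, mem_centralizer_iff]
    exact ⟨fun h => ⟨x.2, fun y hy => congrArg Subtype.val (h ⟨y, hy⟩)⟩,
      fun h y => Subtype.ext (h.2 y y.2)⟩
  have hcommZ : ∀ x ∈ S, ∀ y ∈ S, ⁅x, y⁆ ∈ Z := fun x hx y hy =>
    (hZ _).1 (hP.comm_central ⟨x, hx⟩ ⟨y, hy⟩)
  have hpowZ : ∀ x ∈ S, x ^ p ∈ Z := fun x hx => (hZ _).1 (hP.pow_central ⟨x, hx⟩)
  have hsurj : ∀ x ∈ S, x ∉ Z → ∀ u ∈ S, ∀ w ∈ S, ∃ y ∈ S, ⁅x, y⁆ = ⁅u, w⁆ := by
    intro x hx hxZ u hu w hw
    obtain ⟨y, hy⟩ := hP.surj ⟨x, hx⟩ (fun h => hxZ ((hZ _).1 h)) ⟨u, hu⟩ ⟨w, hw⟩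
    exact ⟨y, y.2, congrArg Subtype.val hy⟩
  have hZc : ∀ z ∈ Z, ∀ x ∈ S, x * z = z * x := fun z hz x hx => mem_centralizer_iff.1 hz.2 x hx
  have hZV : Z ≤ V := fun z hz =>
    hCV (mem_centralizer_iff.2 fun v hv => hZc z hz v (hVS hv))
  -- the next layer and a complement
  set π := QuotientGroup.mk' V with hπ
  have hπs := QuotientGroup.mk'_surjective V
  set Rb := Cfsg.pPrimeCore p (Y ⧸ V) with hRbdef
  haveI hRbn : Rb.Normal := CfsgLib.Solvable.pPrimeCore_normal p
  set R := Rb.comap π with hRdef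
  haveI hRn : R.Normal := hRbn.comap π
  have hRbc : (Nat.card Rb).Coprime p := CfsgLib.Solvable.coprime_card_pPrimeCore p
  have hcoreb : Cfsg.pCore p (Y ⧸ V) = ⊥ := by
    have hle : (Cfsg.pCore p (Y ⧸ V)).comap π ≤ V :=
      CfsgLib.Solvable.le_pCore p ((CfsgLib.Solvable.pCore_normal p).comap π)
        ((CfsgLib.Solvable.isPGroup_pCore p).comap_of_ker_isPGroup π (by
          rw [QuotientGroup.ker_mk']; exact hVp))
    rw [← map_comap_eq_self_of_surjective hπs (Cfsg.pCore p (Y ⧸ V)), Subgroup.map_eq_bot_iff,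
      QuotientGroup.ker_mk']
    exact hle
  have hCRb := CfsgLib.FGSA.AbelianSylow.centralizer_pPrimeCore_le hcoreb
    (CfsgLib.PConstrained.isPSolvable_map π hπs hs)
  have hVR : V ≤ R := by
    intro v hv
    rw [hRdef, mem_comap, hπ, QuotientGroup.mk'_apply, (QuotientGroup.eq_one_iff v).2 hv]
    exact one_mem _
  obtain ⟨e, he⟩ := IsPGroup.iff_card.1 hVp
  have hidx : (V.subgroupOf R).index = Nat.card Rb := by
    show V.relIndex R = _
    have := Subgroup.relIndex_ker R (f := π)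
    rwa [QuotientGroup.ker_mk', hRdef, map_comap_eq_self_of_surjective hπs] at this
  obtain ⟨Q0, hQ0⟩ := exists_right_complement'_of_coprime (N := V.subgroupOf R) (by
    rw [hidx, Nat.card_congr (subgroupOfEquivOfLe hVR).toEquiv, he]
    exact hRbc.symm.pow_left e)
  set Q := Q0.map R.subtype with hQdef
  have hQR : Q ≤ R := map_subtype_le _
  have hVQ : V ⊓ Q = ⊥ := by
    refine eq_bot_iff.2 ?_
    rintro _ ⟨hv, q, hq, rfl⟩
    have : q ∈ V.subgroupOf R ⊓ Q0 := mem_inf.2 ⟨mem_subgroupOf.2 hv, hq⟩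
    rw [hQ0.disjoint.eq_bot, mem_bot] at this
    simp [this]
  have hVQR : ∀ r ∈ R, ∃ v ∈ V, ∃ q ∈ Q, v * q = r := by
    intro r hr
    obtain ⟨v, hv, q, hq, e⟩ := mem_sup_of_normal_left.1 (hQ0.sup_eq_top.ge (mem_top ⟨r, hr⟩))
    exact ⟨v, mem_subgroupOf.1 hv, q, ⟨q, hq, rfl⟩, congrArg Subtype.val e⟩
  have hQc : (Nat.card Q).Coprime p := by
    rw [hQdef, card_map_of_injective R.subtype_injective, ← hQ0.symm.index_eq_card, hidx]
    exact hRbc
  set N := normalizer (Q : Set Y) with hNdef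
  have hfrat : ∀ y : Y, ∃ v ∈ V, ∃ n ∈ N, v * n = y := by
    intro y
    have hB : MulAut.conj y • Q ≤ Q ⊔ V := by
      intro x hx
      rw [mem_conj_smul] at hx
      have := hRn.conj_mem _ (hQR hx) y
      obtain ⟨v, hv, q, hq, e⟩ := hVQR _ this
      rw [sup_comm]
      have hxe : x = y * (y⁻¹ * x * y) * y⁻¹ := by group
      rw [hxe, ← e]
      exact mul_mem_sup hv hq
    obtain ⟨k, hk, hkc⟩ := conj_rel (A := Q) (K := V) (by rw [normalizer_eq_top]; exact le_top)
      (by rw [he]; exact hQc.pow_right e)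
      (Or.inr (haveI := hVp.isNilpotent; inferInstance)) hB (card_conj_smul y Q)
    refine ⟨k, hk, k⁻¹ * y, ?_, by group⟩
    rw [hNdef, ← conj_smul_eq_iff_mem_normalizer, map_mul, mul_smul, ← hkc, ← mul_smul, ← map_mul,
      inv_mul_cancel, map_one, one_smul]
  set A := S ⊓ N
  set D := V ⊓ N
  have hSA : ∀ x ∈ S, ∃ v ∈ V, ∃ a ∈ A, v * a = x := fun x hx => by
    obtain ⟨v, hv, n, hn, rfl⟩ := hfrat x
    exact ⟨v, hv, n, mem_inf.2 ⟨by simpa using mul_mem (inv_mem (hVS hv)) hx, hn⟩, rfl⟩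
  have hQN : Q ≤ N := le_normalizer
  have hVQ1 : ∀ x ∈ V, x ∈ Q → x = 1 := fun x h1 h2 => by
    have := mem_inf.2 ⟨h1, h2⟩
    rwa [hVQ, mem_bot] at this
  have hDQ : ∀ d ∈ D, ∀ q ∈ Q, ⁅q, d⁆ = 1 := by
    intro d hd q hq
    refine hVQ1 _ ?_ ?_
    · rw [commutatorElement_def]; exact mul_mem (hVn.conj_mem d hd.1 q) (inv_mem hd.1)
    · have := (mem_normalizer_iff.1 hd.2 q⁻¹).1 (inv_mem hq)
      rw [commutatorElement_def, mul_assoc, mul_assoc, ← mul_assoc d]
      exact mul_mem hq this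
  -- the Frattini subgroup of `V`
  obtain ⟨hVcom, hVpow⟩ := CfsgLib.PGroupBasic.commutator_pow_le_frattini (G := V) hVp
  set Φ := (frattini V).map V.subtype with hΦdef
  haveI hΦn : Φ.Normal := ConjAct.normal_of_characteristic_of_normal
  have hΦV : Φ ≤ V := map_subtype_le _
  have hVΦc : ∀ x ∈ V, ∀ y ∈ V, ⁅x, y⁆ ∈ Φ := fun x hx y hy => by
    refine ⟨⁅(⟨x, hx⟩ : V), ⟨y, hy⟩⁆, hVcom ?_, rfl⟩
    rw [_root_.commutator_def]; exact commutator_mem_commutator (mem_top _) (mem_top _)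
  have hVΦp : ∀ x ∈ V, x ^ p ∈ Φ := fun x hx => ⟨⟨x, hx⟩ ^ p, hVpow _, rfl⟩
  have hΦZ : Φ ≤ Z := by
    rintro _ ⟨x, hx, rfl⟩
    have hc : commutator V ≤ Z.subgroupOf V := by
      rw [_root_.commutator_def, commutator_le]
      exact fun a _ b _ => mem_subgroupOf.2 (hcommZ _ (hVS a.2) _ (hVS b.2))
    haveI : (Z.subgroupOf V).Normal := Subgroup.Normal.of_commutator_le V hc
    exact mem_subgroupOf.1 (CfsgLib.PGroupBasic.frattini_le_of_elementary (Z.subgroupOf V) hc
      (fun a => mem_subgroupOf.2 (hpowZ _ (hVS a.2))) hx)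
  set K := D ⊔ Φ with hKdef
  have hKV : K ≤ V := sup_le inf_le_left hΦV
  haveI hKn : K.Normal := by
    refine normalizer_eq_top_iff.1 (top_unique fun y _ => ?_)
    obtain ⟨v, hv, n, hn, rfl⟩ := hfrat y
    refine mul_mem ?_ ?_
    · rw [← conj_smul_eq_iff_mem_normalizer]
      refine eq_of_le_of_card_le (fun x hx => ?_) (card_conj_smul v K).ge
      rw [mem_conj_smul] at hx
      have h1 : ⁅v, v⁻¹ * x * v⁆ ∈ K := mem_sup_right (hVΦc v hv _ (hKV hx))
      have h2 := mul_mem h1 hx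
      have e : ⁅v, v⁻¹ * x * v⁆ * (v⁻¹ * x * v) = x := by
        simp only [commutatorElement_def]; group
      rwa [e] at h2
    · rw [← conj_smul_eq_iff_mem_normalizer, hKdef, smul_sup, conj_smul_normal n Φ,
        conj_smul_eq_iff_mem_normalizer.2 (le_normalizer_inf (le_top.trans (normalizer_eq_top V).ge)
          le_normalizer hn)]
  set T := K ⊔ ⁅S, S⁆ with hTdef
  have hScZ : ⁅S, S⁆ ≤ Z := commutator_le.2 hcommZ
  have hTV : T ≤ V := sup_le hKV (hScZ.trans hZV)
  have hST : ∀ x ∈ S, x ∈ normalizer (T : Set Y) := by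
    intro x hx
    rw [← conj_smul_eq_iff_mem_normalizer]
    refine eq_of_le_of_card_le (fun y hy => ?_) (card_conj_smul x T).ge
    rw [mem_conj_smul] at hy
    have h1 : ⁅x, x⁻¹ * y * x⁆ ∈ T :=
      mem_sup_right (commutator_mem_commutator hx (hVS (hTV hy)))
    have h2 := mul_mem h1 hy
    have e : ⁅x, x⁻¹ * y * x⁆ * (x⁻¹ * y * x) = y := by simp only [commutatorElement_def]; group
    rwa [e] at h2
  have hgen : ∀ g ∈ A, g ∉ V → ∀ u ∈ S, ∀ w ∈ S, ∃ v ∈ V, ⁅g, v⁆⁻¹ * ⁅u, w⁆ ∈ K := by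
    intro g hg hgV u hu w hw
    obtain ⟨y, hy, hye⟩ := hsurj g hg.1 (fun h => hgV (hZV h)) u hu w hw
    obtain ⟨v, hv, a, ha, rfl⟩ := hSA y hy
    refine ⟨v, hv, mem_sup_left ?_⟩
    have hga : ⁅g, a⁆ ∈ Z := hcommZ g hg.1 a ha.1
    have e : ⁅g, v * a⁆ = ⁅g, v⁆ * (v * ⁅g, a⁆ * v⁻¹) := by
      simp only [commutatorElement_def]; group
    rw [← hye, e, hZc _ hga v (hVS hv), mul_inv_cancel_right, inv_mul_cancel_left]
    refine mem_inf.2 ⟨hZV hga, ?_⟩
    rw [commutatorElement_def]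
    exact mul_mem (mul_mem (mul_mem hg.2 ha.2) (inv_mem hg.2)) (inv_mem ha.2)
  have hnormT : ∀ g ∈ A, g ∉ V → ∀ h ∈ Q, g * h = h * g → h ∈ normalizer (T : Set Y) := by
    intro g hg hgV h hh hgh
    rw [← conj_smul_eq_iff_mem_normalizer]
    refine eq_of_le_of_card_le ?_ (card_conj_smul h T).ge
    rw [pointwise_smul_subset_iff]
    refine sup_le ?_ (commutator_le.2 fun u hu w hw => ?_)
    · rw [← pointwise_smul_subset_iff, conj_smul_normal h K]
      exact le_sup_left
    · rw [← map_inv, mem_conj_smul, inv_inv]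
      obtain ⟨v, hv, hk⟩ := hgen g hg hgV u hu w hw
      have e : h * ⁅u, w⁆ * h⁻¹ = ⁅g, h * v * h⁻¹⁆ * (h * (⁅g, v⁆⁻¹ * ⁅u, w⁆) * h⁻¹) := by
        have e1 : ⁅g, h * v * h⁻¹⁆ = h * ⁅g, v⁆ * h⁻¹ := by
          simp only [commutatorElement_def]
          have e2 : g * h = h * g := hgh
          have e3 : h⁻¹ * g⁻¹ = g⁻¹ * h⁻¹ := by rw [← mul_inv_rev, ← mul_inv_rev, e2]
          calc g * (h * v * h⁻¹) * g⁻¹ * (h * v * h⁻¹)⁻¹
              = (g * h) * v * (h⁻¹ * g⁻¹) * (h * v⁻¹ * h⁻¹) := by group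
            _ = _ := by rw [e2, e3]; group
        rw [e1]; group
      rw [e]
      exact mul_mem (mem_sup_right (commutator_mem_commutator hg.1
        (hVS (hVn.conj_mem v hv h)))) (mem_sup_left (hKn.conj_mem _ hk h))
  have hcontra : ∀ g ∈ A, g ∉ V → Q ≤ normalizer (T : Set Y) → False := by
    intro g hg hgV hQT
    refine hgV ?_
    have hcq : ∀ h ∈ Q, ⁅h, g⁆ = 1 := by
      intro h hh
      set k := ⁅h, g⁆ with hkdef
      have hkQ : k ∈ Q := by
        have := (mem_normalizer_iff.1 hg.2 h⁻¹).1 (inv_mem hh)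
        rw [hkdef, commutatorElement_def, mul_assoc, mul_assoc, ← mul_assoc g]
        exact mul_mem hh this
      have hkc : (orderOf k).Coprime p :=
        hQc.coprime_dvd_left (Subgroup.orderOf_dvd_natCard Q hkQ)
      have hvT : ∀ v ∈ V, ⁅k, v⁆ ∈ T := fun v hv => stab_comm
        (fun v hv => mem_sup_right (commutator_mem_commutator hg.1 (hVS hv))) (hST g hg.1)
        (hQT hh) (fun v hv => by simpa using hVn.conj_mem v hv h⁻¹) hv
      have hgT : T ≤ (center S).map S.subtype ⊔ K := sup_le le_sup_right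
        ((hScZ.trans fun z hz => by exact ⟨⟨z, hz.1⟩, (hZ _).2 hz, rfl⟩).trans le_sup_left)
      have hgTK : ∀ t ∈ T, ⁅g, t⁆ ∈ K := by
        intro t ht
        obtain ⟨_, ⟨z, hz, rfl⟩, c, hc, rfl⟩ := mem_sup_of_normal_right.1 (hgT ht)
        have hzc := hZc _ ((hZ z).1 hz) g hg.1
        have e : ⁅g, S.subtype z * c⁆ = S.subtype z * (g * c * g⁻¹ * c⁻¹) * (S.subtype z)⁻¹ := by
          simp only [commutatorElement_def]
          calc g * (S.subtype z * c) * g⁻¹ * (S.subtype z * c)⁻¹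
              = (g * S.subtype z) * c * g⁻¹ * (c⁻¹ * (S.subtype z)⁻¹) := by group
            _ = _ := by rw [show g * S.subtype z = S.subtype z * g from hzc]; group
        rw [e]
        exact hKn.conj_mem _ (mul_mem (hKn.conj_mem c hc g) (inv_mem hc)) _
      have htK : ∀ t ∈ T, ⁅k, t⁆ ∈ K := fun t ht => stab_comm hgTK
        (by rw [normalizer_eq_top]; exact mem_top _) (by rw [normalizer_eq_top]; exact mem_top _)
        (fun v hv => by simpa using (mem_normalizer_iff.1 (inv_mem (hQT hh)) v).1 hv) ht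
      have hvK : ∀ v ∈ V, ⁅k, v⁆ ∈ K := fun v hv =>
        comm_mem_of_stable hVp hkc (hTV (hvT v hv)) (htK _ (hvT v hv))
      have hKΦ : ∀ c ∈ K, ⁅k, c⁆ ∈ Φ := by
        intro c hc
        obtain ⟨d, hd, f, hf, rfl⟩ := mem_sup_of_normal_right.1 hc
        have e : ⁅k, d * f⁆ = ⁅k, d⁆ * (d * ⁅k, f⁆ * d⁻¹) := by
          simp only [commutatorElement_def]; group
        rw [e, hDQ d hd k hkQ, one_mul]
        refine hΦn.conj_mem _ ?_ d
        rw [commutatorElement_def]
        exact mul_mem (hΦn.conj_mem f hf k) (inv_mem hf)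
      have hvΦ : ∀ v ∈ V, ⁅k, v⁆ ∈ Φ := fun v hv =>
        comm_mem_of_stable hVp hkc (hKV (hvK v hv)) (hKΦ _ (hvK v hv))
      obtain ⟨j, hj⟩ := IsPGroup.iff_card.1 (hVp.to_subgroup (frattini V))
      have hcen := CfsgLib.CoprimeAct.trivial_on_frattini_quotient (A := zpowers k) (K := V)
        (by rw [normalizer_eq_top]; exact le_top)
        (by rw [Nat.card_zpowers, hj]; exact hkc.pow_right j)
        (fun a ha f hf => by
          show a * f * a⁻¹ * f⁻¹ ∈ Φ
          obtain ⟨n, rfl⟩ := mem_zpowers_iff.1 ha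
          have hle : k ∈ (centralizer ((V.map (QuotientGroup.mk' Φ) : Subgroup (Y ⧸ Φ)) :
              Set (Y ⧸ Φ))).comap (QuotientGroup.mk' Φ) := by
            rw [mem_comap, mem_centralizer_iff]
            rintro _ ⟨x, hx, rfl⟩
            refine (commutatorElement_eq_one_iff_mul_comm.1 ?_).symm
            rw [← map_commutatorElement]
            exact (QuotientGroup.eq_one_iff _).2 (hvΦ x hx)
          have h1 := mem_centralizer_iff.1 (mem_comap.1 (zpow_mem hle n)) _
            (mem_map_of_mem (QuotientGroup.mk' Φ) hf)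
          rw [← QuotientGroup.eq_one_iff, ← commutatorElement_def]
          show QuotientGroup.mk' Φ ⁅k ^ n, f⁆ = 1
          rw [map_commutatorElement, commutatorElement_eq_one_iff_mul_comm]
          exact h1.symm)
      exact hVQ1 k (hCV (hcen (mem_zpowers k))) hkQ
    have hgR : π g ∈ centralizer (Rb : Set (Y ⧸ V)) := by
      rw [mem_centralizer_iff]
      intro z hz
      obtain ⟨r, rfl⟩ := hπs z
      obtain ⟨v, hv, q, hq, rfl⟩ := hVQR r hz
      have hv1 : π v = 1 := (QuotientGroup.eq_one_iff v).2 hv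
      rw [map_mul, hv1, one_mul, ← map_mul, ← map_mul,
        commutatorElement_eq_one_iff_mul_comm.1 (hcq q hq)]
    have hmem : π g ∈ S.map π ⊓ Rb := mem_inf.2 ⟨mem_map_of_mem π hg.1, hCRb hgR⟩
    obtain ⟨j, hj⟩ := IsPGroup.iff_card.1 (P.2.map π)
    rw [inf_eq_bot_of_coprime (by rw [hj]; exact hRbc.symm.pow_left j), mem_bot] at hmem
    exact (QuotientGroup.eq_one_iff g).1 hmem
  obtain ⟨g, hg, hgV⟩ : ∃ g ∈ A, g ∉ V := by
    by_contra! hall
    refine hSV fun x hx => ?_
    obtain ⟨v, hv, a, ha, rfl⟩ := hSA x hx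
    exact mul_mem hv (hall a ha)
  obtain ⟨h, hh, hhT⟩ : ∃ h ∈ Q, h ∉ normalizer (T : Set Y) := by
    by_contra! hall
    exact hcontra g hg hgV hall
  -- the image of `S` in the quotient is elementary of order `p`
  set E := S.map π with hEdef
  haveI hEc : IsMulCommutative E := ⟨⟨by
    rintro ⟨_, a, ha, rfl⟩ ⟨_, b, hb, rfl⟩
    refine Subtype.ext ?_
    show π a * π b = π b * π a
    rw [← commutatorElement_eq_one_iff_mul_comm, ← map_commutatorElement]
    exact (QuotientGroup.eq_one_iff _).2 (hZV (hcommZ a ha b hb))⟩⟩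
  have hEexp : ∀ x ∈ E, x ^ p = 1 := by
    rintro _ ⟨a, ha, rfl⟩
    rw [← map_pow]
    exact (QuotientGroup.eq_one_iff _).2 (hZV (hpowZ a ha))
  have hπg : π g ≠ 1 := fun h => hgV ((QuotientGroup.eq_one_iff g).1 h)
  have hEcyc : IsCyclic E := by
    by_contra hnc
    obtain ⟨j, hj⟩ := IsPGroup.iff_card.1 (P.2.map π)
    have hgc := CfsgLib.CoprimeAct.generated_by_centralizers (A := E) (K := Rb) hnc
      (by rw [normalizer_eq_top]; exact le_top) (by rw [hj]; exact hRbc.symm.pow_left j)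
    have hle : Rb ≤ (Q ⊓ normalizer (T : Set Y)).map π := by
      refine hgc.ge.trans (iSup₂_le ?_)
      rintro _ ⟨⟨x, hx, rfl⟩, hx1⟩ z ⟨hz, hzc⟩
      obtain ⟨r, rfl⟩ := hπs z
      obtain ⟨v, hv, q, hq, rfl⟩ := hVQR r hz
      obtain ⟨w, hw, a, ha, rfl⟩ := hSA x hx
      have hv1 : π v = 1 := (QuotientGroup.eq_one_iff v).2 hv
      have hw1 : π w = 1 := (QuotientGroup.eq_one_iff w).2 hw
      rw [map_mul, hw1, one_mul] at hx1
      have haV : a ∉ V := fun h => hx1 ((QuotientGroup.eq_one_iff a).2 h)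
      refine ⟨q, mem_inf.2 ⟨hq, hnormT a ha haV q hq ?_⟩, by rw [map_mul, hv1, one_mul]⟩
      have h1 : π (w * a) * π (v * q) = π (v * q) * π (w * a) :=
        (mem_centralizer_singleton_iff.1 hzc).symm
      rw [map_mul, map_mul, hv1, hw1, one_mul, one_mul] at h1
      have h2 : ⁅q, a⁆ ∈ V := (QuotientGroup.eq_one_iff _).1 (by
        show π ⁅q, a⁆ = 1
        rw [map_commutatorElement, commutatorElement_eq_one_iff_mul_comm, h1])
      have h3 : ⁅q, a⁆ ∈ Q := by
        have := (mem_normalizer_iff.1 ha.2 q⁻¹).1 (inv_mem hq)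
        rw [commutatorElement_def, mul_assoc, mul_assoc, ← mul_assoc a]
        exact mul_mem hq this
      exact (commutatorElement_eq_one_iff_mul_comm.1 (hVQ1 _ h2 h3)).symm
    have hmem : π h ∈ (Q ⊓ normalizer (T : Set Y)).map π := hle (hQR hh : π h ∈ Rb)
    obtain ⟨q, hq, e⟩ := hmem
    have : q⁻¹ * h ∈ V := QuotientGroup.eq.1 e
    have := hVQ1 _ this (mul_mem (inv_mem hq.1) hh)
    rw [inv_mul_eq_one] at this
    exact hhT (this ▸ hq.2)
  have hgE : π g ∈ E := mem_map_of_mem π hg.1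
  have hordg : orderOf (π g) = p := orderOf_eq_prime (hEexp _ hgE) hπg
  have hEcard : Nat.card E ∣ p := by
    rw [← IsCyclic.exponent_eq_card]
    exact Monoid.exponent_dvd_of_forall_pow_eq_one fun x => Subtype.ext (hEexp x x.2)
  have hEz : zpowers (π g) = E := eq_of_le_of_card_le (zpowers_le.2 hgE) (by
    rw [Nat.card_zpowers, hordg]; exact Nat.le_of_dvd hp.out.pos hEcard)
  have hdecomp : ∀ x ∈ S, ∃ v ∈ V, ∃ n : ℕ, v * g ^ n = x := by
    intro x hx
    have h1 : π x ∈ zpowers (π g) := hEz ▸ mem_map_of_mem π hx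
    obtain ⟨n, hn⟩ : ∃ n : ℕ, π g ^ n = π x := mem_powers_iff_mem_zpowers.2 h1
    refine ⟨x * (g ^ n)⁻¹, ?_, n, by rw [inv_mul_cancel_right]⟩
    rw [← QuotientGroup.eq_one_iff]
    show π (x * (g ^ n)⁻¹) = 1
    rw [map_mul, map_inv, map_pow, hn, mul_inv_cancel]
  -- some commutator with `g` is outside `K`
  obtain ⟨v0, hv0, hv0K⟩ : ∃ v ∈ V, ⁅g, v⁆ ∉ K := by
    by_contra! hall
    have hTK : T = K := by
      refine le_antisymm (sup_le le_rfl (commutator_le.2 fun u hu w hw => ?_)) le_sup_left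
      obtain ⟨v, hv, hk⟩ := hgen g hg hgV u hu w hw
      have := mul_mem (hall v hv) hk
      rwa [mul_inv_cancel_left] at this
    exact hhT (by rw [hTK, normalizer_eq_top]; exact mem_top _)
  have hkey : ∀ v ∈ V, v ∉ Z → ∀ u ∈ S, ∀ w ∈ S, ⁅u, w⁆ ∈ zpowers ⁅g, v⁆ ⊔ K := by
    intro v hv hvZ u hu w hw
    obtain ⟨y, hy, hye⟩ := hsurj v (hVS hv) hvZ u hu w hw
    obtain ⟨v', hv', n, rfl⟩ := hdecomp y hy
    have hn : ∀ n : ℕ, ⁅v, g ^ n⁆ = ⁅v, g⁆ ^ n := by
      intro n
      induction n with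
      | zero => simp
      | succ n ih =>
        have e : ⁅v, g ^ (n + 1)⁆ = ⁅v, g ^ n⁆ * (g ^ n * ⁅v, g⁆ * (g ^ n)⁻¹) := by
          rw [pow_succ]; simp only [commutatorElement_def]; group
        rw [e, hZc _ (hcommZ v (hVS hv) g hg.1) _ (pow_mem hg.1 n), mul_inv_cancel_right, ih,
          pow_succ]
    have e : ⁅v, v' * g ^ n⁆ = ⁅v, v'⁆ * (v' * ⁅v, g ^ n⁆ * v'⁻¹) := by
      simp only [commutatorElement_def]; group
    rw [← hye, e, hZc _ (hcommZ v (hVS hv) _ (pow_mem hg.1 n)) v' (hVS hv'),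
      mul_inv_cancel_right, hn, ← commutatorElement_inv g v]
    exact mul_mem (mem_sup_right (mem_sup_right (hVΦc v hv v' hv')))
      (mem_sup_left (pow_mem (inv_mem (mem_zpowers _)) n))
  have hTnK : ¬ T ≤ K := fun hle =>
    hv0K (hle (mem_sup_right (commutator_mem_commutator hg.1 (hVS hv0))))
  have houtZ : ∀ v ∈ V, v ∉ Z → ⁅g, v⁆ ∉ K := by
    intro v hv hvZ hmem
    refine hTnK (sup_le le_rfl (commutator_le.2 fun u hu w hw => ?_))
    have h1 := hkey v hv hvZ u hu w hw
    rwa [sup_eq_right.2 (zpowers_le.2 hmem)] at h1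
  have hKZ : K ≤ Z := by
    refine sup_le (fun d hd => ?_) hΦZ
    by_contra hdZ
    refine houtZ d hd.1 hdZ ?_
    rw [commutatorElement_def]
    exact mul_mem (hKn.conj_mem d (mem_sup_left hd) g) (inv_mem (mem_sup_left hd))
  have hTZ : T ≤ Z := sup_le hKZ hScZ
  have hv0Z : v0 ∉ Z := fun h => hv0K (by
    rw [commutatorElement_def, hZc _ h g hg.1, mul_inv_cancel_right, mul_inv_cancel]
    exact one_mem K)
  have hgpK : g ^ p ∈ K := mem_sup_left (mem_inf.2 ⟨hZV (hpowZ g hg.1), pow_mem hg.2 p⟩)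
  have hZT : Z ≤ T := by
    intro z hz
    have hc := hP.center_le (T.subgroupOf S)
      (fun x y => mem_subgroupOf.2 (mem_sup_right (commutator_mem_commutator x.2 y.2))) ?_
      ((hZ ⟨z, hz.1⟩).2 hz)
    · exact mem_subgroupOf.1 hc
    intro x
    have hcS : commutator S ≤ T.subgroupOf S := by
      rw [_root_.commutator_def, commutator_le]
      exact fun a _ b _ => mem_subgroupOf.2 (mem_sup_right (commutator_mem_commutator a.2 b.2))
    haveI : (T.subgroupOf S).Normal := Subgroup.Normal.of_commutator_le S hcS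
    let θ := QuotientGroup.mk' (T.subgroupOf S)
    have hθ : ∀ a b : S, Commute (θ a) (θ b) := fun a b => by
      rw [← commutatorElement_eq_one_iff_commute, ← map_commutatorElement]
      exact (QuotientGroup.eq_one_iff _).2 (hcS (by
        rw [_root_.commutator_def]; exact commutator_mem_commutator (mem_top a) (mem_top b)))
    obtain ⟨v, hv, n, hx⟩ := hdecomp x x.2
    have e : x = (⟨v, hVS hv⟩ : S) * (⟨g, hg.1⟩ : S) ^ n := Subtype.ext hx.symm
    rw [← QuotientGroup.eq_one_iff]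
    show θ (x ^ p) = 1
    rw [e, map_pow, map_mul, map_pow, ((hθ _ _).pow_right n).mul_pow, ← pow_mul, mul_comm n p,
      pow_mul, ← map_pow, ← map_pow]
    have h1 : θ ((⟨v, hVS hv⟩ : S) ^ p) = 1 := (QuotientGroup.eq_one_iff _).2
      (mem_subgroupOf.2 (mem_sup_left (mem_sup_right (hVΦp v hv))))
    have h2 : θ ((⟨g, hg.1⟩ : S) ^ p) = 1 := (QuotientGroup.eq_one_iff _).2
      (mem_subgroupOf.2 (mem_sup_left hgpK))
    rw [h1, h2, one_pow, mul_one]
  set t0 := ⁅g, v0⁆
  have hTgen0 : T ≤ zpowers t0 ⊔ K :=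
    sup_le le_sup_right (commutator_le.2 fun u hu w hw => hkey v0 hv0 hv0Z u hu w hw)
  have hVexpK : ∀ v ∈ V, v ^ p ∈ K := fun v hv => mem_sup_right (hVΦp v hv)
  have hTgen : ∀ t ∈ T, t ∉ K → T ≤ zpowers t ⊔ K := by
    intro t ht htK
    refine hTgen0.trans (sup_le (zpowers_le.2 ?_) le_sup_right)
    obtain ⟨_, ⟨i, rfl⟩, c, hc, rfl⟩ := mem_sup_of_normal_right.1 (hTgen0 ht)
    change t0 ^ i * c ∉ K at htK
    change t0 ∈ zpowers (t0 ^ i * c) ⊔ K
    have ht0p : t0 ^ p ∈ K := hVexpK t0 (hTV (mem_sup_right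
      (commutator_mem_commutator hg.1 (hVS hv0))))
    have hi : ¬ (p : ℤ) ∣ i := by
      rintro ⟨j, rfl⟩
      exact htK (mul_mem (by rw [zpow_mul, zpow_natCast]; exact zpow_mem ht0p j) hc)
    obtain ⟨a, b, hab⟩ := (Int.prime_iff_natAbs_prime.2 (by simpa using hp.out) :
      Prime (p : ℤ)).coprime_iff_not_dvd.2 hi
    have h1 : t0 ^ i ∈ zpowers (t0 ^ i * c) ⊔ K := by
      have := mul_mem (mem_sup_left (mem_zpowers (t0 ^ i * c)) :
        t0 ^ i * c ∈ zpowers (t0 ^ i * c) ⊔ K) (mem_sup_right (inv_mem hc))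
      rwa [mul_inv_cancel_right] at this
    have h2 : t0 ^ (p : ℤ) ∈ zpowers (t0 ^ i * c) ⊔ K := mem_sup_right (by rwa [zpow_natCast])
    have e : t0 = (t0 ^ (p : ℤ)) ^ a * (t0 ^ i) ^ b := by
      rw [← zpow_mul, ← zpow_mul, ← zpow_add, mul_comm (p : ℤ), mul_comm i, hab, zpow_one]
    have h3 := mul_mem (zpow_mem h2 a) (zpow_mem h1 b)
    rwa [← e] at h3
  obtain ⟨t, ht, htT⟩ : ∃ t ∈ T, h * t * h⁻¹ ∉ T := by
    by_contra! hall
    refine hhT ?_
    rw [← conj_smul_eq_iff_mem_normalizer]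
    refine eq_of_le_of_card_le (fun y hy => ?_) (card_conj_smul h T).ge
    rw [mem_conj_smul] at hy
    simpa [mul_assoc] using hall _ hy
  have htK : t ∉ K := fun hmem => htT (mem_sup_left (hKn.conj_mem t hmem h))
  set v1 := h * t * h⁻¹ with hv1def
  have hv1 : v1 ∈ V := hVn.conj_mem t (hTV ht) h
  have hv1Z : v1 ∉ Z := fun hm => htT (hZT hm)
  set t1 := ⁅g, v1⁆ with ht1def
  have ht1T : t1 ∈ T := mem_sup_right (commutator_mem_commutator hg.1 (hVS hv1))
  have ht1K : t1 ∉ K := houtZ v1 hv1 hv1Z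
  have hVgen : ∀ v ∈ V, v ∈ zpowers v1 ⊔ (zpowers t1 ⊔ K) := by
    intro v hv
    obtain ⟨_, ⟨i, rfl⟩, c, hc, hic⟩ := mem_sup_of_normal_right.1
      (hTgen t1 ht1T ht1K (mem_sup_right (commutator_mem_commutator hg.1 (hVS hv))))
    have hz : v1 ^ (-i) * v ∈ Z := by
      by_contra hnz
      refine houtZ _ (mul_mem (zpow_mem hv1 _) hv) hnz ?_
      have hni : ∀ i : ℤ, ⁅g, v1 ^ i⁆ = t1 ^ i := by
        intro i
        induction i using Int.induction_on with
        | zero => simp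
        | succ n ih =>
          have e : ⁅g, v1 ^ ((n : ℤ) + 1)⁆ = ⁅g, v1 ^ (n : ℤ)⁆ *
              (v1 ^ (n : ℤ) * t1 * (v1 ^ (n : ℤ))⁻¹) := by
            rw [zpow_add_one, ht1def]; simp only [commutatorElement_def]; group
          rw [e, hZc _ (hTZ ht1T) _ (zpow_mem (hVS hv1) _), mul_inv_cancel_right, ih,
            zpow_add_one]
        | pred n ih =>
          have e : ⁅g, v1 ^ (-(n : ℤ))⁆ = ⁅g, v1 ^ (-(n : ℤ) - 1)⁆ *
              (v1 ^ (-(n : ℤ) - 1) * t1 * (v1 ^ (-(n : ℤ) - 1))⁻¹) := by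
            conv_lhs => rw [show -(n : ℤ) = -(n : ℤ) - 1 + 1 by omega, zpow_add_one]
            rw [ht1def]; simp only [commutatorElement_def]; group
          rw [hZc _ (hTZ ht1T) _ (zpow_mem (hVS hv1) _), mul_inv_cancel_right] at e
          rw [zpow_sub_one t1, eq_mul_inv_iff_mul_eq, ← e, ih]
      have e : ⁅g, v1 ^ (-i) * v⁆ = ⁅g, v1 ^ (-i)⁆ * (v1 ^ (-i) * ⁅g, v⁆ * (v1 ^ (-i))⁻¹) := by
        simp only [commutatorElement_def]; group
      rw [e, hZc _ (hcommZ g hg.1 v (hVS hv)) _ (zpow_mem (hVS hv1) _), mul_inv_cancel_right,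
        hni, ← hic, zpow_neg, inv_mul_cancel_left]
      exact hc
    have h1 := mul_mem (mem_sup_left (zpow_mem (mem_zpowers v1) i) :
      v1 ^ i ∈ zpowers v1 ⊔ (zpowers t1 ⊔ K)) (mem_sup_right (hTgen t1 ht1T ht1K (hZT hz)))
    rwa [zpow_neg, mul_inv_cancel_left] at h1
  -- the centre has index `p ^ 2`
  have hcenT : center S = T.subgroupOf S := by
    ext x
    rw [hZ, mem_subgroupOf]
    exact ⟨fun hx => hZT hx, fun hx => hTZ hx⟩
  have hTS : T ≤ S := hTV.trans hVS
  have hindex : (center S).index = p ^ 2 := by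
    rw [hcenT]
    show T.relIndex S = _
    rw [← relIndex_mul_relIndex T V S hTV hVS, pow_two]
    congr 1
    · haveI hTVn : (T.subgroupOf V).Normal :=
        (normal_subgroupOf_iff_le_normalizer hTV).2 fun v hv => hST v (hVS hv)
      show (T.subgroupOf V).index = p
      rw [index_eq_card]
      set ξ := QuotientGroup.mk' (T.subgroupOf V)
      set x1 := ξ ⟨v1, hv1⟩
      have htop : zpowers x1 = ⊤ := by
        refine top_unique fun q _ => ?_
        obtain ⟨v, rfl⟩ := QuotientGroup.mk'_surjective _ q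
        have hle : zpowers t1 ⊔ K ≤ T := sup_le (zpowers_le.2 ht1T) le_sup_left
        obtain ⟨a, ha, c, hc, e⟩ := (CfsgLib.Solvable.mem_sup_of_le_normalizer (K := T)
          (zpowers_le.2 (hST v1 (hVS hv1)))).1 (sup_le_sup_left hle _ (hVgen v v.2))
        obtain ⟨i, rfl⟩ := mem_zpowers_iff.1 ha
        refine mem_zpowers_iff.2 ⟨i, ?_⟩
        rw [← map_zpow]
        refine QuotientGroup.eq.2 (mem_subgroupOf.2 ?_)
        simpa [← e] using hc
      rw [← card_top (G := V ⧸ T.subgroupOf V), ← htop, Nat.card_zpowers]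
      refine orderOf_eq_prime ?_ ?_
      · rw [← map_pow]
        exact (QuotientGroup.eq_one_iff _).2 (mem_subgroupOf.2 (mem_sup_left (hVexpK v1 hv1)))
      · exact fun hx => htT (mem_subgroupOf.1 ((QuotientGroup.eq_one_iff _).1 hx))
    · have := Subgroup.relIndex_ker S (f := π)
      rw [QuotientGroup.ker_mk'] at this
      rw [this, ← hEdef, ← hEz, Nat.card_zpowers, hordg]
  obtain ⟨hp3, hp2⟩ := hP.small hindex
  rcases hp.out.eq_two_or_odd' with h2 | hodd
  · -- the squaring map contradicts the automorphism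
    obtain ⟨σ, hσ, hfree⟩ := hp2 h2
    subst h2
    have hsq : ∀ z ∈ T, ∀ x ∈ S, (x * z) ^ 2 = x ^ 2 * z ^ 2 := fun z hz x hx =>
      (show Commute x z from hZc z (hTZ hz) x hx).mul_pow 2
    have hg1 : (⟨g, hg.1⟩ : S) ∉ center S := fun hm => hgV (hZV ((hZ _).1 hm))
    have hv1' : (⟨v1, hVS hv1⟩ : S) ∉ center S := fun hm => hv1Z ((hZ _).1 hm)
    set G1 : S := ⟨g, hg.1⟩
    set V1 : S := ⟨v1, hVS hv1⟩
    have hVG : V1 * G1 ∉ center S := fun hm => hgV (by
      have h1 := hZV ((hZ _).1 hm)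
      simpa [G1, V1] using mul_mem (inv_mem hv1) h1)
    have hG2 : ((G1 ^ 2 : S) : Y) ∈ K := by simpa [G1] using hgpK
    have hV2 : ((V1 ^ 2 : S) : Y) ∈ K := by simpa [V1] using hVexpK v1 hv1
    haveI hcn : (center S).Normal := inferInstance
    have hfour : ∀ x : S, x ∈ center S ∨ x * V1⁻¹ ∈ center S ∨ x * G1⁻¹ ∈ center S ∨
        x * (V1 * G1)⁻¹ ∈ center S := by
      intro x
      obtain ⟨v, hv, n, hx⟩ := hdecomp x x.2
      have hle : zpowers t1 ⊔ K ≤ T := sup_le (zpowers_le.2 ht1T) le_sup_left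
      obtain ⟨a, ha, c, hc, e⟩ := (CfsgLib.Solvable.mem_sup_of_le_normalizer (K := T)
        (zpowers_le.2 (hST v1 (hVS hv1)))).1 (sup_le_sup_left hle _ (hVgen v hv))
      obtain ⟨i, rfl⟩ := mem_zpowers_iff.1 ha
      let θ := QuotientGroup.mk' (center S)
      have hx' : x = V1 ^ i * (⟨c, hTS hc⟩ : S) * G1 ^ n := Subtype.ext (by
        simp [G1, V1, ← hx, ← e])
      have hθc : θ (⟨c, hTS hc⟩ : S) = 1 :=
        (QuotientGroup.eq_one_iff _).2 ((hZ _).2 (hTZ hc))
      have hθg : θ G1 ^ 2 = 1 := by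
        rw [← map_pow]; exact (QuotientGroup.eq_one_iff _).2 (hP.pow_central G1)
      have hθv : θ V1 ^ 2 = 1 := by
        rw [← map_pow]; exact (QuotientGroup.eq_one_iff _).2 (hP.pow_central V1)
      have hn : θ G1 ^ n = 1 ∨ θ G1 ^ n = θ G1 := by
        rcases Nat.even_or_odd' n with ⟨k, rfl | rfl⟩
        · left; rw [pow_mul, hθg, one_pow]
        · right; rw [pow_succ, pow_mul, hθg, one_pow, one_mul]
      have hi : θ V1 ^ i = 1 ∨ θ V1 ^ i = θ V1 := by
        rcases Int.even_or_odd' i with ⟨k, rfl | rfl⟩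
        · left; rw [zpow_mul, show ((2 : ℤ)) = ((2 : ℕ) : ℤ) from rfl, zpow_natCast, hθv, one_zpow]
        · right
          rw [zpow_add_one, zpow_mul, show ((2 : ℤ)) = ((2 : ℕ) : ℤ) from rfl, zpow_natCast, hθv,
            one_zpow, one_mul]
      have hθx : θ x = θ V1 ^ i * θ G1 ^ n := by
        rw [hx', map_mul, map_mul, map_zpow, map_pow, hθc, mul_one]
      have hin : ∀ y : S, θ x = θ y → x * y⁻¹ ∈ center S := fun y hy =>
        (QuotientGroup.eq_one_iff _).1 (show θ (x * y⁻¹) = 1 by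
          rw [map_mul, map_inv, hy, mul_inv_cancel])
      rcases hi with hi | hi <;> rcases hn with hn | hn <;> rw [hi, hn] at hθx
      · left; simpa using hin 1 (by simpa using hθx)
      · right; right; left; exact hin G1 (by simpa using hθx)
      · right; left; exact hin V1 (by simpa using hθx)
      · right; right; right; exact hin (V1 * G1) (by rw [map_mul]; exact hθx)
    have hσfix : ∀ x, x ∉ center S → σ x ∉ center S := fun x hx hm => hx (by
      have := hσ _ hm
      rwa [σ.injective this] at hm)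
    -- a representative of the third coset whose square lies in `K`
    have hfin : ∀ y : S, ((y ^ 2 : S) : Y) ∈ K → σ y * (V1 * G1)⁻¹ ∈ center S → False := by
      intro y hy hc
      set z := σ y * (V1 * G1)⁻¹ with hzdef
      have hσy : σ y = (V1 * G1) * z := by
        rw [mem_center_iff.1 hc, hzdef, inv_mul_cancel_right]
      have h1 : σ (y ^ 2) = y ^ 2 := hσ _ ((hZ _).2 (hKZ hy))
      rw [map_pow, hσy] at h1
      have h2 : ((V1 * G1) * z : S) ^ 2 = (V1 * G1) ^ 2 * z ^ 2 :=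
        (show Commute _ z from mem_center_iff.1 hc _).mul_pow 2
      rw [h2] at h1
      have h3 : ((z ^ 2 : S) : Y) ∈ K := by
        rw [SubgroupClass.coe_pow]
        exact hVexpK _ (hZV ((hZ _).1 hc))
      have h4 : (v1 * g) ^ 2 ∈ K := by
        have := congrArg Subtype.val h1
        simp only [Subgroup.coe_mul, SubgroupClass.coe_pow, V1, G1] at this h3 hy
        rw [← eq_mul_inv_iff_mul_eq] at this
        rw [this]
        exact mul_mem hy (inv_mem h3)
      refine ht1K ?_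
      let κ := QuotientGroup.mk' K
      refine (QuotientGroup.eq_one_iff _).1 (?_ : κ t1 = 1)
      have e1 : κ v1 * κ v1 = 1 := by
        rw [← map_mul, ← pow_two]; exact (QuotientGroup.eq_one_iff _).2 (hVexpK v1 hv1)
      have e2 : κ g * κ g = 1 := by
        rw [← map_mul, ← pow_two]; exact (QuotientGroup.eq_one_iff _).2 hgpK
      have e3 : κ v1 * κ g * (κ v1 * κ g) = 1 := by
        rw [← map_mul, ← map_mul, ← pow_two]; exact (QuotientGroup.eq_one_iff _).2 h4
      have i1 : (κ v1)⁻¹ = κ v1 := inv_eq_of_mul_eq_one_right e1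
      have i2 : (κ g)⁻¹ = κ g := inv_eq_of_mul_eq_one_right e2
      rw [ht1def, map_commutatorElement, commutatorElement_def, i1, i2]
      calc κ g * κ v1 * κ g * κ v1
          = (κ v1)⁻¹ * (κ v1 * κ g * (κ v1 * κ g)) * κ v1 := by group
        _ = 1 := by rw [e3, mul_one, inv_mul_cancel]
    rcases hfour (σ V1) with hc | hc | hc | hc
    · exact hσfix V1 hv1' hc
    · exact hfree V1 hv1' hc
    · rcases hfour (σ G1) with hd | hd | hd | hd
      · exact hσfix G1 hg1 hd
      · refine hfree (V1 * G1) hVG ?_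
        rw [map_mul]
        let θ := QuotientGroup.mk' (center S)
        have k1 : θ (σ V1) = θ G1 := by
          rw [← mul_inv_eq_one, ← map_inv, ← map_mul]; exact (QuotientGroup.eq_one_iff _).2 hc
        have k2 : θ (σ G1) = θ V1 := by
          rw [← mul_inv_eq_one, ← map_inv, ← map_mul]; exact (QuotientGroup.eq_one_iff _).2 hd
        refine (QuotientGroup.eq_one_iff _).1 (?_ : θ (σ V1 * σ G1 * (V1 * G1)⁻¹) = 1)
        rw [map_mul, map_inv, map_mul, map_mul, k1, k2, mul_inv_eq_one,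
          ← commutatorElement_eq_one_iff_mul_comm, ← map_commutatorElement]
        exact (QuotientGroup.eq_one_iff _).2 (hP.comm_central _ _)
      · exact hfree G1 hg1 hd
      · exact hfin G1 hG2 hd
    · exact hfin V1 hV2 hc
  · -- two transvections on a plane
    set κ := QuotientGroup.mk' K
    set W := V.map κ
    haveI hWn : W.Normal := Subgroup.Normal.map hVn κ (QuotientGroup.mk'_surjective K)
    haveI hWc : IsMulCommutative W := ⟨⟨by
      rintro ⟨_, a, ha, rfl⟩ ⟨_, b, hb, rfl⟩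
      refine Subtype.ext ?_
      show κ a * κ b = κ b * κ a
      rw [← commutatorElement_eq_one_iff_mul_comm, ← map_commutatorElement]
      exact (QuotientGroup.eq_one_iff _).2 (mem_sup_right (hVΦc a ha b hb))⟩⟩
    letI : CommGroup W := { (inferInstance : Group W) with mul_comm := hWc.is_comm.comm }
    have hWexp : ∀ w : W, w ^ p = 1 := by
      rintro ⟨_, a, ha, rfl⟩
      refine Subtype.ext ?_
      rw [SubgroupClass.coe_pow, ← map_pow]
      exact (QuotientGroup.eq_one_iff _).2 (hVexpK a ha)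
    let ρ : Y →* MulAut W := (MulAut.conjNormal (H := W)).comp κ
    have hρ : ∀ (y v : Y) (hv : v ∈ V), ((ρ y ⟨κ v, mem_map_of_mem κ hv⟩ : W) : Y ⧸ K) =
        κ (y * v * y⁻¹) := fun y v hv => by
      simp [ρ, MulAut.conjNormal_apply]
    let e1 : W := ⟨κ t1, mem_map_of_mem κ (hTV ht1T)⟩
    let e2 : W := ⟨κ v1, mem_map_of_mem κ hv1⟩
    have hu1 : ρ g e1 = e1 := Subtype.ext (by
      rw [hρ g t1 (hTV ht1T), hZc _ (hTZ ht1T) g hg.1, mul_inv_cancel_right])
    have hu2 : ρ g e2 = e2 * e1 := Subtype.ext (by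
      rw [hρ g v1 hv1, show g * v1 * g⁻¹ = t1 * v1 by
        rw [ht1def, commutatorElement_def, inv_mul_cancel_right], map_mul]
      exact congrArg Subtype.val (mul_comm e1 e2))
    set w := h⁻¹ * t1 * h with hwdef
    have hw : w ∈ V := by simpa using hVn.conj_mem t1 (hTV ht1T) h⁻¹
    have hwT : w ∉ T := by
      intro hwT
      have hback : ∀ v ∈ V, h⁻¹ * v * h ∈ T := by
        intro v hv
        have hle : zpowers v1 ⊔ (zpowers t1 ⊔ K) ≤ T.comap (MulAut.conj h⁻¹).toMonoidHom := by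
          refine sup_le (zpowers_le.2 ?_) (sup_le (zpowers_le.2 ?_) fun c hc => ?_)
          · show h⁻¹ * v1 * h⁻¹⁻¹ ∈ T
            rw [hv1def, inv_inv]
            simpa [mul_assoc] using ht
          · show h⁻¹ * t1 * h⁻¹⁻¹ ∈ T
            rw [inv_inv]; exact hwT
          · exact mem_sup_left (hKn.conj_mem c hc h⁻¹)
        have := hle (hVgen v hv)
        simpa using this
      have hVT : V ≤ T := fun v hv => by
        simpa [mul_assoc] using hback (h * v * h⁻¹) (hVn.conj_mem v hv h)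
      exact htT (hVT hv1)
    obtain ⟨_, ⟨c, rfl⟩, k, hk, hck⟩ := mem_sup_of_normal_right.1
      (hTgen t ht htK (mem_sup_right (commutator_mem_commutator hg.1 (hVS hw))))
    change t ^ c * k = ⁅g, w⁆ at hck
    have hc0 : ¬ (p : ℤ) ∣ c := by
      rintro ⟨j, rfl⟩
      refine houtZ w hw (fun hm => hwT (hZT hm)) (hck ▸ mul_mem ?_ hk)
      rw [zpow_mul, zpow_natCast]
      exact zpow_mem (hVexpK t (hTV ht)) j
    set g' := h * g * h⁻¹ with hg'def
    have hl2 : ρ g' e2 = e2 := Subtype.ext (by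
      rw [hρ g' v1 hv1, hg'def, hv1def,
        show h * g * h⁻¹ * (h * t * h⁻¹) * (h * g * h⁻¹)⁻¹ = h * (g * t * g⁻¹) * h⁻¹ by group,
        hZc _ (hTZ ht) g hg.1, mul_inv_cancel_right])
    have hl1 : ρ g' e1 = e1 * e2 ^ c := Subtype.ext (by
      rw [hρ g' t1 (hTV ht1T), hg'def,
        show h * g * h⁻¹ * t1 * (h * g * h⁻¹)⁻¹ = (h * ⁅g, w⁆ * h⁻¹) * t1 by
          rw [hwdef, commutatorElement_def]; group,
        ← hck, show h * (t ^ c * k) * h⁻¹ = (h * t * h⁻¹) ^ c * (h * k * h⁻¹) by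
          rw [conj_zpow]; group,
        map_mul, map_mul, show κ (h * k * h⁻¹) = 1 from
          (QuotientGroup.eq_one_iff _).2 (hKn.conj_mem k hk h), mul_one, map_zpow]
      exact congrArg Subtype.val (mul_comm (e2 ^ c) e1))
    have hpz : Prime (p : ℤ) := Int.prime_iff_natAbs_prime.2 (by simpa using hp.out)
    obtain ⟨a, j, hj⟩ := hpz.coprime_iff_not_dvd.2 hc0
    have hLpow : ∀ n : ℕ, (ρ g' ^ n) e1 = e1 * e2 ^ (c * n) ∧ (ρ g' ^ n) e2 = e2 := by
      intro n
      induction n with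
      | zero => exact ⟨by simp, rfl⟩
      | succ n ih =>
        refine ⟨?_, ?_⟩
        · rw [pow_succ', MulAut.mul_apply, ih.1, map_mul, map_zpow, hl1, hl2, mul_assoc, ← zpow_add]
          congr 2
          push_cast
          ring
        · rw [pow_succ', MulAut.mul_apply, ih.2, hl2]
    set n := (j % (p : ℤ)).toNat with hndef
    have hn : (n : ℤ) = j % p := Int.toNat_of_nonneg
      (Int.emod_nonneg _ (by exact_mod_cast hp.out.ne_zero))
    have hL1 : (ρ g' ^ n) e1 = e1 * e2 := by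
      rw [(hLpow n).1]
      congr 1
      have e : c * (n : ℤ) = (p : ℤ) * (-a - c * (j / p)) + 1 := by
        rw [hn, Int.emod_def]
        linear_combination hj
      rw [e, zpow_add_one, zpow_mul, zpow_natCast, hWexp, one_zpow, one_mul]
    have hgenW : Subgroup.closure ({e1, e2} : Set W) = ⊤ := by
      refine top_unique ?_
      rintro ⟨_, v, hv, rfl⟩ -
      have hle : zpowers v1 ⊔ (zpowers t1 ⊔ K) ≤
          ((Subgroup.closure ({e1, e2} : Set W)).map W.subtype).comap κ := by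
        refine sup_le (zpowers_le.2 ⟨e2, subset_closure (Or.inr rfl), rfl⟩)
          (sup_le (zpowers_le.2 ⟨e1, subset_closure (Or.inl rfl), rfl⟩) fun x hx => ?_)
        exact ⟨1, one_mem _, ((QuotientGroup.eq_one_iff x).2 hx).symm⟩
      obtain ⟨x, hx, e⟩ := hle (hVgen v hv)
      exact (Subtype.ext e : x = ⟨κ v, _⟩) ▸ hx
    obtain ⟨d, hd, hdu⟩ := exists_conj_eq_pow_four hgenW hodd hWexp (ρ g) (ρ g' ^ n) hu1 hu2 hL1
      (hLpow n).2
    -- everything lives in `R ⟨g⟩`, modulo `R`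
    set H0 := R ⊔ zpowers g
    have hgH : g ∈ H0 := mem_sup_right (mem_zpowers g)
    have hg'H : g' ∈ H0 := mul_mem (mul_mem (mem_sup_left (hQR hh)) hgH)
      (inv_mem (mem_sup_left (hQR hh)))
    have hdH : d ∈ H0.map ρ := by
      refine (closure_le _).2 ?_ hd
      rintro _ (rfl | rfl)
      · exact mem_map_of_mem ρ hgH
      · exact ⟨g' ^ n, pow_mem hg'H n, map_pow ρ g' n⟩
    obtain ⟨y, hy, rfl⟩ := hdH
    obtain ⟨r, hr, s, hs', rfl⟩ := mem_sup_of_normal_left.1 hy
    obtain ⟨m, rfl⟩ := mem_zpowers_iff.1 hs'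
    set r' := r * (g * r⁻¹ * g⁻¹)
    have hr' : r' ∈ R := mul_mem hr (hRn.conj_mem _ (inv_mem hr) g)
    have hu3 : ρ g ^ 3 = ρ r' := by
      have e : ρ (r * g ^ m) * ρ g * (ρ (r * g ^ m))⁻¹ = ρ r' * ρ g := by
        rw [← map_mul, ← map_inv, ← map_mul, ← map_mul]
        congr 1
        simp only [r']
        rw [mul_inv_rev]
        have : g ^ m * g = g * g ^ m := (Commute.zpow_self g m).eq
        calc r * g ^ m * g * ((g ^ m)⁻¹ * r⁻¹) = r * (g ^ m * g) * (g ^ m)⁻¹ * r⁻¹ := by group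
          _ = r * (g * r⁻¹ * g⁻¹) * g := by rw [this]; group
      rw [e, pow_succ] at hdu
      exact (mul_right_cancel hdu).symm
    -- `R` acts through a group of order prime to `p`
    obtain ⟨v, hv, q, hq, hvq⟩ := hVQR r' hr'
    have hρv : ρ v = 1 := MulEquiv.ext fun x => by
      obtain ⟨_, a, ha, rfl⟩ := x
      refine Subtype.ext ?_
      rw [hρ v a ha]
      show κ (v * a * v⁻¹) = κ a
      rw [map_mul, map_mul, map_inv, mul_inv_eq_iff_eq_mul]
      exact congrArg Subtype.val (hWc.is_comm.comm (⟨κ v, mem_map_of_mem κ hv⟩ : W)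
        ⟨κ a, mem_map_of_mem κ ha⟩)
    rw [← hvq, map_mul, hρv, one_mul] at hu3
    have hug : ρ g ^ p = 1 := by
      rw [← map_pow]
      refine MulEquiv.ext fun x => ?_
      obtain ⟨_, a, ha, rfl⟩ := x
      refine Subtype.ext ?_
      rw [hρ _ a ha, hZc _ (hpowZ g hg.1) a (hVS ha) |>.symm, mul_inv_cancel_right]
      rfl
    have h31 : ρ g ^ 3 = 1 := by
      have hq1 : (ρ g ^ 3) ^ Nat.card Q = 1 := by
        rw [hu3, ← map_pow, orderOf_dvd_iff_pow_eq_one.1 (Subgroup.orderOf_dvd_natCard Q hq),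
          map_one]
      have hq2 : (ρ g ^ 3) ^ p = 1 := by rw [← pow_mul, mul_comm, pow_mul, hug, one_pow]
      have h4 : (ρ g ^ 3) ^ Nat.gcd (Nat.card Q) p = 1 := pow_gcd_eq_one.2 ⟨hq1, hq2⟩
      rwa [hQc, pow_one] at h4
    have h3 : e1 ^ 3 = 1 := by
      have e : ∀ n : ℕ, (ρ g ^ n) e2 = e2 * e1 ^ n := by
        intro n
        induction n with
        | zero => simp
        | succ n ih =>
          rw [pow_succ', MulAut.mul_apply, ih, map_mul, map_pow, hu1, hu2, mul_assoc, ← pow_succ']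
      have := e 3
      rw [h31, MulAut.one_apply] at this
      exact left_eq_mul.1 this
    refine ht1K ((QuotientGroup.eq_one_iff _).1 (?_ : κ t1 = 1))
    have h5 : e1 ^ Nat.gcd 3 p = 1 := pow_gcd_eq_one.2 ⟨h3, hWexp e1⟩
    rw [(Nat.coprime_primes Nat.prime_three hp.out).2 (Ne.symm hp3), pow_one] at h5
    exact congrArg Subtype.val h5

end CfsgLib.SchmidtLength
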