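import Cfsg.Agent.Solvable.PGroupBasic
import Cfsg.Prelude.Def_CaseTheorems

/-!
Commuting non-abelian subgroups with small centre in 2-groups of sectional rank at most four.
-/

set_option autoImplicit false
set_option linter.style.haveILetI false
set_option linter.unusedSectionVars false

namespace CfsgLib.SectionalFour

open Subgroup
open scoped commutatorElement

variable {S : Type*} [Group S] [Finite S]

/-- A non-abelian subgroup whose centre is generated by the involution `z`. -/
structure SmallCentre (P : Subgroup S) (z : S) : Prop where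
  nonab : ∃ x ∈ P, ∃ y ∈ P, x * y ≠ y * x
  mem : z ∈ P
  ne : z ≠ 1
  sq : z * z = 1
  comm : ∀ x ∈ P, Commute z x
  center : ∀ x ∈ P, (∀ y ∈ P, Commute x y) → x = 1 ∨ x = z

theorem SmallCentre.of_card {P : Subgroup S} (hna : ¬ IsMulCommutative P)
    (hZ : Nat.card (Subgroup.center P) = 2) :
    ∃ z, SmallCentre P z ∧ (Subgroup.center P).map P.subtype = zpowers z := by
  obtain ⟨u, hu⟩ := exists_prime_orderOf_dvd_card' (G := Subgroup.center P) 2 (hZ ▸ dvd_rfl)
  set z : S := ((u : P) : S) with hz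
  have hord : orderOf z = 2 := by rw [hz, Subgroup.orderOf_coe, Subgroup.orderOf_coe, hu]
  have hmap : (Subgroup.center P).map P.subtype = zpowers z := by
    refine (eq_of_le_of_card_ge ((zpowers_le (g := z)).2 (mem_map_of_mem P.subtype u.2)) ?_).symm
    rw [card_map_of_injective P.subtype_injective, hZ, Nat.card_zpowers, hord]
  refine ⟨z, ⟨?_, (u : P).2, fun h => ?_, ?_, fun x hx => ?_, fun x hx hc => ?_⟩, hmap⟩
  · by_contra h
    push Not at h
    exact hna ⟨⟨fun a b => Subtype.ext (h a a.2 b b.2)⟩⟩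
  · rw [h, orderOf_one] at hord; omega
  · rw [← pow_two, ← hord, pow_orderOf_eq_one]
  · exact congrArg Subtype.val (mem_center_iff.1 u.2 ⟨x, hx⟩).symm
  · have h1 : x ∈ (Subgroup.center P).map P.subtype :=
      ⟨⟨x, hx⟩, mem_center_iff.2 fun y => Subtype.ext (hc y y.2).eq.symm, rfl⟩
    rw [hmap] at h1
    obtain ⟨i, rfl⟩ := h1
    rcases Int.even_or_odd' i with ⟨j, rfl | rfl⟩
    · left; show z ^ (2 * j) = 1
      rw [zpow_mul, zpow_two, ← pow_two, ← hord, pow_orderOf_eq_one, one_zpow]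
    · right; show z ^ (2 * j + 1) = z
      rw [zpow_add, zpow_mul, zpow_two, ← pow_two, ← hord, pow_orderOf_eq_one, one_zpow, one_mul, zpow_one]

/-- A subgroup with two different small centres is excluded. -/
theorem SmallCentre.eq {P : Subgroup S} {z w : S} (h : SmallCentre P z) (h' : SmallCentre P w) :
    z = w :=
  (h'.center z h.mem fun y hy => h.comm y hy).resolve_left h.ne

theorem SmallCentre.map {P : Subgroup S} {z : S} (h : SmallCentre P z) (s : S) :
    SmallCentre (P.map (MulAut.conj s).toMonoidHom) (s * z * s⁻¹) := by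
  set f := (MulAut.conj s).toMonoidHom
  have hinj : Function.Injective f := (MulAut.conj s).injective
  refine ⟨?_, mem_map_of_mem f h.mem, fun e => h.ne (hinj (e.trans (map_one f).symm)), ?_, ?_, ?_⟩
  · obtain ⟨x, hx, y, hy, hne⟩ := h.nonab
    exact ⟨f x, mem_map_of_mem f hx, f y, mem_map_of_mem f hy,
      fun e => hne (hinj (by rw [map_mul, map_mul]; exact e))⟩
  · show f z * f z = 1
    rw [← map_mul, h.sq, map_one]
  · rintro _ ⟨x, hx, rfl⟩
    show Commute (f z) (f x)
    exact (h.comm x hx).map f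
  · rintro _ ⟨x, hx, rfl⟩ hc
    rcases h.center x hx (fun y hy => hinj (by
      rw [map_mul, map_mul]; exact (hc _ (mem_map_of_mem f hy)).eq)) with e | e
    · exact Or.inl (by rw [e, map_one])
    · exact Or.inr (by rw [e]; rfl)

theorem SmallCentre.four_le_index {P : Subgroup S} {z : S} (h : SmallCentre P z)
    (hS : IsPGroup 2 S) : 4 ≤ (frattini P).index := by
  have h0 : (frattini P).index ≠ 0 := index_ne_zero_of_finite
  obtain ⟨k, hk⟩ := (hS.to_subgroup P).index (frattini P)
  by_contra hlt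
  have hk2 : k ≤ 1 := by
    by_contra hk1
    have : 2 ^ 2 ≤ 2 ^ k := Nat.pow_le_pow_right two_pos (by omega)
    omega
  have hc : IsCyclic (P ⧸ frattini P) := by
    rcases Nat.eq_zero_or_pos k with rfl | hkp
    · haveI : Subsingleton (P ⧸ frattini P) :=
        (Nat.card_eq_one_iff_unique.1 ((index_eq_card _).symm.trans (by simpa using hk))).1
      exact isCyclic_of_subsingleton
    · exact isCyclic_of_prime_card (p := 2) ((index_eq_card _).symm.trans (by rw [hk, show k = 1 by omega, pow_one]))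
  obtain ⟨g, hg⟩ := hc.exists_generator
  obtain ⟨g, rfl⟩ := QuotientGroup.mk'_surjective _ g
  have htop : zpowers g = ⊤ := frattini_nongenerating (eq_top_iff.2 fun x _ => by
    obtain ⟨i, hi⟩ := mem_zpowers_iff.1 (hg (QuotientGroup.mk' _ x))
    have h1 : (g ^ i)⁻¹ * x ∈ frattini P := QuotientGroup.eq.1 (by
      rw [← QuotientGroup.mk'_apply, map_zpow]; exact hi)
    have := mul_mem (mem_sup_left (T := frattini P) (zpow_mem (mem_zpowers g) i))
      (mem_sup_right (S := zpowers g) h1)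
    rwa [mul_inv_cancel_left] at this)
  obtain ⟨x, hx, y, hy, hne⟩ := h.nonab
  obtain ⟨i, hi⟩ := mem_zpowers_iff.1 (htop.ge (mem_top (⟨x, hx⟩ : P)))
  obtain ⟨j, hj⟩ := mem_zpowers_iff.1 (htop.ge (mem_top (⟨y, hy⟩ : P)))
  exact hne (congrArg Subtype.val (show (⟨x, hx⟩ : P) * ⟨y, hy⟩ = ⟨y, hy⟩ * ⟨x, hx⟩ by
    rw [← hi, ← hj, ← zpow_add, ← zpow_add, add_comm]))

theorem SmallCentre.mem_frattini {P : Subgroup S} {z : S} (h : SmallCentre P z)
    (hS : IsPGroup 2 S) : z ∈ (frattini P).map P.subtype := by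
  haveI := (hS.to_subgroup P).isNilpotent
  have hne : commutator P ≠ ⊥ := fun e => by
    obtain ⟨x, hx, y, hy, hne⟩ := h.nonab
    have h1 : ⁅(⟨x, hx⟩ : P), (⟨y, hy⟩ : P)⁆ ∈ commutator P :=
      commutator_mem_commutator (mem_top _) (mem_top _)
    rw [e, mem_bot, commutatorElement_eq_one_iff_mul_comm] at h1
    exact hne (congrArg Subtype.val h1)
  obtain ⟨u, hu, hu1⟩ := (bot_or_exists_ne_one _).resolve_left
    (CfsgLib.PGroupBasic.inf_center_ne_bot _ hne)
  refine ⟨u, (CfsgLib.PGroupBasic.commutator_pow_le_frattini (hS.to_subgroup P)).1 hu.1, ?_⟩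
  exact (h.center u u.2 fun y hy => congrArg Subtype.val (mem_center_iff.1 hu.2 ⟨y, hy⟩).symm).resolve_left
    fun e => hu1 (Subtype.ext e)

/-- Mutually normalising subgroups with different small centres commute and meet trivially. -/
theorem disjoint_commute (hS : IsPGroup 2 S) {P Q : Subgroup S} {z w : S} (hP : SmallCentre P z)
    (hQ : SmallCentre Q w) (hne : z ≠ w) (hPQ : P ≤ normalizer (Q : Set S))
    (hQP : Q ≤ normalizer (P : Set S)) :
    P ⊓ Q = ⊥ ∧ ∀ x ∈ P, ∀ y ∈ Q, Commute x y := by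
  have hbot : P ⊓ Q = ⊥ := by
    by_contra hb
    haveI := (hS.to_subgroup (P ⊔ Q)).isNilpotent
    set K := (P ⊓ Q).subgroupOf (P ⊔ Q)
    haveI : K.Normal := by
      refine (normal_subgroupOf_iff_le_normalizer (inf_le_left.trans le_sup_left)).2 ?_
      refine sup_le (fun g hg => ?_) (fun g hg => ?_) <;> rw [mem_normalizer_iff] <;> intro x
      · exact and_congr (mem_normalizer_iff.1 (le_normalizer hg) x) (mem_normalizer_iff.1 (hPQ hg) x)
      · exact and_congr (mem_normalizer_iff.1 (hQP hg) x) (mem_normalizer_iff.1 (le_normalizer hg) x)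
    have hKne : K ≠ ⊥ := fun h => hb (by
      have := congrArg (Subgroup.map (P ⊔ Q).subtype) h
      rwa [map_subgroupOf_eq_of_le (inf_le_left.trans le_sup_left), Subgroup.map_bot] at this)
    obtain ⟨u, hu, hu1⟩ := (bot_or_exists_ne_one _).resolve_left
      (CfsgLib.PGroupBasic.inf_center_ne_bot K hKne)
    have h1 : ∀ y ∈ P ⊔ Q, Commute (u : S) y := fun y hy =>
      congrArg Subtype.val (mem_center_iff.1 hu.2 ⟨y, hy⟩).symm
    have hu1' : (u : S) ≠ 1 := fun e => hu1 (Subtype.ext e)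
    have e1 := (hP.center _ (mem_subgroupOf.1 hu.1).1 fun y hy => h1 y (mem_sup_left hy)).resolve_left hu1'
    have e2 := (hQ.center _ (mem_subgroupOf.1 hu.1).2 fun y hy => h1 y (mem_sup_right hy)).resolve_left hu1'
    exact hne (e1.symm.trans e2)
  refine ⟨hbot, fun x hx y hy => commutatorElement_eq_one_iff_mul_comm.1 (mem_bot.1 (hbot.le ⟨?_, ?_⟩))⟩
  · rw [commutatorElement_def, show x * y * x⁻¹ * y⁻¹ = x * (y * x⁻¹ * y⁻¹) by group]
    exact mul_mem hx ((mem_normalizer_iff.1 (hQP hy) _).1 (P.inv_mem hx))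
  · rw [commutatorElement_def]
    exact mul_mem ((mem_normalizer_iff.1 (hPQ hx) _).1 hy) (Q.inv_mem hy)

/-- An elementary abelian section above commuting disjoint subgroups adds up. -/
theorem section_bound (hr : Cfsg.SectionalPRankLE 2 4 S) {K N : Subgroup S} (hNK : N ≤ K)
    (hN : K ≤ normalizer (N : Set S))
    (hcomm : ∀ x ∈ K, ∀ y ∈ K, x * y * x⁻¹ * y⁻¹ ∈ N) (hsq : ∀ x ∈ K, x * x ∈ N) :
    Nat.card K ≤ 16 * Nat.card N := by
  haveI : (N.subgroupOf K).Normal := (normal_subgroupOf_iff_le_normalizer hNK).2 hN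
  have h := hr K (N.subgroupOf K) ⊤ ⟨⟨fun u v => Subtype.ext (by
      obtain ⟨u', hu⟩ := QuotientGroup.mk'_surjective (N.subgroupOf K) u.1
      obtain ⟨v', hv⟩ := QuotientGroup.mk'_surjective (N.subgroupOf K) v.1
      show u.1 * v.1 = v.1 * u.1
      rw [← hu, ← hv, ← commutatorElement_eq_one_iff_mul_comm, ← map_commutatorElement]
      exact (QuotientGroup.eq_one_iff _).2 (mem_subgroupOf.2 (hcomm u' u'.2 v' v'.2)))⟩⟩
    (fun u _ => by
      obtain ⟨u, rfl⟩ := QuotientGroup.mk'_surjective (N.subgroupOf K) u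
      rw [← map_pow]
      refine (QuotientGroup.eq_one_iff _).2 (mem_subgroupOf.2 ?_)
      rw [SubmonoidClass.coe_pow, pow_two]
      exact hsq u u.2)
  rw [card_top, ← index_eq_card] at h
  have e := (N.subgroupOf K).card_mul_index
  rw [Nat.card_congr (subgroupOfEquivOfLe hNK).toEquiv] at e
  rw [← e, mul_comm 16]
  exact Nat.mul_le_mul_left _ h

theorem frattini_sq_comm (hS : IsPGroup 2 S) (P : Subgroup S) :
    (∀ x ∈ P, x * x ∈ (frattini P).map P.subtype) ∧
      (∀ x ∈ P, ∀ y ∈ P, x * y * x⁻¹ * y⁻¹ ∈ (frattini P).map P.subtype) ∧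
      P ≤ normalizer (((frattini P).map P.subtype : Subgroup S) : Set S) := by
  obtain ⟨hc, hp⟩ := CfsgLib.PGroupBasic.commutator_pow_le_frattini (hS.to_subgroup P)
  refine ⟨fun x hx => ⟨⟨x, hx⟩ ^ 2, hp _, by simp [pow_two]⟩,
    fun x hx y hy => ⟨⁅⟨x, hx⟩, ⟨y, hy⟩⁆, hc (commutator_mem_commutator (mem_top _) (mem_top _)),
      by simp [commutatorElement_def]⟩, ?_⟩
  refine le_trans ?_ (le_normalizer_map P.subtype)
  rw [normalizer_eq_top, ← MonoidHom.range_eq_map, range_subtype]

/-- Commuting disjoint non-abelian subgroups with small centre generate their centralizer. -/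
theorem centralizer_sup_le (hS : IsPGroup 2 S) (hr : Cfsg.SectionalPRankLE 2 4 S) {P Q : Subgroup S}
    {z w : S} (hP : SmallCentre P z) (hQ : SmallCentre Q w) (hbot : P ⊓ Q = ⊥)
    (hc : ∀ x ∈ P, ∀ y ∈ Q, Commute x y) :
    centralizer ((P ⊔ Q : Subgroup S) : Set S) ≤ P ⊔ Q := by
  classical
  intro x hx
  by_contra hxW
  set W := P ⊔ Q with hW
  obtain ⟨n, hn⟩ := hS x
  obtain ⟨t, htC, htW, htt⟩ : ∃ t, t ∈ centralizer (W : Set S) ∧ t ∉ W ∧ t * t ∈ W := by
    clear hr
    induction n generalizing x with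
    | zero => exact absurd (by rw [pow_zero, pow_one] at hn; exact hn ▸ one_mem W) hxW
    | succ n ihn =>
      by_cases h2 : x ^ 2 ∈ W
      · exact ⟨x, hx, hxW, by rwa [← pow_two]⟩
      · exact ihn (pow_mem hx 2) h2 (by rw [← pow_mul, ← pow_succ', hn])
  have hPQn : P ≤ normalizer (Q : Set S) := fun x hx => centralizer_le_normalizer _
    (mem_centralizer_iff.2 fun y hy => (hc x hx y hy).eq.symm)
  set NP := (frattini P).map P.subtype with hNP
  set NQ := (frattini Q).map Q.subtype with hNQ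
  obtain ⟨hsqP, hcP, hnP⟩ := frattini_sq_comm hS P
  obtain ⟨hsqQ, hcQ, hnQ⟩ := frattini_sq_comm hS Q
  set N := NP ⊔ NQ with hN
  have hWC : ∀ g ∈ W, ∃ a ∈ P, ∃ b ∈ Q, g = a * b := fun g hg => by
    obtain ⟨a, ha, b, hb, e⟩ := (CfsgLib.Solvable.mem_sup_of_le_normalizer hPQn).1 hg
    exact ⟨a, ha, b, hb, e.symm⟩
  have htz : t * t ∈ N := by
    obtain ⟨a, ha, b, hb, e⟩ := hWC _ htt
    have hca : ∀ y ∈ P, Commute a y := fun y hy => by
      have h1 : y * (t * t) = t * t * y :=
        mem_centralizer_iff.1 (mul_mem htC htC) y (mem_sup_left hy)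
      rw [e, ← mul_assoc, mul_assoc a, ← (hc y hy b hb).eq, ← mul_assoc] at h1
      exact (mul_right_cancel h1).symm
    have hcb : ∀ y ∈ Q, Commute b y := fun y hy => by
      have h1 : y * (t * t) = t * t * y :=
        mem_centralizer_iff.1 (mul_mem htC htC) y (mem_sup_right hy)
      rw [e, ← mul_assoc, ← (hc a ha y hy).eq, mul_assoc, mul_assoc] at h1
      exact (mul_left_cancel h1).symm
    rw [e]
    refine mul_mem (mem_sup_left ?_) (mem_sup_right ?_)
    · rcases hP.center a ha hca with rfl | rfl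
      exacts [one_mem _, hP.mem_frattini hS]
    · rcases hQ.center b hb hcb with rfl | rfl
      exacts [one_mem _, hQ.mem_frattini hS]
  set K := W ⊔ zpowers t with hK
  have htn : zpowers t ≤ centralizer (W : Set S) := zpowers_le.2 htC
  have hNK : N ≤ K :=
    (sup_le ((map_subtype_le _).trans le_sup_left) ((map_subtype_le _).trans le_sup_right) : N ≤ W).trans le_sup_left
  have hKN : K ≤ normalizer (N : Set S) := by
    have h1 : ∀ g, g ∈ normalizer (NP : Set S) → g ∈ normalizer (NQ : Set S) →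
        g ∈ normalizer (N : Set S) := fun g h2 h3 =>
      Subgroup.normalizer_inf_normalizer_le_normalizer_sup NP NQ ⟨h2, h3⟩
    have hPc : P ≤ centralizer (Q : Set S) := fun x hx =>
      mem_centralizer_iff.2 fun y hy => (hc x hx y hy).eq.symm
    have hQc : Q ≤ centralizer (P : Set S) := fun y hy =>
      mem_centralizer_iff.2 fun x hx => (hc x hx y hy).eq
    refine sup_le (sup_le (fun g hg => h1 g (hnP hg) ?_) (fun g hg => h1 g ?_ (hnQ hg)))
      (fun g hg => h1 g ?_ ?_)
    · exact centralizer_le_normalizer _ (Subgroup.centralizer_le (fun y hy => map_subtype_le _ hy) (hPc hg))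
    · exact centralizer_le_normalizer _ (Subgroup.centralizer_le (fun y hy => map_subtype_le _ hy) (hQc hg))
    · exact centralizer_le_normalizer _ (Subgroup.centralizer_le
        (fun y hy => (le_sup_left : P ≤ W) (map_subtype_le _ hy)) (htn hg))
    · exact centralizer_le_normalizer _ (Subgroup.centralizer_le
        (fun y hy => (le_sup_right : Q ≤ W) (map_subtype_le _ hy)) (htn hg))
  have hdec : ∀ g ∈ K, ∃ a ∈ P, ∃ b ∈ Q, ∃ i : ℤ, g = a * b * t ^ i := fun g hg => by
    rw [hK, sup_comm] at hg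
    obtain ⟨_, ⟨i, rfl⟩, g1, hg1, e⟩ := (CfsgLib.Solvable.mem_sup_of_le_normalizer
      (htn.trans (centralizer_le_normalizer _))).1 hg
    obtain ⟨a, ha, b, hb, rfl⟩ := hWC g1 hg1
    exact ⟨a, ha, b, hb, i, e.symm.trans ((mem_centralizer_iff.1 (zpow_mem htC i) _ hg1).symm)⟩
  have hct : ∀ g ∈ W, ∀ i : ℤ, Commute g (t ^ i) := fun g hg i =>
    Commute.zpow_right (mem_centralizer_iff.1 htC g hg) i
  have hbound := section_bound hr hNK hKN (fun g hg h hh => by
    obtain ⟨a, ha, b, hb, i, rfl⟩ := hdec g hg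
    obtain ⟨a', ha', b', hb', j, rfl⟩ := hdec h hh
    have e : a * b * t ^ i * (a' * b' * t ^ j) * (a * b * t ^ i)⁻¹ * (a' * b' * t ^ j)⁻¹ =
        (a * a' * a⁻¹ * a'⁻¹) * (b * b' * b⁻¹ * b'⁻¹) := by
      have hw : ∀ x ∈ W, ∀ k : ℤ, t ^ k * x = x * t ^ k := fun x hx k => (hct x hx k).eq.symm
      have hab : ∀ x ∈ P, ∀ y ∈ Q, y * x = x * y := fun x hx y hy => (hc x hx y hy).eq.symm
      have k1 : a * b * t ^ i * (a' * b' * t ^ j) = (a * a') * (b * b') * (t ^ i * t ^ j) := by
        rw [← mul_assoc, mul_assoc (a * b), hw _ (mul_mem (mem_sup_left ha') (mem_sup_right hb')) i]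
        rw [show a * b * (a' * b' * t ^ i) * t ^ j = a * (b * a') * b' * (t ^ i * t ^ j) by group,
          hab a' ha' b hb]; group
      have k2 : a' * b' * t ^ j * (a * b * t ^ i) = (a' * a) * (b' * b) * (t ^ i * t ^ j) := by
        rw [← mul_assoc, mul_assoc (a' * b'), hw _ (mul_mem (mem_sup_left ha) (mem_sup_right hb)) j]
        rw [show a' * b' * (a * b * t ^ j) * t ^ i = a' * (b' * a) * b * (t ^ j * t ^ i) by group,
          hab a ha b' hb', ← zpow_add, ← zpow_add, add_comm]; group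
      rw [mul_assoc, ← mul_inv_rev, k1, k2]
      have k3 := hab (a * a' * a⁻¹ * a'⁻¹) (mul_mem (mul_mem (mul_mem ha ha') (inv_mem ha)) (inv_mem ha'))
        (b * b' * b⁻¹ * b'⁻¹) (mul_mem (mul_mem (mul_mem hb hb') (inv_mem hb)) (inv_mem hb'))
      have k4 := hab (a' * a)⁻¹ (inv_mem (mul_mem ha' ha)) (b * b' * (b' * b)⁻¹)
        (mul_mem (mul_mem hb hb') (inv_mem (mul_mem hb' hb)))
      calc a * a' * (b * b') * (t ^ i * t ^ j) * (a' * a * (b' * b) * (t ^ i * t ^ j))⁻¹
          = a * a' * (b * b' * (b' * b)⁻¹ * (a' * a)⁻¹) := by group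
        _ = a * a' * ((a' * a)⁻¹ * (b * b' * (b' * b)⁻¹)) := by rw [k4]
        _ = _ := by group
    rw [e]
    exact mul_mem (mem_sup_left (hcP a ha a' ha')) (mem_sup_right (hcQ b hb b' hb'))) (fun g hg => by
    obtain ⟨a, ha, b, hb, i, rfl⟩ := hdec g hg
    have hab : a * b ∈ W := mul_mem (mem_sup_left ha) (mem_sup_right hb)
    rw [show a * b * t ^ i * (a * b * t ^ i) = a * b * (t ^ i * (a * b)) * t ^ i by group,
      ← (hct _ hab i).eq,
      show a * b * (a * b * t ^ i) * t ^ i = a * (b * a) * b * (t ^ i * t ^ i) by group,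
      ← (hc a ha b hb).eq, ← zpow_add, ← two_mul, zpow_mul, zpow_two,
      show a * (a * b) * b = (a * a) * (b * b) by group]
    exact mul_mem (mul_mem (mem_sup_left (hsqP a ha)) (mem_sup_right (hsqQ b hb))) (zpow_mem htz i))
  have cW : Nat.card W = Nat.card P * Nat.card Q :=
    CfsgLib.Solvable.card_sup_of_disjoint hPQn hbot
  have cN : Nat.card N = Nat.card NP * Nat.card NQ := by
    refine CfsgLib.Solvable.card_sup_of_disjoint ?_
      (le_bot_iff.1 ((inf_le_inf (map_subtype_le _) (map_subtype_le _)).trans hbot.le))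
    exact fun g hg => centralizer_le_normalizer _ (mem_centralizer_iff.2 fun y hy =>
      (hc g (map_subtype_le _ hg) y (map_subtype_le _ hy)).eq.symm)
  have eP := (frattini P).card_mul_index
  have eQ := (frattini Q).card_mul_index
  rw [← card_map_of_injective (K := frattini P) P.subtype_injective, ← hNP] at eP
  rw [← card_map_of_injective (K := frattini Q) Q.subtype_injective, ← hNQ] at eQ
  have i4P := hP.four_le_index hS
  have i4Q := hQ.four_le_index hS
  have hlt : 2 * Nat.card W ≤ Nat.card K := by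
    have h := (W.subgroupOf K).card_mul_index
    rw [Nat.card_congr (subgroupOfEquivOfLe le_sup_left).toEquiv] at h
    rw [← h, mul_comm 2]
    refine Nat.mul_le_mul_left _ ?_
    have h1 : (W.subgroupOf K).index ≠ 1 := fun e =>
      htW (relIndex_eq_one.1 e (mem_sup_right (mem_zpowers t)))
    have h0 : (W.subgroupOf K).index ≠ 0 := index_ne_zero_of_finite
    omega
  rw [cW, ← eP, ← eQ] at hlt
  rw [cN] at hbound
  have hpos : 0 < Nat.card NP * Nat.card NQ := Nat.mul_pos Nat.card_pos Nat.card_pos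
  have h16 : Nat.card NP * Nat.card NQ * 16 ≤
      Nat.card NP * Nat.card NQ * ((frattini P).index * (frattini Q).index) :=
    Nat.mul_le_mul_left _ (show 16 ≤ _ from Nat.mul_le_mul i4P i4Q)
  nlinarith

end CfsgLib.SectionalFour
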