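import Cfsg.Agent.Solvable.SectionalFour

/-!
The centralizer of the centre of a subgroup with small centre in a 2-group of sectional rank four.
-/

set_option autoImplicit false
set_option linter.style.haveILetI false
set_option linter.unusedSectionVars false

namespace CfsgLib.SectionalFour

open Subgroup
open scoped commutatorElement

variable {S : Type*} [Group S] [Finite S]

/-- Sectional rank of one of two commuting disjoint subgroups with small centre. -/
theorem sectional_two (hS : IsPGroup 2 S) (hr : Cfsg.SectionalPRankLE 2 4 S) {P Q : Subgroup S}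
    {w : S} (hQ : SmallCentre Q w) (hbot : P ⊓ Q = ⊥)
    (hc : ∀ x ∈ P, ∀ y ∈ Q, Commute x y) : Cfsg.SectionalPRankLE 2 2 P := by
  intro H N hN A hA hA2
  set f : ↥H →* S := P.subtype.comp H.subtype with hf
  have hfi : Function.Injective f := P.subtype_injective.comp H.subtype_injective
  set π := QuotientGroup.mk' N
  set KA := (A.comap π).map f with hKA
  set N' := N.map f with hN'
  have hNA : N ≤ A.comap π := fun x hx => by
    show π x ∈ A
    rw [show π x = 1 from (QuotientGroup.eq_one_iff x).2 hx]; exact one_mem A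
  have hKP : KA ≤ P := by rintro _ ⟨x, _, rfl⟩; exact (H.subtype x).2
  have hN'KA : N' ≤ KA := map_mono hNA
  have cKA : Nat.card KA = Nat.card N' * Nat.card A := by
    rw [hKA, hN', card_map_of_injective hfi, card_map_of_injective hfi,
      ← relIndex_bot_left, ← relIndex_mul_relIndex ⊥ N _ bot_le hNA, relIndex_bot_left]
    congr 1
    have hk : π.ker = N := QuotientGroup.ker_mk' N
    have e := relIndex_comap ⊥ π (A.comap π)
    rw [MonoidHom.comap_bot, hk, map_comap_eq_self_of_surjective (QuotientGroup.mk'_surjective N),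
      relIndex_bot_left] at e
    exact e
  obtain ⟨hsqQ, hcQ, hnQ⟩ := frattini_sq_comm hS Q
  set NQ := (frattini Q).map Q.subtype with hNQ
  have hPc : ∀ x ∈ P, x ∈ centralizer (Q : Set S) := fun x hx =>
    mem_centralizer_iff.2 fun y hy => (hc x hx y hy).eq.symm
  have hQc : ∀ y ∈ Q, y ∈ centralizer (P : Set S) := fun y hy =>
    mem_centralizer_iff.2 fun x hx => (hc x hx y hy).eq
  have hKAQ : KA ≤ normalizer (Q : Set S) := fun x hx => centralizer_le_normalizer _ (hPc x (hKP hx))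
  set K := KA ⊔ Q with hK
  set M := N' ⊔ NQ with hM
  have hMK : M ≤ K := sup_le_sup hN'KA (map_subtype_le _)
  have hnorm : K ≤ normalizer (M : Set S) := by
    refine sup_le (fun g hg => ?_) (fun g hg => ?_) <;>
      refine Subgroup.normalizer_inf_normalizer_le_normalizer_sup N' NQ ⟨?_, ?_⟩
    · obtain ⟨x, _, rfl⟩ := hg
      exact le_normalizer_map f ⟨x, by rw [normalizer_eq_top]; exact mem_top x, rfl⟩
    · exact centralizer_le_normalizer _
        (Subgroup.centralizer_le (fun y hy => map_subtype_le _ hy) (hPc g (hKP hg)))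
    · exact centralizer_le_normalizer _
        (Subgroup.centralizer_le (fun y hy => hKP (hN'KA hy)) (hQc g hg))
    · exact hnQ hg
  have hdec : ∀ g ∈ K, ∃ a ∈ KA, ∃ b ∈ Q, a * b = g := fun g hg =>
    (CfsgLib.Solvable.mem_sup_of_le_normalizer hKAQ).1 hg
  have hcA : ∀ a ∈ KA, ∀ a' ∈ KA, a * a' * a⁻¹ * a'⁻¹ ∈ N' := by
    rintro _ ⟨x, hx, rfl⟩ _ ⟨y, hy, rfl⟩
    refine ⟨x * y * x⁻¹ * y⁻¹, (QuotientGroup.eq_one_iff _).1 ?_, by simp⟩
    have e : π x * π y = π y * π x := congrArg Subtype.val (hA.1.comm ⟨π x, hx⟩ ⟨π y, hy⟩)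
    show π (x * y * x⁻¹ * y⁻¹) = 1
    rw [map_mul, map_mul, map_mul, e, map_inv, map_inv]; group
  have hsA : ∀ a ∈ KA, a * a ∈ N' := by
    rintro _ ⟨x, hx, rfl⟩
    refine ⟨x ^ 2, (QuotientGroup.eq_one_iff _).1 ?_, by simp [pow_two]⟩
    show π (x ^ 2) = 1
    rw [map_pow]; exact hA2 _ hx
  have hb := section_bound hr hMK hnorm (fun g hg h hh => by
    obtain ⟨a, ha, b, hb, rfl⟩ := hdec g hg
    obtain ⟨a', ha', b', hb', rfl⟩ := hdec h hh
    have e : a * b * (a' * b') * (a * b)⁻¹ * (a' * b')⁻¹ =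
        (a * a' * a⁻¹ * a'⁻¹) * (b * b' * b⁻¹ * b'⁻¹) := by
      rw [mul_inv_rev, mul_inv_rev, mul_assoc a b, ← mul_assoc b, ← (hc a' (hKP ha') b hb).eq]
      have k := hc a⁻¹ (inv_mem (hKP ha)) b'⁻¹ (inv_mem hb')
      have k2 := hc (a⁻¹ * a'⁻¹) (mul_mem (inv_mem (hKP ha)) (inv_mem (hKP ha')))
        (b * b' * b⁻¹ * b'⁻¹) (mul_mem (mul_mem (mul_mem hb hb') (inv_mem hb)) (inv_mem hb'))
      calc a * (a' * b * b') * (b⁻¹ * a⁻¹) * (b'⁻¹ * a'⁻¹)
          = a * a' * b * b' * b⁻¹ * (a⁻¹ * b'⁻¹) * a'⁻¹ := by group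
        _ = a * a' * (b * b' * b⁻¹ * b'⁻¹ * (a⁻¹ * a'⁻¹)) := by rw [k.eq]; group
        _ = a * a' * ((a⁻¹ * a'⁻¹) * (b * b' * b⁻¹ * b'⁻¹)) := by rw [k2.eq]
        _ = _ := by group
    rw [e]
    exact mul_mem (mem_sup_left (hcA a ha a' ha')) (mem_sup_right (hcQ b hb b' hb')))
    (fun g hg => by
    obtain ⟨a, ha, b, hb, rfl⟩ := hdec g hg
    rw [(hc a (hKP ha) b hb).symm.mul_mul_mul_comm]
    exact mul_mem (mem_sup_left (hsA a ha)) (mem_sup_right (hsqQ b hb)))
  have cK : Nat.card K = Nat.card KA * Nat.card Q := CfsgLib.Solvable.card_sup_of_disjoint hKAQ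
    (le_bot_iff.1 ((inf_le_inf hKP le_rfl).trans hbot.le))
  have cM : Nat.card M = Nat.card N' * Nat.card NQ := CfsgLib.Solvable.card_sup_of_disjoint
    (fun g hg => centralizer_le_normalizer _
      (Subgroup.centralizer_le (fun y hy => map_subtype_le _ hy) (hPc g (hKP (hN'KA hg)))))
    (le_bot_iff.1 ((inf_le_inf (hN'KA.trans hKP) (map_subtype_le _)).trans hbot.le))
  have eQ := (frattini Q).card_mul_index
  rw [← card_map_of_injective (K := frattini Q) Q.subtype_injective, ← hNQ] at eQ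
  have i4 := hQ.four_le_index hS
  rw [cK, cM, cKA, ← eQ] at hb
  have hpos : 0 < Nat.card N' * Nat.card NQ := Nat.mul_pos Nat.card_pos Nat.card_pos
  have h1 : Nat.card N' * Nat.card NQ * (Nat.card A * (frattini Q).index) ≤
      Nat.card N' * Nat.card NQ * 16 := by linarith
  have h2 := Nat.le_of_mul_le_mul_left h1 hpos
  have h3 := (Nat.mul_le_mul_left (Nat.card A) i4).trans h2
  omega

/-- The main case analysis. -/
theorem index_two (hS : IsPGroup 2 S) (hr : Cfsg.SectionalPRankLE 2 4 S) {P S₀ : Subgroup S} {z : S}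
    (hP : SmallCentre P z) (hS₀ : ∀ g, g ∈ S₀ ↔ Commute g z)
    (hPn : ∀ g ∈ S₀, ∀ x ∈ P, g * x * g⁻¹ ∈ P) (hne : S₀ ≠ ⊤) :
    Cfsg.SectionalPRankLE 2 2 P ∧ S₀.index = 2 := by
  classical
  haveI := hS.isNilpotent
  have hPS : P ≤ S₀ := fun x hx => (hS₀ x).2 (hP.comm x hx).symm
  set N₁ := normalizer (S₀ : Set S) with hN₁
  have h01 : S₀ ≤ N₁ := le_normalizer
  have hN : ∀ r ∈ N₁, ∀ g ∈ S₀, r * g * r⁻¹ ∈ S₀ := fun r hr g hg =>
    (mem_normalizer_iff.1 hr g).1 hg
  have hN' : ∀ r ∈ N₁, ∀ g ∈ S₀, r⁻¹ * g * r ∈ S₀ := fun r hr g hg => by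
    simpa using hN r⁻¹ (inv_mem hr) g hg
  let C : S → Subgroup S := fun r => P.map (MulAut.conj r).toMonoidHom
  have hCmem : ∀ r x, x ∈ P → r * x * r⁻¹ ∈ C r := fun r x hx => mem_map_of_mem _ hx
  have hCS : ∀ r ∈ N₁, C r ≤ S₀ := by
    rintro r hr _ ⟨x, hx, rfl⟩; exact hN r hr x (hPS hx)
  have hsc : ∀ r, SmallCentre (C r) (r * z * r⁻¹) := fun r => hP.map r
  have normC : ∀ r g, r⁻¹ * g * r ∈ S₀ → g ∈ normalizer (C r : Set S) := by
    intro r g hg
    have key : ∀ k : S, r⁻¹ * k * r ∈ S₀ → ∀ y ∈ C r, k * y * k⁻¹ ∈ C r := by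
      rintro k hk _ ⟨x, hx, rfl⟩
      have e : k * (r * x * r⁻¹) * k⁻¹ = r * ((r⁻¹ * k * r) * x * (r⁻¹ * k * r)⁻¹) * r⁻¹ := by group
      show k * (r * x * r⁻¹) * k⁻¹ ∈ C r
      rw [e]; exact hCmem r _ (hPn _ hk x hx)
    refine mem_normalizer_iff.2 fun y => ⟨key g hg y, fun hy => ?_⟩
    have := key g⁻¹ (by rw [show r⁻¹ * g⁻¹ * r = (r⁻¹ * g * r)⁻¹ by group]; exact inv_mem hg) _ hy
    rwa [show g⁻¹ * (g * y * g⁻¹) * g⁻¹⁻¹ = y by group] at this
  have normP : ∀ g ∈ S₀, g ∈ normalizer (P : Set S) := fun g hg =>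
    mem_normalizer_iff.2 fun y => ⟨hPn g hg y, fun hy => by
      have := hPn g⁻¹ (inv_mem hg) _ hy
      rwa [show g⁻¹ * (g * y * g⁻¹) * g⁻¹⁻¹ = y by group] at this⟩
  have hout : ∀ r, r ∉ S₀ → r * z * r⁻¹ ≠ z := fun r hr e =>
    hr ((hS₀ r).2 (show r * z = z * r by rw [← eq_mul_inv_iff_mul_eq.1 e.symm]))
  have hlt : S₀ < N₁ := (Group.normalizerCondition_of_isNilpotent) S₀ hne.lt_top
  obtain ⟨s, hs, hs0⟩ := SetLike.exists_of_lt hlt
  set z' := s * z * s⁻¹ with hz'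
  have hzz : z' ≠ z := hout s hs0
  set Q := C s with hQdef
  have hQ : SmallCentre Q z' := hsc s
  obtain ⟨hbot, hc⟩ := disjoint_commute hS hP hQ hzz.symm
    (fun g hg => normC s g (hN' s hs g (hPS hg))) (fun g hg => normP g (hCS s hs hg))
  set W := P ⊔ Q with hW
  have hCW : centralizer (W : Set S) ≤ W := centralizer_sup_le hS hr hP hQ hbot hc
  have hWS : W ≤ S₀ := sup_le hPS (hCS s hs)
  have horb : ∀ r ∈ N₁, r * z * r⁻¹ = z ∨ r * z * r⁻¹ = z' := by
    intro r hr'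
    by_contra h
    push Not at h
    have hRP : C r ≤ normalizer (P : Set S) := fun g hg => normP g (hCS r hr' hg)
    have hPR : P ≤ normalizer (C r : Set S) := fun g hg => normC r g (hN' r hr' g (hPS hg))
    have hRQ : C r ≤ normalizer (Q : Set S) := fun g hg => normC s g (hN' s hs g (hCS r hr' hg))
    have hQR : Q ≤ normalizer (C r : Set S) := fun g hg => normC r g (hN' r hr' g (hCS s hs hg))
    have c1 := (disjoint_commute hS hP (hsc r) (Ne.symm h.1) hPR hRP).2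
    have c2 := (disjoint_commute hS hQ (hsc r) (Ne.symm h.2) hQR hRQ).2
    have hRc : ∀ y ∈ C r, y ∈ centralizer (W : Set S) := fun y hy => by
      have : W ≤ centralizer {y} := sup_le
        (fun g hg => mem_centralizer_singleton_iff.2 (c1 g hg y hy).eq)
        (fun g hg => mem_centralizer_singleton_iff.2 (c2 g hg y hy).eq)
      exact mem_centralizer_iff.2 fun g hg => mem_centralizer_singleton_iff.1 (this hg)
    obtain ⟨x, hx, y, hy, hxy⟩ := (hsc r).nonab
    exact hxy (mem_centralizer_iff.1 (hRc y hy) x (hCW (hRc x hx)))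
  have himg : ∀ r ∈ N₁, ∀ x ∈ P, r * x * r⁻¹ ∈ W := by
    intro r hr' x hx
    rcases horb r hr' with e | e
    · refine mem_sup_left (hPn r ?_ x hx)
      by_contra h; exact hout r h e
    · have hk : s⁻¹ * r ∈ S₀ := (hS₀ _).2 (by
        show s⁻¹ * r * z = z * (s⁻¹ * r)
        rw [mul_assoc, show r * z = z' * r by rw [← e]; group, hz']; group)
      refine mem_sup_right ?_
      rw [show r * x * r⁻¹ = s * ((s⁻¹ * r) * x * (s⁻¹ * r)⁻¹) * s⁻¹ by group]
      exact hCmem s _ (hPn _ hk x hx)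
  have hWn : ∀ r ∈ N₁, ∀ y ∈ W, r * y * r⁻¹ ∈ W := by
    intro r hr' y hy
    have : W ≤ W.comap (MulAut.conj r).toMonoidHom := by
      refine sup_le (fun g hg => himg r hr' g hg) ?_
      rintro _ ⟨x, hx, rfl⟩
      show r * (s * x * s⁻¹) * r⁻¹ ∈ W
      rw [show r * (s * x * s⁻¹) * r⁻¹ = (r * s) * x * (r * s)⁻¹ by group]
      exact himg _ (mul_mem hr' hs) x hx
    exact this hy
  have hz'orb : ∀ r ∈ N₁, r * z' * r⁻¹ = z ∨ r * z' * r⁻¹ = z' := fun r hr' => by
    rw [show r * z' * r⁻¹ = (r * s) * z * (r * s)⁻¹ by rw [hz']; group]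
    exact horb _ (mul_mem hr' hs)
  have hinj : ∀ r, r * z * r⁻¹ ≠ r * z' * r⁻¹ := fun r e => hzz
    (mul_left_cancel (mul_right_cancel e.symm))
  have hcz : Commute z z' := hc z hP.mem z' hQ.mem
  have hz0 : ∀ r ∈ N₁, r * (z * z') * r⁻¹ = z * z' := by
    intro r hr'
    rw [show r * (z * z') * r⁻¹ = (r * z * r⁻¹) * (r * z' * r⁻¹) by group]
    rcases horb r hr' with e | e <;> rcases hz'orb r hr' with e' | e'
    · exact absurd (e.trans e'.symm) (hinj r)
    · rw [e, e']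
    · rw [e, e', hcz.eq]
    · exact absurd (e.trans e'.symm) (hinj r)
  have hz1 : z * z' ≠ 1 := fun e => hzz (by
    have h1 := congrArg (z * ·) e
    
    rwa [← mul_assoc, hP.sq, one_mul, mul_one] at h1)
  have hWN : ∀ g ∈ W, g ∈ N₁ := fun g hg => h01 (hWS hg)
  have hstep : ∀ t, t ∈ normalizer (N₁ : Set S) → t ∉ N₁ → ∀ w ∈ W, t⁻¹ * w * t ∈ S₀ := by
    intro t ht ht1 w hw
    by_contra hu0
    set u := t⁻¹ * w * t with hu
    have ht' : t⁻¹ ∈ normalizer (N₁ : Set S) := inv_mem ht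
    have hT : ∀ g ∈ N₁, t * g * t⁻¹ ∈ N₁ := fun g hg => (mem_normalizer_iff.1 ht g).1 hg
    have hT' : ∀ g ∈ N₁, t⁻¹ * g * t ∈ N₁ := fun g hg => by
      simpa using (mem_normalizer_iff.1 ht' g).1 hg
    have hu1 : u ∈ N₁ := hT' w (hWN w hw)
    have huz : u * z * u⁻¹ = z' := (horb u hu1).resolve_left (hout u hu0)
    have huP : ∀ x ∈ P, u * x * u⁻¹ ∈ Q := fun x hx => by
      have hk : s⁻¹ * u ∈ S₀ := (hS₀ _).2 (by
        show s⁻¹ * u * z = z * (s⁻¹ * u)
        rw [mul_assoc, show u * z = z' * u by rw [← huz]; group, hz']; group)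
      rw [show u * x * u⁻¹ = s * ((s⁻¹ * u) * x * (s⁻¹ * u)⁻¹) * s⁻¹ by group]
      exact hCmem s _ (hPn _ hk x hx)
    obtain ⟨x, hx, y, hy, hxy⟩ := hP.nonab
    set e0 := t * x⁻¹ * t⁻¹ * w * (t * x * t⁻¹) * w⁻¹ with he0
    have he0W : e0 ∈ W := by
      refine mul_mem ?_ (inv_mem hw)
      have := hWn _ (inv_mem (hT x (h01 (hPS hx)))) w hw
      rwa [inv_inv, show (t * x * t⁻¹)⁻¹ = t * x⁻¹ * t⁻¹ by group] at this
    have hy1 : t * y * t⁻¹ ∈ N₁ := hT y (h01 (hPS hy))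
    have hcomW : e0 * (t * y * t⁻¹) * e0⁻¹ * (t * y * t⁻¹)⁻¹ ∈ W := by
      rw [show e0 * (t * y * t⁻¹) * e0⁻¹ * (t * y * t⁻¹)⁻¹ =
        e0 * ((t * y * t⁻¹) * e0⁻¹ * (t * y * t⁻¹)⁻¹) by group]
      exact mul_mem he0W (hWn _ hy1 _ (inv_mem he0W))
    have hdW : t * (x⁻¹ * y * x * y⁻¹) * t⁻¹ ∈ W := by
      convert hcomW using 1
      have k1 := hc y hy _ (huP x hx)
      rw [show e0 * (t * y * t⁻¹) * e0⁻¹ * (t * y * t⁻¹)⁻¹ =
        t * (x⁻¹ * ((u * x * u⁻¹) * y * (u * x * u⁻¹)⁻¹) * x * y⁻¹) * t⁻¹ by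
          rw [he0, hu]; group, ← k1.eq]
      group
    set D := (W.comap (MulAut.conj t).toMonoidHom).subgroupOf P with hD
    haveI hDn : D.Normal := ⟨fun a ha g => by
      show t * ((g : S) * a * (g : S)⁻¹) * t⁻¹ ∈ W
      rw [show t * ((g : S) * a * (g : S)⁻¹) * t⁻¹ =
        (t * g * t⁻¹) * (t * a * t⁻¹) * (t * g * t⁻¹)⁻¹ by group]
      exact hWn _ (hT _ (h01 (hPS g.2))) _ ha⟩
    have hDne : D ≠ ⊥ := fun h => by
      have hm : (⟨x⁻¹ * y * x * y⁻¹,
          mul_mem (mul_mem (mul_mem (inv_mem hx) hy) hx) (inv_mem hy)⟩ : P) ∈ D := hdW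
      rw [h, mem_bot, Subtype.ext_iff] at hm
      have h2 : x⁻¹ * y * x * y⁻¹ = 1 := hm
      rw [mul_inv_eq_one, mul_assoc, inv_mul_eq_iff_eq_mul] at h2
      exact hxy h2.symm
    haveI := (hS.to_subgroup P).isNilpotent
    obtain ⟨d, hd, hd1⟩ := (bot_or_exists_ne_one _).resolve_left
      (CfsgLib.PGroupBasic.inf_center_ne_bot D hDne)
    have hdz : (d : S) = z := (hP.center _ d.2 fun g hg =>
      congrArg Subtype.val (mem_center_iff.1 hd.2 ⟨g, hg⟩).symm).resolve_left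
        fun e => hd1 (Subtype.ext e)
    have haW : t * z * t⁻¹ ∈ W := by
      have := (mem_subgroupOf.1 hd.1 : (d : S) ∈ W.comap (MulAut.conj t).toMonoidHom)
      rw [hdz] at this; exact this
    set a := t * z * t⁻¹ with ha
    have ha' : w * a * w⁻¹ = t * z' * t⁻¹ := by rw [← huz, hu, ha]; group
    set c := t * (z * z') * t⁻¹ with hcdef
    have hccen : ∀ g ∈ N₁, g * c * g⁻¹ = c := fun g hg => by
      calc g * c * g⁻¹ = t * ((t⁻¹ * g * t) * (z * z') * (t⁻¹ * g * t)⁻¹) * t⁻¹ := by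
            rw [hcdef]; group
        _ = c := by rw [hz0 _ (hT' g hg)]
    have hcW : c ∈ W := by
      rw [show c = a * (w * a * w⁻¹) by rw [ha', hcdef, ha]; group]
      exact mul_mem haW (mul_mem (mul_mem hw haW) (inv_mem hw))
    have hc1 : c ≠ 1 := fun e => hz1 (by simpa [hcdef] using e)
    have hnor : ∀ {R : Subgroup S} {v : S}, SmallCentre R v → R ≤ W → W ≤ normalizer (R : Set S) →
        (∃ r ∈ N₁, r * v * r⁻¹ ≠ v) → ∀ p ∈ R, Commute a p := by
      intro R v hR hRW hWR hv p hp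
      have hpN : p ∈ N₁ := hWN p (hRW hp)
      have h1 : a * p * a⁻¹ * p⁻¹ ∈ R :=
        mul_mem ((mem_normalizer_iff.1 (hWR haW) p).1 hp) (inv_mem hp)
      have hq := hT' p hpN
      have e1 : p * a * p⁻¹ = t * ((t⁻¹ * p * t) * z * (t⁻¹ * p * t)⁻¹) * t⁻¹ := by rw [ha]; group
      rcases horb _ hq with e | e
      · rw [e] at e1
        exact ((mul_inv_eq_iff_eq_mul.1 e1).symm : a * p = p * a)
      · rw [e] at e1
        exfalso
        have e2 : a * p * a⁻¹ * p⁻¹ = c := by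
          rw [show a * p * a⁻¹ * p⁻¹ = a * (p * a * p⁻¹)⁻¹ by group, e1, ha, hcdef]
          have hz'2 : z'⁻¹ = z' := inv_eq_of_mul_eq_one_right hQ.sq
          rw [mul_inv_rev, mul_inv_rev, hz'2]; group
        rw [e2] at h1
        have hcv : c = v := (hR.center c h1 fun g hg =>
          (mul_inv_eq_iff_eq_mul.1 (hccen g (hWN g (hRW hg)))).symm).resolve_left hc1
        obtain ⟨r, hr', hrv⟩ := hv
        exact hrv (hcv ▸ hccen r hr')
    have hWP : W ≤ normalizer (P : Set S) := fun g hg => normP g (hWS hg)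
    have hWQ : W ≤ normalizer (Q : Set S) := fun g hg => normC s g (hN' s hs g (hWS hg))
    have hcW' : W ≤ centralizer {a} := sup_le
      (fun g hg => mem_centralizer_singleton_iff.2
        (hnor hP le_sup_left hWP ⟨s, hs, hzz⟩ g hg).eq.symm)
      (fun g hg => mem_centralizer_singleton_iff.2
        (hnor hQ le_sup_right hWQ ⟨s, hs, fun e => hzz (mul_left_cancel (mul_right_cancel
          (e.trans hz')))⟩ g hg).eq.symm)
    have e3 : w * a * w⁻¹ = a := by
      rw [mem_centralizer_singleton_iff.1 (hcW' hw), mul_inv_cancel_right]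
    exact hinj t (e3.symm.trans ha')
  have hN1top : N₁ = ⊤ := by
    by_contra h
    obtain ⟨t, ht, ht1⟩ := SetLike.exists_of_lt
      ((Group.normalizerCondition_of_isNilpotent) N₁ (Ne.lt_top h))
    have h1 := hstep t ht ht1
    have h2 := hstep t⁻¹ (inv_mem ht) (fun h => ht1 (by simpa using inv_mem h))
    simp only [inv_inv] at h2
    have hts : t * s ∉ S₀ := fun h => ht1 (by
      simpa using mul_mem (h01 h) (inv_mem hs))
    have hPW : P ≤ W := le_sup_left
    have c1 := (disjoint_commute hS hP (hsc t) (Ne.symm (hout t fun h => ht1 (h01 h)))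
      (fun g hg => normC t g (h1 g (hPW hg)))
      (fun g hg => normP g (by obtain ⟨x, hx, rfl⟩ := hg; exact h2 x (hPW hx)))).2
    have c2 := (disjoint_commute hS hP (hsc (t * s)) (Ne.symm (hout _ hts))
      (fun g hg => normC (t * s) g (by
        rw [show (t * s)⁻¹ * g * (t * s) = s⁻¹ * (t⁻¹ * g * t) * s by group]
        exact hN' s hs _ (h1 g (hPW hg))))
      (fun g hg => normP g (by
        obtain ⟨x, hx, rfl⟩ := hg
        show t * s * x * (t * s)⁻¹ ∈ S₀
        rw [show t * s * x * (t * s)⁻¹ = t * (s * x * s⁻¹) * t⁻¹ by group]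
        exact h2 _ (mem_sup_right (hCmem s x hx))))).2
    have hcen : ∀ g ∈ W, ∀ p ∈ P, Commute p (t * g * t⁻¹) := by
      intro g hg p hp
      have : W ≤ (centralizer {p}).comap (MulAut.conj t).toMonoidHom := by
        refine sup_le (fun x hx => mem_centralizer_singleton_iff.2 (c1 p hp _ (hCmem t x hx)).eq.symm) ?_
        rintro _ ⟨x, hx, rfl⟩
        refine mem_centralizer_singleton_iff.2 ?_
        have := (c2 p hp _ (hCmem (t * s) x hx)).eq.symm
        rwa [show t * s * x * (t * s)⁻¹ = t * (s * x * s⁻¹) * t⁻¹ by group] at this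
      exact (mem_centralizer_singleton_iff.1 (this hg) : t * g * t⁻¹ * p = p * (t * g * t⁻¹)).symm
    have hin : ∀ p ∈ P, t⁻¹ * p * t ∈ centralizer (W : Set S) := fun p hp =>
      mem_centralizer_iff.2 fun g hg => by
        have e := (hcen g hg p hp).eq
        calc g * (t⁻¹ * p * t) = t⁻¹ * (t * g * t⁻¹ * p) * t := by group
          _ = t⁻¹ * (p * (t * g * t⁻¹)) * t := by rw [e]
          _ = t⁻¹ * p * t * g := by group
    obtain ⟨x, hx, y, hy, hxy⟩ := hP.nonab
    have e := mem_centralizer_iff.1 (hin y hy) _ (hCW (hin x hx))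
    refine hxy ?_
    have e2 := congrArg (fun g => t * g * t⁻¹) e
    simpa [mul_assoc] using e2
  refine ⟨sectional_two hS hr hQ hbot hc, index_eq_two_iff.2 ⟨s, fun b => ?_⟩⟩
  by_cases hb : b ∈ S₀
  · exact Or.inr ⟨hb, fun h => hs0 (by simpa using mul_mem (inv_mem hb) h)⟩
  · refine Or.inl ⟨(hS₀ _).2 ?_, hb⟩
    have hb1 : b ∈ N₁ := hN1top ▸ mem_top b
    have e : b * z' * b⁻¹ = z :=
      (hz'orb b hb1).resolve_right fun e' =>
        hinj b (((horb b hb1).resolve_left (hout b hb)).trans e'.symm)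
    rw [hz', show b * (s * z * s⁻¹) * b⁻¹ = (b * s) * z * (b * s)⁻¹ by group,
      mul_inv_eq_iff_eq_mul] at e
    exact e

end CfsgLib.SectionalFour
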