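import Cfsg.Agent.Solvable.NormalCube
import Cfsg.Agent.AutFrattini.Basic
import Cfsg.Agent.Solvable.Hall
import Cfsg.Agent.FGSA.RankTwoSolvable
import Cfsg.Prelude.Def_Transfer

/-!
An element of order three moving a four-group inside a normal elementary abelian 2-subgroup.
-/

set_option autoImplicit false
set_option linter.style.haveILetI false
set_option linter.unusedSectionVars false

namespace CfsgLib.FourMove

open Subgroup
open scoped commutatorElement

variable {G : Type*} [Group G] [Finite G] (M : Subgroup G) [hMn : M.Normal]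
  [hMc : Fact (Cfsg.IsElementaryAbelian 2 M)]

theorem mcomm {a b : G} (ha : a ∈ M) (hb : b ∈ M) : a * b = b * a :=
  congrArg Subtype.val (hMc.out.1.1.comm ⟨a, ha⟩ ⟨b, hb⟩)

theorem msq {a : G} (ha : a ∈ M) : a * a = 1 := by rw [← pow_two]; exact hMc.out.2 a ha

/-- The subgroup of commutators of `g` with `M`. -/
def rng (g : G) : Subgroup G where
  carrier := {z | ∃ m ∈ M, g * m * g⁻¹ * m⁻¹ = z}
  one_mem' := ⟨1, one_mem M, by group⟩
  mul_mem' := by
    rintro _ _ ⟨m, hm, rfl⟩ ⟨n, hn, rfl⟩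
    refine ⟨n * m, mul_mem hn hm, ?_⟩
    have h1 : g * m * g⁻¹ * m⁻¹ ∈ M := mul_mem (hMn.conj_mem m hm g) (inv_mem hm)
    have c := mcomm M h1 (mul_mem (hMn.conj_mem n hn g) (inv_mem hn))
    calc g * (n * m) * g⁻¹ * (n * m)⁻¹ = g * n * g⁻¹ * (g * m * g⁻¹ * m⁻¹) * n⁻¹ := by group
      _ = g * n * g⁻¹ * (n⁻¹ * (g * m * g⁻¹ * m⁻¹)) := by
          rw [mul_assoc, mcomm M h1 (inv_mem hn)]
      _ = g * n * g⁻¹ * n⁻¹ * (g * m * g⁻¹ * m⁻¹) := by group
      _ = _ := c.symm
  inv_mem' := by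
    rintro _ ⟨m, hm, rfl⟩
    refine ⟨m⁻¹, inv_mem hm, ?_⟩
    have c := mcomm M (hMn.conj_mem m⁻¹ (inv_mem hm) g) hm
    calc g * m⁻¹ * g⁻¹ * m⁻¹⁻¹ = g * m⁻¹ * g⁻¹ * m := by group
      _ = m * (g * m⁻¹ * g⁻¹) := c
      _ = _ := by group

theorem rng_le (g : G) : rng M g ≤ M := by
  rintro _ ⟨m, hm, rfl⟩
  exact mul_mem (hMn.conj_mem m hm g) (inv_mem hm)

/-- The elements whose commutators with `M` lie in `S`. -/
def ctl (S : Subgroup G) : Subgroup G where
  carrier := {g | rng M g ≤ S}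
  one_mem' := by rintro _ ⟨m, _, rfl⟩; simp
  mul_mem' := by
    intro a b ha hb
    rintro _ ⟨m, hm, rfl⟩
    rw [show a * b * m * (a * b)⁻¹ * m⁻¹ =
      (a * (b * m * b⁻¹) * a⁻¹ * (b * m * b⁻¹)⁻¹) * (b * m * b⁻¹ * m⁻¹) by group]
    exact mul_mem (ha ⟨_, hMn.conj_mem m hm b, rfl⟩) (hb ⟨m, hm, rfl⟩)
  inv_mem' := by
    intro a ha
    rintro _ ⟨m, hm, rfl⟩
    rw [show a⁻¹ * m * a⁻¹⁻¹ * m⁻¹ = (a * (a⁻¹ * m * a⁻¹⁻¹) * a⁻¹ * (a⁻¹ * m * a⁻¹⁻¹)⁻¹)⁻¹ by group]
    exact inv_mem (ha ⟨_, hMn.conj_mem m hm a⁻¹, rfl⟩)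

theorem mem_ctl_self (g : G) : g ∈ ctl M (rng M g) := fun _ h => h

theorem conj_mem_of_ctl {S : Subgroup G} (hS : S ≤ M) {g : G} (hg : g ∈ ctl M S) {m : G}
    (hm : m ∈ S) : g * m * g⁻¹ ∈ S := by
  have := mul_mem (hg ⟨m, hS hm, rfl⟩ : g * m * g⁻¹ * m⁻¹ ∈ S) hm
  rwa [inv_mul_cancel_right] at this

theorem mem_normalizer_of_ctl {S : Subgroup G} (hS : S ≤ M) {g : G} (hg : g ∈ ctl M S) :
    g ∈ normalizer (S : Set G) := by
  refine mem_normalizer_iff.2 fun m => ⟨conj_mem_of_ctl M hS hg, fun hm => ?_⟩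
  have := conj_mem_of_ctl M hS (inv_mem hg) hm
  rwa [show g⁻¹ * (g * m * g⁻¹) * g⁻¹⁻¹ = m by group] at this

theorem rng_congr {g c : G} (hc : c ∈ centralizer (M : Set G)) : rng M (c * g) = rng M g := by
  have key : ∀ m ∈ M, c * g * m * (c * g)⁻¹ = g * m * g⁻¹ := fun m hm => by
    rw [show c * g * m * (c * g)⁻¹ = c * (g * m * g⁻¹) * c⁻¹ by group,
      ← mem_centralizer_iff.1 hc _ (hMn.conj_mem m hm g), mul_inv_cancel_right]
  ext z
  constructor
  · rintro ⟨m, hm, rfl⟩; exact ⟨m, hm, by rw [key m hm]⟩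
  · rintro ⟨m, hm, rfl⟩; exact ⟨m, hm, by rw [key m hm]⟩

theorem rng_conj (t g : G) : rng M (t * g * t⁻¹) = (rng M g).map (MulAut.conj t).toMonoidHom := by
  ext z
  constructor
  · rintro ⟨m, hm, rfl⟩
    exact ⟨_, ⟨t⁻¹ * m * t, by simpa using hMn.conj_mem m hm t⁻¹, rfl⟩,
      by simp [mul_assoc]⟩
  · rintro ⟨_, ⟨m, hm, rfl⟩, rfl⟩
    exact ⟨t * m * t⁻¹, hMn.conj_mem m hm t, by simp [mul_assoc]⟩

theorem mem_centralizer_of_rng {g : G} (h : rng M g = ⊥) : g ∈ centralizer (M : Set G) := by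
  refine mem_centralizer_iff.2 fun m hm => ?_
  have h2 : g * m * g⁻¹ * m⁻¹ ∈ rng M g := ⟨m, hm, rfl⟩
  rw [h, mem_bot, mul_inv_eq_one, mul_inv_eq_iff_eq_mul] at h2
  exact h2.symm

theorem eq_one_of_fixed {g m : G} (hg : Odd (orderOf g)) (hm : m ∈ rng M g) (hc : g * m = m * g) :
    m = 1 := by
  obtain ⟨n, hn, rfl⟩ := hm
  set z := g * n * g⁻¹ * n⁻¹ with hz
  have hzM : z ∈ M := mul_mem (hMn.conj_mem n hn g) (inv_mem hn)
  have key : ∀ k : ℕ, g ^ k * n * (g ^ k)⁻¹ = z ^ k * n := by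
    intro k
    induction k with
    | zero => simp
    | succ k ih =>
      have c : Commute g (z ^ k) := Commute.pow_right hc k
      calc g ^ (k + 1) * n * (g ^ (k + 1))⁻¹ = g * (g ^ k * n * (g ^ k)⁻¹) * g⁻¹ := by
            rw [pow_succ']; group
        _ = g * z ^ k * n * g⁻¹ := by rw [ih]; group
        _ = z ^ k * (g * n * g⁻¹) := by rw [c.eq]; group
        _ = z ^ (k + 1) * n := by rw [pow_succ, hz]; group
  have h1 := key (orderOf g)
  rw [pow_orderOf_eq_one, one_mul, inv_one, mul_one, eq_comm, mul_eq_right] at h1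
  obtain ⟨j, hj⟩ := hg
  rw [hj, pow_succ, pow_mul, pow_two, msq M hzM, one_pow, one_mul] at h1
  exact h1

theorem faithful {S : Subgroup G} {g : G} (hg : Odd (orderOf g)) (hS : g ∈ ctl M S)
    (hc : g ∈ centralizer (S : Set G)) : g ∈ centralizer (M : Set G) := by
  refine mem_centralizer_of_rng M ((eq_bot_iff_forall _).2 fun m hm => ?_)
  exact eq_one_of_fixed M hg hm (mem_centralizer_iff.1 hc m (hS hm)).symm

/-- The automorphism group of a small subgroup of `M`. -/
theorem card_mulAut_dvd {S : Subgroup G} (hS : S ≤ M) :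
    ∃ n, Nat.card S = 2 ^ n ∧ (n ≤ 4 → Nat.card (MulAut S) ∣ 20160) ∧
      (n ≤ 3 → Nat.card (MulAut S) ∣ 168) ∧ (n ≤ 2 → Nat.card (MulAut S) ∣ 6) := by
  haveI : Fact (Nat.Prime 2) := ⟨Nat.prime_two⟩
  have hp : IsPGroup 2 S := fun s => ⟨1, Subtype.ext (by
    simpa [pow_two] using msq M (hS s.2))⟩
  obtain ⟨n, hn⟩ := IsPGroup.iff_card.1 hp
  have hfr : frattini S = ⊥ := le_bot_iff.1 (CfsgLib.PGroupBasic.frattini_le_of_elementary (p := 2) ⊥
    (by
      rw [commutator_def, commutator_le]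
      intro a _ b _
      rw [mem_bot, commutatorElement_eq_one_iff_mul_comm]
      exact Subtype.ext (mcomm M (hS a.2) (hS b.2)))
    fun a => mem_bot.2 (Subtype.ext (by simpa [pow_two] using msq M (hS a.2))))
  have h := CfsgLib.AutFrattini.card_mulAut_dvd (P := S) (p := 2) (r := n) hn
    (by rw [hfr, index_bot, hn])
  refine ⟨n, hn, fun h4 => ?_, fun h4 => ?_, fun h4 => ?_⟩ <;> interval_cases n <;>
    exact h.trans (by decide)

theorem relIndex_dvd {R S : Subgroup G} (hR : R ≤ normalizer (S : Set G)) :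
    (centralizer (S : Set G)).relIndex R ∣ Nat.card (MulAut S) := by
  set θ : R →* MulAut S := S.normalizerMonoidHom.comp (inclusion hR)
  have hk : θ.ker = (centralizer (S : Set G)).subgroupOf R := by
    ext r
    rw [MonoidHom.mem_ker, mem_subgroupOf, mem_centralizer_iff]
    constructor
    · intro h s hs
      have h' : (r : G) * s * (r : G)⁻¹ = s :=
        congrArg Subtype.val (congrArg (fun f : MulAut S => f ⟨s, hs⟩) h)
      exact (mul_inv_eq_iff_eq_mul.1 h').symm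
    · intro h
      refine MulEquiv.ext fun s => Subtype.ext ?_
      show (r : G) * (s : G) * (r : G)⁻¹ = s
      rw [← h s s.2, mul_inv_cancel_right]
  have e := index_ker θ
  rw [hk] at e
  show ((centralizer (S : Set G)).subgroupOf R).index ∣ _
  rw [e]
  exact card_subgroup_dvd_card _

variable {M}

theorem prime_dvd_small {p : ℕ} (hp : p.Prime) (hp5 : 5 ≤ p) (h : p ∣ 20160) : p = 5 ∨ p = 7 := by
  have h1 : p ∣ 2 ^ 6 * 3 ^ 2 * 5 * 7 := by norm_num; exact h
  rcases hp.dvd_mul.1 h1 with h2 | h2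
  · rcases hp.dvd_mul.1 h2 with h3 | h3
    · rcases hp.dvd_mul.1 h3 with h4 | h4
      · have := Nat.le_of_dvd two_pos (hp.dvd_of_dvd_pow h4); omega
      · have := Nat.le_of_dvd three_pos (hp.dvd_of_dvd_pow h4); omega
    · exact Or.inl ((Nat.prime_dvd_prime_iff_eq hp (by norm_num)).1 h3)
  · exact Or.inr ((Nat.prime_dvd_prime_iff_eq hp (by norm_num)).1 h2)

theorem pow_dvd_small {p k : ℕ} (hp : p.Prime) (hp5 : 5 ≤ p) (h : p ^ k ∣ 20160) : k ≤ 1 := by
  by_contra hh
  have hd2 := (pow_dvd_pow p (show 2 ≤ k by omega)).trans h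
  rcases prime_dvd_small hp hp5 ((dvd_pow_self p two_ne_zero).trans hd2) with rfl | rfl <;>
    exact absurd hd2 (by decide)

theorem subgroupOf_normal {R S : Subgroup G} (hR : R ≤ normalizer (S : Set G)) :
    ((centralizer (S : Set G)).subgroupOf R).Normal := by
  refine ⟨fun a ha r => ?_⟩
  rw [mem_subgroupOf, mem_centralizer_iff] at ha ⊢
  intro s hs
  have hs' : (r : G)⁻¹ * s * r ∈ S := by
    have := (mem_normalizer_iff.1 (inv_mem (hR r.2)) s).1 hs
    simpa using this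
  have e := ha _ hs'
  show s * ((r : G) * a * (r : G)⁻¹) = (r : G) * a * (r : G)⁻¹ * s
  calc s * ((r : G) * a * (r : G)⁻¹) = (r : G) * (((r : G)⁻¹ * s * r) * a) * (r : G)⁻¹ := by group
    _ = (r : G) * ((a : G) * ((r : G)⁻¹ * s * r)) * (r : G)⁻¹ := by rw [e]
    _ = _ := by group

/-- The setting: an element of order three modulo `C(M)` with a four-group of commutators. -/
structure Setup (T : Subgroup G) (M : Subgroup G) [M.Normal] [Fact (Cfsg.IsElementaryAbelian 2 M)]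
    (x : G) : Prop where
  odd : Odd (Nat.card T)
  mem : x ∈ T
  cube : x ^ 3 ∈ centralizer (M : Set G)
  four : Nat.card (rng M x) = 4

variable {T : Subgroup G} {x : G}

theorem Setup.odd_order (h : Setup T M x) {g : G} (hg : g ∈ T) : Odd (orderOf g) :=
  Odd.of_dvd_nat h.odd ((Subgroup.orderOf_coe (⟨g, hg⟩ : T)) ▸ orderOf_dvd_natCard _)

theorem Setup.conj (h : Setup T M x) {g : G} (hg : g ∈ T) : Setup T M (g * x * g⁻¹) := by
  refine ⟨h.odd, mul_mem (mul_mem hg h.mem) (inv_mem hg), ?_, ?_⟩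
  · rw [conj_pow]
    exact (inferInstance : (centralizer (M : Set G)).Normal).conj_mem _ h.cube g
  · rw [rng_conj, card_map_of_injective (MulAut.conj g).injective, h.four]

theorem Setup.notMem (h : Setup T M x) : x ∉ centralizer (M : Set G) := fun hc => by
  have hb : rng M x = ⊥ := (eq_bot_iff_forall _).2 fun m hm => by
    obtain ⟨n, hn, rfl⟩ := hm
    rw [← mem_centralizer_iff.1 hc n hn]; group
  have := h.four
  rw [hb, card_bot] at this
  omega

theorem Setup.irreducible (h : Setup T M x) {S : Subgroup G} (hS : S ≤ rng M x)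
    (hx : ∀ s ∈ S, x * s * x⁻¹ ∈ S) (hne : S ≠ ⊥) : S = rng M x := by
  obtain ⟨s, hs, hs1⟩ := (bot_or_exists_ne_one S).resolve_left hne
  have hd : Nat.card S ∣ 4 := h.four ▸ card_dvd_of_le hS
  refine CfsgLib.Solvable.eq_of_le_of_card_le hS (h.four.le.trans ?_)
  have h3 : 3 ≤ Nat.card S := by
    let f : Fin 3 → S := ![1, ⟨s, hs⟩, ⟨x * s * x⁻¹, hx s hs⟩]
    have hns : x * s * x⁻¹ ≠ s := fun e => hs1 (eq_one_of_fixed M (h.odd_order h.mem) (hS hs)
      (mul_inv_eq_iff_eq_mul.1 e))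
    have hn1 : x * s * x⁻¹ ≠ 1 := fun e => hs1 (by simpa using e)
    have hf : Function.Injective f := by
      intro i j hij
      fin_cases i <;> fin_cases j <;>
        first
        | rfl
        | (exfalso
           simp [f, Subtype.ext_iff] at hij
           first
           | exact hs1 hij
           | exact hs1 hij.symm
           | exact hn1 hij
           | exact hn1 hij.symm
           | exact hns hij
           | exact hns hij.symm)
    have := Nat.card_le_card_of_injective f hf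
    simpa using this
  have := Nat.le_of_dvd (by norm_num) hd
  generalize Nat.card S = n at *
  interval_cases n <;> omega

/-- The moving step for the prime three. -/
theorem Setup.normalizes_three (h : Setup T M x) {P : Subgroup G} (hPT : P ≤ T) (hP : IsPGroup 3 P)
    (hxP : x ∈ P) {A : Subgroup G} (hAP : A ≤ P) (hA : Cfsg.IsElementaryAbelian 3 A)
    (hAx : ∀ a ∈ A, x * a * x⁻¹ ∈ A) : A ≤ normalizer (rng M x : Set G) := by
  haveI : Fact (Nat.Prime 3) := ⟨Nat.prime_three⟩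
  set W := rng M x with hW
  have hWM : W ≤ M := rng_le M x
  set C := centralizer (M : Set G) with hC
  have key : ∀ a ∈ A, rng M (a * x * a⁻¹) = W ∨
      ∀ w ∈ W, a * x * a⁻¹ * w * (a * x * a⁻¹)⁻¹ = w := by
    intro a ha
    set x' := a * x * a⁻¹ with hx'
    have hx'P : x' ∈ P := mul_mem (mul_mem (hAP ha) hxP) (inv_mem (hAP ha))
    have h' : Setup T M x' := h.conj (hPT (hAP ha))
    set S := W ⊔ rng M x' with hS
    have hSM : S ≤ M := sup_le hWM (rng_le M x')
    have hS16 : Nat.card S ≤ 16 := by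
      have hn : W ≤ normalizer (rng M x' : Set G) := fun w hw => centralizer_le_normalizer _
        (mem_centralizer_iff.2 fun z hz => mcomm M (rng_le M x' hz) (hWM hw))
      have := Nat.le_of_dvd (Nat.mul_pos Nat.card_pos Nat.card_pos) (CfsgLib.Solvable.card_sup_dvd hn)
      rwa [hW, h.four, h'.four] at this
    set R := P ⊓ ctl M S with hR
    have hRn : R ≤ normalizer (S : Set G) := fun r hr => mem_normalizer_of_ctl M hSM hr.2
    have hxR : x ∈ R := ⟨hxP, fun z hz => mem_sup_left hz⟩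
    have hx'R : x' ∈ R := ⟨hx'P, fun z hz => mem_sup_right hz⟩
    haveI := subgroupOf_normal hRn
    have hidx : ((centralizer (S : Set G)).subgroupOf R).index ∣ 9 := by
      obtain ⟨k, hk⟩ := (hP.to_le (inf_le_left : R ≤ P)).index ((centralizer (S : Set G)).subgroupOf R)
      obtain ⟨n, hn, h20, -, -⟩ := card_mulAut_dvd M hSM
      have hn4 : n ≤ 4 := by
        by_contra hh
        have := Nat.pow_le_pow_right two_pos (show 5 ≤ n by omega)
        omega
      have hd := (relIndex_dvd hRn).trans (h20 hn4)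
      rw [relIndex, hk] at hd
      rw [hk]
      have : k ≤ 2 := by
        by_contra hh
        exact absurd ((pow_dvd_pow 3 (show 3 ≤ k by omega)).trans hd) (by decide)
      exact (pow_dvd_pow 3 this)
    have hq : ∀ u v : ↥R ⧸ (centralizer (S : Set G)).subgroupOf R, u * v = v * u := by
      rw [index_eq_card] at hidx
      obtain ⟨i, hi, hi'⟩ := (Nat.dvd_prime_pow Nat.prime_three).1
        (show Nat.card (↥R ⧸ (centralizer (S : Set G)).subgroupOf R) ∣ 3 ^ 2 from hidx)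
      interval_cases i
      · haveI := (Nat.card_eq_one_iff_unique.1 hi').1
        exact fun u v => Subsingleton.elim _ _
      · haveI := isCyclic_of_prime_card (p := 3) (hi'.trans (pow_one 3))
        exact fun u v => IsCyclic.commGroup.mul_comm u v
      · exact (IsPGroup.isMulCommutative_of_card_eq_prime_sq hi').1.comm
    have hcC : x' * x * x'⁻¹ * x⁻¹ ∈ C := by
      refine faithful M (S := S) (h.odd_order (mul_mem (mul_mem (mul_mem (hPT hx'P) h.mem)
        (inv_mem (hPT hx'P))) (inv_mem h.mem))) ?_ ?_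
      · exact mul_mem (mul_mem (mul_mem hx'R.2 hxR.2) (inv_mem hx'R.2)) (inv_mem hxR.2)
      · have e : (⟨x', hx'R⟩ : R) * ⟨x, hxR⟩ * (⟨x', hx'R⟩ : R)⁻¹ * (⟨x, hxR⟩ : R)⁻¹ ∈
            (centralizer (S : Set G)).subgroupOf R := by
          rw [← QuotientGroup.eq_one_iff, QuotientGroup.mk_mul, QuotientGroup.mk_mul,
            QuotientGroup.mk_mul, QuotientGroup.mk_inv, QuotientGroup.mk_inv,
            hq (QuotientGroup.mk (⟨x', hx'R⟩ : R)) (QuotientGroup.mk (⟨x, hxR⟩ : R))]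
          group
        exact e
    have hx'W : ∀ w ∈ W, x' * w * x'⁻¹ ∈ W := fun w hw => by
      have e : rng M (x' * x * x'⁻¹) = W := by
        rw [show x' * x * x'⁻¹ = (x' * x * x'⁻¹ * x⁻¹) * x by group, rng_congr M hcC]
      rw [← e, rng_conj]
      exact ⟨w, hw, rfl⟩
    have hxW' : ∀ w ∈ rng M x', x * w * x⁻¹ ∈ rng M x' := fun w hw => by
      have e : rng M (x * x' * x⁻¹) = rng M x' := by
        rw [show x * x' * x⁻¹ = (x' * x * x'⁻¹ * x⁻¹)⁻¹ * x' by group, rng_congr M (inv_mem hcC)]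
      rw [← e, rng_conj]
      exact ⟨w, hw, rfl⟩
    by_cases hI : W ⊓ rng M x' = ⊥
    · right
      intro w hw
      have h1 : x' * w * x'⁻¹ * w⁻¹ ∈ W ⊓ rng M x' :=
        ⟨mul_mem (hx'W w hw) (W.inv_mem hw), ⟨w, hWM hw, rfl⟩⟩
      rw [hI, mem_bot, mul_inv_eq_one] at h1
      exact h1
    · left
      have e := h.irreducible (inf_le_left : W ⊓ rng M x' ≤ W)
        (fun s hs => ⟨conj_mem_of_ctl M hWM (mem_ctl_self M x) hs.1, hxW' s hs.2⟩) hI
      exact (CfsgLib.Solvable.eq_of_le_of_card_le (e.ge.trans inf_le_right)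
        (h'.four.le.trans h.four.ge)).symm
  have sq : ∀ a ∈ A, rng M ((a * a) * x * (a * a)⁻¹) = W := by
    intro a ha
    rcases key a ha with e1 | e1
    · rw [rng_conj] at e1 ⊢
      rw [map_mul, show ((MulAut.conj a * MulAut.conj a : MulAut G)).toMonoidHom =
        (MulAut.conj a).toMonoidHom.comp (MulAut.conj a).toMonoidHom from rfl, ← Subgroup.map_map,
        e1, e1]
    · rcases key (a * a) (mul_mem ha ha) with e2 | e2
      · exact e2
      · exfalso
        obtain ⟨w, hw, hw1⟩ := (bot_or_exists_ne_one W).resolve_left (fun hb => by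
          have := h.four
          rw [← hW, hb, card_bot] at this
          omega)
        set x' := a * x * a⁻¹ with hx'
        have heA : x' * x⁻¹ ∈ A := by
          rw [hx', show a * x * a⁻¹ * x⁻¹ = a * (x * a⁻¹ * x⁻¹) by group]
          exact mul_mem ha (hAx _ (inv_mem ha))
        have hce : a * (x' * x⁻¹) = x' * x⁻¹ * a := congrArg Subtype.val (hA.1.1.comm ⟨a, ha⟩ ⟨_, heA⟩)
        have hxx : a * a * x * (a * a)⁻¹ = x' * x⁻¹ * x' := by
          calc a * a * x * (a * a)⁻¹ = a * (x' * x⁻¹) * a⁻¹ * x' := by rw [hx']; group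
            _ = x' * x⁻¹ * x' := by rw [hce, mul_inv_cancel_right]
        have e3 := e2 w hw
        rw [hxx, show x' * x⁻¹ * x' * w * (x' * x⁻¹ * x')⁻¹ =
          x' * (x⁻¹ * (x' * w * x'⁻¹) * x⁻¹⁻¹) * x'⁻¹ by group, e1 w hw,
          e1 _ (conj_mem_of_ctl M hWM (inv_mem (mem_ctl_self M x)) hw)] at e3
        refine hw1 (eq_one_of_fixed M (h.odd_order h.mem) hw ?_)
        rw [inv_inv, mul_assoc, inv_mul_eq_iff_eq_mul] at e3
        exact e3.symm
  intro a ha
  have ha3 : a ^ 3 = 1 := hA.2 a ha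
  have e := sq (a * a) (mul_mem ha ha)
  rw [show a * a * (a * a) = a ^ 3 * a by rw [pow_succ, pow_succ, pow_one]; group, ha3, one_mul,
    rng_conj] at e
  refine mem_normalizer_iff.2 fun w => ⟨fun hw => e.le ⟨w, hw, rfl⟩, fun hw => ?_⟩
  obtain ⟨v, hv, hv'⟩ := e.ge hw
  rwa [show w = v from ((MulAut.conj a).injective hv').symm]

/-- The moving step for primes at least five. -/
theorem Setup.exists_eight (h : Setup T M x) {p : ℕ} [Fact p.Prime] (hp : 5 ≤ p) {P : Subgroup G}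
    (hPT : P ≤ T) (hP : IsPGroup p P) (hPx : ∀ g ∈ P, x * g * x⁻¹ ∈ P) :
    ∃ U : Subgroup G, rng M x ≤ U ∧ U ≤ M ∧ Nat.card U ≤ 8 ∧ P ≤ normalizer (U : Set G) := by
  set W := rng M x with hW
  have hWM : W ≤ M := rng_le M x
  set C := centralizer (M : Set G) with hC
  haveI : C.Normal := inferInstance
  set π := QuotientGroup.mk' C with hπ
  have hker : ∀ g, π g = 1 ↔ g ∈ C := fun g => QuotientGroup.eq_one_iff g
  have hnormle : ∀ {A B : Subgroup G}, A ≤ M → B ≤ M → A ≤ normalizer (B : Set G) := fun hA hB a ha =>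
    centralizer_le_normalizer _ (mem_centralizer_iff.2 fun z hz => mcomm M (hB hz) (hA ha))
  -- the analysis of a moving element
  have mover : ∀ g ∈ P, rng M (g * x * g⁻¹) ≠ W → p = 7 ∧ ∃ y ∈ P, ∃ U : Subgroup G,
      U = rng M y ∧ U = W ⊔ rng M (g * x * g⁻¹) ∧ Nat.card U = 8 ∧ y ∉ C := by
    intro g hg hgW
    set x' := g * x * g⁻¹ with hx'
    have h' : Setup T M x' := h.conj (hPT hg)
    set y := x' * x⁻¹ with hy
    have hyP : y ∈ P := by
      rw [hy, hx', show g * x * g⁻¹ * x⁻¹ = g * (x * g⁻¹ * x⁻¹) by group]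
      exact mul_mem hg (hPx _ (inv_mem hg))
    have hxy : x' = y * x := by rw [hy, inv_mul_cancel_right]
    have hyC : y ∉ C := fun hc => hgW (by rw [hxy, rng_congr M hc])
    set S := W ⊔ rng M x' with hS
    have hSM : S ≤ M := sup_le hWM (rng_le M x')
    have hS16 : Nat.card S ≤ 16 := by
      have := Nat.le_of_dvd (Nat.mul_pos Nat.card_pos Nat.card_pos)
        (CfsgLib.Solvable.card_sup_dvd (hnormle hWM (rng_le M x')))
      rwa [hW, h.four, h'.four] at this
    obtain ⟨n, hn, h20, -, -⟩ := card_mulAut_dvd M hSM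
    have hn4 : n ≤ 4 := by
      by_contra hh
      have := Nat.pow_le_pow_right two_pos (show 5 ≤ n by omega)
      omega
    have hxS : x ∈ ctl M S := fun z hz => mem_sup_left hz
    have hx'S : x' ∈ ctl M S := fun z hz => mem_sup_right hz
    have hyS : y ∈ ctl M S := mul_mem hx'S (inv_mem hxS)
    set R := P ⊓ ctl M S with hR
    have hRn : R ≤ normalizer (S : Set G) := fun r hr => mem_normalizer_of_ctl M hSM hr.2
    haveI := subgroupOf_normal hRn
    set K := (centralizer (S : Set G)).subgroupOf R with hK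
    have hKC : ∀ r : R, r ∈ K → (r : G) ∈ C := fun r hr =>
      faithful M (h.odd_order (hPT r.2.1)) r.2.2 hr
    obtain ⟨k, hk⟩ := (hP.to_le (inf_le_left : R ≤ P)).index K
    have hd := (relIndex_dvd hRn).trans (h20 hn4)
    rw [relIndex, ← hK, hk] at hd
    have hk1 : k = 1 := by
      have hk0 : k ≠ 0 := fun h0 => by
        rw [h0, pow_zero, index_eq_one] at hk
        exact hyC (hKC ⟨y, hyP, hyS⟩ (hk ▸ mem_top _))
      have h2 : k < 2 := by
        have := pow_dvd_small Fact.out hp hd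
        omega
      omega
    rw [hk1, pow_one] at hk hd
    have h57 : p = 5 ∨ p = 7 := prime_dvd_small Fact.out hp hd
    haveI hcyc : IsCyclic (↥R ⧸ K) := isCyclic_of_prime_card (p := p) ((index_eq_card K).symm.trans hk)
    have hy1 : (QuotientGroup.mk (⟨y, hyP, hyS⟩ : R) : ↥R ⧸ K) ≠ 1 := fun he =>
      hyC (hKC _ ((QuotientGroup.eq_one_iff _).1 he))
    have hpow : ∀ r, r ∈ R → ∃ i : ℤ, π r = π y ^ i := by
      intro r hr
      haveI : Fact (Nat.card (↥R ⧸ K)).Prime := ⟨by rw [← index_eq_card, hk]; exact Fact.out⟩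
      have hgen := (zpowers (QuotientGroup.mk (⟨y, hyP, hyS⟩ : R) : ↥R ⧸ K)).eq_bot_or_eq_top_of_prime_card
      rcases hgen with hb | ht
      · exact absurd (zpowers_eq_bot.1 hb) hy1
      · obtain ⟨i, hi⟩ := mem_zpowers_iff.1 (ht.ge (mem_top (QuotientGroup.mk (⟨r, hr⟩ : R))))
        refine ⟨i, ?_⟩
        rw [← QuotientGroup.mk_zpow, QuotientGroup.eq] at hi
        have hc := hKC _ hi
        rw [Subgroup.coe_mul, InvMemClass.coe_inv, SubgroupClass.coe_zpow] at hc
        rw [← map_zpow]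
        exact (QuotientGroup.eq.2 hc).symm
    obtain ⟨i, hi⟩ := hpow (x * y * x⁻¹) ⟨hPx y hyP, mul_mem (mul_mem hxS hyS) ((ctl M S).inv_mem hxS)⟩
    rw [map_mul, map_mul, map_inv] at hi
    have hyp : π y ^ p = 1 := by
      rw [← map_pow, hker]
      have hm := K.pow_index_mem (⟨y, hyP, hyS⟩ : R)
      rw [hk] at hm
      exact hKC _ hm
    have hyo : orderOf (π y) = p := orderOf_eq_prime hyp fun e => hyC ((hker y).1 e)
    have ha3 : π x ^ 3 = 1 := by rw [← map_pow, hker]; exact h.cube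
    have hnc : ¬ Commute (π x) (π y) := fun hc => by
      have h3 : π x' ^ 3 = 1 := by rw [← map_pow, hker]; exact h'.cube
      rw [hxy, map_mul, hc.symm.mul_pow, ha3, mul_one] at h3
      have h4 := orderOf_dvd_of_pow_eq_one h3
      rw [hyo] at h4
      have := Nat.le_of_dvd three_pos h4
      omega
    have hp7 : p = 7 := by
      refine h57.resolve_left fun hp5 => hnc ?_
      have e2 : ∀ z : ℤ, π x * π y ^ z * (π x)⁻¹ = π y ^ (i * z) := fun z => by
        rw [← conj_zpow, hi, ← zpow_mul]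
      have e3 : π y ^ (i * (i * i)) = π y ^ (1 : ℤ) := by
        rw [← e2, ← e2, ← hi, zpow_one]
        calc π x * (π x * (π x * π y * (π x)⁻¹) * (π x)⁻¹) * (π x)⁻¹
            = π x ^ 3 * π y * (π x ^ 3)⁻¹ := by rw [pow_succ, pow_succ, pow_one]; group
          _ = π y := by rw [ha3, one_mul, inv_one, mul_one]
      have h5 : ((5 : ℕ) : ℤ) ∣ i * (i * i) - 1 := by
        have h6 : π y ^ (i * (i * i) - 1) = 1 := by rw [zpow_sub, e3, mul_inv_cancel]
        have := orderOf_dvd_iff_zpow_eq_one.2 h6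
        rwa [hyo, hp5] at this
      have h6 : ((5 : ℕ) : ℤ) ∣ i - 1 := by
        rw [← ZMod.intCast_zmod_eq_zero_iff_dvd] at h5 ⊢
        push_cast at h5 ⊢
        revert h5
        generalize (i : ZMod 5) = a
        revert a
        decide
      have h7 : π y ^ (i - 1) = 1 := orderOf_dvd_iff_zpow_eq_one.1 (by rw [hyo, hp5]; exact h6)
      rw [zpow_sub_one, mul_inv_eq_one] at h7
      rw [h7] at hi
      exact mul_inv_eq_iff_eq_mul.1 hi
    -- the commutator subgroup of `y`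
    set U := rng M y with hU
    have hUS : U ≤ S := hyS
    have hUM : U ≤ M := rng_le M y
    have hU8 : Nat.card U = 8 := by
      let φ : MulAut U := U.normalizerMonoidHom ⟨y, mem_normalizer_of_ctl M hUM (mem_ctl_self M y)⟩
      have hφ7 : φ ^ 7 = 1 := by
        rw [← map_pow]
        refine MulEquiv.ext fun u => Subtype.ext ?_
        show ((y ^ 7 : G)) * (u : G) * (y ^ 7)⁻¹ = u
        have hc : y ^ 7 ∈ C := by rw [← hker, map_pow, ← hp7, hyp]
        rw [← mem_centralizer_iff.1 hc u (hUM u.2), mul_inv_cancel_right]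
      haveI : Fact (Nat.Prime 7) := ⟨by norm_num⟩
      have hpg : IsPGroup 7 (zpowers φ) := IsPGroup.of_card_dvd_pow (n := 1) (by
        rw [Nat.card_zpowers, pow_one]; exact orderOf_dvd_of_pow_eq_one hφ7)
      have hmod := IsPGroup.card_modEq_card_fixedPoints hpg (α := U)
      have hfix : Nat.card (MulAction.fixedPoints (zpowers φ) U) = 1 := by
        refine Nat.card_eq_one_iff_unique.2 ⟨⟨fun u v => ?_⟩, ⟨⟨1, fun q => map_one (q : MulAut U)⟩⟩⟩
        have hall : ∀ u : MulAction.fixedPoints (zpowers φ) U, (u.1 : G) = 1 := fun u => by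
          have e : y * (u.1 : G) * y⁻¹ = (u.1 : G) :=
            congrArg Subtype.val (u.2 ⟨φ, mem_zpowers φ⟩ : φ u.1 = u.1)
          exact eq_one_of_fixed M (h.odd_order (hPT hyP)) u.1.2 (mul_inv_eq_iff_eq_mul.1 e)
        exact Subtype.ext (Subtype.ext ((hall u).trans (hall v).symm))
      rw [hfix] at hmod
      have hle : Nat.card U ≤ 16 := (card_le_of_le hUS).trans hS16
      have hd16 : Nat.card U ∣ 2 ^ n := hn ▸ card_dvd_of_le hUS
      have hne : Nat.card U ≠ 1 := fun h1 =>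
        hyC (mem_centralizer_of_rng M (eq_bot_of_card_eq _ h1))
      obtain ⟨j, hj, hj'⟩ := (Nat.dvd_prime_pow Nat.prime_two).1 hd16
      rw [hj'] at hmod hne ⊢
      have : j ≤ 4 := hj.trans hn4
      unfold Nat.ModEq at hmod
      interval_cases j <;> omega
    have hxyU : rng M (x * y * x⁻¹) ≤ U := by
      have hcc : x * y * x⁻¹ * (y ^ i)⁻¹ ∈ C := by
        rw [← hker, map_mul, map_mul, map_mul, map_inv, map_inv, map_zpow, hi, mul_inv_cancel]
      rw [show x * y * x⁻¹ = (x * y * x⁻¹ * (y ^ i)⁻¹) * y ^ i by group, rng_congr M hcc]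
      exact (ctl M U).zpow_mem (mem_ctl_self M y) i
    have hxU : ∀ u ∈ U, x * u * x⁻¹ ∈ U := fun u hu =>
      hxyU (by rw [rng_conj]; exact ⟨u, hu, rfl⟩)
    have hxU' : ∀ u ∈ U, x' * u * x'⁻¹ ∈ U := fun u hu => by
      rw [hxy, show y * x * u * (y * x)⁻¹ = y * (x * u * x⁻¹) * y⁻¹ by group]
      exact conj_mem_of_ctl M hUM (mem_ctl_self M y) (hxU u hu)
    -- `x` and `x'` move `U`
    have hW_le : W ≤ U := by
      by_cases hI : W ⊓ U = ⊥
      · exfalso
        have hxc : ∀ u ∈ U, x * u * x⁻¹ = u := fun u hu => by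
          have h1 : x * u * x⁻¹ * u⁻¹ ∈ W ⊓ U := ⟨⟨u, hUM hu, rfl⟩, mul_mem (hxU u hu) (U.inv_mem hu)⟩
          rw [hI, mem_bot, mul_inv_eq_one] at h1
          exact h1
        have hzC : x * y * x⁻¹ * y⁻¹ ∈ C := by
          refine faithful M (h.odd_order (mul_mem (mul_mem (mul_mem h.mem (hPT hyP))
            (inv_mem h.mem)) (inv_mem (hPT hyP))))
            (mul_mem (fun z hz => hxyU hz) (inv_mem (mem_ctl_self M y)) : _ ∈ ctl M U) ?_
          refine mem_centralizer_iff.2 fun u hu => ?_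
          have hu' : y⁻¹ * u * y⁻¹⁻¹ ∈ U := conj_mem_of_ctl M hUM (inv_mem (mem_ctl_self M y)) hu
          have hu'' : x⁻¹ * (y⁻¹ * u * y⁻¹⁻¹) * x⁻¹⁻¹ = y⁻¹ * u * y⁻¹⁻¹ := by
            have := hxc _ hu'
            calc x⁻¹ * (y⁻¹ * u * y⁻¹⁻¹) * x⁻¹⁻¹ =
                x⁻¹ * (x * (y⁻¹ * u * y⁻¹⁻¹) * x⁻¹) * x⁻¹⁻¹ := by rw [this]
              _ = _ := by group
          refine (mul_inv_eq_iff_eq_mul.1 ?_).symm
          rw [show x * y * x⁻¹ * y⁻¹ * u * (x * y * x⁻¹ * y⁻¹)⁻¹ =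
            x * (y * (x⁻¹ * (y⁻¹ * u * y⁻¹⁻¹) * x⁻¹⁻¹) * y⁻¹) * x⁻¹ by group, hu'',
            show y * (y⁻¹ * u * y⁻¹⁻¹) * y⁻¹ = u by group, hxc u hu]
        rw [← hker, map_mul, map_mul, map_mul, map_inv, map_inv, mul_inv_eq_one,
          mul_inv_eq_iff_eq_mul] at hzC
        exact hnc hzC
      · exact (h.irreducible inf_le_left
          (fun s hs => ⟨conj_mem_of_ctl M hWM (mem_ctl_self M x) hs.1, hxU s hs.2⟩) hI).ge.trans
            inf_le_right
    have hW'_le : rng M x' ≤ U := by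
      by_cases hI : rng M x' ⊓ U = ⊥
      · exfalso
        have hxc : ∀ u ∈ U, x' * u * x'⁻¹ = u := fun u hu => by
          have h1 : x' * u * x'⁻¹ * u⁻¹ ∈ rng M x' ⊓ U :=
            ⟨⟨u, hUM hu, rfl⟩, mul_mem (hxU' u hu) (U.inv_mem hu)⟩
          rw [hI, mem_bot, mul_inv_eq_one] at h1
          exact h1
        have hxu : ∀ u ∈ U, x * u * x⁻¹ = y⁻¹ * u * y⁻¹⁻¹ := fun u hu => by
          have e := hxc u hu
          rw [hxy] at e
          calc x * u * x⁻¹ = y⁻¹ * (y * x * u * (y * x)⁻¹) * y⁻¹⁻¹ := by group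
            _ = _ := by rw [e]
        have hyu : ∀ u ∈ U, y⁻¹ * u * y⁻¹⁻¹ ∈ U := fun u hu =>
          conj_mem_of_ctl M hUM (inv_mem (mem_ctl_self M y)) hu
        have hy3 : (y ^ 3)⁻¹ ∈ C := by
          refine faithful M (h.odd_order (inv_mem (pow_mem (hPT hyP) 3)))
            (inv_mem (pow_mem (mem_ctl_self M y) 3)) (mem_centralizer_iff.2 fun u hu => ?_)
          refine (mul_inv_eq_iff_eq_mul.1 ?_).symm
          calc (y ^ 3)⁻¹ * u * (y ^ 3)⁻¹⁻¹
              = y⁻¹ * (y⁻¹ * (y⁻¹ * u * y⁻¹⁻¹) * y⁻¹⁻¹) * y⁻¹⁻¹ := by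
                simp only [pow_succ, pow_zero, one_mul, mul_inv_rev, inv_inv, mul_assoc]
            _ = x * (x * (x * u * x⁻¹) * x⁻¹) * x⁻¹ := by
                rw [hxu u hu, hxu _ (hyu u hu), hxu _ (hyu _ (hyu u hu))]
            _ = x ^ 3 * u * (x ^ 3)⁻¹ := by rw [pow_succ, pow_succ, pow_one]; group
            _ = u := by rw [← mem_centralizer_iff.1 h.cube u (hUM hu), mul_inv_cancel_right]
        rw [← hker, map_inv, inv_eq_one, map_pow] at hy3
        have h4 := orderOf_dvd_of_pow_eq_one hy3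
        rw [hyo, hp7] at h4
        omega
      · exact (h'.irreducible inf_le_left
          (fun s hs => ⟨conj_mem_of_ctl M (rng_le M x') (mem_ctl_self M x') hs.1, hxU' s hs.2⟩) hI).ge.trans
            inf_le_right
    exact ⟨hp7, y, hyP, U, rfl, le_antisymm hUS (sup_le hW_le hW'_le), hU8, hyC⟩
  by_cases hall : ∀ g ∈ P, rng M (g * x * g⁻¹) = W
  · refine ⟨W, le_rfl, hWM, by rw [hW, h.four]; norm_num, fun g hg => ?_⟩
    have e := hall g hg
    rw [rng_conj] at e
    refine mem_normalizer_iff.2 fun w => ⟨fun hw => e.le ⟨w, hw, rfl⟩, fun hw => ?_⟩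
    obtain ⟨v, hv, hv'⟩ := e.ge hw
    rwa [show w = v from ((MulAut.conj g).injective hv').symm]
  push Not at hall
  obtain ⟨g₀, hg₀, hg₀W⟩ := hall
  obtain ⟨hp7, y, hy, U, hUy, hUS, hU8, hyC⟩ := mover g₀ hg₀ hg₀W
  have hUM : U ≤ M := hUy ▸ rng_le M y
  have hWU : W ≤ U := hUS.ge.trans' le_sup_left
  have hall' : ∀ g ∈ P, rng M (g * x * g⁻¹) ≤ U := by
    intro g hg
    by_cases hgW : rng M (g * x * g⁻¹) = W
    · rw [hgW]; exact hWU
    obtain ⟨-, y', hy', U', hU'y, hU'S, hU'8, -⟩ := mover g hg hgW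
    have hU'M : U' ≤ M := hU'y ▸ rng_le M y'
    set V := U ⊔ U' with hV
    have hVM : V ≤ M := sup_le hUM hU'M
    have hV16 : Nat.card V ≤ 16 := by
      have e := CfsgLib.Solvable.card_sup_mul_card_inf (hnormle hUM hU'M)
      have h4 : 4 ≤ Nat.card ↥(U ⊓ U') := by
        rw [← h.four]
        exact card_le_of_le (le_inf hWU (hU'S.ge.trans' le_sup_left))
      rw [hU8, hU'8, ← hV] at e
      nlinarith
    obtain ⟨n, hn, h20, -, -⟩ := card_mulAut_dvd M hVM
    have hn4 : n ≤ 4 := by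
      by_contra hh
      have := Nat.pow_le_pow_right two_pos (show 5 ≤ n by omega)
      omega
    set R := P ⊓ ctl M V
    have hRn : R ≤ normalizer (V : Set G) := fun r hr => mem_normalizer_of_ctl M hVM hr.2
    haveI := subgroupOf_normal hRn
    set K := (centralizer (V : Set G)).subgroupOf R with hK
    have hKC : ∀ r : R, r ∈ K → (r : G) ∈ C := fun r hr =>
      faithful M (h.odd_order (hPT r.2.1)) r.2.2 hr
    have hyR : y ∈ R := ⟨hy, fun z hz => mem_sup_left (hUy ▸ hz : z ∈ U)⟩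
    have hy'R : y' ∈ R := ⟨hy', fun z hz => mem_sup_right (hU'y ▸ hz : z ∈ U')⟩
    obtain ⟨k, hk⟩ := (hP.to_le (inf_le_left : R ≤ P)).index K
    have hd := (relIndex_dvd hRn).trans (h20 hn4)
    rw [relIndex, ← hK, hk, hp7] at hd
    have hk1 : k ≤ 1 := by
      by_contra hh
      exact absurd ((pow_dvd_pow 7 (show 2 ≤ k by omega)).trans hd) (by decide)
    have hy1 : (QuotientGroup.mk (⟨y, hyR⟩ : R) : ↥R ⧸ K) ≠ 1 := fun he =>
      hyC (hKC _ ((QuotientGroup.eq_one_iff _).1 he))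
    have hk1' : k = 1 := by
      refine le_antisymm hk1 (Nat.pos_of_ne_zero fun h0 => hy1 ?_)
      rw [h0, pow_zero, index_eq_one] at hk
      exact (QuotientGroup.eq_one_iff _).2 (hk ▸ mem_top _)
    haveI : Fact (Nat.card (↥R ⧸ K)).Prime := ⟨by
      rw [← index_eq_card, hk, hk1', pow_one]; exact Fact.out⟩
    rcases (zpowers (QuotientGroup.mk (⟨y, hyR⟩ : R) : ↥R ⧸ K)).eq_bot_or_eq_top_of_prime_card with hb | ht
    · exact absurd (zpowers_eq_bot.1 hb) hy1
    obtain ⟨i, hi⟩ := mem_zpowers_iff.1 (ht.ge (mem_top (QuotientGroup.mk (⟨y', hy'R⟩ : R))))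
    rw [← QuotientGroup.mk_zpow, QuotientGroup.eq] at hi
    have hc := hKC _ hi
    rw [Subgroup.coe_mul, InvMemClass.coe_inv, SubgroupClass.coe_zpow] at hc
    have hc' : y' * (y ^ i)⁻¹ ∈ C := by
      have := (inferInstance : C.Normal).conj_mem _ hc (y ^ i)
      rwa [show y ^ i * ((y ^ i)⁻¹ * y') * (y ^ i)⁻¹ = y' * (y ^ i)⁻¹ by group] at this
    have hU'U : U' ≤ U := by
      rw [hU'y, show y' = y' * (y ^ i)⁻¹ * y ^ i by group, rng_congr M hc']
      exact hUy ▸ (ctl M (rng M y)).zpow_mem (mem_ctl_self M y) i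
    exact (hU'S.ge.trans' le_sup_right).trans hU'U
  refine ⟨U, hWU, hUM, hU8.le, ?_⟩
  have hconj : ∀ g ∈ P, U.map (MulAut.conj g).toMonoidHom ≤ U := by
    intro g hg
    rw [hUS, Subgroup.map_sup]
    refine sup_le ?_ ?_
    · rw [← rng_conj, ← hUS]; exact hall' g hg
    · rw [← rng_conj, show g * (g₀ * x * g₀⁻¹) * g⁻¹ = g * g₀ * x * (g * g₀)⁻¹ by group, ← hUS]
      exact hall' _ (mul_mem hg hg₀)
  intro g hg
  refine mem_normalizer_iff.2 fun w => ⟨fun hw => hconj g hg ⟨w, hw, rfl⟩, fun hw => ?_⟩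
  have := hconj g⁻¹ (inv_mem hg) ⟨_, hw, rfl⟩
  simpa [mul_assoc] using this

/-- A subgroup of order `r ^ 2` centralizing the four-group. -/
theorem not_isCyclic_inf {r : ℕ} (hr : r.Prime) {F : Subgroup G} (hF : Cfsg.IsElementaryAbelian r F)
    (hF3 : Nat.card F = r ^ 3) {S : Subgroup G} (h : (centralizer (S : Set G)).relIndex F ≤ r) :
    ¬ IsCyclic ↥(F ⊓ centralizer (S : Set G)) := by
  intro hcyc
  obtain ⟨g, hg⟩ := hcyc.exists_generator
  have h1 : Nat.card ↥(F ⊓ centralizer (S : Set G)) ≤ r := by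
    rw [← orderOf_eq_card_of_forall_mem_zpowers hg]
    exact orderOf_le_of_pow_eq_one hr.pos (Subtype.ext (hF.2 _ g.2.1))
  have h2 := relIndex_mul_relIndex ⊥ (F ⊓ centralizer (S : Set G)) F bot_le inf_le_left
  rw [relIndex_bot_left, relIndex_bot_left, inf_relIndex_left, hF3] at h2
  have := Nat.mul_le_mul h1 h
  rw [h2] at this
  nlinarith [hr.two_le, pow_succ r 2, pow_two r]

open scoped Pointwise in
theorem main [Group.IsSolvable G] {p : ℕ} (hp : p.Prime) (hp2 : p ≠ 2) (E : Subgroup G)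
    (hE : Cfsg.IsElementaryAbelian p E) (hE3 : Nat.card E = p ^ 3) (Q : Subgroup G)
    (hQc : IsCyclic Q) (hQ3 : IsPGroup 3 Q) (hQ1 : ∀ x ∈ Q, x ^ 3 ∈ centralizer (M : Set G))
    (hQM : Nat.card ↥⁅Q, M⁆ = 4) :
    ∃ (r : ℕ) (F : Subgroup G), r.Prime ∧ r ≠ 2 ∧ Cfsg.IsElementaryAbelian r F ∧
      Nat.card F = r ^ 3 ∧ ¬ IsCyclic ↥(F ⊓ centralizer ((⁅Q, M⁆ : Subgroup G) : Set G)) := by
  haveI : Fact (Nat.Prime 3) := ⟨Nat.prime_three⟩
  haveI : Fact p.Prime := ⟨hp⟩
  obtain ⟨gQ, hgQ⟩ := hQc.exists_generator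
  set x : G := (gQ : G) with hx
  have hQx : ∀ q ∈ Q, ∃ i : ℤ, q = x ^ i := fun q hq => by
    obtain ⟨i, hi⟩ := mem_zpowers_iff.1 (hgQ ⟨q, hq⟩)
    exact ⟨i, (congrArg Subtype.val hi).symm⟩
  have hrng : ⁅Q, M⁆ = rng M x := by
    refine le_antisymm (commutator_le.2 fun q hq m hm => ?_) ?_
    · obtain ⟨i, rfl⟩ := hQx q hq
      exact (ctl M (rng M x)).zpow_mem (mem_ctl_self M x) i ⟨m, hm, by rw [commutatorElement_def]⟩
    · rintro _ ⟨m, hm, rfl⟩
      exact commutator_mem_commutator gQ.2 hm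
  -- the Hall subgroup
  obtain ⟨T₀, hT₀, hT₀i, hT₀dom⟩ := CfsgLib.Hall.hall_pi (G := G) (fun q => q = 3 ∨ q = p)
  obtain ⟨g, hg⟩ := hT₀dom Q fun q hq hd => by
    obtain ⟨n, hn⟩ := IsPGroup.iff_card.1 hQ3
    exact Or.inl ((Nat.prime_dvd_prime_iff_eq hq Nat.prime_three).1 (hq.dvd_of_dvd_pow (hn ▸ hd)))
  set T := (MulAut.conj g)⁻¹ • T₀ with hTdef
  have hQT : Q ≤ T := by
    rw [hTdef, Subgroup.subset_pointwise_smul_iff, inv_inv]; exact hg
  have hTc : Nat.card T = Nat.card T₀ := Nat.card_congr (Subgroup.equivSMul _ T₀).symm.toEquiv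
  have hodd : Odd (Nat.card T) := by
    rw [hTc, ← Nat.not_even_iff_odd, even_iff_two_dvd]
    intro h2
    rcases hT₀ 2 Nat.prime_two h2 with h | h
    · omega
    · exact hp2 h.symm
  obtain ⟨g', hg'⟩ := hT₀dom E fun q hq hd => by
    rw [hE3] at hd
    exact Or.inr ((Nat.prime_dvd_prime_iff_eq hq hp).1 (hq.dvd_of_dvd_pow hd))
  set E' := E.map (MulAut.conj (g⁻¹ * g')).toMonoidHom with hE'
  have hE'T : E' ≤ T := by
    rintro _ ⟨e, he, rfl⟩
    rw [hTdef, Subgroup.mem_pointwise_smul_iff_inv_smul_mem, inv_inv]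
    have := hg' (Subgroup.smul_mem_pointwise_smul e (MulAut.conj g') E he)
    simpa [MulAut.smul_def, mul_assoc] using this
  have hE'e : Cfsg.IsElementaryAbelian p E' := by
    refine ⟨⟨⟨fun u v => Subtype.ext ?_⟩⟩, ?_⟩
    · obtain ⟨a, ha, ea⟩ := u.2
      obtain ⟨b, hb, eb⟩ := v.2
      show (u : G) * v = v * u
      rw [← ea, ← eb, ← map_mul, ← map_mul,
        show a * b = b * a from congrArg Subtype.val (hE.1.1.comm ⟨a, ha⟩ ⟨b, hb⟩)]
    · rintro _ ⟨a, ha, rfl⟩; rw [← map_pow, hE.2 a ha, map_one]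
  have hE'c : Nat.card E' = p ^ 3 := by
    rw [hE', card_map_of_injective (MulAut.conj _).injective, hE3]
  have hset : Setup T M x := ⟨hodd, hQT gQ.2, hQ1 x gQ.2, by rw [← hrng, hQM]⟩
  rw [hrng]
  haveI : Group.IsSolvable T := inferInstance
  by_cases hr3 : ∀ A : Subgroup T, IsMulCommutative A → (∀ a ∈ A, a ^ 3 = 1) → Nat.card A ≤ 3 ^ 2
  · -- small 3-rank
    have hp5 : 5 ≤ p := by
      by_contra hlt
      have hp3 : p = 3 := by have := hp.two_le; interval_cases p <;> simp_all (config := {decide := true})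
      subst hp3
      have := hr3 (E'.subgroupOf T) ⟨⟨fun u v => Subtype.ext (Subtype.ext
        (show ((u.1 : T) : G) * v.1 = v.1 * u.1 from congrArg Subtype.val (hE'e.1.1.comm ⟨((u.1 : T) : G), mem_subgroupOf.1 u.2⟩ ⟨((v.1 : T) : G), mem_subgroupOf.1 v.2⟩)))⟩⟩
        (fun a ha => Subtype.ext (hE'e.2 _ ha))
      rw [Nat.card_congr (subgroupOfEquivOfLe hE'T).toEquiv, hE'c] at this
      norm_num at this
    obtain ⟨-, hq⟩ := CfsgLib.FGSA.RankTwoSolvable.quotient_of_rank_two (p := 3) hodd hr3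
    set O := Cfsg.pPrimeCore 3 T with hO
    haveI : O.Normal := CfsgLib.Solvable.pPrimeCore_normal 3
    have hOp : IsPGroup p O := by
      refine IsPGroup.of_card (n := (Nat.card O).primeFactorsList.length)
        (Nat.eq_prime_pow_of_unique_prime_dvd (p := p) Nat.card_pos.ne' fun {q} hq' hd => ?_)
      rcases hT₀ q hq' (hTc ▸ hd.trans (card_subgroup_dvd_card O)) with h | h
      · exfalso
        subst h
        exact Nat.not_coprime_of_dvd_of_dvd (by norm_num) hd (dvd_refl 3)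
          (CfsgLib.Solvable.coprime_card_pPrimeCore 3)
      · exact h
    have hin : ∀ t : T, (∃ k, orderOf t = p ^ k) → t ∈ O := by
      rintro t ⟨k, hk⟩
      refine (QuotientGroup.eq_one_iff t).1 (orderOf_eq_one_iff.1 ?_)
      obtain ⟨j, -, hj⟩ := (Nat.dvd_prime_pow hp).1
        (hk ▸ orderOf_map_dvd (QuotientGroup.mk' O) t)
      rw [QuotientGroup.mk'_apply] at hj
      rcases j with _ | j
      · rw [hj, pow_zero]
      · exfalso
        have hd : p ∣ Nat.card (T ⧸ O) :=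
          (dvd_pow_self p j.succ_ne_zero).trans (hj ▸ orderOf_dvd_natCard _)
        have := hq p hp (by omega) hd
        omega
    set P := O.map T.subtype with hP
    obtain ⟨U, hWU, hUM, hU8, hPU⟩ := hset.exists_eight hp5 (map_subtype_le O) (hOp.map _)
      (fun y hy => by
        obtain ⟨o, ho, rfl⟩ := hy
        exact ⟨⟨x, hset.mem⟩ * o * ⟨x, hset.mem⟩⁻¹, (inferInstance : O.Normal).conj_mem o ho _, rfl⟩)
    have hEP : E' ≤ P := fun e he => by
      refine ⟨⟨e, hE'T he⟩, hin _ ?_, rfl⟩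
      rw [← Subgroup.orderOf_coe]
      obtain ⟨k, -, hk⟩ := (Nat.dvd_prime_pow hp).1
        ((pow_one p).symm ▸ orderOf_dvd_of_pow_eq_one (hE'e.2 e he) : orderOf e ∣ p ^ 1)
      exact ⟨k, hk⟩
    refine ⟨p, E', hp, hp2, hE'e, hE'c, not_isCyclic_inf hp hE'e hE'c ?_⟩
    obtain ⟨n, hn, -, h168, -⟩ := card_mulAut_dvd M hUM
    have hn3 : n ≤ 3 := by
      by_contra hh
      have := Nat.pow_le_pow_right two_pos (show 4 ≤ n by omega)
      omega
    have hd := (relIndex_dvd (hEP.trans hPU)).trans (h168 hn3)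
    haveI := subgroupOf_normal (hEP.trans hPU)
    obtain ⟨k, hk⟩ := (IsPGroup.of_card hE'c).index ((centralizer (U : Set G)).subgroupOf E')
    rw [relIndex, hk] at hd
    have hle : (centralizer (rng M x : Set G)).relIndex E' ≤ (centralizer (U : Set G)).relIndex E' :=
      relIndex_le_of_le_left (Subgroup.centralizer_le hWU) index_ne_zero_of_finite
    refine hle.trans ?_
    rw [relIndex, hk]
    calc p ^ k ≤ p ^ 1 := by
          refine Nat.pow_le_pow_right hp.pos ?_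
          by_contra hh
          have := pow_dvd_small hp hp5 (hd.trans (by norm_num))
          omega
      _ = p := pow_one p
  · -- large 3-rank
    push Not at hr3
    obtain ⟨A₀, hA₀c, hA₀3, hA₀big⟩ := hr3
    have hQTp : IsPGroup 3 (Q.subgroupOf T) :=
      hQ3.of_equiv (subgroupOfEquivOfLe hQT).symm
    obtain ⟨P₀, hP₀⟩ := hQTp.exists_le_sylow
    have hA₀p : IsPGroup 3 A₀ := fun a => ⟨1, Subtype.ext (by simpa using hA₀3 _ a.2)⟩
    obtain ⟨P₁, hP₁⟩ := hA₀p.exists_le_sylow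
    have e : Nonempty (↥(P₁ : Subgroup T) ≃* ↥(P₀ : Subgroup T)) := ⟨Sylow.equiv P₁ P₀⟩
    obtain ⟨e⟩ := e
    set E₀ := (A₀.subgroupOf (P₁ : Subgroup T)).map e.toMonoidHom with hE₀
    obtain ⟨A, hAn, hAc, hA3, hAcard⟩ := CfsgLib.NormalCube.exists_normal_cube (p := 3) (by norm_num)
      P₀.2 E₀ ⟨⟨fun u v => Subtype.ext (by
        obtain ⟨a, ha, ea⟩ := u.2
        obtain ⟨b, hb, eb⟩ := v.2
        show u.1 * v.1 = v.1 * u.1
        rw [← ea, ← eb, ← map_mul, ← map_mul]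
        congr 1
        exact Subtype.ext (show (a : T) * b = b * a from congrArg Subtype.val (hA₀c.1.comm ⟨(a : T), mem_subgroupOf.1 ha⟩ ⟨(b : T), mem_subgroupOf.1 hb⟩)))⟩⟩
      (by rintro _ ⟨a, ha, rfl⟩; rw [← map_pow, show a ^ 3 = 1 from Subtype.ext (hA₀3 _ ha), map_one])
      (by
        have h2 : 3 ^ 2 < Nat.card A₀ := hA₀big
        obtain ⟨k, hk⟩ := IsPGroup.iff_card.1 hA₀p
        rw [hE₀, card_map_of_injective e.injective, Nat.card_congr (subgroupOfEquivOfLe hP₁).toEquiv, hk]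
        refine Nat.pow_le_pow_right (by norm_num) ?_
        by_contra hh
        rw [hk] at h2
        exact absurd h2 (not_lt.2 (Nat.pow_le_pow_right (by norm_num) (by omega))))
    set P := (P₀ : Subgroup T).map T.subtype with hP
    set F := (A.map (P₀ : Subgroup T).subtype).map T.subtype with hF
    have hFe : Cfsg.IsElementaryAbelian 3 F := by
      refine ⟨⟨⟨fun u v => Subtype.ext ?_⟩⟩, ?_⟩
      · obtain ⟨_, ⟨a, ha, rfl⟩, ea⟩ := u.2
        obtain ⟨_, ⟨b, hb, rfl⟩, eb⟩ := v.2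
        show (u : G) * v = v * u
        rw [← ea, ← eb, ← map_mul, ← map_mul, ← map_mul, ← map_mul,
          show a * b = b * a from congrArg Subtype.val (hAc.1.comm ⟨a, ha⟩ ⟨b, hb⟩)]
      · rintro _ ⟨_, ⟨a, ha, rfl⟩, rfl⟩
        rw [← map_pow, ← map_pow, hA3 a ha, map_one, map_one]
    have hFc : Nat.card F = 3 ^ 3 := by
      rw [hF, card_map_of_injective T.subtype_injective,
        card_map_of_injective (P₀ : Subgroup T).subtype_injective, hAcard]
    have hxP : (⟨x, hset.mem⟩ : T) ∈ (P₀ : Subgroup T) := hP₀ (mem_subgroupOf.2 gQ.2)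
    have hN := hset.normalizes_three (map_subtype_le _) (P₀.2.map T.subtype)
      ⟨⟨x, hset.mem⟩, hxP, rfl⟩ (map_mono (map_subtype_le A)) hFe
      (fun a ha => by
        obtain ⟨_, ⟨b, hb, rfl⟩, rfl⟩ := ha
        exact ⟨_, ⟨⟨_, hxP⟩ * b * ⟨_, hxP⟩⁻¹, hAn.conj_mem b hb _, rfl⟩, rfl⟩)
    refine ⟨3, F, Nat.prime_three, by norm_num, hFe, hFc, not_isCyclic_inf Nat.prime_three hFe hFc ?_⟩
    obtain ⟨n, hn, -, -, h6⟩ := card_mulAut_dvd M (rng_le M x)
    have hn2 : n = 2 := Nat.pow_right_injective le_rfl (hn.symm.trans hset.four)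
    have hd := (relIndex_dvd hN).trans (h6 hn2.le)
    haveI := subgroupOf_normal hN
    obtain ⟨k, hk⟩ := (IsPGroup.of_card hFc).index ((centralizer (rng M x : Set G)).subgroupOf F)
    rw [relIndex, hk] at hd ⊢
    calc 3 ^ k ≤ 3 ^ 1 := by
          refine Nat.pow_le_pow_right (by norm_num) ?_
          by_contra hh
          exact absurd ((pow_dvd_pow 3 (show 2 ≤ k by omega)).trans hd) (by decide)
      _ = 3 := pow_one 3

end CfsgLib.FourMove
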