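import Mathlib.GroupTheory.IndexNormal
import Cfsg.Agent.Coprime.Basic
import Cfsg.Agent.Solvable.PGroupBasic
import Cfsg.Agent.Solvable.Basics
import Cfsg.Prelude.Def_Transfer

/-!
Coprime action on a 2-group all whose proper invariant subgroups lack non-cyclic abelian
subgroups of order eight.
-/

set_option autoImplicit false
set_option linter.style.haveILetI false
set_option linter.unusedSectionVars false

namespace CfsgLib.LackEight

open Subgroup
open scoped commutatorElement

universe u v

/-- No non-cyclic abelian subgroup of order eight inside `K`. -/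
def Lack {X : Type u} [Group X] (K : Subgroup X) : Prop :=
  ∀ B : Subgroup X, B ≤ K → IsMulCommutative B → Nat.card B = 8 → IsCyclic B

/-- A four-group. -/
def IsFour (Y : Type u) [Group Y] : Prop := Nat.card Y = 4 ∧ ∀ y : Y, y * y = 1

/-- A quaternion group of order eight. -/
def IsQEight (Y : Type u) [Group Y] : Prop :=
  Nat.card Y = 8 ∧ ¬ IsMulCommutative Y ∧
    ∃ z : Y, z ≠ 1 ∧ z * z = 1 ∧ ∀ y : Y, y * y = 1 → y = 1 ∨ y = z

theorem pow_four' {Y : Type u} [Group Y] (x : Y) : x ^ 4 = x * x * (x * x) := by
  simp [pow_succ, mul_assoc]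

theorem isPGroup_orderOf {Y : Type u} [Group Y] [Finite Y] (h8 : Nat.card Y = 8) (y : Y)
    (hy : ¬ IsCyclic Y) : y ^ 4 = 1 := by
  have hd : orderOf y ∣ 8 := h8 ▸ orderOf_dvd_natCard y
  have hne : orderOf y ≠ 8 := fun e => hy (isCyclic_of_orderOf_eq_card y (e.trans h8.symm))
  refine orderOf_dvd_iff_pow_eq_one.1 ?_
  have := Nat.le_of_dvd (by norm_num) hd
  generalize orderOf y = n at *
  interval_cases n <;> omega

theorem not_isCyclic_of_exponent {Y : Type u} [Group Y] [Finite Y] {e : ℕ} (he : 0 < e)
    (hlt : e < Nat.card Y) (h : ∀ y : Y, y ^ e = 1) : ¬ IsCyclic Y := fun hc => by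
  obtain ⟨g, hg⟩ := hc.exists_generator
  have := orderOf_le_of_pow_eq_one he (h g)
  rw [orderOf_eq_card_of_forall_mem_zpowers hg] at this
  omega

variable {X : Type u} [Group X] [Finite X] {A : Type v} [Group A] [Finite A]
  [MulDistribMulAction A X]

open CfsgLib.Coprime

theorem coprime_card (hX : IsPGroup 2 X) (hA : Odd (Nat.card A)) (K : Subgroup X) :
    (Nat.card A).Coprime (Nat.card K) := by
  haveI : Fact (Nat.Prime 2) := ⟨Nat.prime_two⟩
  obtain ⟨n, hn⟩ := IsPGroup.iff_card.1 (hX.to_subgroup K)
  rw [hn]
  exact Nat.Coprime.pow_right n hA.coprime_two_right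

/-- The restricted action. -/
@[reducible] def resAction {K : Subgroup X} (hK : IsInvariant A K) : MulDistribMulAction A K where
  smul a k := ⟨a • (k : X), hK a k k.2⟩
  one_smul k := Subtype.ext (one_smul A (k : X))
  mul_smul a b k := Subtype.ext (mul_smul a b (k : X))
  smul_mul a k l := Subtype.ext (smul_mul' a (k : X) l)
  smul_one a := Subtype.ext (smul_one a)

theorem smul_mem_of_mem_two {K : Subgroup X} (hK : IsInvariant A K) (h2 : Nat.card K ≤ 2)
    (a : A) {k : X} (hk : k ∈ K) : a • k = k := by
  by_cases hk1 : k = 1
  · rw [hk1, smul_one]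
  by_contra hne
  have hf : Function.Injective (![⟨1, one_mem K⟩, ⟨k, hk⟩, ⟨a • k, hK a k hk⟩] : Fin 3 → K) := by
    have hak : a • k ≠ 1 := fun e => hk1 (by simpa using congrArg (a⁻¹ • ·) e)
    intro i j hij
    fin_cases i <;> fin_cases j <;>
      first
      | rfl
      | (exfalso
         simp [Subtype.ext_iff] at hij
         first
         | exact hk1 hij
         | exact hk1 hij.symm
         | exact hak hij
         | exact hak hij.symm
         | exact hne hij
         | exact hne hij.symm)
  have := Nat.card_le_card_of_injective _ hf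
  simp only [Nat.card_fin] at this
  omega

/-- An action trivial on an invariant subgroup of index two is trivial. -/
theorem triv_index_two (hX : IsPGroup 2 X) (hA : Odd (Nat.card A)) {N K : Subgroup X} (hNK : N ≤ K)
    (hK : IsInvariant A K) (hi : N.relIndex K ≤ 2) (hfix : ∀ a : A, ∀ n ∈ N, a • n = n) :
    ∀ a : A, ∀ k ∈ K, a • k = k := by
  intro a k hk
  by_cases hkN : k ∈ N
  · exact hfix a k hkN
  refine smul_eq_self_of_stabilizes N (coprime_card hX hA N) k (fun b => ?_) hfix a
  have h2 : (N.subgroupOf K).index = 2 := by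
    have h0 : (N.subgroupOf K).index ≠ 0 := index_ne_zero_of_finite
    have h1 : (N.subgroupOf K).index ≠ 1 := fun e => hkN (relIndex_eq_one.1 e hk)
    have : (N.subgroupOf K).index ≤ 2 := hi
    omega
  have hb : b • k ∉ N := fun h => hkN (by
    have := hfix b⁻¹ _ h
    rw [inv_smul_smul] at this
    rw [this]; exact h)
  have := (mul_mem_iff_of_index_two h2 (a := (⟨k, hk⟩ : K)⁻¹) (b := ⟨b • k, hK b k hk⟩)).2
    (iff_of_false (fun h => hkN (by simpa using inv_mem (mem_subgroupOf.1 h)))
      (fun h => hb (mem_subgroupOf.1 h)))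
  exact mem_subgroupOf.1 this

theorem fix_of_card_le_four (hX : IsPGroup 2 X) (hA : Odd (Nat.card A)) {K : Subgroup X}
    (hK : IsInvariant A K) (h4 : Nat.card K ≤ 4) {k : X} (hk : k ∈ K) (hk1 : k ≠ 1)
    (hfix : ∀ a : A, a • k = k) : ∀ a : A, ∀ x ∈ K, a • x = x := by
  refine triv_index_two hX hA (zpowers_le.2 hk) hK ?_ fun a n hn => ?_
  · have h1 := relIndex_mul_relIndex ⊥ (zpowers k) K bot_le (zpowers_le.2 hk)
    rw [relIndex_bot_left, relIndex_bot_left] at h1
    have h2 : 2 ≤ Nat.card (zpowers k) := by
      have h0 : Nat.card (zpowers k) ≠ 1 := fun e =>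
        hk1 (zpowers_eq_bot.1 (eq_bot_of_card_eq _ e))
      have := Nat.card_pos (α := zpowers k)
      omega
    nlinarith
  · obtain ⟨i, rfl⟩ := mem_zpowers_iff.1 hn
    rw [show a • k ^ i = MulDistribMulAction.toMonoidHom X a (k ^ i) from rfl, map_zpow]
    exact congrArg (· ^ i) (hfix a)

/-- An invariant normal four-group with non-trivial action is central. -/
theorem four_le_center (hX : IsPGroup 2 X) (hA : Odd (Nat.card A)) {K : Subgroup X} [K.Normal]
    (hK : IsInvariant A K) (h4 : Nat.card K ≤ 4) (hne : ¬ ∀ a : A, ∀ k ∈ K, a • k = k) :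
    K ≤ center X := by
  haveI : Fact (Nat.Prime 2) := ⟨Nat.prime_two⟩
  haveI := hX.isNilpotent
  have hK1 : K ≠ ⊥ := fun h => hne fun a k hk => by
    rw [h, mem_bot] at hk; rw [hk, smul_one]
  have hI : IsInvariant A (K ⊓ center X) := fun a n hn => ⟨hK a n hn.1,
    mem_center_iff.2 fun g => by
      have e := congrArg (a • ·) (mem_center_iff.1 hn.2 (a⁻¹ • g))
      simpa using e⟩
  have hne' := CfsgLib.PGroupBasic.inf_center_ne_bot K hK1
  by_contra hnot
  have hlt : K ⊓ center X < K := lt_of_le_of_ne inf_le_left fun e => hnot (e ▸ inf_le_right)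
  have h2 : Nat.card ↥(K ⊓ center X) ≤ 2 := by
    have h1 := relIndex_mul_relIndex ⊥ (K ⊓ center X) K bot_le inf_le_left
    rw [relIndex_bot_left, relIndex_bot_left] at h1
    have h3 : (K ⊓ center X).relIndex K ≠ 1 := fun e => hlt.not_ge (relIndex_eq_one.1 e)
    have h5 := Nat.card_pos (α := K)
    have h6 : (K ⊓ center X).relIndex K ≠ 0 := fun e => by rw [e, mul_zero] at h1; omega
    nlinarith [show 2 ≤ (K ⊓ center X).relIndex K by omega]
  obtain ⟨k, hk, hk1⟩ := (bot_or_exists_ne_one _).resolve_left hne'
  exact hne (fix_of_card_le_four hX hA hK h4 hk.1 hk1 fun a => smul_mem_of_mem_two hI h2 a hk)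

/-- Structure data for a quaternion subgroup. -/
theorem qEight_data {D : Subgroup X} (hD : IsQEight D) :
    ∃ z i j : X, z ∈ D ∧ i ∈ D ∧ j ∈ D ∧ z ≠ 1 ∧ z * z = 1 ∧ i * i = z ∧ i * j ≠ j * i ∧
      (∀ y ∈ D, y * y = 1 → y = 1 ∨ y = z) ∧ closure {i, j} = D := by
  obtain ⟨h8, hna, z, hz1, hz2, huniq⟩ := hD
  obtain ⟨i, j, hij⟩ : ∃ i j : D, i * j ≠ j * i := by
    by_contra h
    push Not at h
    exact hna ⟨⟨h⟩⟩
  have hnc : ¬ IsCyclic D := fun h => hij (IsCyclic.commGroup.mul_comm i j)
  have hi4 := isPGroup_orderOf h8 i hnc
  have hii : i * i = z := by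
    refine (huniq (i * i) (by rw [← hi4, pow_four'])).resolve_left fun h => ?_
    rcases huniq i h with e | e
    · exact hij (by rw [e, one_mul, mul_one])
    · subst e
      have hjj := huniq (j * j) (by rw [← isPGroup_orderOf h8 j hnc, pow_four'])
      -- the involution is central
      have hjz : j * i * j⁻¹ = i := by
        refine (huniq (j * i * j⁻¹) (by rw [show j * i * j⁻¹ * (j * i * j⁻¹) = j * (i * i) * j⁻¹ by group,
          h, mul_one, mul_inv_cancel])).resolve_left fun e => hz1 (by simpa using e)
      exact hij (mul_inv_eq_iff_eq_mul.1 hjz).symm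
  refine ⟨z, i, j, z.2, i.2, j.2, fun e => hz1 (Subtype.ext e), congrArg Subtype.val hz2,
    congrArg Subtype.val hii, fun e => hij (Subtype.ext e),
    fun y hy h => (huniq ⟨y, hy⟩ (Subtype.ext h)).imp (congrArg Subtype.val) (congrArg Subtype.val), ?_⟩
  set W := closure {(i : X), (j : X)}
  have hWD : W ≤ D := (closure_le _).2 (by rintro _ (rfl | rfl) <;> simp)
  refine Solvable.eq_of_le_of_card_le hWD ?_
  have hd : Nat.card W ∣ 8 := h8 ▸ card_dvd_of_le hWD
  by_contra hlt
  rw [h8] at hlt
  have hW4 : Nat.card W ∣ 4 := by
    have := Nat.le_of_dvd (by norm_num) hd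
    generalize Nat.card W = n at *
    interval_cases n <;> omega
  have hcomm : ∀ a b : W, a * b = b * a := by
    haveI : Fact (Nat.Prime 2) := ⟨Nat.prime_two⟩
    obtain ⟨k, hk, hk'⟩ := (Nat.dvd_prime_pow Nat.prime_two).1
      (show Nat.card W ∣ 2 ^ 2 from hW4)
    interval_cases k
    · haveI := (Nat.card_eq_one_iff_unique.1 hk').1
      exact fun a b => Subsingleton.elim _ _
    · haveI := isCyclic_of_prime_card (p := 2) (hk'.trans (pow_one 2))
      exact fun a b => IsCyclic.commGroup.mul_comm a b
    · exact (IsPGroup.isMulCommutative_of_card_eq_prime_sq hk').1.comm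
  have h := congrArg Subtype.val (hcomm ⟨(i : X), subset_closure (by simp)⟩
    ⟨(j : X), subset_closure (by simp)⟩)
  exact hij (Subtype.ext h)

/-- The possible structures. -/
def QCase (X : Type u) [Group X] : Prop :=
  ∃ D : Subgroup X, IsQEight D ∧ D.index = 2 ∧ D ⊔ centralizer (D : Set X) = ⊤

theorem gen (hX : IsPGroup 2 X) (hA : Odd (Nat.card A)) (hne : ¬ ∀ (a : A) (x : X), a • x = x)
    (hlack : ∀ K : Subgroup X, IsInvariant A K → K ≠ ⊤ → Lack K)
    (haux : ∀ K : Subgroup X, IsInvariant A K → K ≠ ⊤ → (¬ ∀ a : A, ∀ k ∈ K, a • k = k) →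
      IsFour K ∨ IsQEight K) :
    IsMulCommutative X ∨ (QCase X ∧ ¬ Lack (⊤ : Subgroup X)) ∨
      (Cfsg.IsSpecial 2 X ∧ Nat.card (center X) ∈ ({2, 4} : Set ℕ) ∧
        ∀ x : X, x * x ∈ center X) := by
  classical
  haveI : Fact (Nat.Prime 2) := ⟨Nat.prime_two⟩
  haveI := hX.isNilpotent
  haveI : Group.IsSolvable X := inferInstance
  have hcop : (Nat.card A).Coprime (Nat.card X) := by
    simpa using coprime_card hX hA (⊤ : Subgroup X)
  by_cases hab : IsMulCommutative X
  · exact Or.inl hab
  set D := actCommutator X A with hD
  have hDinv : IsInvariant A D := isInvariant_actCommutator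
  by_cases hDtop : D = ⊤
  · -- `X = [X, A]`
    refine Or.inr (Or.inr ?_)
    set F := frattini X with hF
    have hFinv : IsInvariant A F := fun b n hn => by
      have := Subgroup.characteristic_iff_comap_eq.1 frattini_characteristic
        (MulDistribMulAction.toMulEquiv X b)
      exact (this.symm.le hn : _)
    have hFtop : F ≠ ⊤ := fun h => hne fun a x =>
      smul_eq_self_of_trivial_mod_frattini hcop (fun a g => by rw [← hF, h]; exact mem_top _) a x
    obtain ⟨hXF, hsqF⟩ := CfsgLib.PGroupBasic.commutator_pow_le_frattini hX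
    have hFcen : F ≤ center X := by
      by_cases hFt : ∀ a : A, ∀ k ∈ F, a • k = k
      · intro k hk
        refine mem_center_iff.2 fun g => ?_
        have hle : D ≤ centralizer {k} := actCommutator_le_iff.2 fun a g => by
          have h2 := hFt a (g * k * g⁻¹) ((inferInstance : (frattini X).Normal).conj_mem k hk g)
          rw [smul_mul', smul_mul', smul_inv', hFt a k hk] at h2
          refine mem_centralizer_singleton_iff.2 ?_
          calc g⁻¹ * a • g * k = g⁻¹ * (a • g * k * (a • g)⁻¹) * a • g := by group
            _ = k * (g⁻¹ * a • g) := by rw [h2]; group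
        exact mem_centralizer_singleton_iff.1 (hle (hDtop.symm ▸ mem_top g))
      · rcases haux F hFinv hFtop hFt with h | h
        · exact four_le_center hX hA hFinv h.1.le hFt
        · exfalso
          obtain ⟨z, i, j, hz, hi, hj, hz1, hz2, hii, hij, huniq, hgen⟩ := qEight_data h
          -- the unique involution is central
          have hzc : ∀ g : X, g * z * g⁻¹ = z := fun g =>
            (huniq _ ((inferInstance : (frattini X).Normal).conj_mem z hz g)
              (by rw [show g * z * g⁻¹ * (g * z * g⁻¹) = g * (z * z) * g⁻¹ by group, hz2, mul_one,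
                mul_inv_cancel])).resolve_left fun e => hz1 (by simpa using e)
          haveI hzn : (zpowers z).Normal := ⟨fun w hw g => by
            obtain ⟨n, rfl⟩ := mem_zpowers_iff.1 hw
            rw [← conj_zpow, hzc]
            exact ⟨n, rfl⟩⟩
          have hzlt : zpowers z < F := lt_of_le_of_ne (zpowers_le.2 hz) fun e => hij (by
            obtain ⟨n, hn⟩ := mem_zpowers_iff.1 (e.ge hi)
            obtain ⟨m, hm⟩ := mem_zpowers_iff.1 (e.ge hj)
            rw [← hn, ← hm, ← zpow_add, ← zpow_add, add_comm])
          obtain ⟨c, hcF, hcz, hcc⟩ := CfsgLib.PGroupBasic.exists_central_mod (zpowers z) F hzlt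
          have hz01 : ∀ w ∈ zpowers z, w = 1 ∨ w = z := fun w hw => by
            obtain ⟨n, rfl⟩ := mem_zpowers_iff.1 hw
            rcases Int.even_or_odd' n with ⟨m, rfl | rfl⟩
            · left; rw [zpow_mul, zpow_two, hz2, one_zpow]
            · right; rw [zpow_add, zpow_mul, zpow_two, hz2, one_zpow, one_mul, zpow_one]
          have hcz' : ∀ w ∈ zpowers z, ∀ g : X, g * w * g⁻¹ = w := fun w hw g => by
            rcases hz01 w hw with rfl | rfl
            · group
            · exact hzc g
          let φ : X →* X :=
            { toFun := fun g => c * g * c⁻¹ * g⁻¹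
              map_one' := by group
              map_mul' := fun g h => by
                calc c * (g * h) * c⁻¹ * (g * h)⁻¹ =
                    (c * g * c⁻¹ * g⁻¹) * (g * (c * h * c⁻¹ * h⁻¹) * g⁻¹) := by group
                  _ = _ := by rw [hcz' _ (hcc h) g] }
          have hFker : F ≤ φ.ker := by
            refine CfsgLib.PGroupBasic.frattini_le_of_elementary (p := 2) φ.ker ?_ fun g => ?_
            · rw [_root_.commutator_def, commutator_le]
              intro g _ h _
              rw [MonoidHom.mem_ker, map_commutatorElement, commutatorElement_eq_one_iff_mul_comm]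
              have hg1 : φ g = 1 ∨ φ g = z := hz01 _ (hcc g)
              have hh1 : φ h = 1 ∨ φ h = z := hz01 _ (hcc h)
              rcases hg1 with e | e <;> rcases hh1 with e' | e' <;> rw [e, e'] <;> simp
            · rw [MonoidHom.mem_ker, map_pow, pow_two]
              have hg1 : φ g = 1 ∨ φ g = z := hz01 _ (hcc g)
              rcases hg1 with e | e <;> simp [e, hz2]
          have hcomm : ∀ y ∈ F, c * y = y * c := fun y hy => by
            have h1 : c * y * c⁻¹ * y⁻¹ = 1 := hFker hy
            exact mul_inv_eq_iff_eq_mul.1 (mul_inv_eq_one.1 h1)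
          have hcc2 : c * c = z := by
            refine (huniq _ (mul_mem hcF hcF) ?_).resolve_left fun e => ?_
            · have h4 := congrArg Subtype.val (isPGroup_orderOf h.1 (⟨c, hcF⟩ : F)
                (fun hc => hij (congrArg Subtype.val (hc.commGroup.mul_comm ⟨i, hi⟩ ⟨j, hj⟩))))
              calc c * c * (c * c) = c ^ 4 := (pow_four' c).symm
                _ = 1 := h4
            · rcases huniq c hcF e with rfl | rfl
              · exact hcz (one_mem _)
              · exact hcz (mem_zpowers _)
          have hw : (c * i⁻¹) * (c * i⁻¹) = 1 := by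
            have c1 : Commute c i := hcomm i hi
            rw [(c1.inv_right.symm).mul_mul_mul_comm, hcc2, ← mul_inv_rev, hii, mul_inv_cancel]
          have hzj : Commute z j := (mul_inv_eq_iff_eq_mul.1 (hzc j)).symm
          have c2 : Commute c j := hcomm j hj
          rcases huniq _ (mul_mem hcF (inv_mem hi)) hw with e | e
          · rw [mul_inv_eq_one] at e
            exact hij (e ▸ c2.eq)
          · have e' : i = z⁻¹ * c := by rw [← e]; group
            exact hij (e' ▸ (hzj.inv_left.mul_left c2).eq)
    -- fixed points lie in the Frattini subgroup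
    set π := QuotientGroup.mk' F
    haveI hQc : IsMulCommutative (X ⧸ F) := Normal.quotient_commutative_iff_commutator_le.2 hXF
    letI : CommGroup (X ⧸ F) := { (inferInstance : Group (X ⧸ F)) with mul_comm := hQc.is_comm.comm }
    letI := Fintype.ofFinite A
    let N : X →* X ⧸ F :=
      { toFun := fun g => ∏ a : A, π (a • g)
        map_one' := by simp
        map_mul' := fun g h => by simp [smul_mul', map_mul, Finset.prod_mul_distrib] }
    have hN : N.ker = ⊤ := by
      refine top_le_iff.1 (hDtop ▸ actCommutator_le_iff.2 fun b g => ?_)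
      rw [MonoidHom.mem_ker, map_mul, map_inv, inv_mul_eq_one]
      show ∏ a : A, π (a • g) = ∏ a : A, π (a • b • g)
      refine (Fintype.prod_equiv (Equiv.mulRight b) _ _ fun a => ?_).symm
      simp [mul_smul]
    have hfixF : ∀ g : X, (∀ a : A, a • g = g) → g ∈ F := by
      intro g hg
      have h1 : N g = 1 := hN.ge (mem_top g)
      have h2 : N g = π g ^ Fintype.card A := by
        show ∏ a : A, π (a • g) = _
        simp [hg]
      rw [h2] at h1
      have h3 : π g ^ 2 = 1 := by rw [← map_pow]; exact (QuotientGroup.eq_one_iff _).2 (hsqF g)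
      obtain ⟨m, hm⟩ := hA
      rw [← Nat.card_eq_fintype_card, hm, pow_succ, pow_mul, h3, one_pow, one_mul] at h1
      exact (QuotientGroup.eq_one_iff g).1 h1
    have hZinv : IsInvariant A (center X) := fun a n hn => mem_center_iff.2 fun g => by
      have e := congrArg (a • ·) (mem_center_iff.1 hn (a⁻¹ • g))
      simpa using e
    have hZtop : center X ≠ ⊤ := fun h => hab ⟨⟨fun g k => (mem_center_iff.1 (h ▸ mem_top k) g)⟩⟩
    have hFbot : F ≠ ⊥ := fun h => hab ⟨⟨fun g k => commutatorElement_eq_one_iff_mul_comm.1 (mem_bot.1
      (h ▸ hXF (commutator_mem_commutator (mem_top g) (mem_top k))))⟩⟩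
    have hsqZ : ∀ x : X, x * x ∈ center X := fun x => hFcen (by rw [← pow_two]; exact hsqF x)
    have hcentral : ∀ g k : X, ⁅g, k⁆ ∈ center X := fun g k =>
      hFcen (hXF (commutator_mem_commutator (mem_top g) (mem_top k)))
    have hcsq : ∀ g k : X, ⁅g, k⁆ * ⁅g, k⁆ = 1 := fun g k => by
      have hk := mem_center_iff.1 (hcentral g k)
      have h1 : g * g * k = k * (g * g) := (mem_center_iff.1 (hsqZ g) k).symm
      calc ⁅g, k⁆ * ⁅g, k⁆ = g * ⁅g, k⁆ * g⁻¹ * ⁅g, k⁆ := by
            rw [hk g, mul_inv_cancel_right]
        _ = g * g * k * (g * g)⁻¹ * k⁻¹ := by rw [commutatorElement_def]; group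
        _ = 1 := by rw [h1]; group
    have heq : center X = F := by
      refine le_antisymm ?_ hFcen
      by_cases hZt : ∀ a : A, ∀ k ∈ center X, a • k = k
      · exact fun k hk => hfixF k fun a => hZt a k hk
      · rcases haux _ hZinv hZtop hZt with h | h
        · have hne2 : ∀ k ∈ F, k ≠ 1 → ¬ ∀ a : A, a • k = k := fun k hk hk1 hfix =>
            hZt (fix_of_card_le_four hX hA hZinv h.1.le (hFcen hk) hk1 hfix)
          have hF4 : 4 ≤ Nat.card F := by
            by_contra hlt
            obtain ⟨n, hn⟩ := IsPGroup.iff_card.1 (hX.to_subgroup F)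
            have hF2 : Nat.card F ≤ 2 := by
              rw [hn] at hlt ⊢
              rcases n with _ | _ | n
              · norm_num
              · norm_num
              · exfalso
                apply hlt
                calc 4 = 2 ^ 2 := by norm_num
                  _ ≤ _ := Nat.pow_le_pow_right two_pos (by omega)
            obtain ⟨k, hk, hk1⟩ := (bot_or_exists_ne_one F).resolve_left hFbot
            exact hne2 k hk hk1 fun a => smul_mem_of_mem_two hFinv hF2 a hk
          exact (Solvable.eq_of_le_of_card_le hFcen (h.1.le.trans hF4)).ge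
        · exact absurd ⟨⟨fun u v => Subtype.ext (mem_center_iff.1 v.2 u.1)⟩⟩ h.2.1
    have hXF' : F ≤ commutator X := by
      set X' := commutator X with hX'
      refine CfsgLib.PGroupBasic.frattini_le_of_elementary (p := 2) X' le_rfl ?_
      by_cases hFt : ∀ a : A, ∀ k ∈ F, a • k = k
      · -- the squaring map modulo `X'` is invariant
        set π' := QuotientGroup.mk' X'
        haveI hQ'c : IsMulCommutative (X ⧸ X') :=
          Normal.quotient_commutative_iff_commutator_le.2 le_rfl
        have hcm : ∀ u v : X ⧸ X', u * v = v * u := hQ'c.is_comm.comm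
        let sq : X →* X ⧸ X' :=
          { toFun := fun g => π' g ^ 2
            map_one' := by simp
            map_mul' := fun g k => by
              rw [map_mul]; exact (show Commute (π' g) (π' k) from hcm _ _).mul_pow 2 }
        have hk : sq.ker = ⊤ := by
          refine top_le_iff.1 (hDtop ▸ actCommutator_le_iff.2 fun b g => ?_)
          rw [MonoidHom.mem_ker, map_mul, map_inv, inv_mul_eq_one]
          show π' g ^ 2 = π' (b • g) ^ 2
          rw [← map_pow, ← map_pow]
          congr 1
          rw [pow_two, pow_two, ← smul_mul']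
          exact (hFt b _ (by rw [← pow_two]; exact hsqF g)).symm
        intro g
        have h1 : π' g ^ 2 = 1 := hk.ge (mem_top g)
        rw [← map_pow] at h1
        exact (QuotientGroup.eq_one_iff _).1 h1
      · rcases haux F hFinv hFtop hFt with h | h
        · have hX'inv : IsInvariant A X' := by
            have := (IsInvariant.top (G := X) (A := A)).commutator
            rwa [← _root_.commutator_def] at this
          have hX'ne : X' ≠ ⊥ := fun h' => hab ⟨⟨fun g k => commutatorElement_eq_one_iff_mul_comm.1
            (mem_bot.1 (h' ▸ commutator_mem_commutator (mem_top g) (mem_top k)))⟩⟩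
          have hX'4 : 4 ≤ Nat.card X' := by
            by_contra hlt
            obtain ⟨n, hn⟩ := IsPGroup.iff_card.1 (hX.to_subgroup X')
            have h2 : Nat.card X' ≤ 2 := by
              rw [hn] at hlt ⊢
              rcases n with _ | _ | n
              · norm_num
              · norm_num
              · exfalso
                apply hlt
                calc 4 = 2 ^ 2 := by norm_num
                  _ ≤ _ := Nat.pow_le_pow_right two_pos (by omega)
            obtain ⟨k, hk, hk1⟩ := (bot_or_exists_ne_one X').resolve_left hX'ne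
            exact hFt (fix_of_card_le_four hX hA hFinv h.1.le (hXF hk) hk1
              fun a => smul_mem_of_mem_two hX'inv h2 a hk)
          intro g
          exact (Solvable.eq_of_le_of_card_le hXF (h.1.le.trans hX'4)).ge (hsqF g)
        · exact absurd ⟨⟨fun u v => Subtype.ext (mem_center_iff.1 (hFcen v.2) u.1)⟩⟩ h.2.1
    refine ⟨⟨hX, heq.symm, le_antisymm (hXF.trans heq.ge) (heq.le.trans hXF')⟩, ?_, hsqZ⟩
    -- the centre has exponent two
    have hexp : ∀ k ∈ center X, k * k = 1 := by
      have hle : commutator X ≤ centralizer (center X : Set X) ⊓ center X :=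
        le_inf (fun k _ => mem_centralizer_iff.2 fun w hw => (mem_center_iff.1 hw k).symm)
          (hXF.trans hFcen)
      intro k hk
      have hk' : k ∈ closure (commutatorSet X) := by
        rw [← commutator_eq_closure]
        exact (heq.le.trans hXF') hk
      refine closure_induction ?_ (by simp) ?_ ?_ hk'
      · rintro w ⟨g₁, g₂, rfl⟩; exact hcsq g₁ g₂
      · intro u v hu _ hu2 hv2
        have hu' : u ∈ center X := by
          rw [heq]; exact hXF (commutator_eq_closure (G := X) ▸ hu)
        have c : Commute v u := mem_center_iff.1 hu' v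
        rw [c.mul_mul_mul_comm, hu2, hv2, one_mul]
      · intro u _ hu2
        rw [← mul_inv_rev, hu2, inv_one]
    have hc4 : Nat.card (center X) ≤ 4 := by
      by_contra hlt
      obtain ⟨n, hn⟩ := IsPGroup.iff_card.1 (hX.to_subgroup (center X))
      have h3 : 3 ≤ n := by
        by_contra hh
        have := Nat.pow_le_pow_right two_pos (show n ≤ 2 by omega)
        omega
      obtain ⟨B, hB⟩ := Sylow.exists_subgroup_card_pow_prime (G := center X) 2 (n := 3)
        (hn ▸ pow_dvd_pow 2 h3)
      refine not_isCyclic_of_exponent (e := 2) two_pos ?_ (fun y => ?_)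
        (hlack _ hZinv hZtop (B.map (center X).subtype) (map_subtype_le B) ?_ ?_)
      · rw [card_map_of_injective (center X).subtype_injective, hB]; norm_num
      · exact Subtype.ext (by rw [SubmonoidClass.coe_pow, pow_two]; exact hexp _ (map_subtype_le B y.2))
      · exact ⟨⟨fun u v => Subtype.ext (mem_center_iff.1 (map_subtype_le B v.2) u.1)⟩⟩
      · rw [card_map_of_injective (center X).subtype_injective, hB]; norm_num
    obtain ⟨n, hn⟩ := IsPGroup.iff_card.1 (hX.to_subgroup (center X))
    have hn0 : n ≠ 0 := fun h => hFbot (by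
      rw [← heq]; exact eq_bot_of_card_eq _ (by rw [hn, h, pow_zero]))
    have hn2 : n ≤ 2 := by
      by_contra hh
      have := Nat.pow_le_pow_right two_pos (show 3 ≤ n by omega)
      omega
    interval_cases n
    · exact absurd rfl hn0
    · left; rw [hn]; rfl
    · right; show Nat.card (center X) = 4; rw [hn]; rfl
  · -- `[X, A]` is proper
    have hDt : ¬ ∀ a : A, ∀ k ∈ D, a • k = k := fun h =>
      hne fun a x => smul_eq_self_of_trivial_on_actCommutator hcop h a x
    have hdec : ∀ g : X, ∃ c : X, (∀ a : A, a • c = c) ∧ g⁻¹ * c ∈ D := fun g =>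
      exists_fixed_mem_coset_of_isSolvable' D hDinv (coprime_card hX hA D) g
        fun a => inv_mul_smul_mem_actCommutator a g
    rcases haux D hDinv hDtop hDt with h | h
    · exfalso
      have hcen := four_le_center hX hA hDinv h.1.le hDt
      set C := FixedPoints.subgroup A X with hC
      have hdisj : ∀ k ∈ D, k ∈ C → k = 1 := fun k hk hkC => by
        by_contra hk1
        exact hDt (fix_of_card_le_four hX hA hDinv h.1.le hk hk1 hkC)
      have hCne : C ≠ ⊥ := fun hb => hDtop (eq_top_iff.2 fun g _ => by
        obtain ⟨c, hc, hcd⟩ := hdec g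
        have hc1 : c = 1 := mem_bot.1 (hb ▸ (show c ∈ C from hc))
        rw [hc1, mul_one] at hcd
        simpa using D.inv_mem hcd)
      obtain ⟨c, hc⟩ := exists_prime_orderOf_dvd_card' (G := C) 2 (by
        obtain ⟨n, hn⟩ := IsPGroup.iff_card.1 (hX.to_subgroup C)
        rcases n with _ | n
        · exact absurd (eq_bot_of_card_eq _ hn) hCne
        · exact hn ▸ dvd_pow_self 2 n.succ_ne_zero)
      rw [← orderOf_coe] at hc
      set W := zpowers (c : X) ⊔ D with hW
      have hcn : zpowers (c : X) ≤ normalizer (D : Set X) := le_normalizer_of_normal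
      have hW8 : Nat.card W = 8 := by
        rw [hW, Solvable.card_sup_of_disjoint hcn ?_, Nat.card_zpowers, hc, h.1]
        exact (eq_bot_iff_forall _).2 fun k hk => hdisj k hk.2 ((zpowers_le.2 c.2) hk.1)
      have hWm : ∀ w ∈ W, ∃ (n : ℤ) (d : X), d ∈ D ∧ (c : X) ^ n * d = w := fun w hw => by
        obtain ⟨_, ⟨n, rfl⟩, d, hd, e⟩ := (Solvable.mem_sup_of_le_normalizer hcn).1 hw
        exact ⟨n, d, hd, e⟩
      have hWc : IsMulCommutative W := ⟨⟨fun u v => Subtype.ext (by
        obtain ⟨n, d, hd, hu⟩ := hWm u u.2
        obtain ⟨m, e, he, hv⟩ := hWm v v.2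
        have cd : Commute d ((c : X) ^ m * e) := (mem_center_iff.1 (hcen hd) _).symm
        have cc : Commute ((c : X) ^ n) ((c : X) ^ m * e) :=
          ((Commute.refl (c : X)).zpow_zpow n m).mul_right (mem_center_iff.1 (hcen he) _)
        show (u : X) * v = v * u
        rw [← hu, ← hv]; exact (cc.mul_left cd).eq)⟩⟩
      have hWinv : IsInvariant A W := fun a w hw => by
        obtain ⟨n, d, hd, rfl⟩ := hWm w hw
        rw [smul_mul', show a • (c : X) ^ n = MulDistribMulAction.toMonoidHom X a ((c : X) ^ n) from rfl,
          map_zpow]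
        exact mul_mem (mem_sup_left (zpow_mem (by
          show a • (c : X) ∈ zpowers (c : X)
          rw [c.2 a]; exact mem_zpowers _) n)) (mem_sup_right (hDinv a d hd))
      by_cases hWt : W = ⊤
      · exact hab ⟨⟨fun g k => congrArg Subtype.val
          (hWc.is_comm.comm ⟨g, hWt ▸ mem_top g⟩ ⟨k, hWt ▸ mem_top k⟩)⟩⟩
      · refine not_isCyclic_of_exponent (e := 2) two_pos (by rw [hW8]; norm_num) (fun w => ?_)
          (hlack W hWinv hWt W le_rfl hWc hW8)
        obtain ⟨n, d, hd, hw⟩ := hWm w w.2
        refine Subtype.ext ?_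
        rw [SubmonoidClass.coe_pow, ← hw]
        have cd : Commute ((c : X) ^ n) d := mem_center_iff.1 (hcen hd) _
        rw [cd.mul_pow, show d ^ 2 = 1 by
            rw [pow_two]; exact congrArg Subtype.val (h.2 ⟨d, hd⟩),
          ← zpow_natCast, ← zpow_mul, mul_comm, zpow_mul, zpow_natCast, ← hc, pow_orderOf_eq_one,
          one_zpow, one_mul]; rfl
    · -- quaternion
      right; left
      obtain ⟨z, i, j, hz, hi, hj, hz1, hz2, hii, hij, huniq, hgen⟩ := qEight_data h
      haveI hDn : D.Normal := actCommutator_normal
      have hzc : ∀ g : X, g * z * g⁻¹ = z := fun g =>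
        (huniq _ (hDn.conj_mem z hz g)
          (by rw [show g * z * g⁻¹ * (g * z * g⁻¹) = g * (z * z) * g⁻¹ by group, hz2, mul_one,
            mul_inv_cancel])).resolve_left fun e => hz1 (by simpa using e)
      have hzfix : ∀ a : A, a • z = z := fun a =>
        (huniq _ (hDinv a z hz) (by rw [← smul_mul', hz2, smul_one])).resolve_left
          fun e => hz1 (by simpa using congrArg (a⁻¹ • ·) e)
      have hz01 : ∀ w ∈ zpowers z, w = 1 ∨ w = z := fun w hw => by
        obtain ⟨n, rfl⟩ := mem_zpowers_iff.1 hw
        rcases Int.even_or_odd' n with ⟨m, rfl | rfl⟩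
        · left; rw [zpow_mul, zpow_two, hz2, one_zpow]
        · right; rw [zpow_add, zpow_mul, zpow_two, hz2, one_zpow, one_mul, zpow_one]
      have hzpfix : ∀ a : A, ∀ w ∈ zpowers z, a • w = w := fun a w hw => by
        rcases hz01 w hw with rfl | rfl
        exacts [smul_one a, hzfix a]
      -- the subgroup of elements central modulo `z`
      let D1 : Subgroup X :=
        { carrier := {d | d ∈ D ∧ ∀ g : X, d * g * d⁻¹ * g⁻¹ ∈ zpowers z}
          one_mem' := ⟨one_mem _, fun g => by simp⟩
          mul_mem' := fun {a b} ha hb => ⟨mul_mem ha.1 hb.1, fun g => by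
            have e : a * b * g * (a * b)⁻¹ * g⁻¹ =
                (a * (b * g * b⁻¹ * g⁻¹) * a⁻¹) * (a * g * a⁻¹ * g⁻¹) := by group
            rw [e]
            rcases hz01 _ (hb.2 g) with h' | h' <;> rw [h']
            · simpa using ha.2 g
            · rw [hzc]; exact mul_mem (mem_zpowers z) (ha.2 g)⟩
          inv_mem' := fun {a} ha => ⟨inv_mem ha.1, fun g => by
            have e : a⁻¹ * g * a⁻¹⁻¹ * g⁻¹ = a⁻¹ * (a * g * a⁻¹ * g⁻¹)⁻¹ * a⁻¹⁻¹ := by group
            rw [e]
            rcases hz01 _ (ha.2 g) with h' | h' <;> rw [h']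
            · simp
            · rw [show a⁻¹ * z⁻¹ * a⁻¹⁻¹ = (a⁻¹ * z * a⁻¹⁻¹)⁻¹ by group, hzc]
              exact inv_mem (mem_zpowers z)⟩ }
      have hD1D : D1 ≤ D := fun d hd => hd.1
      have hzD1 : zpowers z ≤ D1 := zpowers_le.2 ⟨hz, fun g => by
        have c : z * g = g * z := (mul_inv_eq_iff_eq_mul.1 (hzc g)).symm
        rw [c, mul_inv_cancel_right, mul_inv_cancel]; exact one_mem _⟩
      have hD1inv : IsInvariant A D1 := fun a d hd => ⟨hDinv a d hd.1, fun g => by
        have e := hd.2 (a⁻¹ • g)
        have e2 : a • (d * (a⁻¹ • g) * d⁻¹ * (a⁻¹ • g)⁻¹) ∈ zpowers z := by rw [hzpfix a _ e]; exact e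
        simpa [smul_mul', smul_inv'] using e2⟩
      have hD1 : D1 = D := by
        by_contra hne1
        have hzlt : zpowers z < D := lt_of_le_of_ne (zpowers_le.2 hz) fun e => hij (by
          obtain ⟨n, hn⟩ := mem_zpowers_iff.1 (e.ge hi)
          obtain ⟨m, hm⟩ := mem_zpowers_iff.1 (e.ge hj)
          rw [← hn, ← hm, ← zpow_add, ← zpow_add, add_comm])
        haveI hzn : (zpowers z).Normal := ⟨fun w hw g => by
          rcases hz01 w hw with rfl | rfl
          · simp
          · rw [hzc]; exact hw⟩
        obtain ⟨c, hcD, hcz, hcc⟩ := CfsgLib.PGroupBasic.exists_central_mod (zpowers z) D hzlt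
        have hcard : Nat.card (zpowers z) = 2 := by
          rw [Nat.card_zpowers, orderOf_eq_prime (by rw [pow_two, hz2]) hz1]
        have h1 := relIndex_mul_relIndex ⊥ (zpowers z) D1 bot_le hzD1
        rw [relIndex_bot_left, relIndex_bot_left, hcard] at h1
        have h2 := relIndex_mul_relIndex ⊥ D1 D bot_le hD1D
        rw [relIndex_bot_left, relIndex_bot_left, h.1] at h2
        have h3 : (zpowers z).relIndex D1 ≠ 1 := fun e => hcz (relIndex_eq_one.1 e ⟨hcD, hcc⟩)
        have h4 : D1.relIndex D ≠ 1 := fun e => hne1 (le_antisymm hD1D (relIndex_eq_one.1 e))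
        have h5 : Nat.card D1 = 4 ∧ D1.relIndex D = 2 := by
          have hd : Nat.card D1 ∣ 8 := Dvd.intro _ h2
          have := Nat.le_of_dvd (by norm_num) hd
          generalize Nat.card D1 = n at *
          interval_cases n <;> omega
        exact hDt (triv_index_two hX hA hD1D hDinv h5.2.le
          (triv_index_two hX hA hzD1 hD1inv (by rw [h5.1] at h1; omega) hzpfix))
      have hcomz : ∀ d ∈ D, ∀ g : X, d * g * d⁻¹ * g⁻¹ ∈ zpowers z := fun d hd => (hD1.ge hd).2
      have hjij : j * i * j⁻¹ = i * z := by
        rcases hz01 _ (hcomz j hj i) with e | e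
        · exact absurd (mul_inv_eq_iff_eq_mul.1 (mul_inv_eq_one.1 e)).symm hij
        · rw [show j * i * j⁻¹ = (j * i * j⁻¹ * i⁻¹) * i by group, e]
          exact (mul_inv_eq_iff_eq_mul.1 (hzc i)).symm
      have hiji : i * j * i⁻¹ = j * z := by
        rcases hz01 _ (hcomz i hi j) with e | e
        · exact absurd (mul_inv_eq_iff_eq_mul.1 (mul_inv_eq_one.1 e)) hij
        · rw [show i * j * i⁻¹ = (i * j * i⁻¹ * j⁻¹) * j by group, e]
          exact (mul_inv_eq_iff_eq_mul.1 (hzc j)).symm
      have hsup : D ⊔ centralizer (D : Set X) = ⊤ := by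
        refine eq_top_iff.2 fun g _ => ?_
        have hzj : ∀ w, w * z = z * w := fun w => mul_inv_eq_iff_eq_mul.1 (hzc w)
        -- `g` moves `i`, `j` by powers of `z`
        have hgi : g * i * g⁻¹ = i ∨ g * i * g⁻¹ = i * z := by
          rcases hz01 _ (hcomz i hi g) with e | e
          · left
            rw [mul_inv_eq_one, mul_inv_eq_iff_eq_mul] at e
            rw [← e, mul_inv_cancel_right]
          · right
            rw [show g * i * g⁻¹ = (i * g * i⁻¹ * g⁻¹)⁻¹ * i by group, e,
              inv_eq_of_mul_eq_one_right hz2]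
            exact (hzj i).symm
        have hgj : g * j * g⁻¹ = j ∨ g * j * g⁻¹ = j * z := by
          rcases hz01 _ (hcomz j hj g) with e | e
          · left
            rw [mul_inv_eq_one, mul_inv_eq_iff_eq_mul] at e
            rw [← e, mul_inv_cancel_right]
          · right
            rw [show g * j * g⁻¹ = (j * g * j⁻¹ * g⁻¹)⁻¹ * j by group, e,
              inv_eq_of_mul_eq_one_right hz2]
            exact (hzj j).symm
        have key : ∀ d ∈ D, g * i * g⁻¹ = d * i * d⁻¹ → g * j * g⁻¹ = d * j * d⁻¹ →
            g ∈ D ⊔ centralizer (D : Set X) := fun d hd e1 e2 => by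
          have hmem : d⁻¹ * g ∈ centralizer (D : Set X) := by
            have hle : D ≤ centralizer {d⁻¹ * g} := by
              rw [← hgen, closure_le]
              rintro w (rfl | rfl) <;>
                refine mem_centralizer_singleton_iff.2 ?_
              · calc w * (d⁻¹ * g) = d⁻¹ * (d * w * d⁻¹) * g := by group
                  _ = d⁻¹ * g * w := by rw [← e1]; group
              · calc w * (d⁻¹ * g) = d⁻¹ * (d * w * d⁻¹) * g := by group
                  _ = d⁻¹ * g * w := by rw [← e2]; group
            exact mem_centralizer_iff.2 fun w hw => mem_centralizer_singleton_iff.1 (hle hw)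
          rw [show g = d * (d⁻¹ * g) by group]
          exact mul_mem (mem_sup_left hd) (mem_sup_right hmem)
        have hizc : i * z * i⁻¹ = z := hzc i
        rcases hgi with e1 | e1 <;> rcases hgj with e2 | e2
        · exact key 1 (one_mem D) (by simpa using e1) (by simpa using e2)
        · exact key i hi (by rw [e1]; group) (by rw [e2, hiji])
        · exact key j hj (by rw [e1, hjij]) (by rw [e2]; group)
        · refine key (i * j) (mul_mem hi hj) ?_ ?_
          · rw [e1, show i * j * i * (i * j)⁻¹ = i * (j * i * j⁻¹) * i⁻¹ by group, hjij,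
              ← mul_assoc i i z, mul_assoc (i * i) z, ← hzj i⁻¹]; group
          · rw [e2, show i * j * j * (i * j)⁻¹ = i * j * i⁻¹ by group, hiji]
      set C := centralizer (D : Set X) with hC
      haveI : C.Normal := Subgroup.normal_centralizer
      have hCinv : IsInvariant A C := fun a c hc => mem_centralizer_iff.2 fun d hd => by
        have e := congrArg (a • ·) (mem_centralizer_iff.1 hc _ (hDinv a⁻¹ d hd))
        simpa using e
      have hCD : ∀ w ∈ C, w ∈ D → w ∈ zpowers z := fun w hwC hwD => by
        have hiw := mem_centralizer_iff.1 hwC i hi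
        have hjw := mem_centralizer_iff.1 hwC j hj
        have hnc : ¬ IsCyclic D := fun hc =>
          hij (congrArg Subtype.val (hc.commGroup.mul_comm ⟨i, hi⟩ ⟨j, hj⟩))
        have h4 : w ^ 4 = 1 := congrArg Subtype.val (isPGroup_orderOf h.1 (⟨w, hwD⟩ : D) hnc)
        rcases huniq (w * w) (mul_mem hwD hwD) (by rw [← h4, pow_four']) with e | e
        · rcases huniq w hwD e with rfl | rfl
          exacts [one_mem _, mem_zpowers _]
        · exfalso
          have c1 : Commute w i := hiw.symm
          have hww : (w * i⁻¹) * (w * i⁻¹) = 1 := by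
            rw [(c1.inv_right.symm).mul_mul_mul_comm, e, ← mul_inv_rev, hii, mul_inv_cancel]
          have c2 : Commute w j := hjw.symm
          have hzj' : Commute z j := (mul_inv_eq_iff_eq_mul.1 (hzc j)).symm
          rcases huniq _ (mul_mem hwD (inv_mem hi)) hww with e' | e'
          · rw [mul_inv_eq_one] at e'
            exact hij (e' ▸ c2.eq)
          · have e'' : i = z⁻¹ * w := by rw [← e']; group
            exact hij (e'' ▸ (hzj'.inv_left.mul_left c2).eq)
      have hCfix : ∀ a : A, ∀ w ∈ C, a • w = w := fun a w hw =>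
        smul_eq_self_of_stabilizes (zpowers z) (coprime_card hX hA _) w
          (fun b => hCD _ (mul_mem (inv_mem hw) (hCinv b w hw)) (inv_mul_smul_mem_actCommutator b w))
          hzpfix a
      have hCz : ¬ C ≤ zpowers z := fun hle => hDtop (eq_top_iff.2 (hsup.ge.trans
        (sup_le le_rfl (hle.trans (zpowers_le.2 hz)))))
      have hzn : zpowers z ≤ C := zpowers_le.2 (mem_centralizer_iff.2 fun d _ =>
        (mul_inv_eq_iff_eq_mul.1 (hzc d)))
      obtain ⟨c0, hc0, hc0z⟩ := SetLike.not_le_iff_exists.1 hCz
      obtain ⟨c, hc, hcz, hcc⟩ : ∃ c ∈ C, c ∉ zpowers z ∧ c * c ∈ zpowers z := by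
        obtain ⟨n, hn⟩ := hX c0
        induction n generalizing c0 with
        | zero => exact absurd (by rw [pow_zero, pow_one] at hn; exact hn ▸ one_mem _) hc0z
        | succ n ih =>
          by_cases h' : c0 ^ 2 ∈ zpowers z
          · exact ⟨c0, hc0, hc0z, by rwa [← pow_two]⟩
          · exact ih (c0 ^ 2) (pow_mem hc0 2) h' (by rw [← pow_mul, ← pow_succ', hn])
      have hcD : c ∉ D := fun hcD => hcz (hCD c hc hcD)
      have hcn : zpowers c ≤ normalizer (D : Set X) := le_normalizer_of_normal
      set W := zpowers c ⊔ D with hW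
      have hWm : ∀ w ∈ W, ∃ (n : ℤ) (d : X), d ∈ D ∧ c ^ n * d = w := fun w hw => by
        obtain ⟨_, ⟨n, rfl⟩, d, hd, e⟩ := (Solvable.mem_sup_of_le_normalizer hcn).1 hw
        exact ⟨n, d, hd, e⟩
      have hWinv : IsInvariant A W := fun a w hw => by
        obtain ⟨n, d, hd, rfl⟩ := hWm w hw
        rw [smul_mul', hCfix a _ (zpow_mem hc n)]
        exact mul_mem (mem_sup_left (zpow_mem (mem_zpowers c) n)) (mem_sup_right (hDinv a d hd))
      -- the abelian subgroup of order eight
      set B := zpowers c ⊔ zpowers i with hB
      have hci : Commute c i := (mem_centralizer_iff.1 hc i hi).symm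
      have hBn : zpowers c ≤ normalizer (zpowers i : Set X) := zpowers_le.2
        (centralizer_le_normalizer _ (mem_centralizer_iff.2 fun w hw => by
          obtain ⟨n, rfl⟩ := mem_zpowers_iff.1 hw
          exact ((hci.zpow_right n).eq).symm))
      have hcc01 := hz01 _ hcc
      have hBm : ∀ w ∈ B, ∃ n m : ℤ, c ^ n * i ^ m = w := fun w hw => by
        obtain ⟨_, ⟨n, rfl⟩, _, ⟨m, rfl⟩, e⟩ := (Solvable.mem_sup_of_le_normalizer hBn).1 hw
        exact ⟨n, m, e⟩
      have hi4 : orderOf i = 4 := by
        refine orderOf_eq_prime_pow (p := 2) (n := 1) ?_ ?_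
        · rw [pow_one, pow_two, hii]; exact hz1
        · rw [show (2 : ℕ) ^ (1 + 1) = 2 + 2 from rfl, pow_add, pow_two, hii, hz2]
      have hB8 : Nat.card B = 8 := by
        have e := Solvable.card_sup_mul_card_inf hBn
        rw [← hB, Nat.card_zpowers, Nat.card_zpowers, hi4] at e
        rcases hcc01 with h' | h'
        · have hco : orderOf c = 2 := orderOf_eq_prime (by rw [pow_two, h'])
            (fun h1 => hcz (h1 ▸ one_mem _))
          have hinf : zpowers c ⊓ zpowers i = ⊥ := (eq_bot_iff_forall _).2 fun w hw => by
            obtain ⟨n, rfl⟩ := mem_zpowers_iff.1 hw.1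
            rcases Int.even_or_odd' n with ⟨m, rfl | rfl⟩
            · rw [zpow_mul, zpow_two, h', one_zpow]
            · exfalso
              have h2 : c ^ (2 * m + 1) = c := by
                rw [zpow_add, zpow_mul, zpow_two, h', one_zpow, one_mul, zpow_one]
              rw [h2] at hw
              exact hcD (zpowers_le.2 hi hw.2)
          rw [hinf, card_bot, hco, mul_one] at e
          exact e
        · have hco : orderOf c = 4 := by
            refine orderOf_eq_prime_pow (p := 2) (n := 1) ?_ ?_
            · rw [pow_one, pow_two, h']; exact hz1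
            · rw [show (2 : ℕ) ^ (1 + 1) = 2 + 2 from rfl, pow_add, pow_two, h', hz2]
          have hinf : zpowers c ⊓ zpowers i = zpowers z := by
            refine le_antisymm ?_ (zpowers_le.2 ⟨⟨2, by show c ^ (2 : ℤ) = z; rw [zpow_two, h']⟩, ⟨2, by show i ^ (2 : ℤ) = z; rw [zpow_two, hii]⟩⟩)
            rintro w ⟨hw1, hw2⟩
            obtain ⟨n, rfl⟩ := mem_zpowers_iff.1 hw1
            rcases Int.even_or_odd' n with ⟨m, rfl | rfl⟩
            · rw [zpow_mul, zpow_two, h']; exact zpow_mem (mem_zpowers z) m
            · exfalso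
              refine hcD ?_
              have h2 : c ^ (2 * m + 1) = z ^ m * c := by
                rw [zpow_add, zpow_mul, zpow_two, h', zpow_one]
              rw [h2] at hw2
              have := mul_mem (inv_mem (zpow_mem hz m)) (zpowers_le.2 hi hw2)
              rwa [inv_mul_cancel_left] at this
          rw [hinf, Nat.card_zpowers, orderOf_eq_prime (by rw [pow_two, hz2]) hz1, hco] at e
          omega
      have hBc : IsMulCommutative B := ⟨⟨fun u v => Subtype.ext (by
        obtain ⟨n, m, hu⟩ := hBm u u.2
        obtain ⟨n', m', hv⟩ := hBm v v.2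
        show (u : X) * v = v * u
        rw [← hu, ← hv]
        exact (((Commute.refl c).zpow_zpow n n').mul_right (hci.zpow_zpow n m')).mul_left
          (((hci.symm).zpow_zpow m n').mul_right ((Commute.refl i).zpow_zpow m m')))⟩⟩
      have hBnc : ¬ IsCyclic B := not_isCyclic_of_exponent (e := 4) (by norm_num)
        (by rw [hB8]; norm_num) fun w => by
          obtain ⟨n, m, hw⟩ := hBm w w.2
          refine Subtype.ext ?_
          have hsw : ∀ (g : X) (r : ℤ), (g ^ r) ^ 4 = (g ^ 4) ^ r := fun g r => by
            rw [← zpow_natCast, ← zpow_mul, mul_comm, zpow_mul, zpow_natCast]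
          rw [SubmonoidClass.coe_pow, ← hw, (hci.zpow_zpow n m).mul_pow, hsw, hsw, ← hi4,
            pow_orderOf_eq_one, hi4, pow_four' c]
          rcases hcc01 with h' | h' <;> rw [h'] <;> simp [hz2]
      have hBW : B ≤ W := sup_le le_sup_left ((zpowers_le.2 hi).trans le_sup_right)
      have hWtop : W = ⊤ := by
        by_contra hWt
        exact hBnc (hlack W hWinv hWt B hBW hBc hB8)
      refine ⟨⟨D, h, ?_, hsup⟩, fun hl => hBnc (hl B le_top hBc hB8)⟩
      rw [index_eq_two_iff]
      refine ⟨c, fun g => ?_⟩
      obtain ⟨n, d, hd, rfl⟩ := hWm g (hWtop ▸ mem_top g)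
      have hgc : c ^ n * d * c = c ^ (n + 1) * d := by
        rw [mul_assoc, mem_centralizer_iff.1 hc d hd, ← mul_assoc, zpow_add_one]
      have hc2 : ∀ m : ℤ, c ^ (2 * m) ∈ D := fun m => by
        rw [zpow_mul, zpow_two]
        exact zpow_mem (zpowers_le.2 hz hcc) m
      have hmemc : ∀ e : X, c * e ∈ D → e ∈ D → False := fun e h1 h2 => hcD (by
        simpa using mul_mem h1 (inv_mem h2))
      rcases Int.even_or_odd' n with ⟨m, rfl | rfl⟩
      · refine Or.inr ⟨mul_mem (hc2 m) hd, ?_⟩
        rw [hgc, add_comm, zpow_add, zpow_one, mul_assoc]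
        exact fun h1 => hmemc _ h1 (mul_mem (hc2 m) hd)
      · refine Or.inl ⟨?_, ?_⟩
        · rw [hgc, show 2 * m + 1 + 1 = 2 * (m + 1) by ring]
          exact mul_mem (hc2 _) hd
        · rw [add_comm, zpow_add, zpow_one, mul_assoc]
          exact fun h1 => hmemc _ h1 (mul_mem (hc2 m) hd)

/-- A 2-group lacking non-cyclic abelian subgroups of order eight with a non-trivial odd action. -/
theorem four_or_qEight : ∀ (n : ℕ) (X : Type u) [Group X] [Finite X], Nat.card X ≤ n → IsPGroup 2 X →
    ∀ (A : Type v) [Group A] [Finite A] [MulDistribMulAction A X], Odd (Nat.card A) →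
      (¬ ∀ (a : A) (x : X), a • x = x) → Lack (⊤ : Subgroup X) → IsFour X ∨ IsQEight X := by
  intro n
  induction n with
  | zero =>
    intro X _ _ h
    exact absurd h (Nat.not_le.2 Nat.card_pos)
  | succ n ih =>
    intro X _ _ hn hX A _ _ _ hA hne hl
    classical
    haveI : Fact (Nat.Prime 2) := ⟨Nat.prime_two⟩
    have hcop : (Nat.card A).Coprime (Nat.card X) := by
      simpa using coprime_card hX hA (⊤ : Subgroup X)
    have haux : ∀ K : Subgroup X, IsInvariant A K → K ≠ ⊤ → (¬ ∀ a : A, ∀ k ∈ K, a • k = k) →
        IsFour K ∨ IsQEight K := by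
      intro K hK hKt hKne
      letI := resAction hK
      refine ih K ?_ (hX.to_subgroup K) A hA (fun h => hKne fun a k hk =>
        congrArg Subtype.val (h a ⟨k, hk⟩)) ?_
      · have := Solvable.card_lt_of_ne_top hKt
        omega
      · intro B _ hB hB8
        have h := hl (B.map K.subtype) le_top
          ⟨⟨fun u v => Subtype.ext (by
            obtain ⟨a, ha, ea⟩ := u.2
            obtain ⟨b, hb, eb⟩ := v.2
            show (u : X) * v = v * u
            rw [← ea, ← eb, ← map_mul, ← map_mul,
              show a * b = b * a from congrArg Subtype.val (hB.is_comm.comm ⟨a, ha⟩ ⟨b, hb⟩)])⟩⟩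
          (by rw [card_map_of_injective K.subtype_injective, hB8])
        exact (B.equivMapOfInjective _ K.subtype_injective).isCyclic.2 h
    have hsub8 : ∀ B : Subgroup X, IsMulCommutative B → Nat.card B = 8 → (∀ b ∈ B, b ^ 4 = 1) → False :=
      fun B hB h8 h4 => not_isCyclic_of_exponent (e := 4) (by norm_num) (by rw [h8]; norm_num)
        (fun b => Subtype.ext (by rw [SubmonoidClass.coe_pow]; exact h4 b b.2)) (hl B le_top hB h8)
    rcases gen hX hA hne (fun K _ _ B _ => hl B le_top) haux with hab | ⟨-, h2⟩ | ⟨hsp, hc, hsq⟩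
    · -- abelian
      left
      have hcm : ∀ x y : X, x * y = y * x := hab.is_comm.comm
      let Om : Subgroup X :=
        { carrier := {x | x * x = 1}
          one_mem' := mul_one 1
          mul_mem' := fun {a b} (ha : a * a = 1) (hb : b * b = 1) => by
            show a * b * (a * b) = 1
            rw [(show Commute b a from hcm b a).mul_mul_mul_comm, ha, hb, one_mul]
          inv_mem' := fun {a} (ha : a * a = 1) => by
            show a⁻¹ * a⁻¹ = 1
            rw [← mul_inv_rev, ha, inv_one] }
      have hOinv : IsInvariant A Om := fun a x (hx : x * x = 1) => by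
        show a • x * a • x = 1
        rw [← smul_mul', hx, smul_one]
      have hO4 : Nat.card Om ≤ 4 := by
        by_contra hlt
        obtain ⟨m, hm⟩ := IsPGroup.iff_card.1 (hX.to_subgroup Om)
        have h3 : 3 ≤ m := by
          by_contra hh
          have := Nat.pow_le_pow_right two_pos (show m ≤ 2 by omega)
          omega
        obtain ⟨B, hB⟩ := Sylow.exists_subgroup_card_pow_prime (G := Om) 2 (n := 3)
          (hm ▸ pow_dvd_pow 2 h3)
        refine hsub8 (B.map Om.subtype) ⟨⟨fun u v => Subtype.ext (hcm _ _)⟩⟩
          (by rw [card_map_of_injective Om.subtype_injective, hB]; norm_num) fun b hb => ?_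
        have hb2 : b * b = 1 := map_subtype_le B hb
        rw [pow_four' b, hb2, one_mul]
      have hOne : ¬ ∀ a : A, ∀ x ∈ Om, a • x = x := by
        intro h
        refine hne fun a x => ?_
        have key : ∀ k : ℕ, ∀ y : X, y ^ 2 ^ k = 1 → ∀ a : A, a • y = y := by
          intro k
          induction k with
          | zero => intro y hy a; rw [pow_zero, pow_one] at hy; rw [hy, smul_one]
          | succ k ihk =>
            intro y hy a
            refine smul_eq_self_of_stabilizes Om (coprime_card hX hA Om) y (fun b => ?_) h a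
            have h2 := ihk (y * y) (by rw [← pow_two, ← pow_mul, ← pow_succ', hy]) b
            rw [smul_mul'] at h2
            show y⁻¹ * b • y * (y⁻¹ * b • y) = 1
            rw [(show Commute (b • y) y⁻¹ from hcm _ _).mul_mul_mul_comm, h2]
            group
        obtain ⟨k, hk⟩ := hX x
        exact key k x hk a
      have hO : Nat.card Om = 4 := by
        obtain ⟨m, hm⟩ := IsPGroup.iff_card.1 (hX.to_subgroup Om)
        have hm2 : m ≤ 2 := by
          by_contra hh
          have := Nat.pow_le_pow_right two_pos (show 3 ≤ m by omega)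
          omega
        interval_cases m
        · exact absurd (fun a x hx => smul_mem_of_mem_two hOinv (by rw [hm]; norm_num) a hx) hOne
        · exact absurd (fun a x hx => smul_mem_of_mem_two hOinv (by rw [hm]; norm_num) a hx) hOne
        · rw [hm]; rfl
      have hall : ∀ x : X, x * x = 1 := by
        by_contra hcon
        push Not at hcon
        obtain ⟨x0, hx0⟩ := hcon
        obtain ⟨x, hx, hxx⟩ : ∃ x : X, x * x ≠ 1 ∧ (x * x) * (x * x) = 1 := by
          obtain ⟨k, hk⟩ := hX x0
          induction k generalizing x0 with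
          | zero => rw [pow_zero, pow_one] at hk; exact absurd (by rw [hk, mul_one]) hx0
          | succ k ihk =>
            by_cases h : (x0 * x0) * (x0 * x0) = 1
            · exact ⟨x0, hx0, h⟩
            · exact ihk (x0 * x0) h (by rw [← pow_two, ← pow_mul, ← pow_succ', hk])
        have hn : zpowers x ≤ normalizer (Om : Set X) := fun g _ => centralizer_le_normalizer _
          (mem_centralizer_iff.2 fun w _ => hcm w g)
        have hxo : orderOf x = 4 := by
          refine orderOf_eq_prime_pow (p := 2) (n := 1) ?_ ?_
          · rw [pow_one, pow_two]; exact hx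
          · rw [show (2 : ℕ) ^ (1 + 1) = 2 + 2 from rfl, pow_add, pow_two]; exact hxx
        have hinf : zpowers x ⊓ Om = zpowers (x * x) := by
          refine le_antisymm ?_ (zpowers_le.2 ⟨mul_mem (mem_zpowers x) (mem_zpowers x), hxx⟩)
          rintro w ⟨hw1, hw2⟩
          obtain ⟨r, rfl⟩ := mem_zpowers_iff.1 hw1
          rcases Int.even_or_odd' r with ⟨s, rfl | rfl⟩
          · rw [zpow_mul, zpow_two]; exact zpow_mem (mem_zpowers _) s
          · exfalso
            refine hx ?_
            have hxe : x ^ (2 * s) ∈ Om := by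
              rw [zpow_mul, zpow_two]; exact zpow_mem (show x * x ∈ Om from hxx) s
            have := mul_mem (inv_mem hxe) hw2
            rwa [zpow_add, zpow_one, inv_mul_cancel_left] at this
        have e := Solvable.card_sup_mul_card_inf hn
        rw [hinf, Nat.card_zpowers, Nat.card_zpowers, hxo, hO,
          orderOf_eq_prime (by rw [pow_two]; exact hxx) hx] at e
        refine hsub8 (zpowers x ⊔ Om) ⟨⟨fun u v => Subtype.ext (hcm _ _)⟩⟩ (by omega) fun b hb => ?_
        obtain ⟨_, ⟨r, rfl⟩, w, hw, rfl⟩ := (Solvable.mem_sup_of_le_normalizer hn).1 hb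
        have hw4 : w ^ 4 = 1 := by
          rw [pow_four' w, show w * w = 1 from hw, one_mul]
        rw [(show Commute (x ^ r) w from hcm _ _).mul_pow, hw4, mul_one, ← zpow_natCast, ← zpow_mul,
          mul_comm, zpow_mul, zpow_natCast, ← hxo, pow_orderOf_eq_one, one_zpow]
      refine ⟨?_, hall⟩
      rw [← card_top, show (⊤ : Subgroup X) = Om from (eq_top_iff.2 fun x _ => hall x).symm, hO]
    · exact absurd hl h2
    · -- special
      have hna : ¬ IsMulCommutative X := by
        intro hab
        have hcen : center X = ⊤ := eq_top_iff.2 fun x _ => mem_center_iff.2 fun g => hab.is_comm.comm g x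
        have hcb : commutator X = ⊥ := by
          rw [_root_.commutator_def, eq_bot_iff, commutator_le]
          intro g _ k _
          exact mem_bot.2 (commutatorElement_eq_one_iff_mul_comm.2 (hab.is_comm.comm g k))
        have hbt : (⊤ : Subgroup X) = ⊥ := by rw [← hcen, ← hsp.2.2, hcb]
        exact hne fun a x => by
          have hx1 : x = 1 := mem_bot.1 (hbt ▸ mem_top x)
          rw [hx1, smul_one]
      set Z := center X with hZ
      have hZ2 : ∀ w ∈ Z, ∀ x : X, x * w = w * x := fun w hw => mem_center_iff.1 hw
      have hZsq : ∀ w ∈ Z, w ^ 4 = 1 := by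
        intro w hw
        have hd : orderOf (⟨w, hw⟩ : Z) ∣ 4 := by
          refine (_root_.orderOf_dvd_natCard _).trans ?_
          rcases hc with h | h
          · rw [show Nat.card Z = 2 from h]; norm_num
          · rw [show Nat.card Z = 4 from h]
        exact congrArg Subtype.val (orderOf_dvd_iff_pow_eq_one.1 hd)
      -- abelian subgroups generated over the centre
      have hext : ∀ x : X, x ∉ Z → Nat.card ↥(zpowers x ⊔ Z) = 2 * Nat.card Z := by
        intro x hx
        have hn : zpowers x ≤ normalizer (Z : Set X) := le_normalizer_of_normal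
        have e := Solvable.card_sup_mul_card_inf hn
        have h1 : (Z.subgroupOf (zpowers x)).index = 2 := by
          refine index_eq_two_iff.2 ⟨⟨x, mem_zpowers x⟩, fun g => ?_⟩
          obtain ⟨r, hr⟩ := mem_zpowers_iff.1 g.2
          simp only [mem_subgroupOf, Subgroup.coe_mul, ← hr]
          have hev : ∀ s : ℤ, x ^ (2 * s) ∈ Z := fun s => by
            rw [zpow_mul, zpow_two]; exact zpow_mem (hsq x) s
          rcases Int.even_or_odd' r with ⟨s, rfl | rfl⟩
          · refine Or.inr ⟨hev s, fun h => hx ?_⟩
            simpa using mul_mem (inv_mem (hev s)) h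
          · refine Or.inl ⟨?_, fun h => hx ?_⟩
            · rw [← zpow_add_one, show 2 * s + 1 + 1 = 2 * (s + 1) by ring]; exact hev _
            · rw [zpow_add_one] at h
              simpa using mul_mem (inv_mem (hev s)) h
        have h2 := (Z.subgroupOf (zpowers x)).card_mul_index
        rw [h1, show Z.subgroupOf (zpowers x) = (zpowers x ⊓ Z).subgroupOf (zpowers x) by
          ext g; simp [mem_subgroupOf], Nat.card_congr (subgroupOfEquivOfLe inf_le_left).toEquiv] at h2
        have hpos := Nat.card_pos (α := ↥(zpowers x ⊓ Z))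
        rw [← h2, mul_assoc, mul_comm (Nat.card ↥(zpowers x ⊓ Z))] at e
        exact Nat.eq_of_mul_eq_mul_right hpos e
      have hpow4 : ∀ x : X, x ^ 4 = 1 := by
        intro x
        rw [pow_four' x]
        have hex2 : ∀ w ∈ Z, w * w = 1 := by
          rw [hZ, ← hsp.2.2, commutator_eq_closure]
          intro w hw
          induction hw using closure_induction with
          | mem w hw =>
            obtain ⟨g, k, rfl⟩ := hw
            have hk : ⁅g, k⁆ ∈ center X := hsp.2.2.le (commutator_mem_commutator (mem_top g) (mem_top k))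
            calc ⁅g, k⁆ * ⁅g, k⁆ = g * ⁅g, k⁆ * g⁻¹ * ⁅g, k⁆ := by
                  rw [mem_center_iff.1 hk g, mul_inv_cancel_right]
              _ = g * g * k * (g * g)⁻¹ * k⁻¹ := by rw [commutatorElement_def]; group
              _ = 1 := by rw [← mem_center_iff.1 (hsq g) k]; group
          | one => exact mul_one 1
          | mul u v hu _ hu2 hv2 =>
            have hu' : u ∈ center X := hsp.2.2 ▸ (commutator_eq_closure (G := X) ▸ hu)
            rw [(show Commute v u from mem_center_iff.1 hu' v).mul_mul_mul_comm, hu2, hv2, one_mul]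
          | inv u _ hu2 => rw [← mul_inv_rev, hu2, inv_one]
        exact hex2 _ (hsq x)
      obtain ⟨x, hx⟩ : ∃ x : X, x ∉ Z := by
        by_contra hcon
        push Not at hcon
        exact hna ⟨⟨fun g k => hZ2 k (hcon k) g⟩⟩
      have hXgt : Nat.card X ≥ 8 := by
        by_contra hlt
        obtain ⟨m, hm⟩ := IsPGroup.iff_card.1 hX
        have hm2 : m ≤ 2 := by
          by_contra hh
          have := Nat.pow_le_pow_right two_pos (show 3 ≤ m by omega)
          omega
        refine hna ?_
        interval_cases m
        · haveI := (Nat.card_eq_one_iff_unique.1 hm).1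
          exact ⟨⟨fun g k => Subsingleton.elim _ _⟩⟩
        · haveI := isCyclic_of_prime_card (p := 2) (hm.trans (pow_one 2))
          exact ⟨⟨fun g k => IsCyclic.commGroup.mul_comm g k⟩⟩
        · exact IsPGroup.isMulCommutative_of_card_eq_prime_sq hm
      rcases hc with hc2 | hc4
      · -- centre of order two
        right
        change Nat.card Z = 2 at hc2
        have hX8 : Nat.card X = 8 := by
          by_contra hne8
          let φ : X →* X :=
            { toFun := fun g => x * g * x⁻¹ * g⁻¹
              map_one' := by group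
              map_mul' := fun g k => by
                have hk : x * k * x⁻¹ * k⁻¹ ∈ Z :=
                  hsp.2.2.le (commutator_mem_commutator (mem_top x) (mem_top k))
                calc x * (g * k) * x⁻¹ * (g * k)⁻¹ =
                    (x * g * x⁻¹ * g⁻¹) * (g * (x * k * x⁻¹ * k⁻¹) * g⁻¹) := by group
                  _ = _ := by rw [mem_center_iff.1 hk g, mul_inv_cancel_right] }
          have hrange : Nat.card φ.range ≤ 2 := by
            refine le_of_le_of_eq (card_le_of_le ?_) hc2
            rintro _ ⟨g, rfl⟩
            exact hsp.2.2.le (commutator_mem_commutator (mem_top x) (mem_top g))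
          have e := φ.ker.card_mul_index
          rw [index_ker] at e
          have hX16 : 16 ≤ Nat.card X := by
            obtain ⟨m, hm⟩ := IsPGroup.iff_card.1 hX
            rw [hm] at hXgt hne8 ⊢
            have : 4 ≤ m := by
              by_contra hh
              have h3 : m = 3 := by
                by_contra h3
                have := Nat.pow_le_pow_right two_pos (show m ≤ 2 by omega)
                omega
              exact hne8 (by rw [h3]; rfl)
            exact le_trans (by norm_num) (Nat.pow_le_pow_right two_pos this)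
          have hker8 : 8 ≤ Nat.card φ.ker := by nlinarith
          obtain ⟨y, hy, hy'⟩ : ∃ y ∈ φ.ker, y ∉ zpowers x ⊔ Z := by
            by_contra hcon
            push Not at hcon
            have := card_le_of_le (show φ.ker ≤ zpowers x ⊔ Z from hcon)
            rw [hext x hx, hc2] at this
            omega
          set U := zpowers x ⊔ Z with hU
          have hcxy : Commute y x := (mul_inv_eq_iff_eq_mul.1 (mul_inv_eq_one.1
            (show x * y * x⁻¹ * y⁻¹ = 1 from hy))).symm
          have hUc : U ≤ centralizer {y} := sup_le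
            (zpowers_le.2 (mem_centralizer_singleton_iff.2 hcxy.eq.symm))
            (fun w hw => mem_centralizer_singleton_iff.2 (hZ2 w hw y).symm)
          have hn : zpowers y ≤ normalizer (U : Set X) := zpowers_le.2
            (centralizer_le_normalizer _ (mem_centralizer_iff.2 fun w hw =>
              mem_centralizer_singleton_iff.1 (hUc hw)))
          have hUcomm : ∀ u ∈ U, ∀ v ∈ U, Commute u v := by
            intro u hu v hv
            obtain ⟨_, ⟨r, rfl⟩, w, hw, rfl⟩ := (Solvable.mem_sup_of_le_normalizer
              (le_normalizer_of_normal : zpowers x ≤ normalizer (Z : Set X))).1 hu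
            obtain ⟨_, ⟨r', rfl⟩, w', hw', rfl⟩ := (Solvable.mem_sup_of_le_normalizer
              (le_normalizer_of_normal : zpowers x ≤ normalizer (Z : Set X))).1 hv
            exact (((Commute.refl x).zpow_zpow r r').mul_right (hZ2 w' hw' _)).mul_left
              ((hZ2 w hw _).symm)
          have hyU : ∀ u ∈ U, Commute y u := fun u hu =>
            (mem_centralizer_singleton_iff.1 (hUc hu)).symm
          have hBc : IsMulCommutative ↥(zpowers y ⊔ U) := ⟨⟨fun a b => Subtype.ext (by
            obtain ⟨_, ⟨r, rfl⟩, u, hu, ea⟩ := (Solvable.mem_sup_of_le_normalizer hn).1 a.2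
            obtain ⟨_, ⟨r', rfl⟩, v, hv, eb⟩ := (Solvable.mem_sup_of_le_normalizer hn).1 b.2
            show (a : X) * b = b * a
            rw [← ea, ← eb]
            exact ((((Commute.refl y).zpow_zpow r r').mul_right ((hyU v hv).zpow_left r)).mul_left
              (((hyU u hu).zpow_left r').symm.mul_right (hUcomm u hu v hv))).eq)⟩⟩
          have hBlt : Nat.card U < Nat.card ↥(zpowers y ⊔ U) :=
            Solvable.card_lt_of_lt (lt_of_le_of_ne le_sup_right fun h =>
              hy' (h.ge (mem_sup_left (mem_zpowers y))))
          rw [hext x hx, hc2] at hBlt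
          obtain ⟨m, hm⟩ := IsPGroup.iff_card.1 (hX.to_subgroup (zpowers y ⊔ U))
          have hm3 : 3 ≤ m := by
            by_contra hh
            have := Nat.pow_le_pow_right two_pos (show m ≤ 2 by omega)
            omega
          obtain ⟨B, hB⟩ := Sylow.exists_subgroup_card_pow_prime (G := ↥(zpowers y ⊔ U)) 2 (n := 3)
            (hm ▸ pow_dvd_pow 2 hm3)
          exact hsub8 (B.map (zpowers y ⊔ U).subtype) ⟨⟨fun a b => Subtype.ext
              (show (a : X) * b = b * a from congrArg Subtype.val
              (hBc.is_comm.comm ⟨a, map_subtype_le B a.2⟩ ⟨b, map_subtype_le B b.2⟩))⟩⟩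
            (by rw [card_map_of_injective (zpowers y ⊔ U).subtype_injective, hB]; norm_num)
            (fun b _ => hpow4 b)
        obtain ⟨z, hz, hz1⟩ := (bot_or_exists_ne_one Z).resolve_left (fun h => by
          rw [h, card_bot] at hc2; omega)
        have hzfix : ∀ a : A, a • z = z := fun a =>
          smul_mem_of_mem_two (fun b w hw => mem_center_iff.2 fun g => by
            have e := congrArg (b • ·) (hZ2 w hw (b⁻¹ • g))
            simpa using e) hc2.le a hz
        have hZ01 : ∀ w ∈ Z, w = 1 ∨ w = z := by
          intro w hw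
          by_contra hcon
          push Not at hcon
          have hf : Function.Injective (![⟨1, one_mem Z⟩, ⟨z, hz⟩, ⟨w, hw⟩] : Fin 3 → Z) := by
            intro i j hij
            fin_cases i <;> fin_cases j <;>
              first
              | rfl
              | (exfalso
                 simp [Subtype.ext_iff] at hij
                 first
                 | exact hz1 hij
                 | exact hz1 hij.symm
                 | exact hcon.1 hij
                 | exact hcon.1 hij.symm
                 | exact hcon.2 hij
                 | exact hcon.2 hij.symm)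
          have := Nat.card_le_card_of_injective _ hf
          rw [hc2, Nat.card_fin] at this
          omega
        have hzz : z * z = 1 := by
          rcases hZ01 (z * z) (mul_mem hz hz) with e | e
          · exact e
          · exact absurd (mul_eq_left.1 e) hz1
        refine ⟨hX8, hna, z, hz1, hzz, fun t ht => ?_⟩
        by_contra hcon
        push Not at hcon
        have htZ : t ∉ Z := fun h => (hZ01 t h).elim hcon.1 hcon.2
        -- the classes modulo the centre are moved without fixed points
        have hnfix : ∀ u : X, u ∉ Z → ¬ ∀ a : A, u⁻¹ * a • u ∈ Z := by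
          intro u hu hall
          refine hne ?_
          have hfix : ∀ a : A, ∀ w ∈ zpowers u ⊔ Z, a • w = w := by
            have hu' : ∀ a : A, a • u = u := smul_eq_self_of_stabilizes Z (coprime_card hX hA Z) u hall
              fun a w hw => (hZ01 w hw).elim (fun e => e ▸ smul_one a) (fun e => e ▸ hzfix a)
            intro a w hw
            obtain ⟨_, ⟨r, rfl⟩, v, hv, rfl⟩ := (Solvable.mem_sup_of_le_normalizer
              (le_normalizer_of_normal : zpowers u ≤ normalizer (Z : Set X))).1 hw
            simp only
            rw [smul_mul', show a • u ^ r = MulDistribMulAction.toMonoidHom X a (u ^ r) from rfl,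
              map_zpow, show MulDistribMulAction.toMonoidHom X a u = u from hu' a]
            rcases hZ01 v hv with rfl | rfl
            · rw [smul_one]
            · rw [hzfix]
          have hidx : (zpowers u ⊔ Z).relIndex ⊤ ≤ 2 := by
            have e := (zpowers u ⊔ Z).card_mul_index
            rw [hext u hu, hc2, hX8] at e
            rw [relIndex_top_right]; omega
          exact fun a w => triv_index_two hX hA le_top (fun _ _ _ => mem_top _) hidx hfix a w (mem_top w)
        obtain ⟨a, ha⟩ := not_forall.1 (hnfix t htZ)
        set t1 := a • t with ht1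
        have ht1Z : t1 ∉ Z := fun h => htZ (by
          refine mem_center_iff.2 fun g => ?_
          have e := congrArg (a⁻¹ • ·) (hZ2 t1 h (a • g))
          simpa [ht1] using e)
        set t2 := a • t1 with ht2
        have ht1i : t1 * t1 = 1 := by rw [ht1, ← smul_mul', ht, smul_one]
        have ht2i : t2 * t2 = 1 := by rw [ht2, ← smul_mul', ht1i, smul_one]
        have hZinv : IsInvariant A Z := fun b w hw => mem_center_iff.2 fun g => by
          have e := congrArg (b • ·) (hZ2 w hw (b⁻¹ • g))
          simpa using e
        have h12 : t1⁻¹ * t2 ∉ Z := fun h => ha (by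
          have := hZinv a⁻¹ _ h
          simpa [ht1, ht2, smul_mul', smul_inv'] using this)
        have h02 : t⁻¹ * t2 ∉ Z := fun h => by
          have h2 : ∀ m : ℕ, t⁻¹ * (a * a) ^ m • t ∈ Z := by
            intro m
            induction m with
            | zero => simp
            | succ m ihm =>
              rw [pow_succ', mul_smul,
                show t⁻¹ * (a * a) • (a * a) ^ m • t = (t⁻¹ * (a * a) • t) *
                  ((a * a) • (t⁻¹ * (a * a) ^ m • t)) by simp [smul_mul', smul_inv', mul_assoc]]
              exact mul_mem (by rwa [mul_smul]) (hZinv _ _ ihm)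
          obtain ⟨k, hk⟩ : Odd (orderOf a) := hA.of_dvd_nat (orderOf_dvd_natCard a)
          refine ha ?_
          have := h2 (k + 1)
          rwa [← pow_two, ← pow_mul, show 2 * (k + 1) = orderOf a + 1 by omega, pow_succ,
            pow_orderOf_eq_one, one_mul] at this
        -- the third class is that of the product
        have ht01 : t⁻¹ * t1 ∉ Z := ha
        have hprod : (t * t1)⁻¹ * t2 ∈ Z := by
          have hmem : t2 ∈ zpowers t1 ⊔ (zpowers t ⊔ Z) := by
            have hn' : zpowers t1 ≤ normalizer ((zpowers t ⊔ Z : Subgroup X) : Set X) := by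
              haveI : (zpowers t ⊔ Z).Normal := Subgroup.normal_of_index_eq_two (by
                have e := (zpowers t ⊔ Z).card_mul_index
                rw [hext t htZ, hc2, hX8] at e; omega)
              exact le_normalizer_of_normal
            have htop : zpowers t1 ⊔ (zpowers t ⊔ Z) = ⊤ := by
              refine eq_top_of_card_eq _ ?_
              have hlt := Solvable.card_lt_of_lt (lt_of_le_of_ne
                (le_sup_right : zpowers t ⊔ Z ≤ zpowers t1 ⊔ (zpowers t ⊔ Z)) fun h => ht01 (by
                  have hm : t1 ∈ zpowers t ⊔ Z := h.ge (mem_sup_left (mem_zpowers t1))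
                  obtain ⟨_, ⟨r, rfl⟩, v, hv, e⟩ := (Solvable.mem_sup_of_le_normalizer
                    (le_normalizer_of_normal : zpowers t ≤ normalizer (Z : Set X))).1 hm
                  rcases Int.even_or_odd' r with ⟨s, rfl | rfl⟩
                  · exfalso
                    refine ht1Z ?_
                    rw [← e]; simp only; rw [zpow_mul, zpow_two, ht, one_zpow, one_mul]; exact hv
                  · rw [← e]; simp only
                    rw [zpow_add, zpow_mul, zpow_two, ht, one_zpow, one_mul, zpow_one, inv_mul_cancel_left]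
                    exact hv))
              rw [hext t htZ, hc2] at hlt
              have hd := card_subgroup_dvd_card (zpowers t1 ⊔ (zpowers t ⊔ Z))
              rw [hX8] at hd ⊢
              have := Nat.le_of_dvd (by norm_num) hd
              generalize Nat.card ↥(zpowers t1 ⊔ (zpowers t ⊔ Z)) = n at *
              interval_cases n <;> omega
            rw [htop]; exact mem_top _
          have hn' : zpowers t1 ≤ normalizer ((zpowers t ⊔ Z : Subgroup X) : Set X) := by
            haveI : (zpowers t ⊔ Z).Normal := Subgroup.normal_of_index_eq_two (by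
              have e := (zpowers t ⊔ Z).card_mul_index
              rw [hext t htZ, hc2, hX8] at e; omega)
            exact le_normalizer_of_normal
          obtain ⟨_, ⟨r, rfl⟩, u, hu, e⟩ := (Solvable.mem_sup_of_le_normalizer hn').1 hmem
          obtain ⟨_, ⟨q, rfl⟩, v, hv, rfl⟩ := (Solvable.mem_sup_of_le_normalizer
            (le_normalizer_of_normal : zpowers t ≤ normalizer (Z : Set X))).1 hu
          simp only at e
          have hcom : ∀ g k : X, g * k * g⁻¹ * k⁻¹ ∈ Z := fun g k =>
            hsp.2.2.le (commutator_mem_commutator (mem_top g) (mem_top k))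
          have ev : ∀ w : X, w * w = 1 → ∀ s : ℤ, w ^ (2 * s) = 1 := fun w hw s => by
            rw [zpow_mul, zpow_two, hw, one_zpow]
          rcases Int.even_or_odd' r with ⟨s, rfl | rfl⟩ <;>
            rcases Int.even_or_odd' q with ⟨l, rfl | rfl⟩ <;>
            simp only [zpow_add, zpow_one, ev t ht, ev t1 ht1i, one_mul] at e
          · exfalso
            refine ht1Z ?_
            have := hZinv a⁻¹ v hv
            rwa [e, ht2, inv_smul_smul] at this
          · exact absurd (by rw [← e, inv_mul_cancel_left]; exact hv) h02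
          · exact absurd (by rw [← e, inv_mul_cancel_left]; exact hv) h12
          · rw [← e, show (t * t1)⁻¹ * (t1 * (t * v)) =
              (t1⁻¹ * t⁻¹ * t1⁻¹⁻¹ * t⁻¹⁻¹) * v by group]
            exact mul_mem (hcom _ _) hv
        -- squares
        have hsq' : (t * t1) * (t * t1) = 1 := by
          have e2 : t2 = (t * t1) * ((t * t1)⁻¹ * t2) := (mul_inv_cancel_left _ _).symm
          have e3 : t2 * t2 = (t * t1) * (t * t1) := by
            rcases hZ01 _ hprod with h | h <;> rw [h] at e2 <;> rw [e2]
            · rw [mul_one]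
            · rw [(show Commute z (t * t1) from (hZ2 z hz _).symm).mul_mul_mul_comm, hzz, mul_one]
          rw [← e3, ht2i]
        -- hence everything commutes
        have hcm : Commute t t1 := by
          show t * t1 = t1 * t
          calc t * t1 = (t * t1)⁻¹ := (inv_eq_of_mul_eq_one_right hsq').symm
            _ = t1⁻¹ * t⁻¹ := mul_inv_rev _ _
            _ = t1 * t := by rw [inv_eq_of_mul_eq_one_right ht, inv_eq_of_mul_eq_one_right ht1i]
        have hzt : Commute z t := (hZ2 z hz t).symm
        refine htZ (mem_center_iff.2 fun g => ?_)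
        have hle : (⊤ : Subgroup X) ≤ centralizer {t} := by
          rw [← (show zpowers t1 ⊔ (zpowers t ⊔ Z) = ⊤ from eq_top_of_card_eq _ (by
            have hlt := Solvable.card_lt_of_lt (lt_of_le_of_ne
              (le_sup_right : zpowers t ⊔ Z ≤ zpowers t1 ⊔ (zpowers t ⊔ Z)) fun h => ht01 (by
                have hm : t1 ∈ zpowers t ⊔ Z := h.ge (mem_sup_left (mem_zpowers t1))
                obtain ⟨_, ⟨r, rfl⟩, v, hv, e⟩ := (Solvable.mem_sup_of_le_normalizer
                  (le_normalizer_of_normal : zpowers t ≤ normalizer (Z : Set X))).1 hm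
                rcases Int.even_or_odd' r with ⟨s, rfl | rfl⟩
                · exfalso
                  refine ht1Z ?_
                  rw [← e]; simp only; rw [zpow_mul, zpow_two, ht, one_zpow, one_mul]; exact hv
                · rw [← e]; simp only
                  rw [zpow_add, zpow_mul, zpow_two, ht, one_zpow, one_mul, zpow_one, inv_mul_cancel_left]
                  exact hv))
            rw [hext t htZ, hc2] at hlt
            have hd := card_subgroup_dvd_card (zpowers t1 ⊔ (zpowers t ⊔ Z))
            rw [hX8] at hd ⊢
            have := Nat.le_of_dvd (by norm_num) hd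
            generalize Nat.card ↥(zpowers t1 ⊔ (zpowers t ⊔ Z)) = n at *
            interval_cases n <;> omega))]
          refine sup_le ?_ (sup_le ?_ ?_)
          · exact zpowers_le.2 (mem_centralizer_singleton_iff.2 hcm.eq.symm)
          · exact zpowers_le.2 (mem_centralizer_singleton_iff.2 rfl)
          · exact fun w hw => mem_centralizer_singleton_iff.2 (hZ2 w hw t).symm
        exact mem_centralizer_singleton_iff.1 (hle (mem_top g))
      · -- centre of order four
        exfalso
        change Nat.card Z = 4 at hc4
        refine hsub8 (zpowers x ⊔ Z) ⟨⟨fun u v => Subtype.ext (by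
          obtain ⟨_, ⟨r, rfl⟩, w, hw, hu⟩ := (Solvable.mem_sup_of_le_normalizer
            (le_normalizer_of_normal : zpowers x ≤ normalizer (Z : Set X))).1 u.2
          obtain ⟨_, ⟨r', rfl⟩, w', hw', hv⟩ := (Solvable.mem_sup_of_le_normalizer
            (le_normalizer_of_normal : zpowers x ≤ normalizer (Z : Set X))).1 v.2
          show (u : X) * v = v * u
          rw [← hu, ← hv]
          exact ((((Commute.refl x).zpow_zpow r r').mul_right (hZ2 w' hw' _)).mul_left
            ((hZ2 w hw _).symm)).eq)⟩⟩ (by rw [hext x hx, hc4]) (fun b _ => hpow4 b)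

end CfsgLib.LackEight
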