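import Cfsg.Agent.Coprime.Generation
import Cfsg.Agent.Frobenius.Fpf
import Cfsg.Agent.Solvable.Basics
import Cfsg.Prelude.Def_Transfer
import Mathlib.RingTheory.Int.Basic

/-!
An elementary abelian group of order eight acting on a group of odd prime power order with
few non-cyclic fixed-point subgroups.
-/

set_option autoImplicit false
set_option linter.style.haveILetI false
set_option linter.unusedSectionVars false

namespace CfsgLib.EightOnOdd

open Subgroup

variable {P : Type*} [Group P] [Finite P]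

/-- `T` has non-cyclic fixed-point subgroup. -/
def Broad (T : MulAut P) : Prop := ¬ ∃ g : P, ∀ x : P, (T x = x ↔ x ∈ zpowers g)

theorem involution_cyclic (p : ℕ) [hp : Fact p.Prime] (hp2 : p ≠ 2) (hP : IsPGroup p P)
    (T : MulAut P) (hT : T * T = 1) {g : P} (hg : T g ∈ zpowers g) : T g = g ∨ T g = g⁻¹ := by
  obtain ⟨k, hk⟩ := mem_zpowers_iff.1 hg
  obtain ⟨n, hn⟩ := IsPGroup.iff_orderOf.1 hP g
  have h2 : g ^ (k * k) = g := by
    have e : T (T g) = g := congrArg (fun f : MulAut P => f g) hT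
    rw [← hk, map_zpow, ← hk, ← zpow_mul] at e
    exact e
  have h3 : ((p : ℤ) ^ n) ∣ (k - 1) * (k + 1) := by
    rw [show (k - 1) * (k + 1) = k * k - 1 by ring,
      show ((p : ℤ) ^ n) = ((orderOf g : ℕ) : ℤ) by rw [hn, Nat.cast_pow],
      orderOf_dvd_iff_zpow_eq_one, zpow_sub_one, h2, mul_inv_cancel]
  have hpp : Prime (p : ℤ) := Int.prime_iff_natAbs_prime.2 (by simpa using hp.out)
  by_cases hd : (p : ℤ) ∣ k - 1
  · left
    have hnd : ¬ (p : ℤ) ∣ k + 1 := fun h => by
      have h4 : (p : ℤ) ∣ 2 := by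
        have := dvd_sub h hd
        rwa [show k + 1 - (k - 1) = 2 by ring] at this
      have h5 := Nat.le_of_dvd two_pos (Int.natCast_dvd_natCast.1 (show (p : ℤ) ∣ ((2 : ℕ) : ℤ) from h4))
      have := hp.out.two_le
      omega
    have h5 : ((p : ℤ) ^ n) ∣ k - 1 := hpp.pow_dvd_of_dvd_mul_right n hnd h3
    rw [show ((p : ℤ) ^ n) = ((orderOf g : ℕ) : ℤ) by rw [hn, Nat.cast_pow],
      orderOf_dvd_iff_zpow_eq_one, zpow_sub_one, mul_inv_eq_one] at h5
    rw [← hk, h5]
  · right
    have h5 : ((p : ℤ) ^ n) ∣ k + 1 := hpp.pow_dvd_of_dvd_mul_left n hd h3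
    rw [show ((p : ℤ) ^ n) = ((orderOf g : ℕ) : ℤ) by rw [hn, Nat.cast_pow],
      orderOf_dvd_iff_zpow_eq_one, zpow_add_one, mul_eq_one_iff_eq_inv] at h5
    rw [← hk, h5]

theorem eq_one_of_eq_inv {p : ℕ} [hp : Fact p.Prime] (hp2 : p ≠ 2) (hP : IsPGroup p P) {y : P}
    (h : y = y⁻¹) : y = 1 := by
  obtain ⟨n, hn⟩ := IsPGroup.iff_orderOf.1 hP y
  have h2 : orderOf y ∣ 2 := orderOf_dvd_of_pow_eq_one (by
    rw [pow_two]; nth_rw 2 [h]; exact mul_inv_cancel y)
  rcases (Nat.dvd_prime Nat.prime_two).1 h2 with e | e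
  · exact orderOf_eq_one_iff.1 e
  · exfalso
    rcases n with _ | n
    · rw [pow_zero] at hn; omega
    · exact hp2 ((Nat.prime_dvd_prime_iff_eq hp.out Nat.prime_two).1 (e ▸ hn ▸ dvd_pow_self p n.succ_ne_zero))

/-- A subgroup of order four containing `I₀` and avoiding a given element. -/
theorem exists_four {G : Type*} [Group G] [Finite G] (I : Subgroup G)
    (hI : Cfsg.IsElementaryAbelian 2 I) (hI8 : Nat.card I = 8) {I₀ : Subgroup G} (hI₀ : I₀ ≤ I)
    {b : G} (hb : b ∈ I) (hb0 : b ∉ I₀) :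
    ∃ A : Subgroup G, I₀ ≤ A ∧ A ≤ I ∧ b ∉ A ∧ Nat.card A = 4 := by
  obtain ⟨A, hA, hmax⟩ := Set.Finite.exists_maximal
    (Set.toFinite {A : Subgroup G | I₀ ≤ A ∧ A ≤ I ∧ b ∉ A}) ⟨I₀, le_rfl, hI₀, hb0⟩
  obtain ⟨h1, h2, h3⟩ := hA
  refine ⟨A, h1, h2, h3, ?_⟩
  have hd : Nat.card A ∣ 8 := hI8 ▸ Subgroup.card_dvd_of_le h2
  have hne : Nat.card A ≠ 8 := fun e =>
    h3 ((CfsgLib.Solvable.eq_of_le_of_card_le h2 (by omega)).ge hb)
  have hcentral : ∀ y ∈ I, ∀ C : Subgroup G, C ≤ I → zpowers y ≤ normalizer (C : Set G) := by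
    intro y hy C hC
    refine le_trans ?_ (centralizer_le_normalizer _)
    rw [zpowers_le, mem_centralizer_iff]
    exact fun g hg => congrArg Subtype.val (hI.1.1.comm ⟨g, hC hg⟩ ⟨y, hy⟩)
  have hsupc : ∀ y ∈ I, ∀ C : Subgroup G, C ≤ I → Nat.card ↥(zpowers y ⊔ C) ≤ 2 * Nat.card C := by
    intro y hy C hC
    refine le_trans (Nat.le_of_dvd (Nat.mul_pos Nat.card_pos Nat.card_pos)
      (CfsgLib.Solvable.card_sup_dvd (hcentral y hy C hC))) (Nat.mul_le_mul_right _ ?_)
    rw [Nat.card_zpowers]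
    exact orderOf_le_of_pow_eq_one two_pos (hI.2 y hy)
  have h4 : ¬ Nat.card A ≤ 2 := by
    intro hle
    have hAb : zpowers b ⊔ A ≤ I := sup_le (zpowers_le.2 hb) h2
    obtain ⟨c, hc, hc'⟩ : ∃ c ∈ I, c ∉ zpowers b ⊔ A := by
      by_contra hcon
      push Not at hcon
      have := Subgroup.card_le_of_le (show I ≤ zpowers b ⊔ A from hcon)
      have := hsupc b hb A h2
      omega
    have hmem : A ≤ zpowers c ⊔ A := le_sup_right
    have hb' : b ∉ zpowers c ⊔ A := fun h => by
      obtain ⟨_, ⟨i, rfl⟩, a, ha, e⟩ :=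
        (CfsgLib.Solvable.mem_sup_of_le_normalizer (hcentral c hc A h2)).1 h
      rcases Int.even_or_odd' i with ⟨j, rfl | rfl⟩
      · refine h3 ?_
        simp only at e
        rw [← e, show c ^ (2 * j) = 1 by rw [zpow_mul, zpow_two, ← pow_two, hI.2 c hc, one_zpow],
          one_mul]
        exact ha
      · refine hc' ?_
        have hc1 : c ^ (2 * j + 1) = c := by
          rw [zpow_add, zpow_mul, zpow_two, ← pow_two, hI.2 c hc, one_zpow, one_mul, zpow_one]
        simp only [hc1] at e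
        rw [show c = b * a⁻¹ by rw [← e]; group]
        exact mul_mem (mem_sup_left (mem_zpowers b)) (mem_sup_right (inv_mem ha))
    have := hmax ⟨h1.trans hmem, sup_le (zpowers_le.2 hc) h2, hb'⟩ hmem
    exact hc' (mem_sup_right (this (mem_sup_left (mem_zpowers c))))
  have := Nat.le_of_dvd (by norm_num) hd
  generalize Nat.card A = n at *
  interval_cases n <;> omega

theorem fin3_other : ∀ i : Fin 3, ∃ j k : Fin 3, j ≠ i ∧ k ≠ i ∧ j ≠ k := by decide

theorem fin3_pair : ∀ i j : Fin 3, ∃ m : Fin 3, m ≠ i ∧ m ≠ j := by decide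

theorem fin3_split : ∀ m : Fin 3, ∃ i j : Fin 3, i ≠ j ∧ m ≠ i ∧ m ≠ j := by decide

theorem fin3_cover : ∀ m i j l : Fin 3, i ≠ j → m ≠ i → m ≠ j → l ≠ m → l = i ∨ l = j := by decide

open scoped Classical in
open scoped IsMulCommutative in
theorem main (p : ℕ) [hp : Fact p.Prime] (hp2 : p ≠ 2) (hP : IsPGroup p P)
    (I : Subgroup (MulAut P)) (hI : Cfsg.IsElementaryAbelian 2 I) (hI8 : Nat.card I = 8)
    (I₀ : Subgroup (MulAut P)) (hI₀ : I₀ < I) (hdisj : ∀ T ∈ I₀, T ≠ 1 → ¬ Broad T)
    (hprod : ∀ T ∈ I, ∀ T' ∈ I, T ≠ 1 → T' ≠ 1 → Broad T → Broad T' → T * T' ∈ I₀) :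
    ∃ (e : Fin 3 → MulAut P) (x : Fin 3 → P), IsMulCommutative P ∧ closure (Set.range x) = ⊤ ∧
      (¬ ∃ a b : P, closure ({a, b} : Set P) = ⊤) ∧ Function.Injective e ∧
      {T : MulAut P | T ∈ I ∧ T ≠ 1 ∧ Broad T} = Set.range e ∧
      closure (Set.range e) = I ∧
      (I₀ : Set (MulAut P)) = {S | ∃ i j, S = e i * e j} := by
  classical
  haveI := hI.1
  have hIc : ∀ s ∈ I, ∀ t ∈ I, s * t = t * s := fun s hs t ht =>
    congrArg Subtype.val (hI.1.1.comm ⟨s, hs⟩ ⟨t, ht⟩)
  have hI2 : ∀ s ∈ I, s * s = 1 := fun s hs => by rw [← pow_two]; exact hI.2 s hs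
  -- a four-group without broad elements
  obtain ⟨A, hAI, hA4, hAn⟩ : ∃ A : Subgroup (MulAut P), A ≤ I ∧ Nat.card A = 4 ∧
      ∀ T ∈ A, T ≠ 1 → ¬ Broad T := by
    by_cases hex : ∃ b ∈ I, b ≠ 1 ∧ Broad b
    · obtain ⟨b, hb, hb1, hbB⟩ := hex
      obtain ⟨A, h1, h2, h3, h4⟩ := exists_four I hI hI8 hI₀.le hb (fun h => hdisj b h hb1 hbB)
      refine ⟨A, h2, h4, fun T hT hT1 hTB => h3 ?_⟩
      have h5 := h1 (hprod T (h2 hT) b hb hT1 hb1 hTB hbB)
      have := mul_mem (inv_mem hT) h5
      rwa [inv_mul_cancel_left] at this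
    · push Not at hex
      haveI : Fact (Nat.Prime 2) := ⟨Nat.prime_two⟩
      obtain ⟨A, hA⟩ := Sylow.exists_subgroup_card_pow_prime (G := I) 2 (n := 2) ⟨2, by rw [hI8]; norm_num⟩
      refine ⟨A.map I.subtype, map_subtype_le A, ?_, fun T hT hT1 => hex T (map_subtype_le A hT) hT1⟩
      rw [card_map_of_injective I.subtype_injective, hA]; norm_num
  haveI hAc : IsMulCommutative A := ⟨⟨fun u v => Subtype.ext (hIc _ (hAI u.2) _ (hAI v.2))⟩⟩
  -- the three non-identity elements
  haveI : Fintype A := Fintype.ofFinite A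
  have hs3 : Fintype.card {t : A // t ≠ 1} = 3 := by
    rw [Fintype.card_subtype_compl, Fintype.card_subtype_eq, ← Nat.card_eq_fintype_card, hA4]
  obtain ⟨a, ha⟩ : ∃ a : Fin 3 → {t : A // t ≠ 1}, Function.Bijective a :=
    ⟨_, ((Fintype.equivFinOfCardEq hs3).symm).bijective⟩
  choose x hx using fun i => Classical.not_not.1 (hAn _ (a i).1.2 (fun h => (a i).2 (Subtype.ext h)))
  have hxfix : ∀ i, ((a i).1 : MulAut P) (x i) = x i := fun i => (hx i _).2 (mem_zpowers _)
  -- they generate
  have hgen : closure (Set.range x) = ⊤ := by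
    have hnc : ¬ IsCyclic A := fun h => by
      have h2 : Monoid.exponent A ∣ 2 :=
        Monoid.exponent_dvd_of_forall_pow_eq_one fun t => Subtype.ext (hI.2 _ (hAI t.2))
      rw [IsCyclic.exponent_eq_card, hA4] at h2
      norm_num at h2
    have hcop : (Nat.card A).Coprime (Nat.card P) := by
      obtain ⟨n, hn⟩ := IsPGroup.iff_card.1 hP
      rw [hA4, hn, show 4 = 2 ^ 2 from rfl]
      exact Nat.Coprime.pow _ _ ((Nat.coprime_primes Nat.prime_two hp.out).2 hp2.symm)
    rw [eq_top_iff, ← CfsgLib.Coprime.closure_fixed_eq_top (A := A) (G := P) hnc hcop, closure_le]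
    rintro g ⟨t, ht, hg⟩
    obtain ⟨i, hi⟩ := ha.2 ⟨t, ht⟩
    have h1 : ((a i).1 : MulAut P) g = g := by rw [hi]; exact hg
    exact (zpowers_le.2 (subset_closure (Set.mem_range_self i))) ((hx i g).1 h1)
  -- signs
  have hsign : ∀ u ∈ I, ∀ i, u (x i) = x i ∨ u (x i) = (x i)⁻¹ := fun u hu i =>
    involution_cyclic p hp2 hP u (hI2 u hu) ((hx i _).1 (by
      have e := congrArg (fun f : MulAut P => f (x i)) (hIc _ (hAI (a i).1.2) u hu)
      simp only [MulAut.mul_apply, hxfix] at e
      exact e))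
  let sg : I → Fin 3 → Bool := fun u i => decide ((u : MulAut P) (x i) = x i)
  have hsginj : Function.Injective sg := by
    intro u v huv
    apply Subtype.ext
    have key : ∀ y ∈ closure (Set.range x), (u : MulAut P) y = (v : MulAut P) y := by
      intro y hy
      induction hy using closure_induction with
      | mem y hy =>
        obtain ⟨i, rfl⟩ := hy
        have := congrFun huv i
        simp only [sg, decide_eq_decide] at this
        by_cases h : (u : MulAut P) (x i) = x i
        · rw [h, this.1 h]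
        · rw [(hsign _ u.2 i).resolve_left h, (hsign _ v.2 i).resolve_left (fun h' => h (this.2 h'))]
      | one => simp
      | mul y z _ _ hy hz => simp [hy, hz]
      | inv y _ hy => simp [hy]
    exact MulEquiv.ext fun y => key y (hgen.symm ▸ mem_top y)
  have hsgbij : Function.Bijective sg :=
    hsginj.bijective_of_nat_card_le (by simp [hI8])
  have hxne : ∀ i, x i ≠ 1 := fun i h => by
    obtain ⟨u, hu⟩ := hsgbij.2 (fun _ => false)
    have := congrFun hu i
    simp [sg, h] at this
  choose e he using fun i : Fin 3 => hsgbij.2 (fun j => decide (j ≠ i))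
  have hefix : ∀ i j, j ≠ i → (e i : MulAut P) (x j) = x j := fun i j h => by
    have := congrFun (he i) j
    simp only [sg, decide_eq_decide] at this
    exact this.2 h
  have heinv : ∀ i, (e i : MulAut P) (x i) = (x i)⁻¹ := fun i => by
    refine (hsign _ (e i).2 i).resolve_left fun h => ?_
    have := congrFun (he i) i
    simp only [sg, decide_eq_decide] at this
    exact this.1 h rfl
  have hne' : ∀ i, x i ≠ (x i)⁻¹ := fun i h => hxne i (eq_one_of_eq_inv hp2 hP h)
  have hainv : ∀ i j, j ≠ i → ((a i).1 : MulAut P) (x j) = (x j)⁻¹ := by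
    intro i j hji
    refine (hsign _ (hAI (a i).1.2) j).resolve_left fun h => ?_
    obtain ⟨k, hk⟩ := mem_zpowers_iff.1 ((hx i _).1 h)
    have e1 := hefix i j hji
    rw [← hk, map_zpow, heinv, inv_zpow, hk] at e1
    exact hxne j (eq_one_of_eq_inv hp2 hP e1.symm)
  have hindep : ∀ i j, i ≠ j → x i ∉ zpowers (x j) := by
    intro i j hij hm
    obtain ⟨k, hk⟩ := mem_zpowers_iff.1 hm
    have h1 := congrArg ((a i).1 : MulAut P) hk
    rw [map_zpow, hainv i j hij.symm, inv_zpow, hk, hxfix] at h1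
    exact hne' i h1.symm
  -- commutativity
  have hcomm2 : ∀ i j, Commute (x i) (x j) := by
    intro i j
    obtain ⟨m, hmi, hmj⟩ := fin3_pair i j
    let H : Subgroup P := ((e m : MulAut P) : P →* P).eqLocus (MonoidHom.id P)
    have hinvH : ∀ y ∈ H, ((a m).1 : MulAut P) y ∈ H := fun y hy => by
      show (e m : MulAut P) (((a m).1 : MulAut P) y) = ((a m).1 : MulAut P) y
      have e1 := congrArg (fun f : MulAut P => f y) (hIc _ (e m).2 _ (hAI (a m).1.2))
      simp only [MulAut.mul_apply] at e1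
      rw [e1, show (e m : MulAut P) y = y from hy]
    have ha2 : ∀ y, ((a m).1 : MulAut P) (((a m).1 : MulAut P) y) = y := fun y =>
      congrArg (fun f : MulAut P => f y) (hI2 _ (hAI (a m).1.2))
    let σ : MulAut H :=
      { toFun := fun y => ⟨((a m).1 : MulAut P) y, hinvH y y.2⟩
        invFun := fun y => ⟨((a m).1 : MulAut P) y, hinvH y y.2⟩
        left_inv := fun y => Subtype.ext (ha2 y)
        right_inv := fun y => Subtype.ext (ha2 y)
        map_mul' := fun y z => Subtype.ext (map_mul ((a m).1 : MulAut P) (y : P) z) }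
    have hinv := CfsgLib.Frobenius.fpf_inv σ (fun y hy => by
      obtain ⟨k, hk⟩ := mem_zpowers_iff.1 ((hx m _).1 (congrArg Subtype.val hy))
      have h1 : (e m : MulAut P) (y : P) = y := y.2
      rw [← hk, map_zpow, heinv, inv_zpow, hk] at h1
      exact Subtype.ext (eq_one_of_eq_inv hp2 hP h1.symm)) (MulEquiv.ext fun y => Subtype.ext (ha2 y))
    have c1 := hinv (⟨x i, hefix m i hmi.symm⟩ * ⟨x j, hefix m j hmj.symm⟩)
    rw [map_mul, hinv, hinv, ← mul_inv_rev, inv_inj] at c1
    exact (congrArg Subtype.val c1).symm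
  have hcommP : IsMulCommutative P := by
    refine ⟨⟨fun y z => ?_⟩⟩
    have h1 : ∀ i, closure (Set.range x) ≤ centralizer {x i} := fun i => by
      rw [closure_le]
      rintro _ ⟨j, rfl⟩
      exact mem_centralizer_singleton_iff.2 (hcomm2 j i).eq
    have h2 : closure (Set.range x) ≤ centralizer {y} := by
      rw [closure_le]
      rintro _ ⟨j, rfl⟩
      exact mem_centralizer_singleton_iff.2
        (mem_centralizer_singleton_iff.1 (h1 j (hgen.symm ▸ mem_top y))).symm
    exact (mem_centralizer_singleton_iff.1 (h2 (hgen.symm ▸ mem_top z))).symm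
  haveI := hcommP
  have hbroad : ∀ i, Broad (e i : MulAut P) := by
    rintro i ⟨g, hg⟩
    obtain ⟨j, k, hji, hki, hjk⟩ := fin3_other i
    have hgfix : (e i : MulAut P) g = g := (hg g).2 (mem_zpowers g)
    have hag : ((a j).1 : MulAut P) g ∈ zpowers g := (hg _).1 (by
      have e1 := congrArg (fun f : MulAut P => f g) (hIc _ (e i).2 _ (hAI (a j).1.2))
      simp only [MulAut.mul_apply, hgfix] at e1
      exact e1)
    obtain ⟨r, hr⟩ := mem_zpowers_iff.1 ((hg _).1 (hefix i j hji))
    obtain ⟨s, hs⟩ := mem_zpowers_iff.1 ((hg _).1 (hefix i k hki))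
    rcases involution_cyclic p hp2 hP _ (hI2 _ (hAI (a j).1.2)) hag with h | h
    · have h1 := hainv j k hjk.symm
      rw [← hs, map_zpow, h, hs] at h1
      exact hne' k h1
    · have h1 := hxfix j
      rw [← hr, map_zpow, h, inv_zpow, hr] at h1
      exact hne' j h1.symm
  have he1 : ∀ i, (e i : MulAut P) ≠ 1 := fun i h => by
    have := heinv i
    rw [h] at this
    exact hne' i this
  have haij : ∀ m i j, i ≠ j → m ≠ i → m ≠ j →
      ((a m).1 : MulAut P) = (e i : MulAut P) * (e j : MulAut P) := by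
    intro m i j hij hmi hmj
    refine congrArg Subtype.val (hsginj (a₁ := ⟨_, hAI (a m).1.2⟩) (a₂ := e i * e j) ?_)
    funext l
    refine decide_eq_decide.2 ?_
    rw [Subgroup.coe_mul, MulAut.mul_apply]
    by_cases hlm : l = m
    · subst hlm
      rw [hefix j l hmj, hefix i l hmi, hxfix]
    · rw [hainv m l hlm]
      refine iff_of_false (fun h => hne' l h.symm) ?_
      have hl : l = i ∨ l = j := fin3_cover m i j l hij hmi hmj hlm
      rcases hl with rfl | rfl
      · rw [hefix j l hij, heinv]; exact fun h => hne' l h.symm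
      · rw [heinv, map_inv, hefix i l hij.symm]; exact fun h => hne' l h.symm
  have hAI₀ : A = I₀ := by
    have hle : A ≤ I₀ := fun t ht => by
      by_cases h1 : t = 1
      · rw [h1]; exact one_mem _
      · obtain ⟨m, hm⟩ := ha.2 ⟨⟨t, ht⟩, fun h => h1 (congrArg Subtype.val h)⟩
        obtain ⟨i, j, hij, hmi, hmj⟩ := fin3_split m
        have h2 := haij m i j hij hmi hmj
        rw [hm] at h2
        simp only at h2
        rw [h2]
        exact hprod _ (e i).2 _ (e j).2 (he1 i) (he1 j) (hbroad i) (hbroad j)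
    refine CfsgLib.Solvable.eq_of_le_of_card_le hle ?_
    have hd : Nat.card I₀ ∣ 8 := hI8 ▸ Subgroup.card_dvd_of_le hI₀.le
    have hne : Nat.card I₀ ≠ 8 := fun h =>
      hI₀.ne (CfsgLib.Solvable.eq_of_le_of_card_le hI₀.le (by omega))
    have := Nat.le_of_dvd (by norm_num) hd
    rw [hA4]
    generalize Nat.card I₀ = n at *
    interval_cases n <;> omega
  have heinj : Function.Injective fun i => (e i : MulAut P) := by
    intro i j hij
    by_contra hne
    have := hefix i j (Ne.symm hne)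
    simp only at hij
    rw [hij, heinv] at this
    exact hne' j this.symm
  refine ⟨fun i => (e i : MulAut P), x, hcommP, hgen, ?_, heinj, ?_, ?_, ?_⟩
  · -- not two-generated
    rintro ⟨b, c, hbc⟩
    have hcm : ∀ y z : P, y * z = z * y := hcommP.is_comm.comm
    let F : P →* P := { toFun := fun y => y ^ p, map_one' := one_pow p, map_mul' := fun y z => mul_pow y z p }
    have h1 : Nat.card (P ⧸ F.range) ≤ p * p := by
      set π := QuotientGroup.mk' F.range
      have hpw : ∀ (q : P ⧸ F.range), q ^ p = 1 := fun q => by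
        obtain ⟨y, rfl⟩ := QuotientGroup.mk'_surjective F.range q
        rw [← map_pow]; exact (QuotientGroup.eq_one_iff _).2 ⟨y, rfl⟩
      have hsurj : Function.Surjective fun ij : Fin p × Fin p => π b ^ (ij.1 : ℕ) * π c ^ (ij.2 : ℕ) := by
        intro q
        obtain ⟨y, rfl⟩ := QuotientGroup.mk'_surjective F.range q
        have hy : y ∈ closure ({b, c} : Set P) := hbc.symm ▸ mem_top y
        obtain ⟨m, n, rfl⟩ := mem_closure_pair.1 hy
        have hm : ∀ (q : P ⧸ F.range) (m : ℤ), ∃ i : Fin p, q ^ (i : ℕ) = q ^ m := by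
          intro q m
          have h0 : 0 ≤ m % (p : ℤ) := Int.emod_nonneg _ (by exact_mod_cast hp.out.ne_zero)
          have h1 : m % (p : ℤ) < p := Int.emod_lt_of_pos _ (by exact_mod_cast hp.out.pos)
          refine ⟨⟨(m % (p : ℤ)).toNat, by omega⟩, ?_⟩
          rw [← zpow_natCast, Int.toNat_of_nonneg h0]
          conv_rhs => rw [← Int.emod_add_mul_ediv m p, zpow_add, zpow_mul, zpow_natCast, hpw, one_zpow, mul_one]
        obtain ⟨i, hi⟩ := hm (π b) m
        obtain ⟨j, hj⟩ := hm (π c) n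
        refine ⟨(i, j), ?_⟩
        simp only
        rw [hi, hj, ← map_zpow, ← map_zpow, ← map_mul]
      have := Nat.card_le_card_of_surjective _ hsurj
      simpa using this
    have h2 : Nat.card F.ker = Nat.card (P ⧸ F.range) := by
      have e1 := F.ker.card_mul_index
      have e2 := F.range.card_mul_index
      rw [index_ker] at e1
      rw [← index_eq_card]
      refine Nat.eq_of_mul_eq_mul_left (Nat.card_pos (α := F.range)) ?_
      rw [e2, ← e1, mul_comm]
    have hex : ∀ i, ∃ y : P, y ∈ zpowers (x i) ∧ orderOf y = p := by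
      intro i
      obtain ⟨n, hn⟩ := IsPGroup.iff_orderOf.1 hP (x i)
      rcases n with _ | n
      · exact absurd (orderOf_eq_one_iff.1 (hn.trans (pow_zero p))) (hxne i)
      · refine ⟨x i ^ (p ^ n), pow_mem (mem_zpowers _) _, ?_⟩
        rw [orderOf_pow' _ (pow_ne_zero _ hp.out.ne_zero), hn,
          Nat.gcd_eq_right (pow_dvd_pow p n.le_succ), Nat.pow_div n.le_succ hp.out.pos]
        simp
    choose y hy hyo using hex
    have hyfix : ∀ i j, j ≠ i → (e i : MulAut P) (y j) = y j := fun i j hji => by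
      obtain ⟨k, hk⟩ := mem_zpowers_iff.1 (hy j)
      rw [← hk, map_zpow, hefix i j hji]
    have hyinv : ∀ i, (e i : MulAut P) (y i) = (y i)⁻¹ := fun i => by
      obtain ⟨k, hk⟩ := mem_zpowers_iff.1 (hy i)
      rw [← hk, map_zpow, heinv, inv_zpow]
    have hinj : Function.Injective fun u : Fin p × Fin p × Fin p =>
        y 0 ^ (u.1 : ℕ) * y 1 ^ (u.2.1 : ℕ) * y 2 ^ (u.2.2 : ℕ) := by
      rintro ⟨i, j, k⟩ ⟨i', j', k'⟩ h
      simp only at h
      have hone : ∀ (t : Fin 3) (z w : P), (e t : MulAut P) z = z → (e t : MulAut P) w = w →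
          ∀ i i' : Fin p, y t ^ (i : ℕ) * z = y t ^ (i' : ℕ) * w → i = i' := by
        intro t z w hz hw i i' h
        have h' := congrArg (e t : MulAut P) h
        rw [map_mul, map_mul, map_pow, map_pow, hyinv, hz, hw, inv_pow, inv_pow] at h'
        have e1 : z = y t ^ (i : ℕ) * ((y t ^ (i' : ℕ))⁻¹ * w) := by rw [← h', mul_inv_cancel_left]
        rw [e1, ← mul_assoc, ← mul_assoc] at h
        have h3 := mul_right_cancel h
        rw [mul_inv_eq_iff_eq_mul] at h3
        have h4 : y t ^ (i : ℕ) = y t ^ (i' : ℕ) := by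
          have h5 : y t ^ (i : ℕ) * (y t ^ (i' : ℕ))⁻¹ = 1 := eq_one_of_eq_inv hp2 hP (by
            rw [mul_inv_rev, inv_inv]
            rw [mul_inv_eq_iff_eq_mul, mul_assoc, hcm (y t ^ (i : ℕ))⁻¹, ← mul_assoc, ← h3,
              mul_inv_cancel_right])
          exact mul_inv_eq_one.1 h5
        exact Fin.ext (pow_injOn_Iio_orderOf (by simp [hyo]) (by simp [hyo]) h4)
      have hf : ∀ (t u : Fin 3) (n : ℕ), u ≠ t → (e t : MulAut P) (y u ^ n) = y u ^ n :=
        fun t u n h => by rw [map_pow, hyfix t u h]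
      have e0 : i = i' := hone 0 (y 1 ^ (j : ℕ) * y 2 ^ (k : ℕ)) (y 1 ^ (j' : ℕ) * y 2 ^ (k' : ℕ)) (by rw [map_mul, hf 0 1 _ (by decide), hf 0 2 _ (by decide)])
        (by rw [map_mul, hf 0 1 _ (by decide), hf 0 2 _ (by decide)]) i i'
        (by rw [← mul_assoc, ← mul_assoc]; exact h)
      subst e0
      rw [mul_assoc, mul_assoc] at h
      have h' := mul_left_cancel h
      have e1 : j = j' := hone 1 (y 2 ^ (k : ℕ)) (y 2 ^ (k' : ℕ)) (hf 1 2 _ (by decide)) (hf 1 2 _ (by decide)) j j' h'
      subst e1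
      have e2 : k = k' := hone 2 1 1 (map_one _) (map_one _) k k' (by simpa using mul_left_cancel h')
      subst e2
      rfl
    have h3 : p * p * p ≤ Nat.card F.ker := by
      have hmem : ∀ u : Fin p × Fin p × Fin p,
          y 0 ^ (u.1 : ℕ) * y 1 ^ (u.2.1 : ℕ) * y 2 ^ (u.2.2 : ℕ) ∈ F.ker := fun u => by
        have hk : ∀ t (n : ℕ), y t ^ n ∈ F.ker := fun t n => by
          refine pow_mem ?_ n
          show y t ^ p = 1
          rw [← hyo t, pow_orderOf_eq_one]
        exact mul_mem (mul_mem (hk _ _) (hk _ _)) (hk _ _)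
      have := Nat.card_le_card_of_injective (fun u => (⟨_, hmem u⟩ : F.ker))
        (fun u v h => hinj (congrArg Subtype.val h))
      simpa [mul_assoc] using this
    have h4 : p * p < p * p * p := by
      have := hp.out.two_le
      nlinarith
    omega
  · ext T
    constructor
    · rintro ⟨hT, hT1, hTB⟩
      have hpat : ∀ v : Fin 3 → Bool, v = (fun _ => true) ∨ v = (fun _ => false) ∨
          (∃ m, v = fun j => decide (j = m)) ∨ ∃ i, v = fun j => decide (j ≠ i) := by decide
      rcases hpat (sg ⟨T, hT⟩) with h | h | ⟨m, h⟩ | ⟨i, h⟩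
      · have h' : sg ⟨T, hT⟩ = sg 1 := by rw [h]; funext j; simp [sg]
        exact absurd (congrArg Subtype.val (hsginj h')) hT1
      · -- inversion has no fixed points
        exfalso
        refine hTB ⟨1, fun z => ⟨fun hz => ?_, fun hz => ?_⟩⟩
        · have hi : ∀ y ∈ closure (Set.range x), T y = y⁻¹ := by
            intro y hy
            induction hy using closure_induction with
            | mem y hy =>
              obtain ⟨l, rfl⟩ := hy
              refine (hsign T hT l).resolve_left fun h' => ?_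
              have := congrFun h l
              simp [sg, h'] at this
            | one => simp
            | mul y z _ _ hy hz => rw [map_mul, hy, hz, mul_inv_rev, hcommP.is_comm.comm]
            | inv y _ hy => simp [hy]
          have h1 : z = z⁻¹ := hz.symm.trans (hi z (hgen.symm ▸ mem_top z))
          rw [eq_one_of_eq_inv hp2 hP h1]; exact one_mem _
        · rw [zpowers_one_eq_bot, mem_bot] at hz; rw [hz, map_one]
      · exfalso
        refine hdisj T ?_ hT1 hTB
        have h' : sg ⟨T, hT⟩ = sg ⟨_, hAI (a m).1.2⟩ := by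
          rw [h]; funext l
          simp only [sg, decide_eq_decide]
          refine ⟨?_, fun h' => by_contra fun hl => hne' l ((hainv m l hl).symm.trans h').symm⟩
          rintro rfl; exact hxfix _
        rw [show T = _ from congrArg Subtype.val (hsginj h'), ← hAI₀]
        exact (a m).1.2
      · exact ⟨i, congrArg Subtype.val (hsginj ((he i).trans h.symm))⟩
    · rintro ⟨i, rfl⟩
      exact ⟨(e i).2, he1 i, hbroad i⟩
  · refine le_antisymm ?_ fun T hT => ?_
    · rw [closure_le]; rintro _ ⟨i, rfl⟩; exact (e i).2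
    set L := closure (Set.range fun i => (e i : MulAut P))
    have hL : ∀ i, (e i : MulAut P) ∈ L := fun i => subset_closure ⟨i, rfl⟩
    have hAL : A ≤ L := fun t ht => by
      by_cases h1 : t = 1
      · rw [h1]; exact one_mem _
      · obtain ⟨m, hm⟩ := ha.2 ⟨⟨t, ht⟩, fun h => h1 (congrArg Subtype.val h)⟩
        obtain ⟨i, j, hij, hmi, hmj⟩ := fin3_split m
        have h2 := haij m i j hij hmi hmj
        rw [hm] at h2
        simp only at h2
        rw [h2]; exact mul_mem (hL i) (hL j)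
    have hlt : A < L := lt_of_le_of_ne hAL fun h => by
      have h0 := hL 0
      rw [← h] at h0
      exact hAn _ h0 (he1 0) (hbroad 0)
    have hLI : L ≤ I := by rw [closure_le]; rintro _ ⟨i, rfl⟩; exact (e i).2
    have h1 := CfsgLib.Solvable.card_lt_of_lt hlt
    have h2 : Nat.card L ∣ 8 := hI8 ▸ Subgroup.card_dvd_of_le hLI
    have h3 := Nat.le_of_dvd (by norm_num) h2
    have h4 : Nat.card L = 8 := by
      rw [hA4] at h1
      generalize Nat.card L = n at *
      interval_cases n <;> omega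
    exact (CfsgLib.Solvable.eq_of_le_of_card_le hLI (by omega)).ge hT
  · ext S
    constructor
    · intro hS
      rw [← hAI₀] at hS
      by_cases h1 : S = 1
      · exact ⟨0, 0, by rw [h1, hI2 _ (e 0).2]⟩
      · obtain ⟨m, hm⟩ := ha.2 ⟨⟨S, hS⟩, fun h => h1 (congrArg Subtype.val h)⟩
        obtain ⟨i, j, hij, hmi, hmj⟩ := fin3_split m
        have h2 := haij m i j hij hmi hmj
        rw [hm] at h2
        exact ⟨i, j, h2⟩
    · rintro ⟨i, j, rfl⟩
      exact hprod _ (e i).2 _ (e j).2 (he1 i) (he1 j) (hbroad i) (hbroad j)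

end CfsgLib.EightOnOdd
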