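import Mathlib
import Cfsg.Agent.Solvable.CoprimeAct
import Cfsg.Agent.Solvable.Fitting
import Cfsg.Agent.PLocal.PConstrained

/-!
When a Sylow p-subgroup normalizes some Sylow q-subgroup.
-/

set_option autoImplicit false
set_option linter.style.haveILetI false
set_option linter.unusedSectionVars false

namespace CfsgLib.SylowNormSylow

open Subgroup Pointwise

universe u

variable {G : Type u} [Group G] [Finite G] {p q : ℕ} [Fact p.Prime] [Fact q.Prime]

/-- A p-subgroup normalizing `Q N` fixes some conjugate of `Q` when `p` is prime to `|N : N_N(Q)|`. -/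
theorem exists_normalized_sylow (P : Subgroup G) (hP : IsPGroup p P) (Q : Sylow q G)
    (N : Subgroup G) [N.Normal]
    (hPn : P ≤ normalizer (((Q : Subgroup G) ⊔ N : Subgroup G) : Set G))
    (hp : ¬ p ∣ (normalizer ((Q : Subgroup G) : Set G)).relIndex N) :
    ∃ Q' : Sylow q G, P ≤ normalizer ((Q' : Subgroup G) : Set G) := by
  classical
  have hst : MulAction.stabilizer N Q = (normalizer ((Q : Subgroup G) : Set G)).subgroupOf N := by
    ext n
    rw [MulAction.mem_stabilizer_iff, mem_subgroupOf]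
    exact Sylow.smul_eq_iff_mem_normalizer
  set S : Set (Sylow q G) := MulAction.orbit N Q with hS
  have hcard : ¬ p ∣ Nat.card S := by
    rw [hS, Nat.card_coe_set_eq, ← MulAction.index_stabilizer, hst]
    exact hp
  have hinv : ∀ (x : P), ∀ R ∈ S, ((x : G) • R : Sylow q G) ∈ S := by
    rintro ⟨x, hx⟩ R ⟨⟨n, hn⟩, rfl⟩
    have hQL : ((x • n • Q : Sylow q G) : Subgroup G) ≤ (Q : Subgroup G) ⊔ N := by
      intro y hy
      rw [← mul_smul, Sylow.coe_subgroup_smul, mem_pointwise_smul_iff_inv_smul_mem] at hy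
      simp only [MulAut.smul_def, MulAut.inv_apply, MulAut.conj_symm_apply] at hy
      have h2 : x * n ∈ normalizer (((Q : Subgroup G) ⊔ N : Subgroup G) : Set G) :=
        mul_mem (hPn hx) (le_normalizer (mem_sup_right hn))
      have h3 := (mem_normalizer_iff.1 h2 _).1 (mem_sup_left (T := N) hy)
      convert h3 using 1
      group
    obtain ⟨l, hl⟩ := MulAction.exists_smul_eq ((Q : Subgroup G) ⊔ N : Subgroup G)
      (Q.subtype le_sup_left) ((x • n • Q).subtype hQL)
    rw [Sylow.smul_subtype le_sup_left] at hl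
    have hl' : ((l : G) • Q : Sylow q G) = x • n • Q := Sylow.subtype_injective hl
    have hlm : (l : G) ∈ ((↑(N ⊔ (Q : Subgroup G)) : Set G)) := by
      rw [sup_comm]; exact l.2
    rw [normal_mul] at hlm
    obtain ⟨m, hm, r, hr, hmr⟩ := Set.mem_mul.1 hlm
    refine ⟨⟨m, hm⟩, ?_⟩
    show (m • Q : Sylow q G) = x • n • Q
    rw [← hl', ← hmr, mul_smul,
      (Sylow.smul_eq_iff_mem_normalizer (g := r) (P := Q)).2 (le_normalizer hr)]
  letI : MulAction P S :=
    { smul := fun x R => ⟨(x : G) • R.1, hinv x R.1 R.2⟩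
      one_smul := fun R => Subtype.ext (one_smul G R.1)
      mul_smul := fun x y R => Subtype.ext (mul_smul (x : G) (y : G) R.1) }
  obtain ⟨R, hR⟩ := hP.nonempty_fixed_point_of_prime_not_dvd_card S hcard
  exact ⟨R.1, fun x hx => Sylow.smul_eq_iff_mem_normalizer.1 (congrArg Subtype.val (hR ⟨x, hx⟩))⟩

/-- Coprime `Q` in which every element centralizes some Sylow subgroup of `N`. -/
theorem not_dvd_relIndex_normalizer (hpq : p ≠ q) (Q : Sylow q G) (N : Subgroup G) [N.Normal]
    (hqN : ¬ q ∣ Nat.card N)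
    (h : ∀ y ∈ (Q : Subgroup G), ¬ p ∣ (centralizer ({y} : Set G)).index) :
    ¬ p ∣ (normalizer ((Q : Subgroup G) : Set G)).relIndex N := by
  have hA : (Q : Subgroup G) ≤ normalizer (N : Set G) :=
    fun x _ => normalizer_eq_top N ▸ mem_top x
  have hcop : (Nat.card (Q : Subgroup G)).Coprime (Nat.card N) := by
    obtain ⟨k, hk⟩ := IsPGroup.iff_card.1 Q.2
    rw [hk]
    exact ((Fact.out : q.Prime).coprime_iff_not_dvd.2 hqN).pow_left k
  have hsQ : Group.IsSolvable (Q : Subgroup G) := by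
    haveI := Q.2.isNilpotent
    infer_instance
  obtain ⟨P0, hP0⟩ := CoprimeAct.exists_invariant_sylow hA hcop (Or.inl hsQ) p
  suffices hc : ((P0 : Subgroup N).map N.subtype) ≤ normalizer ((Q : Subgroup G) : Set G) by
    intro hd
    refine P0.not_dvd_index (hd.trans ?_)
    refine index_dvd_of_le fun x hx => ?_
    exact hc ⟨x, hx, rfl⟩
  intro x hx
  refine centralizer_le_normalizer _ (mem_centralizer_iff.2 fun y hy => ?_)
  set Y := zpowers y
  have hYQ : Y ≤ (Q : Subgroup G) := zpowers_le.2 hy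
  have hsY : Group.IsSolvable Y := by
    haveI := hsQ
    exact Group.isSolvable_of_isSolvable_injective (inclusion_injective hYQ)
  set C := (centralizer ({y} : Set G)).subgroupOf N with hC
  have hCi : ¬ p ∣ C.index := by
    intro hd
    refine h y hy (hd.trans ?_)
    rw [hC, show ((centralizer ({y} : Set G)).subgroupOf N).index =
      (centralizer ({y} : Set G)).relIndex N from rfl]
    have h1 : (centralizer ({y} : Set G)).relIndex N =
        (centralizer ({y} : Set G)).relIndex (centralizer ({y} : Set G) ⊔ N) := by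
      have h3 : N.relIndex (centralizer ({y} : Set G)) =
          N.relIndex (centralizer ({y} : Set G) ⊔ N) := (relIndex_sup_right _ _).symm
      have h4 := relIndex_mul_relIndex (centralizer ({y} : Set G) ⊓ N) (centralizer ({y} : Set G))
        (centralizer ({y} : Set G) ⊔ N) inf_le_left le_sup_left
      rw [inf_relIndex_left, h3] at h4
      have h5 := relIndex_mul_relIndex (centralizer ({y} : Set G) ⊓ N) N
        (centralizer ({y} : Set G) ⊔ N) inf_le_right le_sup_right
      rw [inf_relIndex_right] at h5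
      have h6 : N.relIndex (centralizer ({y} : Set G) ⊔ N) ≠ 0 := Nat.card_pos.ne'
      exact mul_right_cancel₀ h6 (by rw [h5, mul_comm, h4])
    rw [h1]
    exact Dvd.intro _ (relIndex_mul_index le_sup_left)
  obtain ⟨S0⟩ : Nonempty (Sylow p C) := inferInstance
  have hS : ¬ p ∣ ((S0 : Subgroup C).map C.subtype).index := by
    rw [index_map_subtype, Nat.Prime.dvd_mul Fact.out, not_or]
    exact ⟨S0.not_dvd_index, hCi⟩
  set S : Sylow p N := (S0.2.map C.subtype).toSylow hS
  have hSc : ∀ s : N, s ∈ (S : Subgroup N) → (s : G) ∈ centralizer ({y} : Set G) := by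
    rintro _ ⟨t, -, rfl⟩
    exact t.2
  have hSinv : Y ≤ normalizer ((S : Subgroup N).map N.subtype : Set G) := by
    refine zpowers_le.2 (centralizer_le_normalizer _ (mem_centralizer_iff.2 ?_))
    rintro _ ⟨s, hs, rfl⟩
    exact mem_centralizer_singleton_iff.1 (hSc s hs)
  obtain ⟨c, hc, hcS⟩ := CoprimeAct.invariant_sylow_conj (hYQ.trans hA)
    (hcop.coprime_dvd_left (card_dvd_of_le hYQ)) (Or.inl hsY) p S P0 hSinv (hYQ.trans hP0)
  obtain ⟨z, hz, rfl⟩ := hx
  rw [SetLike.mem_coe, ← hcS, mem_pointwise_smul_iff_inv_smul_mem] at hz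
  simp only [MulAut.smul_def, MulAut.inv_apply, MulAut.conj_symm_apply] at hz
  have h1 := mem_centralizer_singleton_iff.1 (hSc _ hz)
  simp only [coe_mul, coe_inv] at h1
  have h2 : y * (c : G) = c * y := mem_centralizer_iff.1 hc y (mem_zpowers y)
  show y * (z : G) = (z : G) * y
  calc y * (z : G) = (y * (c : G)) * ((c : G)⁻¹ * z * c) * (c : G)⁻¹ := by group
    _ = (c : G) * (y * ((c : G)⁻¹ * z * c)) * (c : G)⁻¹ := by rw [h2]; group
    _ = (c : G) * ((c : G)⁻¹ * z * c) * (y * (c : G)⁻¹) := by rw [← h1]; group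
    _ = (c : G) * ((c : G)⁻¹ * z * c) * ((c : G)⁻¹ * y) := by
      rw [show y * (c : G)⁻¹ = (c : G)⁻¹ * y from by
        rw [eq_inv_mul_iff_mul_eq, ← mul_assoc, ← h2, mul_inv_cancel_right]]
    _ = (z : G) * y := by group

theorem exists_normalizing_aux (n : ℕ) : ∀ (G : Type u) [Group G] [Finite G], Nat.card G = n →
    Cfsg.IsPSolvable p G ∨ Cfsg.IsPSolvable q G →
    (∀ y : G, (∃ k : ℕ, orderOf y = q ^ k) → ¬ p ∣ (centralizer ({y} : Set G)).index) →
    ∃ (P : Sylow p G) (Q : Sylow q G), (P : Subgroup G) ≤ normalizer ((Q : Subgroup G) : Set G) := by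
  induction n using Nat.strong_induction_on with
  | _ n ih =>
  intro G _ _ hn hsolv h
  by_cases hpq : p = q
  · subst hpq
    exact ⟨default, default, le_normalizer⟩
  rcases subsingleton_or_nontrivial G with hG | hG
  · exact ⟨default, default, fun x _ => by rw [Subsingleton.elim x 1]; exact one_mem _⟩
  have hp : p.Prime := Fact.out
  have hq : q.Prime := Fact.out
  have hcore : ∀ (r s : ℕ) [Fact r.Prime] [Fact s.Prime], r ≠ s →
      ¬ s ∣ Nat.card (Cfsg.pCore r G) := fun r s _ _ hrs hd => by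
    obtain ⟨k, hk⟩ := IsPGroup.iff_card.1 (Solvable.isPGroup_pCore (G := G) r)
    rw [hk] at hd
    exact hrs ((Nat.prime_dvd_prime_iff_eq Fact.out Fact.out).1
      ((Fact.out : s.Prime).dvd_of_dvd_pow hd)).symm
  have hpc : ∀ (r : ℕ) [Fact r.Prime], ¬ r ∣ Nat.card (Cfsg.pPrimeCore r G) := fun r _ =>
    (Fact.out : r.Prime).coprime_iff_not_dvd.1 (Solvable.coprime_card_pPrimeCore r).symm
  obtain ⟨N, hNn, hN0, hN⟩ : ∃ N : Subgroup G, N.Normal ∧ N ≠ ⊥ ∧
      (¬ p ∣ Nat.card N ∨ ¬ q ∣ Nat.card N) := by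
    rcases hsolv with hs | hs
    · rcases PConstrained.exists_core_ne_bot hs with h0 | h0
      · exact ⟨_, Solvable.pCore_normal p, h0, Or.inr (hcore p q hpq)⟩
      · exact ⟨_, Solvable.pPrimeCore_normal p, h0, Or.inl (hpc p)⟩
    · rcases PConstrained.exists_core_ne_bot hs with h0 | h0
      · exact ⟨_, Solvable.pCore_normal q, h0, Or.inl (hcore q p (Ne.symm hpq))⟩
      · exact ⟨_, Solvable.pPrimeCore_normal q, h0, Or.inr (hpc q)⟩
  let π := QuotientGroup.mk' N
  have hπ : Function.Surjective π := QuotientGroup.mk'_surjective N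
  have hlt : Nat.card (G ⧸ N) < n := by
    rw [← hn, card_eq_card_quotient_mul_card_subgroup N]
    exact lt_mul_of_one_lt_right Nat.card_pos ((N.one_lt_card_iff_ne_bot).2 hN0)
  obtain ⟨P', Q', hPQ⟩ := ih _ hlt (G ⧸ N) rfl
    (hsolv.imp (PConstrained.isPSolvable_map π hπ) (PConstrained.isPSolvable_map π hπ))
    (fun y hy => by
      obtain ⟨k, hk⟩ := hy
      obtain ⟨R, hR⟩ := (IsPGroup.of_card (n := k) (by rw [Nat.card_zpowers, hk]) :
        IsPGroup q (zpowers y)).exists_le_sylow
      obtain ⟨R0, rfl⟩ := Sylow.mapSurjective_surjective hπ q R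
      obtain ⟨x, hx, rfl⟩ : y ∈ (R0 : Subgroup G).map π := hR (mem_zpowers y)
      obtain ⟨j, hj⟩ := IsPGroup.iff_orderOf.1 R0.2 ⟨x, hx⟩
      rw [orderOf_mk] at hj
      intro hd
      refine h x ⟨j, hj⟩ (hd.trans (dvd_trans (index_dvd_of_le ?_) (index_map_dvd _ hπ)))
      rintro _ ⟨c, hc, rfl⟩
      rw [SetLike.mem_coe, mem_centralizer_singleton_iff] at hc
      rw [mem_centralizer_singleton_iff, ← map_mul, hc, map_mul])
  obtain ⟨P, rfl⟩ := Sylow.mapSurjective_surjective hπ p P'
  obtain ⟨Q, rfl⟩ := Sylow.mapSurjective_surjective hπ q Q'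
  have hPn : (P : Subgroup G) ≤ normalizer (((Q : Subgroup G) ⊔ N : Subgroup G) : Set G) := by
    rw [Sylow.coe_mapSurjective, Sylow.coe_mapSurjective, map_le_iff_le_comap,
      comap_normalizer_eq_of_surjective _ hπ, comap_map_eq, QuotientGroup.ker_mk'] at hPQ
    exact hPQ
  have hrel : ¬ p ∣ (normalizer ((Q : Subgroup G) : Set G)).relIndex N := by
    rcases hN with hN | hN
    · exact fun hd => hN (hd.trans (index_dvd_card _))
    · exact not_dvd_relIndex_normalizer hpq Q N hN fun y hy => h y (by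
        obtain ⟨j, hj⟩ := IsPGroup.iff_orderOf.1 Q.2 ⟨y, hy⟩
        rw [orderOf_mk] at hj
        exact ⟨j, hj⟩)
  obtain ⟨Q', hQ'⟩ := exists_normalized_sylow _ P.2 Q N hPn hrel
  exact ⟨P, Q', hQ'⟩

theorem exists_normalizing_iff (hpq : p ≠ q) (hsolv : Cfsg.IsPSolvable p G) :
    (∃ (P : Sylow p G) (Q : Sylow q G), (P : Subgroup G) ≤ normalizer ((Q : Subgroup G) : Set G)) ↔
      ¬ q ∣ (Cfsg.pPrimeCore p G).index := by
  set N := Cfsg.pPrimeCore p G
  haveI hNn : N.Normal := Solvable.pPrimeCore_normal p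
  let π := QuotientGroup.mk' N
  have hπ : Function.Surjective π := QuotientGroup.mk'_surjective N
  have hq : q.Prime := Fact.out
  have hker : ∀ Q : Sylow q G, ¬ q ∣ N.index → (Q : Subgroup G) ≤ N := fun Q hd x hx => by
    obtain ⟨k, hk⟩ := IsPGroup.iff_orderOf.1 Q.2 ⟨x, hx⟩
    rw [orderOf_mk] at hk
    rw [← QuotientGroup.eq_one_iff, ← orderOf_eq_one_iff]
    refine Nat.eq_one_of_dvd_coprimes ((hq.coprime_iff_not_dvd.2 hd).pow_left k) ?_ ?_
    · exact hk ▸ orderOf_map_dvd π x
    · rw [index_eq_card]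
      exact orderOf_dvd_natCard _
  constructor
  · rintro ⟨P, Q, hPQ⟩
    set H := G ⧸ N
    have h0 : Cfsg.pPrimeCore p H = ⊥ := Fitting.pPrimeCore_quotient_eq_bot p
    have hsH : Cfsg.IsPSolvable p H := PConstrained.isPSolvable_map π hπ hsolv
    have hsc := PConstrained.selfCent_of_pSolvable h0
      (PConstrained.isPSolvable_comap (centralizer (Cfsg.pCore p H : Set H)).subtype
        (subtype_injective _) hsH)
    set Qb := (Q : Subgroup G).map π
    set R := Cfsg.pCore p H
    haveI : R.Normal := Solvable.pCore_normal p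
    have hR : R ≤ normalizer (Qb : Set H) :=
      ((Solvable.isPGroup_pCore p).le_sylow_of_normal (P.mapSurjective hπ)).trans
        ((map_mono hPQ).trans (le_normalizer_map _))
    have hcop : (Nat.card R).Coprime (Nat.card Qb) :=
      IsPGroup.coprime_card_of_ne p q hpq _ _ (Solvable.isPGroup_pCore p) (Q.2.map π)
    have hQb : Qb = ⊥ := le_bot_iff.1 fun c hc => by
      have h1 := hsc (CoprimeAct.mem_centralizer_of_normalizes hR hcop hc
        (normalizer_eq_top R ▸ mem_top c))
      exact (inf_eq_bot_of_coprime hcop).le ⟨h1, hc⟩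
    rw [Subgroup.map_eq_bot_iff, QuotientGroup.ker_mk'] at hQb
    exact fun hd => Q.not_dvd_index (hd.trans (index_dvd_of_le hQb))
  · intro hd
    obtain ⟨Q⟩ : Nonempty (Sylow q G) := inferInstance
    obtain ⟨P⟩ : Nonempty (Sylow p G) := inferInstance
    obtain ⟨Q', hQ'⟩ := exists_normalized_sylow (p := p) (P : Subgroup G) P.2 Q N
      (by rw [sup_of_le_right (hker Q hd), normalizer_eq_top]; exact le_top)
      (fun h => (Fact.out : p.Prime).coprime_iff_not_dvd.1
        (Solvable.coprime_card_pPrimeCore p).symm (h.trans (index_dvd_card _)))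
    exact ⟨P, Q', hQ'⟩

end CfsgLib.SylowNormSylow
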