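import Cfsg.Agent.PLocal.OddPGroup
import Cfsg.Agent.Solvable.PGroupRank

/-!
An odd `p`-group with an elementary abelian subgroup of order `p ^ 3` has a normal one.
-/

set_option autoImplicit false
set_option linter.style.haveILetI false
set_option linter.unusedSectionVars false

namespace CfsgLib.NormalCube

open Subgroup
open scoped commutatorElement

variable {G : Type*} [Group G] [Finite G] {p : ℕ} [hp : Fact p.Prime]

/-- A subgroup of exponent `p` and class two. -/
theorem pow_eq_one_of_central (hp2 : p ≠ 2) {x y : G} (hx : x ^ p = 1) (hy : y ^ p = 1)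
    (hc : ∀ g ∈ closure ({x, y} : Set G), ⁅y, x⁆ * g = g * ⁅y, x⁆)
    (hcp : ⁅y, x⁆ ^ p = 1) : (x * y) ^ p = 1 := by
  have h : y * x = ⁅y, x⁆ * (x * y) := by rw [commutatorElement_def]; group
  set K := closure ({x, y} : Set G) with hK
  have hxK : x ∈ K := subset_closure (Set.mem_insert x _)
  have hyK : y ∈ K := subset_closure (Set.mem_insert_of_mem x rfl)
  have hcK : ⁅y, x⁆ ∈ K := by
    rw [commutatorElement_def]
    exact mul_mem (mul_mem (mul_mem hyK hxK) (inv_mem hyK)) (inv_mem hxK)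
  have e := CfsgLib.OddPGroup.pow_of_central (x := (⟨x, hxK⟩ : K)) (y := ⟨y, hyK⟩)
    (c := ⟨⁅y, x⁆, hcK⟩) (Subtype.ext h) (fun g => Subtype.ext (hc g g.2)) p
  have e' := congrArg Subtype.val e
  simp only [SubmonoidClass.coe_pow, Subgroup.coe_mul] at e'
  rw [e', hx, hy, mul_one, mul_one]
  obtain ⟨d, hd⟩ : p ∣ p.choose 2 := hp.out.dvd_choose_self two_ne_zero
    (lt_of_le_of_ne hp.out.two_le (Ne.symm hp2))
  rw [hd, pow_mul, hcp, one_pow]

/-- A normal elementary abelian subgroup of order `p ^ 3`. -/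
theorem exists_normal_cube (hp2 : p ≠ 2) (hG : IsPGroup p G) (E : Subgroup G)
    (hE : IsMulCommutative E) (hEp : ∀ a ∈ E, a ^ p = 1) (hE3 : p ^ 3 ≤ Nat.card E) :
    ∃ A : Subgroup G, A.Normal ∧ IsMulCommutative A ∧ (∀ a ∈ A, a ^ p = 1) ∧
      Nat.card A = p ^ 3 := by
  classical
  haveI := hG.isNilpotent
  have hp' := hp.out
  have hcyc : ∀ B : Subgroup G, IsCyclic B → (∀ b ∈ B, b ^ p = 1) → Nat.card B ≤ p := by
    intro B hB hBp
    obtain ⟨g, hg⟩ := hB.exists_generator
    rw [← orderOf_eq_card_of_forall_mem_zpowers hg]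
    exact orderOf_le_of_pow_eq_one hp'.pos (Subtype.ext (hBp g g.2))
  have hncG : ¬ IsCyclic (⊤ : Subgroup G) := by
    intro h
    haveI : IsCyclic G := topEquiv.isCyclic.mp h
    have := hcyc E inferInstance hEp
    nlinarith [hp'.two_le, pow_succ p 2, pow_two p]
  obtain ⟨W, -, hWn, ⟨hWc, hWp⟩, hWcard⟩ :=
    CfsgLib.OddPGroup.exists_normal_elementary hp2 hG ⊤ inferInstance hncG
  haveI := hWn
  set C := centralizer (W : Set G) with hC
  -- an element of order `p` in `C` outside `W`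
  have hindex : C.index ≤ p := by
    have := CfsgLib.PGroupRank.index_centralizer_le hG W hWcard
    simpa using this
  have hx0 : ∃ x, x ∈ C ∧ x ∉ W ∧ x ^ p = 1 := by
    by_contra hcon
    push Not at hcon
    have hle : E ⊓ C ≤ W := fun x hx => by_contra fun h => (hcon x hx.2 h) (hEp x hx.1)
    have h2 : C.relIndex E ≤ p := (Nat.le_of_dvd (Nat.pos_of_ne_zero index_ne_zero_of_finite)
      (relIndex_dvd_index_of_normal C E)).trans hindex
    have h3 := relIndex_mul_relIndex ⊥ (E ⊓ C) E bot_le inf_le_left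
    rw [relIndex_bot_left, relIndex_bot_left, inf_relIndex_left] at h3
    have h4 := Subgroup.card_le_of_le hle
    have h5 : Nat.card ↥(E ⊓ C) * C.relIndex E ≤ p ^ 2 * p := Nat.mul_le_mul (h4.trans hWcard.le) h2
    have h6 : Nat.card ↥(E ⊓ C) = p ^ 2 := by
      refine le_antisymm (h4.trans hWcard.le) ?_
      have h7 : p ^ 2 * p ≤ Nat.card ↥(E ⊓ C) * p := by
        rw [← pow_succ]; exact hE3.trans (h3.symm.le.trans (Nat.mul_le_mul_left _ h2))
      exact Nat.le_of_mul_le_mul_right h7 hp'.pos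
    have hWE : W ≤ E := (eq_of_le_of_card_ge hle (by rw [hWcard, h6])).ge.trans inf_le_left
    have hEC : E ≤ C := fun e he => mem_centralizer_iff.2 fun w hw =>
      congrArg Subtype.val (hE.1.comm ⟨w, hWE hw⟩ ⟨e, he⟩)
    have := Subgroup.card_le_of_le (show E ≤ W from fun e he => hle ⟨he, hEC he⟩)
    rw [hWcard] at this
    nlinarith [hp'.two_le, pow_succ p 2, pow_pos hp'.pos 2]
  obtain ⟨x0, hx0C, hx0W, hx0p⟩ := hx0
  obtain ⟨K, ⟨hKn, hWK, hKC, x, hxK, hxW, hxp⟩, hKmin⟩ := Set.Finite.exists_minimal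
    (Set.toFinite {K : Subgroup G | K.Normal ∧ W ≤ K ∧ K ≤ C ∧ ∃ x ∈ K, x ∉ W ∧ x ^ p = 1})
    ⟨C, inferInstance, le_centralizer_iff_isMulCommutative.2 hWc, le_rfl, x0, hx0C, hx0W, hx0p⟩
  haveI := hKn
  set U := W ⊔ zpowers x with hU
  have hcentral : ∀ w ∈ W, ∀ k ∈ K, w * k = k * w := fun w hw k hk =>
    mem_centralizer_iff.1 (hKC hk) w hw
  have hnorm : zpowers x ≤ normalizer (W : Set G) := le_normalizer_of_normal
  have hUK : U ≤ K := sup_le hWK (zpowers_le.2 hxK)
  have hUmem : ∀ g ∈ U, ∃ w ∈ W, ∃ i : ℤ, g = x ^ i * w := fun g hg => by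
    rw [hU, sup_comm] at hg
    obtain ⟨_, ⟨i, rfl⟩, w, hw, e⟩ := (CfsgLib.Solvable.mem_sup_of_le_normalizer hnorm).1 hg
    exact ⟨w, hw, i, e.symm⟩
  have hUc : IsMulCommutative U := ⟨⟨fun a b => Subtype.ext (by
    obtain ⟨v, hv, i, hvi⟩ := hUmem a a.2
    obtain ⟨w, hw, j, hwj⟩ := hUmem b b.2
    have c1 : Commute v (x ^ j) := hcentral v hv _ (zpow_mem hxK j)
    have c2 : Commute w (x ^ i) := hcentral w hw _ (zpow_mem hxK i)
    have c3 : Commute v w := congrArg Subtype.val (hWc.1.comm ⟨v, hv⟩ ⟨w, hw⟩)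
    have c : Commute (x ^ i * v) (x ^ j * w) :=
      Commute.mul_left (Commute.mul_right ((Commute.refl x).zpow_zpow i j) c2.symm)
        (Commute.mul_right c1 c3)
    show (a : G) * b = b * a
    rw [hvi, hwj]; exact c.eq)⟩⟩
  have hUp : ∀ a ∈ U, a ^ p = 1 := fun a ha => by
    obtain ⟨v, hv, i, rfl⟩ := hUmem a ha
    have c : Commute (x ^ i) v := (hcentral v hv _ (zpow_mem hxK i)).symm
    rw [c.mul_pow, hWp v hv, mul_one, ← zpow_natCast, ← zpow_mul, mul_comm, zpow_mul, zpow_natCast,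
      hxp, one_zpow]
  have hUcard : Nat.card U = p ^ 3 := by
    have hd : zpowers x ⊓ W = ⊥ := by
      haveI : Fact (Nat.card (zpowers x)).Prime := ⟨by
        rw [Nat.card_zpowers, orderOf_eq_prime hxp fun h => hxW (h ▸ one_mem W)]
        exact hp'⟩
      refine (((W.subgroupOf (zpowers x))).eq_bot_or_eq_top_of_prime_card).elim (fun h => ?_) (fun h => ?_)
      · rw [subgroupOf_eq_bot, disjoint_iff] at h
        rwa [inf_comm]
      · exact absurd (subgroupOf_eq_top.1 h (mem_zpowers x)) hxW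
    have := CfsgLib.Solvable.card_sup_of_disjoint hnorm hd
    rw [hU, sup_comm, this, hWcard, Nat.card_zpowers,
      orderOf_eq_prime hxp fun h => hxW (h ▸ one_mem W)]
    ring
  refine ⟨U, ?_, hUc, hUp, hUcard⟩
  -- `U` is normal
  by_contra hUn
  set N := normalizer (U : Set G) with hN
  have hNtop : N < ⊤ := lt_top_iff_ne_top.2 fun h => hUn (normalizer_eq_top_iff.1 h)
  obtain ⟨g, hg, hgN⟩ := SetLike.exists_of_lt (Group.normalizerCondition_of_isNilpotent N hNtop)
  set U' := U.map (MulAut.conj g).toMonoidHom with hU'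
  have hU'K : U' ≤ K := by
    rintro _ ⟨u, hu, rfl⟩
    exact hKn.conj_mem u (hUK hu) g
  have hU'N : U' ≤ N := by
    rintro _ ⟨u, hu, rfl⟩
    exact (mem_normalizer_iff.1 hg u).1 (le_normalizer hu)
  have hWU' : W ≤ U' := fun w hw =>
    ⟨g⁻¹ * w * g, mem_sup_left (by simpa using hWn.conj_mem w hw g⁻¹),
      by simp [mul_assoc]⟩
  set y := g * x * g⁻¹ with hy
  have hyU' : y ∈ U' := ⟨x, mem_sup_right (mem_zpowers x), rfl⟩
  have hyp : y ^ p = 1 := by rw [hy, conj_pow, hxp, mul_one, mul_inv_cancel]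
  -- commutators of `y` with `U` are in `W`
  have hUU' : y ∉ U := fun hyU => hgN (mem_normalizer_iff.2 fun u => by
    have hle : U' ≤ U := by
      rintro _ ⟨u, hu, rfl⟩
      obtain ⟨w, hw, i, rfl⟩ := hUmem u hu
      show g * (x ^ i * w) * g⁻¹ ∈ U
      rw [show g * (x ^ i * w) * g⁻¹ = (g * x * g⁻¹) ^ i * (g * w * g⁻¹) by rw [conj_zpow]; group]
      exact mul_mem (zpow_mem hyU i) (mem_sup_left (hWn.conj_mem w hw g))
    have heq : U' = U := eq_of_le_of_card_ge hle (card_map_of_injective (MulAut.conj g).injective).ge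
    constructor
    · intro hu; exact hle ⟨u, hu, rfl⟩
    · intro hu
      obtain ⟨v, hv, e⟩ := heq.ge hu
      rwa [show u = v from ((MulAut.conj g).injective e).symm])
  set M := zpowers y ⊔ U with hM
  have hyU : zpowers y ≤ normalizer (U : Set G) := zpowers_le.2 (hU'N hyU')
  have hMK : M ≤ K := sup_le (zpowers_le.2 (hU'K hyU')) hUK
  -- the commutator `[x, y]` is central
  have hWcen : ∀ w ∈ W, ∀ m ∈ M, w * m = m * w := fun w hw m hm => hcentral w hw m (hMK hm)
  have hyo : orderOf y = p := orderOf_eq_prime hyp fun h => hUU' (h ▸ one_mem U)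
  have hMcard : p ^ 4 ≤ Nat.card M := by
    have hd : zpowers y ⊓ U = ⊥ := by
      haveI : Fact (Nat.card (zpowers y)).Prime := ⟨by rw [Nat.card_zpowers, hyo]; exact hp'⟩
      refine (((U.subgroupOf (zpowers y))).eq_bot_or_eq_top_of_prime_card).elim (fun h => ?_) (fun h => ?_)
      · rw [subgroupOf_eq_bot, disjoint_iff] at h
        rwa [inf_comm]
      · exact absurd (subgroupOf_eq_top.1 h (mem_zpowers y)) hUU'
    rw [hM, CfsgLib.Solvable.card_sup_of_disjoint hyU hd, Nat.card_zpowers, hyo, hUcard]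
    exact le_of_eq (by ring)
  have hxy : ∀ i : ℤ, ⁅x ^ i, y⁆ ∈ W := by
    intro i
    have h1 : ⁅x ^ i, y⁆ ∈ U := by
      rw [commutatorElement_def, show x ^ i * y * (x ^ i)⁻¹ * y⁻¹ = x ^ i * (y * (x ^ i)⁻¹ * y⁻¹) by group]
      have hxi : x ^ i ∈ U := mem_sup_right (zpow_mem (mem_zpowers x) i)
      exact mul_mem hxi ((mem_normalizer_iff.1 (hU'N hyU') _).1 (inv_mem hxi))
    have h2 : ⁅x ^ i, y⁆ ∈ U' := by
      rw [commutatorElement_def]
      refine mul_mem ?_ (inv_mem hyU')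
      have hx' : x ∈ normalizer (U' : Set G) := by
        have h3 : g⁻¹ * x * g ∈ N := by
          have := (mem_normalizer_iff.1 (inv_mem hg) x).1 (le_normalizer (mem_sup_right (mem_zpowers x)))
          simpa using this
        refine mem_normalizer_iff.2 fun v => ?_
        have h4 := mem_normalizer_iff.1 h3 (g⁻¹ * v * g)
        constructor
        · rintro ⟨u, hu, rfl⟩
          exact ⟨g⁻¹ * x * g * u * (g⁻¹ * x * g)⁻¹, (mem_normalizer_iff.1 h3 u).1 hu,
            by simp [mul_assoc]⟩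
        · rintro ⟨u, hu, e⟩
          refine ⟨g⁻¹ * v * g, h4.2 ?_, by simp [mul_assoc]⟩
          have e' : g * u * g⁻¹ = x * v * x⁻¹ := e
          rw [show g⁻¹ * x * g * (g⁻¹ * v * g) * (g⁻¹ * x * g)⁻¹ = g⁻¹ * (x * v * x⁻¹) * g by group,
            ← e', show g⁻¹ * (g * u * g⁻¹) * g = u by group]
          exact hu
      exact (mem_normalizer_iff.1 (zpow_mem hx' i) y).1 hyU'
    by_contra hnW
    obtain ⟨w, hw, j, e⟩ := hUmem _ h1
    rw [e] at h2 hnW
    have h5 : x ^ j ∈ U' := by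
      have := mul_mem h2 (inv_mem (hWU' hw))
      rwa [mul_inv_cancel_right] at this
    have h6 : x ∈ U' := by
      by_cases hdiv : (p : ℤ) ∣ j
      · exfalso
        obtain ⟨k, rfl⟩ := hdiv
        refine hnW ?_
        rw [zpow_mul, zpow_natCast, hxp, one_zpow, one_mul]; exact hw
      · have hcop : IsCoprime j (p : ℤ) :=
          ((Prime.coprime_iff_not_dvd (Nat.prime_iff_prime_int.1 hp')).2 hdiv).symm
        obtain ⟨s, t, hst⟩ := hcop
        have e1 : x = (x ^ j) ^ s := by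
          rw [← zpow_mul, show j * s = 1 - (p : ℤ) * t by linarith, zpow_sub, zpow_mul, zpow_natCast,
            hxp, one_zpow, zpow_one, inv_one, mul_one]
        rw [e1]; exact zpow_mem h5 s
    have hle : U ≤ U' := sup_le hWU' (zpowers_le.2 h6)
    have heq : U = U' := eq_of_le_of_card_ge hle (card_map_of_injective (MulAut.conj g).injective).le
    exact hUU' (heq.ge hyU')
  have hMp : ∀ m ∈ M, m ^ p = 1 := by
    intro m hm
    obtain ⟨_, ⟨i, rfl⟩, u, hu, rfl⟩ := (CfsgLib.Solvable.mem_sup_of_le_normalizer hyU).1 hm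
    obtain ⟨w, hw, j, rfl⟩ := hUmem u hu
    have hyi : (y ^ i) ^ p = 1 := by
      rw [← zpow_natCast, ← zpow_mul, mul_comm, zpow_mul, zpow_natCast, hyp, one_zpow]
    have hcW : ⁅x ^ j * w, y ^ i⁆ ∈ W := by
      have hk : ∀ k : ℤ, ⁅x ^ j, y ^ k⁆ ∈ W := by
        have hstep : ∀ a b : G, ⁅x ^ j, a * b⁆ = ⁅x ^ j, a⁆ * (a * ⁅x ^ j, b⁆ * a⁻¹) := fun a b => by
          simp only [commutatorElement_def]; group
        let D : Subgroup G :=
          { carrier := {a | ⁅x ^ j, a⁆ ∈ W}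
            one_mem' := by simp
            mul_mem' := fun {a b} ha hb => by
              show ⁅x ^ j, a * b⁆ ∈ W
              rw [hstep]; exact mul_mem ha (hWn.conj_mem _ hb a)
            inv_mem' := fun {a} ha => by
              show ⁅x ^ j, a⁻¹⁆ ∈ W
              have e : ⁅x ^ j, a⁻¹⁆ = a⁻¹ * ⁅x ^ j, a⁆⁻¹ * a⁻¹⁻¹ := by
                simp only [commutatorElement_def]; group
              rw [e]; exact hWn.conj_mem _ (inv_mem ha) _ }
        exact fun k => D.zpow_mem (hxy j) k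
      have e : ⁅x ^ j * w, y ^ i⁆ =
          (x ^ j * ⁅w, y ^ i⁆ * (x ^ j)⁻¹) * ⁅x ^ j, y ^ i⁆ := by
        simp only [commutatorElement_def]; group
      have h0 : ⁅w, y ^ i⁆ = 1 := commutatorElement_eq_one_iff_mul_comm.2
        (hWcen w hw _ (mem_sup_left (zpow_mem (mem_zpowers y) i)))
      rw [e, h0, mul_one, mul_inv_cancel, one_mul]
      exact hk i
    exact pow_eq_one_of_central hp2 hyi (hUp _ hu) (fun k hk => hWcen _ hcW k
      ((closure_le M).2 (by
        intro z hz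
        rcases hz with rfl | rfl
        · exact mem_sup_left (zpow_mem (mem_zpowers y) i)
        · exact mem_sup_right hu) hk)) (hWp _ hcW)
  -- a maximal normal subgroup of `K` over `W`
  obtain ⟨T, hTn, hWT, hTK, hTi⟩ : ∃ T : Subgroup G, T.Normal ∧ W ≤ T ∧ T < K ∧ T.relIndex K ≤ p := by
    obtain ⟨T, ⟨hTn, hWT, hTK⟩, hTmax⟩ := Set.Finite.exists_maximal
      (Set.toFinite {T : Subgroup G | T.Normal ∧ W ≤ T ∧ T < K}) ⟨W, hWn, le_rfl,
        lt_of_le_of_ne hWK fun h => hxW (h ▸ hxK)⟩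
    haveI := hTn
    refine ⟨T, hTn, hWT, hTK, ?_⟩
    obtain ⟨c, hcK, hcT, hcc⟩ := CfsgLib.PGroupBasic.exists_central_mod T K hTK
    obtain ⟨c, hcK, hcT, hcc, hcp⟩ : ∃ c ∈ K, c ∉ T ∧ (∀ g, c * g * c⁻¹ * g⁻¹ ∈ T) ∧ c ^ p ∈ T := by
      obtain ⟨n, hn⟩ := hG c
      induction n generalizing c with
      | zero => exact absurd (by rw [pow_zero, pow_one] at hn; exact hn ▸ one_mem T) hcT
      | succ n ihn =>
        by_cases h : c ^ p ∈ T
        · exact ⟨c, hcK, hcT, hcc, h⟩
        · refine ihn (c ^ p) (pow_mem hcK p) h (fun g => ?_) (by rw [← pow_mul, ← pow_succ', hn])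
          set π := QuotientGroup.mk' T
          have h1 : Commute (π c) (π g) := by
            have h3 : π (c * g * c⁻¹ * g⁻¹) = 1 := (QuotientGroup.eq_one_iff _).2 (hcc g)
            rw [map_mul, map_mul, map_mul, map_inv, map_inv, mul_inv_eq_one, mul_inv_eq_iff_eq_mul] at h3
            exact h3
          refine (QuotientGroup.eq_one_iff _).1 (show π _ = 1 from ?_)
          rw [map_mul, map_mul, map_mul, map_inv, map_inv, map_pow, (h1.pow_left p).eq]; group
    set T' := zpowers c ⊔ T with hT'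
    have hcn : zpowers c ≤ normalizer (T : Set G) := le_normalizer_of_normal
    haveI : T'.Normal := ⟨fun a ha g => by
      have : T' ≤ T'.comap (MulAut.conj g).toMonoidHom := by
        refine sup_le (zpowers_le.2 ?_) (fun t ht => mem_sup_right (hTn.conj_mem t ht g))
        show g * c * g⁻¹ ∈ T'
        rw [show g * c * g⁻¹ = (c * g * c⁻¹ * g⁻¹)⁻¹ * c by group]
        exact mul_mem (mem_sup_right (inv_mem (hcc g))) (mem_sup_left (mem_zpowers c))
      exact this ha⟩
    have hT'K : T' = K := by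
      refine le_antisymm (sup_le (zpowers_le.2 hcK) hTK.le) ?_
      by_contra hne
      have hlt : T' < K := lt_of_le_not_ge (sup_le (zpowers_le.2 hcK) hTK.le) hne
      exact hcT ((hTmax ⟨inferInstance, hWT.trans le_sup_right, hlt⟩ le_sup_right)
        (mem_sup_left (mem_zpowers c)))
    have h1 := relIndex_mul_relIndex ⊥ T K bot_le hTK.le
    rw [relIndex_bot_left, relIndex_bot_left] at h1
    have h2 := CfsgLib.Solvable.card_sup_mul_card_inf hcn
    rw [← hT', hT'K, ← h1, Nat.card_zpowers] at h2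
    have h3 : zpowers (c ^ p) ≤ zpowers c ⊓ T :=
      zpowers_le.2 ⟨pow_mem (mem_zpowers c) p, hcp⟩
    have h4 := Subgroup.card_le_of_le h3
    rw [Nat.card_zpowers] at h4
    have h5 : orderOf c ≤ p * orderOf (c ^ p) :=
      orderOf_le_of_pow_eq_one (Nat.mul_pos hp'.pos (orderOf_pos _))
        (by rw [pow_mul, pow_orderOf_eq_one])
    have h6 : Nat.card T * T.relIndex K * Nat.card ↥(zpowers c ⊓ T) ≤
        p * Nat.card ↥(zpowers c ⊓ T) * Nat.card T :=
      h2.le.trans (Nat.mul_le_mul_right _ (h5.trans (Nat.mul_le_mul_left p h4)))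
    have hpos : 0 < Nat.card T * Nat.card ↥(zpowers c ⊓ T) := Nat.mul_pos Nat.card_pos Nat.card_pos
    exact Nat.le_of_mul_le_mul_left (by linarith : Nat.card T * Nat.card ↥(zpowers c ⊓ T) *
      T.relIndex K ≤ Nat.card T * Nat.card ↥(zpowers c ⊓ T) * p) hpos
  have hTW : ∀ t ∈ T, t ^ p = 1 → t ∈ W := fun t ht htp => by
    by_contra htW
    exact hTK.not_ge (hKmin ⟨hTn, hWT, hTK.le.trans hKC, t, ht, htW, htp⟩ hTK.le)
  have hle : M ⊓ T ≤ W := fun m hm => hTW m hm.2 (hMp m hm.1)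
  have h1 := relIndex_mul_relIndex ⊥ (M ⊓ T) M bot_le inf_le_left
  rw [relIndex_bot_left, relIndex_bot_left, inf_relIndex_left] at h1
  have h2 : T.relIndex M ≤ p := (Subgroup.relIndex_le_of_le_right hMK (fun h => by
    have h' := relIndex_mul_relIndex ⊥ T K bot_le hTK.le
    rw [h, mul_zero, relIndex_bot_left] at h'
    exact (Nat.card_pos.ne') h'.symm)).trans hTi
  have h3 := Nat.mul_le_mul ((Subgroup.card_le_of_le hle).trans hWcard.le) h2
  rw [h1] at h3
  have := hMcard.trans h3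
  nlinarith [hp'.two_le, pow_pos hp'.pos 3]

end CfsgLib.NormalCube
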